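import Mathlib

/-!
# A `p`-element normalizing `C_p × C_p` and fixing a point acts transitively on the other
non-centralized points
-/

set_option autoImplicit false

namespace Cfsg.Agent.Lib.Helper77.LemT

variable {G : Type*} [Group G]

theorem exists_nat_pow_of_mem_zpowers {x g : G} {n : ℕ} (hn : 0 < n) (hx : x ^ n = 1)
    (hg : g ∈ Subgroup.zpowers x) : ∃ i : ℕ, g = x ^ i := by
  obtain ⟨k, rfl⟩ := Subgroup.mem_zpowers_iff.mp hg
  have hx' : x ^ (n : ℤ) = 1 := by rw [zpow_natCast]; exact hx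
  refine ⟨(k % (n : ℤ)).toNat, ?_⟩
  rw [zpow_eq_zpow_emod k hx', ← zpow_natCast, Int.toNat_of_nonneg]
  exact Int.emod_nonneg _ (by exact_mod_cast hn.ne')

theorem pow_eq_pow_of_cast_eq {p : ℕ} {x : G} (hx : x ^ p = 1) {i j : ℕ}
    (h : (i : ZMod p) = (j : ZMod p)) : x ^ i = x ^ j := by
  rw [ZMod.natCast_eq_natCast_iff] at h
  rw [pow_eq_pow_mod i hx, pow_eq_pow_mod j hx, h]

theorem cast_eq_of_pow_eq {p : ℕ} [Fact p.Prime] {x : G} (hx : x ^ p = 1) (hx1 : x ≠ 1) {i j : ℕ}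
    (h : x ^ i = x ^ j) : (i : ZMod p) = (j : ZMod p) := by
  have hord : orderOf x = p := orderOf_eq_prime hx hx1
  rw [ZMod.natCast_eq_natCast_iff, ← hord]
  exact pow_eq_pow_iff_modEq.mp h

/-- A group of prime order: a generator as an element of the ambient group. -/
theorem exists_generator {p : ℕ} [Fact p.Prime] {X : Subgroup G} (h : Nat.card X = p) :
    ∃ x ∈ X, x ≠ 1 ∧ x ^ p = 1 ∧ ∀ g ∈ X, ∃ i : ℕ, g = x ^ i := by
  have hp : p.Prime := Fact.out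
  have : Finite X := Nat.finite_of_card_ne_zero (by rw [h]; exact hp.pos.ne')
  have : IsCyclic X := isCyclic_of_prime_card h
  obtain ⟨g, hg⟩ := IsCyclic.exists_generator (α := X)
  have hgp : g ^ p = 1 := by rw [← h]; exact pow_card_eq_one'
  have hxp : (g : G) ^ p = 1 := by
    have := congrArg Subtype.val hgp
    simpa using this
  refine ⟨(g : G), g.2, ?_, hxp, ?_⟩
  · intro h1
    have hg1 : g = 1 := Subtype.ext h1
    have htop : ∀ x : X, x = 1 := by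
      intro x
      have := hg x
      rw [hg1, Subgroup.zpowers_one_eq_bot, Subgroup.mem_bot] at this
      exact this
    have : Nat.card X = 1 := by
      rw [Nat.card_eq_one_iff_unique]
      exact ⟨⟨fun a b => (htop a).trans (htop b).symm⟩, ⟨1⟩⟩
    rw [h] at this
    exact hp.one_lt.ne' this
  · intro x hx
    have h1 := hg ⟨x, hx⟩
    have h2 : x ∈ Subgroup.zpowers (g : G) := by
      obtain ⟨k, hk⟩ := Subgroup.mem_zpowers_iff.mp h1
      refine Subgroup.mem_zpowers_iff.mpr ⟨k, ?_⟩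
      have := congrArg Subtype.val hk
      simpa using this
    exact exists_nat_pow_of_mem_zpowers hp.pos hxp h2

theorem exists_pow_conj_eq {p : ℕ} [Fact p.Prime] {A X₁ X₂ : Subgroup G} {y z : G}
    (hAc : ∀ a ∈ A, ∀ b ∈ A, a * b = b * a) (hAe : ∀ a ∈ A, a ^ p = 1)
    (hcard : Nat.card A = p ^ 2) (hyA : ∀ a ∈ A, y * a * y⁻¹ ∈ A)
    (hy : ∃ n : ℕ, y ^ (p ^ n) = 1) (hzA : z ∈ A) (hz1 : z ≠ 1) (hzy : y * z = z * y)
    (hX₁ : X₁ ≤ A) (hX₂ : X₂ ≤ A) (h1 : Nat.card X₁ = p) (h2 : Nat.card X₂ = p)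
    (hn1 : ¬ ∀ x ∈ X₁, y * x = x * y) (hn2 : ¬ ∀ x ∈ X₂, y * x = x * y) :
    ∃ k : ℕ, X₂ = X₁.map (MulAut.conj (y ^ k)).toMonoidHom := by
  classical
  have hp : p.Prime := Fact.out
  have : Finite A := Nat.finite_of_card_ne_zero (by rw [hcard]; exact (pow_pos hp.pos 2).ne')
  have hzp : z ^ p = 1 := hAe z hzA
  -- commuting with powers
  have hcomm_pow : ∀ {g : G}, y * g = g * y → ∀ i : ℕ, y * g ^ i = g ^ i * y := by
    intro g hg i
    exact (Commute.pow_right (show Commute y g from hg) i).eq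
  have hconj_pow : ∀ (g : G) (i : ℕ), y * g ^ i * y⁻¹ = (y * g * y⁻¹) ^ i := by
    intro g i
    exact (conj_pow (a := y) (b := g) (i := i)).symm
  have hyz : y * z * y⁻¹ = z := by rw [hzy, mul_inv_cancel_right]
  -- generators
  obtain ⟨x₁, hx₁X, hx₁1, hx₁p, hx₁gen⟩ := exists_generator h1
  obtain ⟨x₂, hx₂X, hx₂1, hx₂p, hx₂gen⟩ := exists_generator h2
  have hx₁A : x₁ ∈ A := hX₁ hx₁X
  have hx₂A : x₂ ∈ A := hX₂ hx₂X
  have hyx₁ : ¬ y * x₁ = x₁ * y := by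
    intro h
    apply hn1
    intro x hx
    obtain ⟨i, rfl⟩ := hx₁gen x hx
    exact hcomm_pow h i
  have hyx₂ : ¬ y * x₂ = x₂ * y := by
    intro h
    apply hn2
    intro x hx
    obtain ⟨i, rfl⟩ := hx₂gen x hx
    exact hcomm_pow h i
  have hx₁z : x₁ * z = z * x₁ := hAc x₁ hx₁A z hzA
  -- the complement
  have hZA : Subgroup.zpowers z ≤ A := by
    rw [Subgroup.zpowers_le]
    exact hzA
  have hcZ : Nat.card (Subgroup.zpowers z) = p := by
    rw [Nat.card_zpowers]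
    exact orderOf_eq_prime hzp hz1
  have hdisj : Disjoint (X₁.subgroupOf A) ((Subgroup.zpowers z).subgroupOf A) := by
    rw [Subgroup.disjoint_def]
    intro g hg1 hg2
    rw [Subgroup.mem_subgroupOf] at hg1 hg2
    by_contra hne
    have hg1' : (g : G) ≠ 1 := fun h => hne (Subtype.ext h)
    -- `g` generates `X₁`
    obtain ⟨i, hi⟩ := hx₁gen (g : G) hg1
    obtain ⟨j, hj⟩ := exists_nat_pow_of_mem_zpowers hp.pos hzp hg2
    have hi0 : (i : ZMod p) ≠ 0 := by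
      intro h0
      apply hg1'
      rw [hi]
      have : (i : ZMod p) = ((0 : ℕ) : ZMod p) := by rw [h0, Nat.cast_zero]
      rw [pow_eq_pow_of_cast_eq hx₁p this, pow_zero]
    -- `x₁` is a power of `g`
    set i' : ℕ := ((i : ZMod p)⁻¹).val with hi'
    have hii' : ((i * i' : ℕ) : ZMod p) = ((1 : ℕ) : ZMod p) := by
      rw [Nat.cast_mul, hi', ZMod.natCast_val, ZMod.cast_id', id_eq, mul_inv_cancel₀ hi0,
        Nat.cast_one]
    have hx₁g : x₁ = (g : G) ^ i' := by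
      rw [hi, ← pow_mul, pow_eq_pow_of_cast_eq hx₁p hii', pow_one]
    apply hyx₁
    rw [hx₁g, hj, ← pow_mul]
    exact hcomm_pow hzy _
  have hcompl : Subgroup.IsComplement' (X₁.subgroupOf A) ((Subgroup.zpowers z).subgroupOf A) := by
    apply Subgroup.isComplement'_of_card_mul_and_disjoint _ hdisj
    rw [Nat.card_congr (Subgroup.subgroupOfEquivOfLe hX₁).toEquiv,
      Nat.card_congr (Subgroup.subgroupOfEquivOfLe hZA).toEquiv, h1, hcZ, hcard, sq]
  -- decomposition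
  have hdec : ∀ g ∈ A, ∃ i j : ℕ, g = x₁ ^ i * z ^ j := by
    intro g hg
    obtain ⟨⟨⟨a, ha⟩, ⟨b, hb⟩⟩, hab, -⟩ := hcompl.existsUnique ⟨g, hg⟩
    have ha' : (a : G) ∈ X₁ := ha
    have hb' : (b : G) ∈ Subgroup.zpowers z := hb
    obtain ⟨i, hi⟩ := hx₁gen (a : G) ha'
    obtain ⟨j, hj⟩ := exists_nat_pow_of_mem_zpowers hp.pos hzp hb'
    refine ⟨i, j, ?_⟩
    have := congrArg Subtype.val hab
    simp only [Subgroup.coe_mul] at this
    rw [← this, hi, hj]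
  have huniq : ∀ i j i' j' : ℕ, x₁ ^ i * z ^ j = x₁ ^ i' * z ^ j' →
      (i : ZMod p) = (i' : ZMod p) ∧ (j : ZMod p) = (j' : ZMod p) := by
    intro i j i' j' h
    have hm1 : ∀ k : ℕ, (⟨x₁ ^ k, A.pow_mem hx₁A k⟩ : A) ∈ X₁.subgroupOf A := fun k => by
      rw [Subgroup.mem_subgroupOf]
      exact X₁.pow_mem hx₁X k
    have hm2 : ∀ k : ℕ, (⟨z ^ k, A.pow_mem hzA k⟩ : A) ∈ (Subgroup.zpowers z).subgroupOf A :=
      fun k => by
        rw [Subgroup.mem_subgroupOf]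
        exact Subgroup.pow_mem _ (Subgroup.mem_zpowers z) k
    obtain ⟨w, -, hw⟩ := hcompl.existsUnique
      ⟨x₁ ^ i * z ^ j, A.mul_mem (A.pow_mem hx₁A i) (A.pow_mem hzA j)⟩
    have e1 := hw (⟨⟨x₁ ^ i, A.pow_mem hx₁A i⟩, hm1 i⟩, ⟨⟨z ^ j, A.pow_mem hzA j⟩, hm2 j⟩)
      (Subtype.ext rfl)
    have e2 := hw (⟨⟨x₁ ^ i', A.pow_mem hx₁A i'⟩, hm1 i'⟩, ⟨⟨z ^ j', A.pow_mem hzA j'⟩, hm2 j'⟩)
      (Subtype.ext h.symm)
    have e3 := e1.trans e2.symm
    have e4 : x₁ ^ i = x₁ ^ i' := by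
      have := congrArg (fun w : (X₁.subgroupOf A) × ((Subgroup.zpowers z).subgroupOf A) =>
        ((w.1 : A) : G)) e3
      exact this
    have e5 : z ^ j = z ^ j' := by
      have := congrArg (fun w : (X₁.subgroupOf A) × ((Subgroup.zpowers z).subgroupOf A) =>
        ((w.2 : A) : G)) e3
      exact this
    exact ⟨cast_eq_of_pow_eq hx₁p hx₁1 e4, cast_eq_of_pow_eq hzp hz1 e5⟩
  -- the action of `y` on `x₁`
  obtain ⟨a, e, hae⟩ := hdec _ (hyA x₁ hx₁A)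
  have hiter : ∀ n : ℕ, ∃ en : ℕ, y ^ n * x₁ * (y ^ n)⁻¹ = x₁ ^ (a ^ n) * z ^ en := by
    intro n
    induction n with
    | zero => exact ⟨0, by simp⟩
    | succ n ih =>
      obtain ⟨en, hen⟩ := ih
      refine ⟨e * a ^ n + en, ?_⟩
      have e1 : y ^ (n + 1) * x₁ * (y ^ (n + 1))⁻¹ = y * (y ^ n * x₁ * (y ^ n)⁻¹) * y⁻¹ := by
        rw [pow_succ']
        group
      rw [e1, hen]
      have e2 : y * (x₁ ^ a ^ n * z ^ en) * y⁻¹ = (y * x₁ ^ a ^ n * y⁻¹) * (y * z ^ en * y⁻¹) := by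
        group
      have hc : Commute x₁ z := hx₁z
      rw [e2, hconj_pow, hconj_pow, hae, hyz, (hc.pow_pow a e).mul_pow, ← pow_mul, ← pow_mul,
        mul_assoc, ← pow_add, pow_succ, mul_comm (a ^ n) a]
  -- `a ≡ 1`
  obtain ⟨m, hm⟩ := hy
  have ha1 : (a : ZMod p) = 1 := by
    obtain ⟨en, hen⟩ := hiter (p ^ m)
    rw [hm, one_mul, inv_one, mul_one] at hen
    have h0 : x₁ ^ 1 * z ^ 0 = x₁ ^ (a ^ (p ^ m)) * z ^ en := by
      rw [pow_one, pow_zero, mul_one]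
      exact hen
    have h1' := (huniq _ _ _ _ h0).1
    rw [Nat.cast_one, Nat.cast_pow, ZMod.pow_card_pow] at h1'
    exact h1'.symm
  have hyx : y * x₁ * y⁻¹ = x₁ * z ^ e := by
    rw [hae]
    have : (a : ZMod p) = ((1 : ℕ) : ZMod p) := by rw [ha1, Nat.cast_one]
    rw [pow_eq_pow_of_cast_eq hx₁p this, pow_one]
  have he0 : (e : ZMod p) ≠ 0 := by
    intro h0
    apply hyx₁
    have : (e : ZMod p) = ((0 : ℕ) : ZMod p) := by rw [h0, Nat.cast_zero]
    rw [pow_eq_pow_of_cast_eq hzp this, pow_zero, mul_one] at hyx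
    have h3 : y * x₁ * y⁻¹ * y = x₁ * y := by rw [hyx]
    rwa [inv_mul_cancel_right] at h3
  have hc : Commute x₁ z := hx₁z
  -- iteration
  have hiter2 : ∀ k : ℕ, y ^ k * x₁ * (y ^ k)⁻¹ = x₁ * z ^ (k * e) := by
    intro k
    induction k with
    | zero => simp
    | succ k ih =>
      have e1 : y ^ (k + 1) * x₁ * (y ^ (k + 1))⁻¹ = y * (y ^ k * x₁ * (y ^ k)⁻¹) * y⁻¹ := by
        rw [pow_succ']
        group
      rw [e1, ih]
      have e2 : y * (x₁ * z ^ (k * e)) * y⁻¹ = (y * x₁ * y⁻¹) * (y * z ^ (k * e) * y⁻¹) := by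
        group
      rw [e2, hconj_pow, hyz, hyx, mul_assoc, ← pow_add]
      congr 2
      ring
  -- `x₂`
  obtain ⟨j, b, hjb⟩ := hdec x₂ hx₂A
  have hj0 : (j : ZMod p) ≠ 0 := by
    intro h0
    apply hyx₂
    have : (j : ZMod p) = ((0 : ℕ) : ZMod p) := by rw [h0, Nat.cast_zero]
    rw [pow_eq_pow_of_cast_eq hx₁p this, pow_zero, one_mul] at hjb
    rw [hjb]
    exact hcomm_pow hzy b
  -- choice of `k`
  obtain ⟨k, hk⟩ : ∃ k : ℕ, k = ((b : ZMod p) / ((e : ZMod p) * (j : ZMod p))).val := ⟨_, rfl⟩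
  have hkej : ((k * e * j : ℕ) : ZMod p) = (b : ZMod p) := by
    rw [Nat.cast_mul, Nat.cast_mul, hk, ZMod.natCast_val, ZMod.cast_id', id_eq]
    field_simp
  refine ⟨k, ?_⟩
  have hx₂img : x₂ ∈ X₁.map (MulAut.conj (y ^ k)).toMonoidHom := by
    refine ⟨x₁ ^ j, X₁.pow_mem hx₁X j, ?_⟩
    show y ^ k * x₁ ^ j * (y ^ k)⁻¹ = x₂
    have e1 : y ^ k * x₁ ^ j * (y ^ k)⁻¹ = (y ^ k * x₁ * (y ^ k)⁻¹) ^ j := conj_pow.symm
    rw [e1, hiter2 k, (hc.pow_right _).mul_pow, ← pow_mul, hjb]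
    congr 1
    exact pow_eq_pow_of_cast_eq hzp hkej
  have hle : X₂ ≤ X₁.map (MulAut.conj (y ^ k)).toMonoidHom := by
    intro g hg
    obtain ⟨i, rfl⟩ := hx₂gen g hg
    exact Subgroup.pow_mem _ hx₂img i
  have hinj : Function.Injective (MulAut.conj (y ^ k)).toMonoidHom := (MulAut.conj (y ^ k)).injective
  have hfin₁ : Finite X₁ := Nat.finite_of_card_ne_zero (by rw [h1]; exact hp.pos.ne')
  have hfin : Finite (X₁.map (MulAut.conj (y ^ k)).toMonoidHom) :=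
    Finite.of_equiv X₁ (X₁.equivMapOfInjective _ hinj).toEquiv
  refine Subgroup.eq_of_le_of_card_ge hle ?_
  rw [Subgroup.card_map_of_injective hinj, h1, h2]

end Cfsg.Agent.Lib.Helper77.LemT
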