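import Cfsg.Agent.Lib.Helper77.BlockIdem
import Cfsg.Agent.Lib.Helper3.Complete

set_option autoImplicit false

namespace Cfsg.Agent.Lib.Helper77

open Cfsg Representation
open Cfsg.Agent.Lib.Helper80 Cfsg.Agent.Lib.Helper81
open scoped ComplexConjugate

universe u

variable {G : Type u} [Group G] [Fintype G]

open Classical in
theorem blockCoeff_eq_sum [Fintype (IrrCharacter G)] (B : Set (IrrCharacter G)) (g : G) :
    blockCoeff B g = (Nat.card G : ℂ)⁻¹ *
      ∑ χ ∈ Finset.univ.filter (fun χ : IrrCharacter G => χ ∈ B),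
        (χ : G → ℂ) 1 * conj ((χ : G → ℂ) g) := by
  unfold blockCoeff
  congr 1
  apply finsum_mem_eq_sum_of_inter_support_eq
  congr 1
  ext χ
  simp

theorem blockCoeff_isClassFunction (B : Set (IrrCharacter G)) :
    IsClassFunction G (blockCoeff B) := by
  classical
  have := Fintype.ofFinite (IrrCharacter G)
  intro g h
  rw [blockCoeff_eq_sum, blockCoeff_eq_sum]
  congr 1
  refine Finset.sum_congr rfl fun χ _ => ?_
  rw [isClassFunction_of_isCharacter χ.2 g h]

open Classical in
/-- The central character of `ψ` at the idempotent of `B` is the indicator of `ψ ∈ B`. -/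
theorem omega_blockCoeff (B : Set (IrrCharacter G)) (ψ : IrrCharacter G) :
    omega (ψ : G → ℂ) (blockCoeff B) = if ψ ∈ B then 1 else 0 := by
  have := Fintype.ofFinite (IrrCharacter G)
  have hψ1 : (ψ : G → ℂ) 1 ≠ 0 := irr_one_ne_zero ψ.2
  unfold omega
  have h1 : ∑ g : G, blockCoeff B g * (ψ : G → ℂ) g =
      ∑ χ ∈ Finset.univ.filter (fun χ : IrrCharacter G => χ ∈ B),
        (χ : G → ℂ) 1 * classInner (ψ : G → ℂ) (χ : G → ℂ) := by
    simp_rw [blockCoeff_eq_sum, Finset.mul_sum, Finset.sum_mul]
    rw [Finset.sum_comm]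
    refine Finset.sum_congr rfl fun χ _ => ?_
    unfold classInner
    rw [Finset.mul_sum, Finset.mul_sum]
    refine Finset.sum_congr rfl fun g _ => ?_
    ring
  rw [h1]
  simp_rw [Cfsg.Agent.Lib.Helper3.classInner_irr ψ.2 (Subtype.prop _)]
  by_cases hB : ψ ∈ B
  · rw [if_pos hB, Finset.sum_eq_single ψ]
    · rw [if_pos rfl, mul_one, div_self hψ1]
    · intro χ _ hne
      rw [if_neg, mul_zero]
      intro h
      exact hne (Subtype.ext h).symm
    · intro h
      exfalso; apply h
      simp [hB]
  · rw [if_neg hB, Finset.sum_eq_zero, zero_div]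
    intro χ hχ
    rw [if_neg, mul_zero]
    intro h
    have : ψ = χ := Subtype.ext h
    rw [Finset.mem_filter] at hχ
    exact hB (this ▸ hχ.2)

/-- A class function is determined by its central character values. -/
theorem eq_of_omega_eq {a b : G → ℂ} (ha : IsClassFunction G a) (hb : IsClassFunction G b)
    (h : ∀ χ : IrrCharacter G, omega (χ : G → ℂ) a = omega (χ : G → ℂ) b) : a = b := by
  rw [← sub_eq_zero]
  apply Cfsg.Agent.Lib.Helper3.eq_zero_of_forall_irr
  · intro g x
    show a _ - b _ = a g - b g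
    rw [ha, hb]
  · intro χ hχ
    have h1 := h ⟨χ, hχ⟩
    unfold omega at h1
    have hχ1 : χ 1 ≠ 0 := irr_one_ne_zero hχ
    have h2 : ∑ g : G, a g * χ g = ∑ g : G, b g * χ g := by
      have := congrArg (fun z => z * χ 1) h1
      simpa [div_mul_cancel₀ _ hχ1] using this
    simp only [Pi.sub_apply, sub_mul, Finset.sum_sub_distrib, h2, sub_self]

/-- Integrality of block idempotents: every coefficient of the idempotent of a block is a local
integer at `M`. -/
theorem memLocalRing_blockCoeff {p : ℕ} {M : Ideal AlgInt} (hpM : IsPModular p M)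
    (χ₀ : IrrCharacter G) (g : G) :
    MemLocalRing M (blockCoeff (blockOf M (χ₀ : G → ℂ)) g) := by
  classical
  have := Fintype.ofFinite (IrrCharacter G)
  obtain ⟨a, ha, haS, hω⟩ := exists_block_idempotent hpM χ₀
  have : a = blockCoeff (blockOf M (χ₀ : G → ℂ)) := by
    apply eq_of_omega_eq ha (blockCoeff_isClassFunction _)
    intro χ
    rw [hω χ, omega_blockCoeff]
  rw [← this]
  exact haS g

end Cfsg.Agent.Lib.Helper77
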