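import Cfsg.Agent.Lib.Helper81.LocalRing
import Mathlib.Data.Nat.Factorization.Basic

set_option autoImplicit false

namespace Cfsg.Agent.Lib.Helper77

open Cfsg
open Cfsg.Agent.Lib.Helper81

/-- Key cancellation: if `n = d * u` with `n = p^a n'`, `d = p^c d'`. -/
theorem cast_ordCompl_eq {p : ℕ} [Fact p.Prime] {n d : ℕ} {u : ℂ} (h : (n : ℂ) = d * u)
    {k : ℕ} (hk : d.factorization p = n.factorization p + k) :
    ((n / p ^ n.factorization p : ℕ) : ℂ) = (p : ℂ) ^ k * ((d / p ^ d.factorization p : ℕ) : ℂ) * u := by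
  have hp0 : (p : ℂ) ≠ 0 := by exact_mod_cast (Fact.out : p.Prime).ne_zero
  have hn := Nat.ordProj_mul_ordCompl_eq_self n p
  have hd := Nat.ordProj_mul_ordCompl_eq_self d p
  generalize n / p ^ n.factorization p = n' at hn ⊢
  generalize d / p ^ d.factorization p = d' at hd ⊢
  have h1 : (n : ℂ) = (p : ℂ) ^ n.factorization p * (n' : ℂ) := by
    exact_mod_cast hn.symm
  have h2 : (d : ℂ) = (p : ℂ) ^ d.factorization p * (d' : ℂ) := by
    exact_mod_cast hd.symm
  rw [h1, h2, hk, pow_add] at h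
  have hpa : (p : ℂ) ^ n.factorization p ≠ 0 := pow_ne_zero _ hp0
  apply mul_left_cancel₀ hpa
  rw [h]
  ring

theorem cast_ordCompl_eq' {p : ℕ} [Fact p.Prime] {n d : ℕ} {u : ℂ} (h : (n : ℂ) = d * u)
    {k : ℕ} (hk : n.factorization p = d.factorization p + k) :
    (p : ℂ) ^ k * ((n / p ^ n.factorization p : ℕ) : ℂ) = ((d / p ^ d.factorization p : ℕ) : ℂ) * u := by
  have hp0 : (p : ℂ) ≠ 0 := by exact_mod_cast (Fact.out : p.Prime).ne_zero
  have hn := Nat.ordProj_mul_ordCompl_eq_self n p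
  have hd := Nat.ordProj_mul_ordCompl_eq_self d p
  generalize n / p ^ n.factorization p = n' at hn ⊢
  generalize d / p ^ d.factorization p = d' at hd ⊢
  have h1 : (n : ℂ) = (p : ℂ) ^ n.factorization p * (n' : ℂ) := by
    exact_mod_cast hn.symm
  have h2 : (d : ℂ) = (p : ℂ) ^ d.factorization p * (d' : ℂ) := by
    exact_mod_cast hd.symm
  rw [h1, h2, hk, pow_add] at h
  have hpa : (p : ℂ) ^ d.factorization p ≠ 0 := pow_ne_zero _ hp0
  apply mul_left_cancel₀ hpa
  rw [← mul_assoc, h]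
  ring

theorem memLocalIdeal_pow_natCast {p : ℕ} [Fact p.Prime] {M : Ideal AlgInt}
    (hpM : IsPModular p M) {k : ℕ} (hk : k ≠ 0) : MemLocalIdeal M ((p : ℂ) ^ k) := by
  have hM : M.IsPrime := isPrime_of_isPModular hpM
  have : ((p ^ k : ℕ) : ℂ) = (p : ℂ) ^ k := by push_cast; rfl
  rw [← this, memLocalIdeal_natCast_iff hpM]
  exact dvd_pow_self p hk

theorem factorization_le_of_eq_mul {p : ℕ} [Fact p.Prime] {M : Ideal AlgInt}
    (hpM : IsPModular p M) {n d : ℕ} {u : ℂ} (hu : MemLocalRing M u) (h : (n : ℂ) = d * u)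
    (hn : n ≠ 0) : d.factorization p ≤ n.factorization p := by
  have hM : M.IsPrime := isPrime_of_isPModular hpM
  by_contra hlt
  push Not at hlt
  obtain ⟨k, hk⟩ := Nat.exists_eq_add_of_lt hlt
  have hk' : d.factorization p = n.factorization p + (k + 1) := by omega
  have h1 := cast_ordCompl_eq h hk'
  have h2 : MemLocalIdeal M ((n / p ^ n.factorization p : ℕ) : ℂ) := by
    rw [h1, mul_assoc]
    exact memLocalIdeal_mul_right hM (memLocalIdeal_pow_natCast hpM (Nat.succ_ne_zero k))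
      (memLocalRing_mul hM (memLocalRing_natCast hM _) hu)
  rw [memLocalIdeal_natCast_iff hpM] at h2
  exact Nat.not_dvd_ordCompl (Fact.out : p.Prime) hn h2

theorem factorization_lt_of_eq_mul {p : ℕ} [Fact p.Prime] {M : Ideal AlgInt}
    (hpM : IsPModular p M) {n d : ℕ} {u : ℂ} (hu : MemLocalIdeal M u) (h : (n : ℂ) = d * u)
    (hn : n ≠ 0) : d.factorization p < n.factorization p := by
  have hM : M.IsPrime := isPrime_of_isPModular hpM
  by_contra hle
  push Not at hle
  obtain ⟨k, hk⟩ := Nat.exists_eq_add_of_le hle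
  have h1 := cast_ordCompl_eq h hk
  have h2 : MemLocalIdeal M ((n / p ^ n.factorization p : ℕ) : ℂ) := by
    rw [h1]
    refine memLocalIdeal_mul_left hM ?_ hu
    have : (p : ℂ) ^ k = ((p ^ k : ℕ) : ℂ) := by push_cast; rfl
    rw [this]
    exact memLocalRing_mul hM (memLocalRing_natCast hM _) (memLocalRing_natCast hM _)
  rw [memLocalIdeal_natCast_iff hpM] at h2
  exact Nat.not_dvd_ordCompl (Fact.out : p.Prime) hn h2

theorem factorization_eq_of_eq_mul {p : ℕ} [Fact p.Prime] {M : Ideal AlgInt}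
    (hpM : IsPModular p M) {n d : ℕ} {u : ℂ} (hu : MemLocalRing M u)
    (hu' : ¬ MemLocalIdeal M u) (h : (n : ℂ) = d * u) (hd : d ≠ 0) :
    n ≠ 0 ∧ n.factorization p = d.factorization p := by
  have hM : M.IsPrime := isPrime_of_isPModular hpM
  have hu0 : u ≠ 0 := fun h0 => hu' (h0 ▸ memLocalIdeal_zero hM)
  have hn : n ≠ 0 := by
    intro h0
    rw [h0, Nat.cast_zero] at h
    have hd' : (d : ℂ) ≠ 0 := by exact_mod_cast hd
    exact mul_ne_zero hd' hu0 h.symm
  refine ⟨hn, le_antisymm ?_ (factorization_le_of_eq_mul hpM hu h hn)⟩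
  by_contra hlt
  push Not at hlt
  obtain ⟨k, hk⟩ := Nat.exists_eq_add_of_lt hlt
  have hk' : n.factorization p = d.factorization p + (k + 1) := by omega
  have h1 := cast_ordCompl_eq' h hk'
  have h2 : MemLocalIdeal M (((d / p ^ d.factorization p : ℕ) : ℂ) * u) := by
    rw [← h1]
    exact memLocalIdeal_mul_right hM (memLocalIdeal_pow_natCast hpM (Nat.succ_ne_zero k))
      (memLocalRing_natCast hM _)
  have h3 : ¬ MemLocalIdeal M ((d / p ^ d.factorization p : ℕ) : ℂ) := by
    rw [memLocalIdeal_natCast_iff hpM]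
    exact Nat.not_dvd_ordCompl (Fact.out : p.Prime) hd
  exact hu' (memLocalIdeal_of_mul_of_not_memLocalIdeal hM (memLocalRing_natCast hM _) h3 h2)

end Cfsg.Agent.Lib.Helper77
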