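import Cfsg.Agent.Lib.Helper77.InducedOmega
import Cfsg.Agent.Lib.Helper77.Valuation
import Cfsg.Agent.Lib.Helper25.Ind
import Cfsg.Agent.Lib.Helper15.IrrCrit
import Cfsg.Agent.Lib.Helper79.Basic

set_option autoImplicit false

universe u

namespace Cfsg.Agent.Lib.Helper77

open Cfsg
open Cfsg.Agent.Lib.Helper81
open Cfsg.Agent.Lib.Helper80
open scoped ComplexConjugate

variable {G : Type u} [Group G] [Fintype G]

open Classical in
theorem blockPart_eq_sum [Fintype (IrrCharacter G)] (B : Set (IrrCharacter G)) (ϑ : G → ℂ)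
    (g : G) :
    blockPart B ϑ g = ∑ χ ∈ Finset.univ.filter (fun χ : IrrCharacter G => χ ∈ B),
      classInner ϑ (χ : G → ℂ) * (χ : G → ℂ) g := by
  unfold blockPart
  have hinst : Fintype.ofFinite G = ‹Fintype G› := Subsingleton.elim _ _
  rw [hinst]
  apply finsum_mem_eq_sum_of_inter_support_eq
  congr 1
  ext χ
  simp

theorem indFun_one (H : Subgroup G) (ξ : H → ℂ) :
    indFun H ξ 1 = (H.index : ℂ) * ξ 1 := by
  rw [Cfsg.Agent.Lib.Helper25.indFun_apply]
  have h1 : ∀ x : G, extendByZero H ξ (x⁻¹ * 1 * x) = ξ 1 := by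
    intro x
    have : x⁻¹ * 1 * x = ((1 : H) : G) := by simp
    rw [this, Cfsg.Agent.Lib.Helper25.extendByZero_coe]
  rw [Finset.sum_congr rfl (fun x _ => h1 x), Finset.sum_const, Finset.card_univ,
    nsmul_eq_mul, ← Nat.card_eq_fintype_card, ← mul_assoc]
  congr 1
  have hH : (Nat.card H : ℂ) ≠ 0 := by exact_mod_cast Nat.card_pos.ne'
  rw [inv_mul_eq_iff_eq_mul₀ hH]
  exact_mod_cast (H.card_mul_index).symm

open Classical in
/-- The value at `1` of the `B`-part of an induced character. -/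
theorem blockPart_indFun_one [Fintype (IrrCharacter G)] (H : Subgroup G) [Fintype H]
    (B : Set (IrrCharacter G)) (ξ : H → ℂ) :
    blockPart B (indFun H ξ) 1 = (H.index : ℂ) * ∑ h : H, blockCoeff B (h : G) * ξ h := by
  rw [blockPart_eq_sum, sum_blockCoeff_mul, Finset.mul_sum, Finset.mul_sum]
  refine Finset.sum_congr rfl fun χ _ => ?_
  rw [Cfsg.Agent.Lib.Helper25.frobenius_reciprocity H ξ _ (isClassFunction_of_isCharacter χ.2),
    Cfsg.Agent.Lib.Helper25.classInner_def]
  have hH : (Nat.card H : ℂ) ≠ 0 := by exact_mod_cast Nat.card_pos.ne'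
  have hG : (Nat.card G : ℂ) ≠ 0 := by exact_mod_cast Nat.card_pos.ne'
  have hidx : (H.index : ℂ) = (Nat.card G : ℂ) / (Nat.card H : ℂ) := by
    rw [eq_div_iff hH]
    exact_mod_cast (mul_comm _ _).trans H.card_mul_index
  rw [hidx]
  have hsum : ∑ h : H, ξ h * conj ((χ : G → ℂ) h) = ∑ h : H, conj ((χ : G → ℂ) h) * ξ h :=
    Finset.sum_congr rfl fun h _ => mul_comm _ _
  rw [hsum]
  field_simp

omit [Fintype G] in
theorem exists_nat_degree {χ : G → ℂ} (hχ : IsCharacter G χ) : ∃ k : ℕ, χ 1 = (k : ℂ) := by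
  obtain ⟨n, ρ, rfl⟩ := hχ
  exact ⟨_, Representation.char_one ρ⟩

open Classical in
theorem exists_nat_blockPart_indFun [Fintype (IrrCharacter G)] (H : Subgroup G) [Fintype H]
    (B : Set (IrrCharacter G)) {ξ : H → ℂ} (hξ : IsCharacter H ξ) :
    ∃ n : ℕ, blockPart B (indFun H ξ) 1 = (n : ℂ) := by
  have h1 : ∀ χ : IrrCharacter G, ∃ m : ℕ, classInner (indFun H ξ) (χ : G → ℂ) = (m : ℂ) := by
    intro χ
    rw [Cfsg.Agent.Lib.Helper25.frobenius_reciprocity H ξ _ (isClassFunction_of_isCharacter χ.2)]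
    exact Cfsg.Agent.Lib.Helper15.exists_nat_classInner hξ
      (Cfsg.Agent.Lib.Helper79.isCharacter_restrict
        (Cfsg.Agent.Lib.Helper3.IsIrrCharacter.isCharacter χ.2) H)
  have h2 : ∀ χ : IrrCharacter G, ∃ k : ℕ, (χ : G → ℂ) 1 = (k : ℂ) := fun χ =>
    exists_nat_degree (Cfsg.Agent.Lib.Helper3.IsIrrCharacter.isCharacter χ.2)
  choose m hm using h1
  choose k hk using h2
  refine ⟨∑ χ ∈ Finset.univ.filter (fun χ : IrrCharacter G => χ ∈ B), m χ * k χ, ?_⟩
  rw [blockPart_eq_sum]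
  push_cast
  refine Finset.sum_congr rfl fun χ _ => ?_
  rw [hm, hk]

theorem charDegree_indFun (H : Subgroup G) {ξ : H → ℂ} {k : ℕ} (hk : ξ 1 = (k : ℂ)) :
    charDegree (indFun H ξ) = H.index * k := by
  unfold charDegree
  rw [indFun_one, hk]
  have : ((H.index : ℂ) * (k : ℂ)).re = ((H.index * k : ℕ) : ℝ) := by
    push_cast
    simp
  rw [this, Nat.floor_natCast]

/-- The `p`-part of the value at `1` of the `B`-part of an induced character `ξ^G`, where the
block of `ξ` induces the block `B₀`. -/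
theorem indFun_blockPart_valuation {p : ℕ} [Fact p.Prime] {M : Ideal AlgInt}
    (hpM : IsPModular p M) (H : Subgroup G) [Fintype H] {b : Set (IrrCharacter H)}
    {B₀ : Set (IrrCharacter G)} (hind : IsInducedBlock M H b B₀) {ξ : IrrCharacter H}
    (hξ : ξ ∈ b) (χ₁ : IrrCharacter G) :
    ∃ n : ℕ, blockPart (blockOf M (χ₁ : G → ℂ)) (indFun H (ξ : H → ℂ)) 1 = (n : ℂ) ∧
      (χ₁ ∈ B₀ → n ≠ 0 ∧
        n.factorization p = (charDegree (indFun H (ξ : H → ℂ))).factorization p) ∧
      (χ₁ ∉ B₀ → n = 0 ∨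
        (charDegree (indFun H (ξ : H → ℂ))).factorization p < n.factorization p) := by
  classical
  have := Fintype.ofFinite (IrrCharacter G)
  have hM : M.IsPrime := isPrime_of_isPModular hpM
  have hξc := Cfsg.Agent.Lib.Helper3.IsIrrCharacter.isCharacter ξ.2
  obtain ⟨n, hn⟩ := exists_nat_blockPart_indFun H (blockOf M (χ₁ : G → ℂ)) hξc
  obtain ⟨k, hk⟩ := exists_nat_degree hξc
  have hk0 : k ≠ 0 := by
    intro h0
    have := irr_one_ne_zero ξ.2
    rw [hk, h0, Nat.cast_zero] at this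
    exact this rfl
  have hd : charDegree (indFun H (ξ : H → ℂ)) = H.index * k := charDegree_indFun H hk
  have hd0 : H.index * k ≠ 0 := Nat.mul_ne_zero Subgroup.index_ne_zero_of_finite hk0
  set e := blockCoeff (blockOf M (χ₁ : G → ℂ)) with he
  have heZ : ZS M e := ZS.blockCoeff hpM χ₁
  set u := omega (ξ : H → ℂ) (fun h : H => e h) with hu
  have huS : MemLocalRing M u := by
    refine memLocalRing_omega hM ξ.2 ?_ (fun h => heZ.2 _)
    intro h x
    show e ((x * h * x⁻¹ : H) : G) = e h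
    push_cast
    exact heZ.1 _ _
  have hnu : (n : ℂ) = ((H.index * k : ℕ) : ℂ) * u := by
    rw [← hn, blockPart_indFun_one, hu]
    unfold omega
    rw [hk]
    have hk' : (k : ℂ) ≠ 0 := by exact_mod_cast hk0
    push_cast
    field_simp
    rfl
  obtain ⟨χ₀, rfl⟩ := hind.2.1
  have hχ₀ : χ₀ ∈ blockOf M (χ₀ : G → ℂ) := sameBlock_refl hM _
  have hcong := memLocalIdeal_omega_restrict_sub hM H hind hξ hχ₀ heZ
  rw [← hu, he, omega_blockCoeff] at hcong
  refine ⟨n, hn, ?_, ?_⟩
  · intro h1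
    have h2 : χ₀ ∈ blockOf M (χ₁ : G → ℂ) := sameBlock_symm h1
    rw [if_pos h2] at hcong
    have hu' : ¬ MemLocalIdeal M u := by
      intro h
      have := memLocalIdeal_sub hM h hcong
      rw [sub_sub_cancel] at this
      exact not_memLocalIdeal_one hM this
    rw [hd]
    exact factorization_eq_of_eq_mul hpM huS hu' hnu hd0
  · intro h1
    have h2 : χ₀ ∉ blockOf M (χ₁ : G → ℂ) := fun h => h1 (sameBlock_symm h)
    rw [if_neg h2, sub_zero] at hcong
    by_cases hn0 : n = 0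
    · exact Or.inl hn0
    · right
      rw [hd]
      exact factorization_lt_of_eq_mul hpM hcong hnu hn0

end Cfsg.Agent.Lib.Helper77
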