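import Cfsg.Agent.Lib.Helper77.BlockDecomp

/-!
# A class function whose other block parts vanish at a point equals its remaining block part there
-/

set_option autoImplicit false

universe u

namespace Cfsg.Agent.Lib.Helper77

open Cfsg
open scoped ComplexConjugate

variable {G : Type u} [Group G] [Fintype G]

theorem eq_blockPart_of_forall_ne {M : Ideal AlgInt} (hM : M.IsPrime) {ϑ : G → ℂ}
    (hϑ : IsClassFunction G ϑ) (y : G) (ξ₁ : IrrCharacter G)
    (h : ∀ ξ₀ : IrrCharacter G, blockOf M (ξ₀ : G → ℂ) ≠ blockOf M (ξ₁ : G → ℂ) →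
      blockPart (blockOf M (ξ₀ : G → ℂ)) ϑ y = 0) :
    ϑ y = blockPart (blockOf M (ξ₁ : G → ℂ)) ϑ y := by
  classical
  have := Fintype.ofFinite (IrrCharacter G)
  have h1 := congrFun (Cfsg.Agent.Lib.Helper3.classFunction_eq_sum hϑ) y
  rw [Finset.sum_apply] at h1
  rw [h1]
  let gmap : IrrCharacter G → Set (IrrCharacter G) := fun ξ => blockOf M (ξ : G → ℂ)
  have hfib : ∀ ξ₂ : IrrCharacter G,
      ∑ ξ ∈ Finset.univ.filter (fun ξ => gmap ξ = blockOf M (ξ₂ : G → ℂ)),
        (classInner ϑ (ξ : G → ℂ) • (ξ : G → ℂ)) y =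
      blockPart (blockOf M (ξ₂ : G → ℂ)) ϑ y := by
    intro ξ₂
    rw [blockPart_eq_sum]
    apply Finset.sum_congr
    · ext ξ
      simp only [Finset.mem_filter, Finset.mem_univ, true_and, gmap]
      constructor
      · intro hξ
        rw [← hξ]
        exact self_mem_blockOf hM ξ
      · intro hξ
        exact blockOf_eq_of_mem hM hξ
    · intro ξ _
      rfl
  rw [← Finset.sum_fiberwise_of_maps_to (s := Finset.univ) (t := Finset.univ.image gmap)
    (g := gmap) (fun x _ => Finset.mem_image_of_mem _ (Finset.mem_univ x))]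
  rw [Finset.sum_eq_single (blockOf M (ξ₁ : G → ℂ))]
  · exact hfib ξ₁
  · intro b hb hne
    obtain ⟨ξ₂, -, rfl⟩ := Finset.mem_image.mp hb
    rw [hfib ξ₂]
    exact h ξ₂ hne
  · intro hnot
    exact absurd (Finset.mem_image_of_mem gmap (Finset.mem_univ ξ₁)) hnot

end Cfsg.Agent.Lib.Helper77
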