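import Cfsg.Agent.Lib.Helper77.Cover

set_option autoImplicit false

universe u

namespace Cfsg.Agent.Lib.Helper77

open Cfsg
open Cfsg.Agent.Lib.Helper81
open Cfsg.Agent.Lib.Helper80
open scoped ComplexConjugate

variable {G : Type u} [Group G] [Fintype G]

open Classical in
/-- Regrouping: the central character of `ξ` at the restriction of a class function of `G` is the
sum over the classes of `G` of the coefficients times the induced central character. -/
theorem omega_restrict_eq_sum (H : Subgroup G) [Fintype H] (ξ : H → ℂ) {a : G → ℂ}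
    (ha : IsClassFunction G a) :
    omega ξ (fun h : H => a h) =
      ∑ c : ConjClasses G, a (Quotient.out c) * inducedCentralChar H ξ (Quotient.out c) := by
  have h1 : ∀ c : ConjClasses G, a (Quotient.out c) * inducedCentralChar H ξ (Quotient.out c) =
      (∑ h : H, a (Quotient.out c) * indClassFn H (Quotient.out c) h * ξ h) / ξ 1 := by
    intro c
    rw [inducedCentralChar_eq_omega]
    unfold omega
    rw [← mul_div_assoc, Finset.mul_sum]
    congr 1
    refine Finset.sum_congr rfl fun h _ => ?_
    ring
  rw [Finset.sum_congr rfl (fun c _ => h1 c), ← Finset.sum_div, Finset.sum_comm]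
  unfold omega
  congr 1
  refine Finset.sum_congr rfl fun h _ => ?_
  rw [← Finset.sum_mul]
  congr 1
  rw [Finset.sum_eq_single (ConjClasses.mk (h : G))]
  · have hc : IsConj (Quotient.out (ConjClasses.mk (h : G))) (h : G) := by
      rw [← ConjClasses.mk_eq_mk_iff_isConj]
      exact Quotient.out_eq _
    unfold indClassFn
    rw [if_pos hc, mul_one, isClassFunction_of_isConj ha hc]
  · intro c _ hc
    unfold indClassFn
    rw [if_neg, mul_zero]
    intro hcon
    apply hc
    rw [← ConjClasses.mk_eq_mk_iff_isConj] at hcon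
    rw [← hcon]
    exact (Quotient.out_eq c).symm
  · intro h'
    exact absurd (Finset.mem_univ _) h'

/-- If `b` induces `B`, then for `ξ ∈ b`, `χ ∈ B` the central character of `ξ` composed with
restriction agrees with the central character of `χ` on `Z(SG)`, modulo the local ideal. -/
theorem memLocalIdeal_omega_restrict_sub {M : Ideal AlgInt} (hM : M.IsPrime) (H : Subgroup G)
    [Fintype H] {b : Set (IrrCharacter H)} {B : Set (IrrCharacter G)}
    (hind : IsInducedBlock M H b B) {ξ : IrrCharacter H} (hξ : ξ ∈ b) {χ : IrrCharacter G}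
    (hχ : χ ∈ B) {a : G → ℂ} (ha : ZS M a) :
    MemLocalIdeal M (omega (ξ : H → ℂ) (fun h : H => a h) - omega (χ : G → ℂ) a) := by
  classical
  rw [omega_restrict_eq_sum H _ ha.1,
    omega_eq_sum_conjClasses (isClassFunction_of_isCharacter χ.2) ha.1, ← Finset.sum_sub_distrib]
  refine memLocalIdeal_sum hM _ _ fun c _ => ?_
  rw [← mul_sub]
  exact memLocalIdeal_mul_left hM (ha.2 _) (hind.2.2 ξ hξ χ hχ _)

open Classical in
/-- The sum `∑ h ∈ H, e_B(h) ξ(h)` in terms of inner products. -/
theorem sum_blockCoeff_mul (H : Subgroup G) [Fintype H] [Fintype (IrrCharacter G)]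
    (B : Set (IrrCharacter G)) (ξ : H → ℂ) :
    ∑ h : H, blockCoeff B (h : G) * ξ h = (Nat.card G : ℂ)⁻¹ *
      ∑ χ ∈ Finset.univ.filter (fun χ : IrrCharacter G => χ ∈ B),
        (χ : G → ℂ) 1 * ∑ h : H, conj ((χ : G → ℂ) h) * ξ h := by
  simp_rw [blockCoeff_eq_sum, Finset.mul_sum, Finset.sum_mul]
  rw [Finset.sum_comm]
  refine Finset.sum_congr rfl fun χ _ => ?_
  refine Finset.sum_congr rfl fun h _ => ?_
  ring

end Cfsg.Agent.Lib.Helper77
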