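import Cfsg.Agent.Lib.Helper77.Transport
import Cfsg.Agent.Lib.Helper77.InducedOmega

set_option autoImplicit false

universe u

namespace Cfsg.Agent.Lib.Helper77

open Cfsg
open Cfsg.Agent.Lib.Helper81
open Cfsg.Agent.Lib.Helper80
open scoped ComplexConjugate

variable {G : Type u} [Group G]

/-- The idempotent of a union of blocks has coefficients in the local ring. -/
theorem memLocalRing_blockCoeff_of_saturated [Fintype G] {p : ℕ} {M : Ideal AlgInt}
    (hpM : IsPModular p M) (U : Set (IrrCharacter G))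
    (hU : ∀ χ ∈ U, ∀ ψ : IrrCharacter G, SameBlock M (χ : G → ℂ) (ψ : G → ℂ) → ψ ∈ U) (g : G) :
    MemLocalRing M (blockCoeff U g) := by
  classical
  have := Fintype.ofFinite (IrrCharacter G)
  have hM : M.IsPrime := isPrime_of_isPModular hpM
  have h1 : ∀ χ : IrrCharacter G,
      (fun ψ : IrrCharacter G => if ψ ∈ blockOf M (χ : G → ℂ) then (1 : ℂ) else 0) ∈
        fourierSubring M hM := by
    intro χ
    obtain ⟨a, ha, haS, hω⟩ := exists_block_idempotent hpM χ
    refine ⟨a, ha, haS, fun ψ => ?_⟩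
    rw [hω ψ]
  have h2 : (1 - ∏ χ ∈ Finset.univ.filter (fun χ : IrrCharacter G => χ ∈ U),
      (1 - fun ψ : IrrCharacter G => if ψ ∈ blockOf M (χ : G → ℂ) then (1 : ℂ) else 0)) ∈
        fourierSubring M hM :=
    Subring.sub_mem _ (Subring.one_mem _)
      (Subring.prod_mem _ fun χ _ => Subring.sub_mem _ (Subring.one_mem _) (h1 χ))
  have h3 : (1 - ∏ χ ∈ Finset.univ.filter (fun χ : IrrCharacter G => χ ∈ U),
      (1 - fun ψ : IrrCharacter G => if ψ ∈ blockOf M (χ : G → ℂ) then (1 : ℂ) else 0)) =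
      fun ψ : IrrCharacter G => if ψ ∈ U then (1 : ℂ) else 0 := by
    funext ψ
    rw [Pi.sub_apply, Finset.prod_apply, Pi.one_apply]
    by_cases hψ : ψ ∈ U
    · rw [if_pos hψ, Finset.prod_eq_zero (i := ψ) (by simp [hψ])]
      · ring
      · rw [Pi.sub_apply, Pi.one_apply, if_pos (show ψ ∈ blockOf M (ψ : G → ℂ) from
          sameBlock_refl hM _), sub_self]
    · rw [if_neg hψ, Finset.prod_eq_one]
      · ring
      · intro χ hχ
        rw [Finset.mem_filter] at hχ
        rw [Pi.sub_apply, Pi.one_apply, if_neg, sub_zero]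
        intro hc
        exact hψ (hU χ hχ.2 ψ hc)
  rw [h3] at h2
  obtain ⟨a, ha, haS, hφ⟩ := h2
  have : a = blockCoeff U := by
    apply eq_of_omega_eq ha (blockCoeff_isClassFunction _)
    intro χ
    rw [← hφ χ, omega_blockCoeff]
  rw [← this]
  exact haS g

/-- Conjugation of an irreducible character of a normal subgroup by an element of the group:
`(conjIrr H n θ) x = θ (n x n⁻¹)`. -/
def conjIrr (H : Subgroup G) [H.Normal] (n : G) (θ : IrrCharacter H) : IrrCharacter H :=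
  irrMap (MulAut.conjNormal n : H ≃* H) θ

theorem conjIrr_apply (H : Subgroup G) [hH : H.Normal] (n : G) (θ : IrrCharacter H) (x : H) :
    (conjIrr H n θ : H → ℂ) x = (θ : H → ℂ) ⟨n * x * n⁻¹, hH.conj_mem x x.2 n⟩ := by
  show (θ : H → ℂ) (MulAut.conjNormal n x) = _
  congr 1

theorem conjIrr_one (H : Subgroup G) [H.Normal] (θ : IrrCharacter H) : conjIrr H 1 θ = θ := by
  apply Subtype.ext
  funext x
  rw [conjIrr_apply]
  refine congrArg _ (Subtype.ext ?_)
  simp

theorem conjIrr_conjIrr (H : Subgroup G) [H.Normal] (m n : G) (θ : IrrCharacter H) :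
    conjIrr H m (conjIrr H n θ) = conjIrr H (n * m) θ := by
  apply Subtype.ext
  funext x
  rw [conjIrr_apply, conjIrr_apply, conjIrr_apply]
  refine congrArg _ (Subtype.ext ?_)
  simp [mul_assoc]

theorem sameBlock_conjIrr {M : Ideal AlgInt} (H : Subgroup G) [H.Normal] (n : G)
    {θ₁ θ₂ : IrrCharacter H} (h : SameBlock M (θ₁ : H → ℂ) (θ₂ : H → ℂ)) :
    SameBlock M (conjIrr H n θ₁ : H → ℂ) (conjIrr H n θ₂ : H → ℂ) :=
  (sameBlock_comp_mulEquiv_iff (MulAut.conjNormal n : H ≃* H) _ _).2 h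

/-- Two blocks of a normal subgroup inducing the same block are conjugate. -/
theorem exists_conj_of_isInducedBlock [Fintype G] {p : ℕ} {M : Ideal AlgInt}
    (hpM : IsPModular p M) (H : Subgroup G) [hH : H.Normal] [Fintype H]
    {b b' : Set (IrrCharacter H)} {β : Set (IrrCharacter G)}
    (h1 : IsInducedBlock M H b β) (h2 : IsInducedBlock M H b' β) :
    ∃ n : G, ∀ θ ∈ b, conjIrr H n θ ∈ b' := by
  classical
  have hM : M.IsPrime := isPrime_of_isPModular hpM
  obtain ⟨ξ₀, hb⟩ := h1.1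
  obtain ⟨ξ₀', hb'⟩ := h2.1
  obtain ⟨χ₀, hβ⟩ := h1.2.1
  have hξ₀ : ξ₀ ∈ b := by rw [hb]; exact sameBlock_refl hM _
  have hξ₀' : ξ₀' ∈ b' := by rw [hb']; exact sameBlock_refl hM _
  have hχ₀ : χ₀ ∈ β := by rw [hβ]; exact sameBlock_refl hM _
  set U : Set (IrrCharacter H) := {ψ | ∃ n : G, conjIrr H n ψ ∈ b'} with hU
  have hsat : ∀ χ ∈ U, ∀ ψ : IrrCharacter H, SameBlock M (χ : H → ℂ) (ψ : H → ℂ) → ψ ∈ U := by
    rintro χ ⟨n, hn⟩ ψ hχψ
    refine ⟨n, ?_⟩
    rw [hb'] at hn ⊢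
    exact sameBlock_trans hM hn (sameBlock_conjIrr H n hχψ)
  have himg : ∀ n : G, irrMap (MulAut.conjNormal n : H ≃* H) '' U = U := by
    intro n
    ext ψ
    constructor
    · rintro ⟨θ, ⟨m, hm⟩, rfl⟩
      refine ⟨n⁻¹ * m, ?_⟩
      show conjIrr H (n⁻¹ * m) (conjIrr H n θ) ∈ b'
      rw [conjIrr_conjIrr, mul_inv_cancel_left]
      exact hm
    · rintro ⟨m, hm⟩
      refine ⟨conjIrr H n⁻¹ ψ, ⟨n * m, ?_⟩, ?_⟩
      · rw [conjIrr_conjIrr, inv_mul_cancel_left]
        exact hm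
      · show conjIrr H n (conjIrr H n⁻¹ ψ) = ψ
        rw [conjIrr_conjIrr, inv_mul_cancel, conjIrr_one]
  have hinv : ∀ (n : G) (x : H),
      blockCoeff U (MulAut.conjNormal n x : H) = blockCoeff U x := by
    intro n x
    rw [← blockCoeff_irrMap_image, himg]
  let a : G → ℂ := fun g => if hg : g ∈ H then blockCoeff U ⟨g, hg⟩ else 0
  have haZS : ZS M a := by
    constructor
    · intro g k
      by_cases hg : g ∈ H
      · have hg' : k * g * k⁻¹ ∈ H := hH.conj_mem g hg k
        show (if hg : k * g * k⁻¹ ∈ H then blockCoeff U ⟨k * g * k⁻¹, hg⟩ else 0) =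
          (if hg : g ∈ H then blockCoeff U ⟨g, hg⟩ else 0)
        rw [dif_pos hg, dif_pos hg', ← hinv k ⟨g, hg⟩]
        congr 1
      · have hg' : k * g * k⁻¹ ∉ H := by
          intro hc
          apply hg
          have := hH.conj_mem _ hc k⁻¹
          simpa [mul_assoc] using this
        show (if hg : k * g * k⁻¹ ∈ H then blockCoeff U ⟨k * g * k⁻¹, hg⟩ else 0) =
          (if hg : g ∈ H then blockCoeff U ⟨g, hg⟩ else 0)
        rw [dif_neg hg, dif_neg hg']
    · intro g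
      show MemLocalRing M (if hg : g ∈ H then blockCoeff U ⟨g, hg⟩ else 0)
      split_ifs with hg
      · exact memLocalRing_blockCoeff_of_saturated hpM U hsat _
      · exact memLocalRing_zero hM
  have hres : (fun h : H => a h) = blockCoeff U := by
    funext h
    show (if hg : (h : G) ∈ H then blockCoeff U ⟨h, hg⟩ else 0) = _
    rw [dif_pos h.2]
  have k1 := memLocalIdeal_omega_restrict_sub hM H h1 hξ₀ hχ₀ haZS
  have k2 := memLocalIdeal_omega_restrict_sub hM H h2 hξ₀' hχ₀ haZS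
  rw [hres, omega_blockCoeff] at k1 k2
  have hU' : ξ₀' ∈ U := ⟨1, by rw [conjIrr_one]; exact hξ₀'⟩
  rw [if_pos hU'] at k2
  by_cases hξU : ξ₀ ∈ U
  · obtain ⟨n, hn⟩ := hξU
    refine ⟨n, fun θ hθ => ?_⟩
    rw [hb'] at hn ⊢
    rw [hb] at hθ
    exact sameBlock_trans hM hn (sameBlock_conjIrr H n hθ)
  · exfalso
    rw [if_neg hξU] at k1
    have := memLocalIdeal_sub hM k2 k1
    rw [sub_sub_sub_cancel_right, sub_zero] at this
    exact not_memLocalIdeal_one hM this

end Cfsg.Agent.Lib.Helper77
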