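import Cfsg.Agent.Lib.Helper77.DefectClass
import Cfsg.Agent.Lib.Helper81.OneIrr

set_option autoImplicit false

namespace Cfsg.Agent.Lib.Helper77

open Cfsg Representation
open Cfsg.Agent.Lib.Helper80 Cfsg.Agent.Lib.Helper81
open scoped ComplexConjugate Pointwise

universe u

section NoFintype

variable {G : Type u} [Group G]

theorem index_centralizer_conj (g x : G) :
    (Subgroup.centralizer ({x * g * x⁻¹} : Set G)).index =
      (Subgroup.centralizer ({g} : Set G)).index := by
  rw [index_centralizer_eq_card_conj, index_centralizer_eq_card_conj]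
  apply Nat.card_congr
  refine Equiv.subtypeEquivRight ?_
  intro h
  constructor
  · intro hh
    exact (isConj_iff.mpr ⟨x, rfl⟩ : IsConj g (x * g * x⁻¹)).trans hh
  · intro hh
    exact (isConj_iff.mpr ⟨x, rfl⟩ : IsConj g (x * g * x⁻¹)).symm.trans hh

theorem centralChar_conj {χ : G → ℂ} (hχ : IsClassFunction G χ) (g x : G) :
    centralChar χ (x * g * x⁻¹) = centralChar χ g := by
  unfold centralChar
  rw [index_centralizer_conj, hχ]

theorem mem_centralizer_singleton_conj {g y : G} (x : G)
    (hy : y ∈ Subgroup.centralizer ({g} : Set G)) :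
    x * y * x⁻¹ ∈ Subgroup.centralizer ({x * g * x⁻¹} : Set G) := by
  rw [Subgroup.mem_centralizer_singleton_iff] at hy ⊢
  calc x * y * x⁻¹ * (x * g * x⁻¹) = x * (y * g) * x⁻¹ := by group
    _ = x * (g * y) * x⁻¹ := by rw [hy]
    _ = x * g * x⁻¹ * (x * y * x⁻¹) := by group

end NoFintype

variable {G : Type u} [Group G] [Fintype G]

theorem isDefectClass_conj {M : Ideal AlgInt} {B : Set (IrrCharacter G)} {g : G}
    (h : IsDefectClass M B g) (x : G) : IsDefectClass M B (x * g * x⁻¹) := by
  obtain ⟨h1, h2, h3⟩ := h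
  have e : blockCoeff B (x * g * x⁻¹) = blockCoeff B g := blockCoeff_isClassFunction B g x
  refine ⟨e ▸ h1, e ▸ h2, ?_⟩
  intro χ hχ
  rw [centralChar_conj (isClassFunction_of_isCharacter χ.2)]
  exact h3 χ hχ

/-- The `p`-part of the order of a subgroup of index prime to `p`. -/
theorem factorization_card_of_not_dvd_index {p : ℕ} [Fact p.Prime] (H : Subgroup G)
    (h : ¬ p ∣ H.index) : (Nat.card H).factorization p = (Nat.card G).factorization p := by
  have hp : p.Prime := Fact.out
  have h1 : Nat.card H * H.index = Nat.card G := H.card_mul_index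
  have hH : Nat.card H ≠ 0 := Nat.card_pos.ne'
  have hi : H.index ≠ 0 := Subgroup.index_ne_zero_of_finite
  rw [← h1, Nat.factorization_mul hH hi, Finsupp.add_apply,
    Nat.factorization_eq_zero_of_not_dvd h, add_zero]

/-- A subgroup of the centralizer of a defect class element of the right order is a defect
group. -/
theorem isDefectGroup_of_card {p : ℕ} [Fact p.Prime] {M : Ideal AlgInt}
    {B : Set (IrrCharacter G)} {g : G} (hg : IsDefectClass M B g) {D : Subgroup G}
    (hD : D ≤ Subgroup.centralizer ({g} : Set G))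
    (hcard : Nat.card D =
      p ^ (Nat.card (Subgroup.centralizer ({g} : Set G))).factorization p) :
    IsDefectGroup p M B D := by
  refine ⟨g, hg, ?_⟩
  have hc : Nat.card (D.subgroupOf (Subgroup.centralizer ({g} : Set G))) =
      p ^ (Nat.card (Subgroup.centralizer ({g} : Set G))).factorization p := by
    rw [← hcard]
    exact Nat.card_congr (Subgroup.subgroupOfEquivOfLe hD).toEquiv
  refine ⟨Sylow.ofCard _ hc, ?_⟩
  rw [Sylow.coe_ofCard]
  exact (Subgroup.map_subgroupOf_eq_of_le hD).symm

theorem isDefectGroup_iff {p : ℕ} [Fact p.Prime] {M : Ideal AlgInt}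
    {B : Set (IrrCharacter G)} {D : Subgroup G} :
    IsDefectGroup p M B D ↔ ∃ g : G, IsDefectClass M B g ∧
      D ≤ Subgroup.centralizer ({g} : Set G) ∧
      Nat.card D = p ^ (Nat.card (Subgroup.centralizer ({g} : Set G))).factorization p := by
  constructor
  · rintro ⟨g, hg, P, rfl⟩
    refine ⟨g, hg, Subgroup.map_subtype_le _, ?_⟩
    rw [Subgroup.card_map_of_injective (Subgroup.subtype_injective _)]
    exact Sylow.card_eq_multiplicity P
  · rintro ⟨g, hg, hD, hcard⟩
    exact isDefectGroup_of_card hg hD hcard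

/-- Every block has a defect group. -/
theorem exists_isDefectGroup {p : ℕ} [Fact p.Prime] {M : Ideal AlgInt} (hpM : IsPModular p M)
    (χ₀ : IrrCharacter G) : ∃ D : Subgroup G, IsDefectGroup p M (blockOf M (χ₀ : G → ℂ)) D := by
  obtain ⟨g, hg⟩ := exists_isDefectClass hpM χ₀
  obtain P : Sylow p (Subgroup.centralizer ({g} : Set G)) := default
  exact ⟨_, g, hg, P, rfl⟩

/-- Conjugates of defect groups are defect groups. -/
theorem isDefectGroup_conj {p : ℕ} [Fact p.Prime] {M : Ideal AlgInt}
    {B : Set (IrrCharacter G)} {D : Subgroup G} (h : IsDefectGroup p M B D) (x : G) :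
    IsDefectGroup p M B (MulAut.conj x • D) := by
  rw [isDefectGroup_iff] at h ⊢
  obtain ⟨g, hg, hD, hcard⟩ := h
  refine ⟨x * g * x⁻¹, isDefectClass_conj hg x, ?_, ?_⟩
  · intro y hy
    rw [Subgroup.mem_pointwise_smul_iff_inv_smul_mem] at hy
    have h1 := mem_centralizer_singleton_conj x (hD hy)
    simpa [MulAut.smul_def, mul_assoc] using h1
  · have h1 : Nat.card (MulAut.conj x • D : Subgroup G) = Nat.card D :=
      Nat.card_congr (Subgroup.equivSMul (MulAut.conj x) D).toEquiv.symm
    have h2 : Nat.card (Subgroup.centralizer ({x * g * x⁻¹} : Set G)) =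
        Nat.card (Subgroup.centralizer ({g} : Set G)) := by
      have e1 := (Subgroup.centralizer ({x * g * x⁻¹} : Set G)).card_mul_index
      have e2 := (Subgroup.centralizer ({g} : Set G)).card_mul_index
      rw [index_centralizer_conj] at e1
      have hi : (Subgroup.centralizer ({g} : Set G)).index ≠ 0 :=
        Subgroup.index_ne_zero_of_finite
      exact Nat.eq_of_mul_eq_mul_right (Nat.pos_of_ne_zero hi) (e1.trans e2.symm)
    rw [h1, h2, hcard]

end Cfsg.Agent.Lib.Helper77
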