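import Cfsg.Agent.Lib.Helper77.MinMax
import Cfsg.Agent.Lib.Helper77.DefectGroup

set_option autoImplicit false

universe u

namespace Cfsg.Agent.Lib.Helper77

open Cfsg
open Cfsg.Agent.Lib.Helper81
open Cfsg.Agent.Lib.Helper80
open scoped Pointwise

variable {G : Type u} [Group G] [Fintype G]

omit [Fintype G] in
theorem isPGroup_of_isDefectGroup {p : ℕ} [Fact p.Prime] {M : Ideal AlgInt}
    {B : Set (IrrCharacter G)} {D : Subgroup G} (hD : IsDefectGroup p M B D) : IsPGroup p D := by
  obtain ⟨g, -, P, rfl⟩ := hD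
  exact P.2.map _

/-- Any two defect groups of a block: one is conjugate into the other. -/
theorem exists_conj_le_of_isDefectGroup {p : ℕ} [Fact p.Prime] {M : Ideal AlgInt}
    (hpM : IsPModular p M) (χ₀ : IrrCharacter G) {D E : Subgroup G}
    (hD : IsDefectGroup p M (blockOf M (χ₀ : G → ℂ)) D)
    (hE : IsDefectGroup p M (blockOf M (χ₀ : G → ℂ)) E) :
    ∃ x : G, MulAut.conj x • E ≤ D := by
  have hM : M.IsPrime := isPrime_of_isPModular hpM
  have hEp := isPGroup_of_isDefectGroup hE
  obtain ⟨g, hg, P, rfl⟩ := hD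
  obtain ⟨h, hh, Q, rfl⟩ := hE
  have := defLE_of_blockCoeff hpM χ₀ g (hg.2.2 χ₀ (sameBlock_refl hM _)) P h hh.2.1
  exact this _ hEp (Subgroup.map_subtype_le _)

omit [Fintype G] in
theorem card_conj_smul (x : G) (E : Subgroup G) :
    Nat.card (MulAut.conj x • E : Subgroup G) = Nat.card E :=
  Nat.card_congr (Subgroup.equivSMul (MulAut.conj x) E).toEquiv.symm

/-- Defect groups of a block have the same order. -/
theorem card_eq_of_isDefectGroup {p : ℕ} [Fact p.Prime] {M : Ideal AlgInt}
    (hpM : IsPModular p M) (χ₀ : IrrCharacter G) {D E : Subgroup G}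
    (hD : IsDefectGroup p M (blockOf M (χ₀ : G → ℂ)) D)
    (hE : IsDefectGroup p M (blockOf M (χ₀ : G → ℂ)) E) :
    Nat.card D = Nat.card E := by
  obtain ⟨x, hx⟩ := exists_conj_le_of_isDefectGroup hpM χ₀ hD hE
  obtain ⟨y, hy⟩ := exists_conj_le_of_isDefectGroup hpM χ₀ hE hD
  have h1 := Subgroup.card_le_of_le hx
  have h2 := Subgroup.card_le_of_le hy
  rw [card_conj_smul] at h1 h2
  exact le_antisymm h2 h1

/-- A defect group contained in another defect group of the same block equals it. -/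
theorem eq_of_le_of_isDefectGroup {p : ℕ} [Fact p.Prime] {M : Ideal AlgInt}
    (hpM : IsPModular p M) (χ₀ : IrrCharacter G) {D E : Subgroup G}
    (hD : IsDefectGroup p M (blockOf M (χ₀ : G → ℂ)) D)
    (hE : IsDefectGroup p M (blockOf M (χ₀ : G → ℂ)) E) (hDE : D ≤ E) : D = E := by
  have hcard := card_eq_of_isDefectGroup hpM χ₀ hD hE
  apply SetLike.coe_injective
  exact Set.eq_of_subset_of_ncard_le hDE (by
    show Nat.card E ≤ Nat.card D
    rw [hcard]) (Set.toFinite _)

end Cfsg.Agent.Lib.Helper77
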