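import Cfsg.Agent.Lib.Helper77.Osima

set_option autoImplicit false

namespace Cfsg.Agent.Lib.Helper77

open Cfsg Representation
open Cfsg.Agent.Lib.Helper80 Cfsg.Agent.Lib.Helper81
open scoped ComplexConjugate

universe u

variable {G : Type u} [Group G] [Fintype G]

theorem self_mem_blockOf {M : Ideal AlgInt} (hM : M.IsPrime) (χ₀ : IrrCharacter G) :
    χ₀ ∈ blockOf M (χ₀ : G → ℂ) :=
  sameBlock_refl hM _

/-- Every block has a defect class. -/
theorem exists_isDefectClass {p : ℕ} {M : Ideal AlgInt} (hpM : IsPModular p M)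
    (χ₀ : IrrCharacter G) : ∃ g : G, IsDefectClass M (blockOf M (χ₀ : G → ℂ)) g := by
  classical
  have hM : M.IsPrime := isPrime_of_isPModular hpM
  set B := blockOf M (χ₀ : G → ℂ) with hB
  have h1 : omega (χ₀ : G → ℂ) (blockCoeff B) = 1 := by
    rw [omega_blockCoeff, if_pos (self_mem_blockOf hM χ₀)]
  rw [omega_eq_sum_conjClasses (isClassFunction_of_isCharacter χ₀.2)
    (blockCoeff_isClassFunction B)] at h1
  have hex : ∃ c : ConjClasses G, ¬ MemLocalIdeal M
      (blockCoeff B (Quotient.out c) * centralChar (χ₀ : G → ℂ) (Quotient.out c)) := by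
    by_contra hcon
    have hall : ∀ c : ConjClasses G, MemLocalIdeal M
        (blockCoeff B (Quotient.out c) * centralChar (χ₀ : G → ℂ) (Quotient.out c)) := by
      intro c
      by_contra h
      exact hcon ⟨c, h⟩
    have := memLocalIdeal_sum hM Finset.univ _ (fun c _ => hall c)
    rw [h1] at this
    exact not_memLocalIdeal_one hM this
  obtain ⟨c, hc⟩ := hex
  refine ⟨Quotient.out c, memLocalRing_blockCoeff hpM χ₀ _, ?_, ?_⟩
  · intro h
    exact hc (memLocalIdeal_mul_right hM h (memLocalRing_centralChar hM χ₀.2 _))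
  · intro χ hχ h
    apply hc
    refine memLocalIdeal_mul_left hM (memLocalRing_blockCoeff hpM χ₀ _) ?_
    have h2 : MemLocalIdeal M (centralChar (χ₀ : G → ℂ) (Quotient.out c) -
        centralChar (χ : G → ℂ) (Quotient.out c)) := hχ _
    have := memLocalIdeal_add hM h2 h
    simpa using this

end Cfsg.Agent.Lib.Helper77
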