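import Cfsg.Agent.Lib.Helper81.LocalRing
import Mathlib.GroupTheory.PGroup
import Mathlib.GroupTheory.GroupAction.Quotient

set_option autoImplicit false

namespace Cfsg.Agent.Lib.Helper77

open Cfsg
open Cfsg.Agent.Lib.Helper81

/-- A `p`-group `Q` acts on a finite set `X`; `F` is a `Q`-invariant function with values in the
local ring at `M`, taking values in the local ideal at the fixed points.  Then the sum of `F` over
`X` lies in the local ideal. -/
theorem pgroup_sum_mem {Q X : Type*} [Group Q] [MulAction Q X] [Fintype X] {p : ℕ}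
    [Fact p.Prime] (hQ : IsPGroup p Q) {M : Ideal AlgInt} (hpM : IsPModular p M) (F : X → ℂ)
    (hinv : ∀ (q : Q) (x : X), F (q • x) = F x) (hS : ∀ x, MemLocalRing M (F x))
    (hfix : ∀ x ∈ MulAction.fixedPoints Q X, MemLocalIdeal M (F x)) :
    MemLocalIdeal M (∑ x : X, F x) := by
  classical
  have hM : M.IsPrime := isPrime_of_isPModular hpM
  have := Fintype.ofFinite (MulAction.orbitRel.Quotient Q X)
  let e := MulAction.selfEquivSigmaOrbits Q X
  have he : ∀ x : X, ((e x).2 : X) = x := fun x => rfl
  have hfin : ∀ ω : MulAction.orbitRel.Quotient Q X,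
      Fintype (MulAction.orbit Q (Quotient.out ω)) := fun ω => Fintype.ofFinite _
  rw [← Equiv.sum_comp e.symm, Fintype.sum_sigma]
  refine memLocalIdeal_sum hM _ _ fun ω _ => ?_
  -- all values on the orbit agree
  have hconst : ∀ y : MulAction.orbit Q (Quotient.out ω),
      F (e.symm ⟨ω, y⟩) = F (Quotient.out ω) := by
    intro y
    have hy : e.symm ⟨ω, y⟩ = (y : X) := by
      have := he (e.symm ⟨ω, y⟩)
      rw [Equiv.apply_symm_apply] at this
      exact this.symm
    rw [hy]
    obtain ⟨q, hq⟩ := MulAction.mem_orbit_iff.mp y.2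
    rw [← hq, hinv]
  rw [Finset.sum_congr rfl (fun y _ => hconst y), Finset.sum_const, nsmul_eq_mul]
  by_cases hfx : Quotient.out ω ∈ MulAction.fixedPoints Q X
  · exact memLocalIdeal_mul_left hM (memLocalRing_natCast hM _) (hfix _ hfx)
  · refine memLocalIdeal_mul_right hM ?_ (hS _)
    rw [memLocalIdeal_natCast_iff hpM]
    obtain ⟨k, hk⟩ := hQ.card_orbit (Quotient.out ω)
    rw [Finset.card_univ, ← Nat.card_eq_fintype_card, hk]
    cases k with
    | zero =>
      exfalso
      apply hfx
      rw [MulAction.mem_fixedPoints_iff_card_orbit_eq_one, ← Nat.card_eq_fintype_card, hk,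
        pow_zero]
    | succ k => exact dvd_pow_self p (Nat.succ_ne_zero k)

end Cfsg.Agent.Lib.Helper77
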