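import Cfsg.Agent.Lib.Helper77.DefectGroup
import Cfsg.Agent.Lib.Helper77.PGroupSum

set_option autoImplicit false

namespace Cfsg.Agent.Lib.Helper77

open Cfsg Representation
open Cfsg.Agent.Lib.Helper80 Cfsg.Agent.Lib.Helper81
open scoped ComplexConjugate Pointwise

universe u

variable {G : Type u} [Group G]

/-- Conjugation action of a subgroup on the group. -/
@[instance_reducible] def conjActionOf (Q : Subgroup G) : MulAction Q G :=
  MulAction.compHom G ((MulAut.conj : G →* MulAut G).comp Q.subtype)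

theorem conjActionOf_smul (Q : Subgroup G) (q : Q) (h : G) :
    (letI := conjActionOf Q; q • h) = (q : G) * h * (q : G)⁻¹ := rfl

/-- Every `p`-subgroup of the centralizer of `g` is conjugate into `D`. -/
def DefLE (p : ℕ) (g : G) (D : Subgroup G) : Prop :=
  ∀ Q : Subgroup G, IsPGroup p Q → Q ≤ Subgroup.centralizer ({g} : Set G) →
    ∃ x : G, MulAut.conj x • Q ≤ D

/-- The `S`-valued class functions that vanish modulo the local ideal on the classes whose defect
groups are not conjugate into `D`. -/
def InZD (p : ℕ) (M : Ideal AlgInt) (D : Subgroup G) (a : G → ℂ) : Prop :=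
  IsClassFunction G a ∧ (∀ g, MemLocalRing M (a g)) ∧
    ∀ g, ¬ DefLE p g D → MemLocalIdeal M (a g)

variable [Fintype G]

/-- `InZD` is an ideal of the `S`-valued class functions under convolution. -/
theorem conv_mem_ZD {p : ℕ} [Fact p.Prime] {M : Ideal AlgInt} (hpM : IsPModular p M)
    {D : Subgroup G} {a b : G → ℂ} (ha : InZD p M D a) (hb : IsClassFunction G b)
    (hbS : ∀ g, MemLocalRing M (b g)) : InZD p M D (conv a b) := by
  have hM : M.IsPrime := isPrime_of_isPModular hpM
  obtain ⟨hac, haS, haD⟩ := ha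
  refine ⟨conv_isClassFunction hac hb, ?_, ?_⟩
  · intro g
    exact memLocalRing_sum hM _ _ fun h _ => memLocalRing_mul hM (haS _) (hbS _)
  · intro z hz
    unfold DefLE at hz
    push Not at hz
    obtain ⟨Q, hQp, hQz, hQD⟩ := hz
    let := conjActionOf Q
    unfold conv
    refine pgroup_sum_mem (Q := Q) (X := G) hQp hpM (fun h => a h * b (h⁻¹ * z)) ?_ ?_ ?_
    · intro q h
      show a ((q : G) * h * (q : G)⁻¹) * b (((q : G) * h * (q : G)⁻¹)⁻¹ * z) = a h * b (h⁻¹ * z)
      rw [hac]
      have hqz : (q : G) * z = z * (q : G) := by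
        have := hQz q.2
        rw [Subgroup.mem_centralizer_singleton_iff] at this
        exact this
      have : ((q : G) * h * (q : G)⁻¹)⁻¹ * z = (q : G) * (h⁻¹ * z) * (q : G)⁻¹ := by
        have h2 : z = (q : G) * z * (q : G)⁻¹ := by rw [hqz]; group
        conv_lhs => rw [h2]
        group
      rw [this, hb]
    · intro h
      exact memLocalRing_mul hM (haS _) (hbS _)
    · intro h hfix
      refine memLocalIdeal_mul_right hM (haD h ?_) (hbS _)
      intro hle
      obtain ⟨x, hx⟩ := hle Q hQp (by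
        intro q hq
        rw [Subgroup.mem_centralizer_singleton_iff]
        have := hfix ⟨q, hq⟩
        have h2 : q * h * q⁻¹ = h := this
        calc q * h = q * h * q⁻¹ * q := by group
          _ = h * q := by rw [h2])
      exact hQD x hx

open Classical in
/-- Units of the block algebra: an `S`-valued class function whose central character on the block
is a unit divides the block idempotent. -/
theorem exists_conv_eq_blockCoeff {p : ℕ} {M : Ideal AlgInt} (hpM : IsPModular p M)
    (χ₀ : IrrCharacter G) {z : G → ℂ} (hz : IsClassFunction G z)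
    (hzS : ∀ g, MemLocalRing M (z g)) (hzu : ¬ MemLocalIdeal M (omega (χ₀ : G → ℂ) z)) :
    ∃ w : G → ℂ, IsClassFunction G w ∧ (∀ g, MemLocalRing M (w g)) ∧
      conv (conv z w) (blockCoeff (blockOf M (χ₀ : G → ℂ))) =
        blockCoeff (blockOf M (χ₀ : G → ℂ)) := by
  have := Fintype.ofFinite (IrrCharacter G)
  have hM : M.IsPrime := isPrime_of_isPModular hpM
  set B := blockOf M (χ₀ : G → ℂ) with hB
  have hφA : (fun χ : IrrCharacter G => omega (χ : G → ℂ) z) ∈ fourierSubring (G := G) M hM :=
    ⟨z, hz, hzS, fun _ => rfl⟩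
  obtain ⟨θ, ⟨w, hw, hwS, hθw⟩, hθ⟩ := exists_inverse_on (K := ℂ) (I := IrrCharacter G)
    (localSubring M hM) {x | MemLocalIdeal M x} (memLocalIdeal_zero hM)
    (not_memLocalIdeal_one hM) (fun s hs x hx => memLocalIdeal_mul_left hM hs hx)
    (fun s hs hsm => memLocalRing_inv_of_not_memLocalIdeal hs hsm)
    (fourierSubring M hM)
    (by
      rintro φ ⟨a, ha, haS, hφ⟩ χ
      rw [hφ]
      exact memLocalRing_omega hM χ.2 ha haS)
    (by
      intro s hs
      refine ⟨fun g => s * deltaOne g, ?_, ?_, ?_⟩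
      · intro g h
        show s * deltaOne _ = s * deltaOne g
        rw [deltaOne_isClassFunction]
      · intro g
        refine memLocalRing_mul hM hs ?_
        unfold deltaOne
        split_ifs
        · exact memLocalRing_one hM
        · exact memLocalRing_zero hM
      · intro χ
        rw [omega_smul, omega_deltaOne _ (irr_one_ne_zero χ.2), mul_one])
    (Finset.univ.filter (fun χ : IrrCharacter G => χ ∈ B))
    (fun χ : IrrCharacter G => omega (χ : G → ℂ) z) hφA
    (by
      intro χ hχ
      simp only [Finset.mem_filter, Finset.mem_univ, true_and] at hχ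
      show ¬ MemLocalIdeal M (omega (χ : G → ℂ) z)
      intro h
      apply hzu
      have h2 := memLocalIdeal_omega_sub hM (isClassFunction_of_isCharacter χ₀.2)
        (isClassFunction_of_isCharacter χ.2) hχ hz hzS
      have := memLocalIdeal_add hM h2 h
      simpa using this)
  refine ⟨w, hw, hwS, ?_⟩
  apply eq_of_omega_eq (conv_isClassFunction (conv_isClassFunction hz hw)
    (blockCoeff_isClassFunction B)) (blockCoeff_isClassFunction B)
  intro χ
  rw [omega_conv χ.2 (conv_isClassFunction hz hw) (blockCoeff_isClassFunction B),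
    omega_conv χ.2 hz hw, omega_blockCoeff]
  by_cases hχ : χ ∈ B
  · rw [if_pos hχ, mul_one, ← hθw χ]
    exact hθ χ (by simp [hχ])
  · rw [if_neg hχ, mul_zero]

/-- If a member of `InZD` has unit central character on the block, then the block idempotent lies
in `InZD`. -/
theorem blockCoeff_mem_ZD {p : ℕ} [Fact p.Prime] {M : Ideal AlgInt} (hpM : IsPModular p M)
    (χ₀ : IrrCharacter G) {D : Subgroup G} {z : G → ℂ} (hz : InZD p M D z)
    (hzu : ¬ MemLocalIdeal M (omega (χ₀ : G → ℂ) z)) :
    InZD p M D (blockCoeff (blockOf M (χ₀ : G → ℂ))) := by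
  obtain ⟨w, hw, hwS, he⟩ := exists_conv_eq_blockCoeff hpM χ₀ hz.1 hz.2.1 hzu
  rw [← he]
  exact conv_mem_ZD hpM (conv_mem_ZD hpM hz hw hwS) (blockCoeff_isClassFunction _)
    (fun g => memLocalRing_blockCoeff hpM χ₀ g)

end Cfsg.Agent.Lib.Helper77

namespace Cfsg.Agent.Lib.Helper77

open Cfsg Representation
open Cfsg.Agent.Lib.Helper80 Cfsg.Agent.Lib.Helper81
open scoped ComplexConjugate Pointwise

universe u

variable {G : Type u} [Group G]

/-- Sylow's theorem inside a subgroup `H`: a `p`-subgroup of `H` is `H`-conjugate into a given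
Sylow `p`-subgroup of `H`. -/
theorem exists_conj_le_sylow_map [Finite G] {p : ℕ} [Fact p.Prime] (H : Subgroup G)
    (P : Sylow p H) (Q : Subgroup G) (hQ : IsPGroup p Q) (hQH : Q ≤ H) :
    ∃ c ∈ H, MulAut.conj c • Q ≤ (P : Subgroup H).map H.subtype := by
  have hQ' : IsPGroup p (Q.subgroupOf H) := hQ.comap_subtype
  obtain ⟨R, hR⟩ := hQ'.exists_le_sylow
  obtain ⟨c, hc⟩ := MulAction.exists_smul_eq H R P
  refine ⟨c, c.2, ?_⟩
  intro y hy
  rw [Subgroup.mem_pointwise_smul_iff_inv_smul_mem] at hy
  have hy' : (c : G)⁻¹ * y * (c : G) ∈ Q := by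
    simpa [MulAut.smul_def] using hy
  have hyH : (c : G)⁻¹ * y * (c : G) ∈ H := hQH hy'
  have h1 : (⟨(c : G)⁻¹ * y * (c : G), hyH⟩ : H) ∈ (R : Subgroup H) := hR (by
    rw [Subgroup.mem_subgroupOf]; exact hy')
  have h2 : (MulAut.conj c) • (⟨(c : G)⁻¹ * y * (c : G), hyH⟩ : H) ∈
      (MulAut.conj c • (R : Subgroup H) : Subgroup H) :=
    Subgroup.smul_mem_pointwise_smul _ _ _ h1
  have h3 : (MulAut.conj c • (R : Subgroup H) : Subgroup H) = (P : Subgroup H) := by
    rw [← hc]; rfl
  rw [h3] at h2
  refine ⟨_, h2, ?_⟩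
  simp [MulAut.smul_def, mul_assoc]

theorem isPGroup_conj_smul {p : ℕ} {Q : Subgroup G} (hQ : IsPGroup p Q) (x : G) :
    IsPGroup p (MulAut.conj x • Q : Subgroup G) :=
  hQ.of_equiv (Subgroup.equivSMul (MulAut.conj x) Q)

/-- The defect groups of the conjugates of `g` are conjugate into a Sylow subgroup of the
centralizer of `g`. -/
theorem defLE_of_isConj [Finite G] {p : ℕ} [Fact p.Prime] (g : G)
    (P : Sylow p (Subgroup.centralizer ({g} : Set G))) {g' : G} (hgg' : IsConj g g') :
    DefLE p g' ((P : Subgroup (Subgroup.centralizer ({g} : Set G))).map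
      (Subgroup.centralizer ({g} : Set G)).subtype) := by
  obtain ⟨x, rfl⟩ := isConj_iff.mp hgg'
  intro Q hQ hQC
  have hQ' : IsPGroup p (MulAut.conj x⁻¹ • Q : Subgroup G) := isPGroup_conj_smul hQ x⁻¹
  have hQ'C : (MulAut.conj x⁻¹ • Q : Subgroup G) ≤ Subgroup.centralizer ({g} : Set G) := by
    intro y hy
    rw [Subgroup.mem_pointwise_smul_iff_inv_smul_mem] at hy
    have hy' : x * y * x⁻¹ ∈ Q := by
      simpa [MulAut.smul_def] using hy
    have h1 := mem_centralizer_singleton_conj x⁻¹ (hQC hy')
    have e1 : x⁻¹ * (x * y * x⁻¹) * x⁻¹⁻¹ = y := by group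
    have e2 : x⁻¹ * (x * g * x⁻¹) * x⁻¹⁻¹ = g := by group
    rwa [e1, e2] at h1
  obtain ⟨c, _, hc⟩ := exists_conj_le_sylow_map _ P _ hQ' hQ'C
  refine ⟨c * x⁻¹, ?_⟩
  rw [map_mul, mul_smul]
  exact hc

variable [Fintype G]

/-- The class sum of `g` lies in `InZD` for a Sylow subgroup of the centralizer of `g`. -/
theorem classInd_mem_ZD {p : ℕ} [Fact p.Prime] {M : Ideal AlgInt} (hM : M.IsPrime) (g : G)
    (P : Sylow p (Subgroup.centralizer ({g} : Set G))) :
    InZD p M ((P : Subgroup (Subgroup.centralizer ({g} : Set G))).map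
      (Subgroup.centralizer ({g} : Set G)).subtype) (classInd g) := by
  classical
  refine ⟨classInd_isClassFunction g, ?_, ?_⟩
  · intro h
    unfold classInd
    split_ifs
    · exact memLocalRing_one hM
    · exact memLocalRing_zero hM
  · intro h hh
    unfold classInd
    rw [if_neg]
    · exact memLocalIdeal_zero hM
    · intro hc
      exact hh (defLE_of_isConj g P hc)

/-- Min-max, first half: if `g` is a defect class of the block of `χ₀` and `P` a Sylow subgroup of
its centralizer, the idempotent of the block lies in `InZD` for `P`. -/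
theorem blockCoeff_mem_ZD_of_centralChar {p : ℕ} [Fact p.Prime] {M : Ideal AlgInt}
    (hpM : IsPModular p M) (χ₀ : IrrCharacter G) (g : G)
    (hg : ¬ MemLocalIdeal M (centralChar (χ₀ : G → ℂ) g))
    (P : Sylow p (Subgroup.centralizer ({g} : Set G))) :
    InZD p M ((P : Subgroup (Subgroup.centralizer ({g} : Set G))).map
      (Subgroup.centralizer ({g} : Set G)).subtype)
      (blockCoeff (blockOf M (χ₀ : G → ℂ))) := by
  have hM : M.IsPrime := isPrime_of_isPModular hpM
  apply blockCoeff_mem_ZD hpM χ₀ (classInd_mem_ZD hM g P)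
  rw [omega_classInd (isClassFunction_of_isCharacter χ₀.2)]
  exact hg

/-- Consequence: an element at which the block idempotent is a unit has its defect groups
conjugate into `P`. -/
theorem defLE_of_blockCoeff {p : ℕ} [Fact p.Prime] {M : Ideal AlgInt}
    (hpM : IsPModular p M) (χ₀ : IrrCharacter G) (g : G)
    (hg : ¬ MemLocalIdeal M (centralChar (χ₀ : G → ℂ) g))
    (P : Sylow p (Subgroup.centralizer ({g} : Set G))) (h : G)
    (hh : ¬ MemLocalIdeal M (blockCoeff (blockOf M (χ₀ : G → ℂ)) h)) :
    DefLE p h ((P : Subgroup (Subgroup.centralizer ({g} : Set G))).map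
      (Subgroup.centralizer ({g} : Set G)).subtype) := by
  by_contra hcon
  exact hh ((blockCoeff_mem_ZD_of_centralChar hpM χ₀ g hg P).2.2 h hcon)

end Cfsg.Agent.Lib.Helper77
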