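import Cfsg.Agent.Lib.Helper77.NilAbstract
import Cfsg.Agent.Lib.Helper77.MinMax

set_option autoImplicit false

universe u

namespace Cfsg.Agent.Lib.Helper77

open Cfsg
open Cfsg.Agent.Lib.Helper81
open Cfsg.Agent.Lib.Helper80

variable {G : Type u} [Group G]

open Classical in
/-- The term of `x` in the class sum of `g`. -/
noncomputable def classTerm (R : Type*) [Semiring R] (g x : G) : MonoidAlgebra R G :=
  if IsConj g x then MonoidAlgebra.single x 1 else 0

theorem classTerm_pos (R : Type*) [Semiring R] {g x : G} (h : IsConj g x) :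
    classTerm R g x = MonoidAlgebra.single x 1 := if_pos h

theorem classTerm_neg (R : Type*) [Semiring R] {g x : G} (h : ¬ IsConj g x) :
    classTerm R g x = 0 := if_neg h

theorem isConj_conj_iff (g x y : G) : IsConj g (y * x * y⁻¹) ↔ IsConj g x := by
  constructor
  · intro h
    refine h.trans ?_
    exact isConj_iff.mpr ⟨y⁻¹, by group⟩
  · intro h
    refine h.trans ?_
    exact isConj_iff.mpr ⟨y, rfl⟩

theorem classTerm_conj (R : Type*) [Semiring R] (g x y : G) :
    classTerm R g (y * x * y⁻¹) =
      MonoidAlgebra.single y 1 * classTerm R g x * MonoidAlgebra.single y⁻¹ 1 := by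
  by_cases h : IsConj g x
  · rw [classTerm_pos R h, classTerm_pos R ((isConj_conj_iff g x y).mpr h),
      MonoidAlgebra.single_mul_single, MonoidAlgebra.single_mul_single, mul_one, mul_one]
  · rw [classTerm_neg R h, classTerm_neg R (fun h' => h ((isConj_conj_iff g x y).mp h')),
      mul_zero, zero_mul]

variable [Fintype G]

/-- The class sum of `g` in the group algebra over `R`. -/
noncomputable def classSum (R : Type*) [Semiring R] (g : G) : MonoidAlgebra R G :=
  ∑ x : G, classTerm R g x

theorem classSum_mul_single (R : Type*) [Semiring R] (g y : G) (r : R) :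
    classSum R g * MonoidAlgebra.single y r = MonoidAlgebra.single y r * classSum R g := by
  unfold classSum
  rw [Finset.sum_mul, Finset.mul_sum]
  refine Fintype.sum_equiv (MulAut.conj y⁻¹).toEquiv _ _ ?_
  intro x
  show classTerm R g x * MonoidAlgebra.single y r
    = MonoidAlgebra.single y r * classTerm R g (y⁻¹ * x * y⁻¹⁻¹)
  by_cases h : IsConj g x
  · rw [classTerm_pos R h, classTerm_pos R ((isConj_conj_iff g x y⁻¹).mpr h),
      MonoidAlgebra.single_mul_single, MonoidAlgebra.single_mul_single, mul_one, one_mul]
    congr 1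
    group
  · rw [classTerm_neg R h, classTerm_neg R (fun h' => h ((isConj_conj_iff g x y⁻¹).mp h')),
      mul_zero, zero_mul]

theorem classSum_central (R : Type*) [Semiring R] (g : G) (a : MonoidAlgebra R G) :
    classSum R g * a = a * classSum R g := by
  induction a using MonoidAlgebra.induction_linear with
  | zero => rw [mul_zero, zero_mul]
  | add f h hf hh => rw [mul_add, add_mul, hf, hh]
  | single m r => exact classSum_mul_single R g m r

theorem map_classTerm {R S : Type*} [Semiring R] [Semiring S] (f : R →+* S) (g x : G) :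
    MonoidAlgebra.mapRingHom G f (classTerm R g x) = classTerm S g x := by
  by_cases h : IsConj g x
  · rw [classTerm_pos R h, classTerm_pos S h, MonoidAlgebra.mapRingHom_single, map_one]
  · rw [classTerm_neg R h, classTerm_neg S h, map_zero]

theorem map_classSum {R S : Type*} [Semiring R] [Semiring S] (f : R →+* S) (g : G) :
    MonoidAlgebra.mapRingHom G f (classSum R g) = classSum S g := by
  unfold classSum
  rw [map_sum]
  exact Finset.sum_congr rfl fun x _ => map_classTerm f g x

/-- Nilpotency of the class sum of an element not centralizing a normal `p`-subgroup, in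
characteristic `p`. -/
theorem isNilpotent_classSum {p : ℕ} [Fact p.Prime] (N : Subgroup G) [N.Normal]
    (hN : IsPGroup p N) {g : G} (hg : g ∉ Subgroup.centralizer (N : Set G)) :
    IsNilpotent (classSum (ZMod p) g) := by
  classical
  let := conjActionOf N
  have : Finite (MonoidAlgebra (ZMod p) G) :=
    Finite.of_equiv _ (MonoidAlgebra.coeffEquiv (R := ZMod p) (M := G)).symm
  refine isNilpotent_of_pgroup (N := N) (X := G) hN
    ((MonoidAlgebra.of (ZMod p) G).comp N.subtype) (classTerm (ZMod p) g) ?_ ?_ ?_ ?_
  · intro n x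
    show classTerm (ZMod p) g ((n : G) * x * (n : G)⁻¹) = _
    rw [classTerm_conj]
    rfl
  · intro n x
    refine ⟨⟨x⁻¹ * n * x, ?_⟩, ?_⟩
    · have := ‹N.Normal›.conj_mem (n : G) n.2 x⁻¹
      rwa [inv_inv] at this
    · show MonoidAlgebra.single (n : G) 1 * classTerm (ZMod p) g x =
        classTerm (ZMod p) g x * MonoidAlgebra.single (x⁻¹ * n * x) 1
      by_cases h : IsConj g x
      · rw [classTerm_pos _ h, MonoidAlgebra.single_mul_single, MonoidAlgebra.single_mul_single]
        congr 1
        group
      · rw [classTerm_neg _ h, mul_zero, zero_mul]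
  · intro x hx
    refine classTerm_neg _ ?_
    intro hc
    apply hg
    obtain ⟨c, hc⟩ := isConj_iff.mp hc
    rw [Subgroup.mem_centralizer_iff]
    intro n hn
    have hn' : c * n * c⁻¹ ∈ N := ‹N.Normal›.conj_mem n hn c
    have h1 : (c * n * c⁻¹) * x * (c * n * c⁻¹)⁻¹ = x := hx ⟨c * n * c⁻¹, hn'⟩
    rw [← hc] at h1
    have h2 : c * (n * g * n⁻¹) * c⁻¹ = c * g * c⁻¹ := by
      rw [← h1]; group
    have h3 : n * g * n⁻¹ = g := by
      have := mul_left_cancel (mul_right_cancel h2)
      exact this
    calc n * g = n * g * n⁻¹ * n := by group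
      _ = g * n := by rw [h3]
  · exact classSum_central (ZMod p) g

/-- The coefficient function of an element of the integral group algebra. -/
noncomputable def cf (a : MonoidAlgebra ℤ G) : G → ℂ := fun x => ((a.coeff x : ℤ) : ℂ)

theorem cf_mul (a b : MonoidAlgebra ℤ G) : cf (a * b) = conv (cf a) (cf b) := by
  funext x
  unfold cf conv
  rw [MonoidAlgebra.coeff_mul_apply_left, Finsupp.sum_fintype _ _ (fun i => zero_mul _)]
  push_cast
  rfl

omit [Fintype G] in
theorem cf_one : cf (1 : MonoidAlgebra ℤ G) = deltaOne := by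
  classical
  funext x
  unfold cf deltaOne
  rw [MonoidAlgebra.one_def, MonoidAlgebra.coeff_single, Finsupp.single_apply]
  by_cases h : x = 1
  · rw [if_pos h, if_pos h.symm]; simp
  · rw [if_neg h, if_neg (fun h' => h h'.symm)]; simp

theorem cf_classSum (g : G) : cf (classSum ℤ g) = classInd g := by
  classical
  funext x
  unfold cf classSum classInd
  rw [MonoidAlgebra.coeff_sum, Finsupp.finsetSum_apply, Finset.sum_eq_single x]
  · by_cases h : IsConj g x
    · rw [classTerm_pos ℤ h, if_pos h, MonoidAlgebra.coeff_single, Finsupp.single_eq_same]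
      simp
    · rw [classTerm_neg ℤ h, if_neg h]
      simp
  · intro y _ hy
    by_cases h : IsConj g y
    · rw [classTerm_pos ℤ h, MonoidAlgebra.coeff_single, Finsupp.single_apply, if_neg hy]
    · rw [classTerm_neg ℤ h]
      rfl
  · intro h
    exact absurd (Finset.mem_univ x) h

theorem cf_pow_isClassFunction (g : G) (m : ℕ) :
    IsClassFunction G (cf (classSum ℤ g ^ m)) := by
  induction m with
  | zero => rw [pow_zero, cf_one]; exact deltaOne_isClassFunction
  | succ m ih =>
    rw [pow_succ, cf_mul, cf_classSum]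
    exact conv_isClassFunction ih (classInd_isClassFunction g)

theorem omega_cf_pow {χ : G → ℂ} (hχ : IsIrrCharacter G χ) (g : G) (m : ℕ) :
    omega χ (cf (classSum ℤ g ^ m)) = centralChar χ g ^ m := by
  induction m with
  | zero => rw [pow_zero, cf_one, pow_zero, omega_deltaOne χ (irr_one_ne_zero hχ)]
  | succ m ih =>
    rw [pow_succ, cf_mul, cf_classSum,
      omega_conv hχ (cf_pow_isClassFunction g m) (classInd_isClassFunction g), ih,
      omega_classInd (isClassFunction_of_isCharacter hχ), pow_succ]

theorem memLocalIdeal_of_pow {M : Ideal AlgInt} (hM : M.IsPrime) {x : ℂ}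
    (hx : MemLocalRing M x) (m : ℕ) (hxm : MemLocalIdeal M (x ^ m)) : MemLocalIdeal M x := by
  induction m with
  | zero => rw [pow_zero] at hxm; exact absurd hxm (not_memLocalIdeal_one hM)
  | succ m ih =>
    by_contra hcon
    rw [pow_succ'] at hxm
    exact hcon (ih (memLocalIdeal_of_mul_of_not_memLocalIdeal hM hx hcon hxm))

/-- **Lemma N.** If `N` is a normal `p`-subgroup and `g` does not centralize `N`, then every
central character vanishes on the class sum of `g` modulo the local ideal. -/
theorem memLocalIdeal_centralChar_of_not_mem_centralizer {p : ℕ} [Fact p.Prime]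
    {M : Ideal AlgInt} (hpM : IsPModular p M) (N : Subgroup G) [N.Normal]
    (hN : IsPGroup p N) {g : G} (hg : g ∉ Subgroup.centralizer (N : Set G)) {χ : G → ℂ}
    (hχ : IsIrrCharacter G χ) : MemLocalIdeal M (centralChar χ g) := by
  have hM : M.IsPrime := isPrime_of_isPModular hpM
  obtain ⟨m, hm⟩ := isNilpotent_classSum N hN hg
  have hmap : MonoidAlgebra.mapRingHom G (Int.castRingHom (ZMod p)) (classSum ℤ g ^ m) = 0 := by
    rw [map_pow, map_classSum, hm]
  have hdiv : ∀ x, (p : ℤ) ∣ (classSum ℤ g ^ m).coeff x := by
    intro x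
    have := congrArg (fun a => a.coeff x) hmap
    simp only [MonoidAlgebra.coeff_mapRingHom] at this
    exact (ZMod.intCast_zmod_eq_zero_iff_dvd _ p).mp this
  refine memLocalIdeal_of_pow hM (memLocalRing_centralChar hM hχ g) m ?_
  rw [← omega_cf_pow hχ]
  set d : G → ℂ := fun x => (((classSum ℤ g ^ m).coeff x / (p : ℤ) : ℤ) : ℂ) with hd
  have hcf : cf (classSum ℤ g ^ m) = fun x => (p : ℂ) * d x := by
    funext x
    unfold cf
    rw [hd]
    show _ = (p : ℂ) * (((classSum ℤ g ^ m).coeff x / (p : ℤ) : ℤ) : ℂ)
    conv_lhs => rw [← Int.mul_ediv_cancel' (hdiv x)]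
    push_cast
    rfl
  have hp0 : (p : ℂ) ≠ 0 := by
    exact_mod_cast (Fact.out : p.Prime).ne_zero
  have hdclass : IsClassFunction G d := by
    intro a b
    have := cf_pow_isClassFunction g m a b
    rw [hcf] at this
    exact mul_left_cancel₀ hp0 this
  rw [hcf, omega_smul]
  refine memLocalIdeal_mul_right hM ((memLocalIdeal_natCast_iff hpM p).mpr dvd_rfl) ?_
  exact memLocalRing_omega hM hχ hdclass fun x => memLocalRing_intCast hM _

end Cfsg.Agent.Lib.Helper77
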