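import Cfsg.Prelude.Def_Blocks
import Cfsg.Agent.Lib.Helper80.Central
import Cfsg.Agent.Lib.Helper81.LocalRing
import Mathlib.Algebra.Group.ConjFinite

set_option autoImplicit false

namespace Cfsg.Agent.Lib.Helper77

open Cfsg Representation
open Cfsg.Agent.Lib.Helper80 Cfsg.Agent.Lib.Helper81

universe u

variable {G : Type u} [Group G] [Fintype G]

/-- The central character of `χ` evaluated at the group-algebra element with coefficient
function `a`: `(∑ g, a g * χ g) / χ 1`. -/
noncomputable def omega (χ : G → ℂ) (a : G → ℂ) : ℂ := (∑ g : G, a g * χ g) / χ 1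

/-- Convolution of coefficient functions (product in the group algebra). -/
noncomputable def conv (a b : G → ℂ) : G → ℂ := fun g => ∑ h : G, a h * b (h⁻¹ * g)

theorem omega_add (χ a b : G → ℂ) : omega χ (a + b) = omega χ a + omega χ b := by
  unfold omega
  simp only [Pi.add_apply, add_mul, Finset.sum_add_distrib, add_div]

theorem omega_neg (χ a : G → ℂ) : omega χ (-a) = - omega χ a := by
  unfold omega
  simp only [Pi.neg_apply, neg_mul, Finset.sum_neg_distrib, neg_div]

theorem omega_zero (χ : G → ℂ) : omega χ 0 = 0 := by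
  unfold omega
  simp

theorem conv_isClassFunction {a b : G → ℂ} (ha : IsClassFunction G a)
    (hb : IsClassFunction G b) : IsClassFunction G (conv a b) := by
  intro g x
  unfold conv
  refine Fintype.sum_equiv (MulAut.conj x⁻¹).toEquiv _ _ ?_
  intro h
  simp only [MulEquiv.toEquiv_eq_coe, MulEquiv.coe_toEquiv, MulAut.conj_apply, inv_inv]
  have h1 : a (x⁻¹ * h * x) = a h := by
    have := ha h x⁻¹
    rwa [inv_inv] at this
  have h2 : b ((x⁻¹ * h * x)⁻¹ * g) = b (h⁻¹ * (x * g * x⁻¹)) := by
    have := hb ((x⁻¹ * h * x)⁻¹ * g) x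
    rw [← this]
    congr 1
    group
  rw [h1, h2]

/-- The operator of a convolution is the product of the operators. -/
theorem sum_conv_smul {V : Type*} [AddCommGroup V] [Module ℂ V] (ρ : Representation ℂ G V)
    (a b : G → ℂ) :
    ∑ g : G, conv a b g • ρ g = (∑ g : G, a g • ρ g) * (∑ g : G, b g • ρ g) := by
  unfold conv
  rw [Finset.sum_mul]
  simp_rw [Finset.mul_sum, Finset.sum_smul]
  rw [Finset.sum_comm]
  refine Finset.sum_congr rfl fun h _ => ?_
  refine Fintype.sum_equiv (Equiv.mulLeft h⁻¹) _ _ ?_
  intro g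
  simp only [Equiv.coe_mulLeft]
  rw [smul_mul_smul_comm, ← map_mul, mul_inv_cancel_left]

/-- The central character is multiplicative on class functions. -/
theorem omega_conv {χ : G → ℂ} (hχ : IsIrrCharacter G χ) {a b : G → ℂ}
    (ha : IsClassFunction G a) (hb : IsClassFunction G b) :
    omega χ (conv a b) = omega χ a * omega χ b := by
  obtain ⟨n, ρ, hirr, rfl⟩ := hχ
  have := hirr
  have hn : (Module.finrank ℂ (Fin n → ℂ) : ℂ) ≠ 0 := finrank_ne_zero_of_irreducible ρ
  have hA := sum_classFun_smul ρ a ha
  have hB := sum_classFun_smul ρ b hb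
  have hAB := sum_classFun_smul ρ (conv a b) (conv_isClassFunction ha hb)
  rw [sum_conv_smul, hA, hB] at hAB
  have h1 : omega ρ.character a = (∑ g : G, a g * ρ.character g) /
      (Module.finrank ℂ (Fin n → ℂ) : ℂ) := by
    unfold omega; rw [char_one]
  have h2 : omega ρ.character b = (∑ g : G, b g * ρ.character g) /
      (Module.finrank ℂ (Fin n → ℂ) : ℂ) := by
    unfold omega; rw [char_one]
  have h3 : omega ρ.character (conv a b) = (∑ g : G, conv a b g * ρ.character g) /
      (Module.finrank ℂ (Fin n → ℂ) : ℂ) := by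
    unfold omega; rw [char_one]
  rw [h1, h2, h3]
  have key := congrArg (LinearMap.trace ℂ (Fin n → ℂ)) hAB
  rw [show (LinearMap.id : (Fin n → ℂ) →ₗ[ℂ] (Fin n → ℂ)) = 1 from rfl, smul_mul_smul_comm,
    mul_one, map_smul, map_smul, LinearMap.trace_one, smul_eq_mul, smul_eq_mul] at key
  exact (mul_right_cancel₀ hn key).symm

theorem isClassFunction_of_isConj {F : G → ℂ} (hF : IsClassFunction G F) {g h : G}
    (hgh : IsConj g h) : F g = F h := by
  obtain ⟨c, hc⟩ := isConj_iff.mp hgh
  rw [← hc, hF]

open Classical in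
/-- A sum of a class function over the group, grouped by conjugacy classes. -/
theorem sum_eq_sum_conjClasses (F : G → ℂ) (hF : IsClassFunction G F) :
    ∑ g : G, F g = ∑ c : ConjClasses G,
      ((Subgroup.centralizer ({Quotient.out c} : Set G)).index : ℂ) * F (Quotient.out c) := by
  rw [← Finset.sum_fiberwise (s := Finset.univ) (g := (ConjClasses.mk : G → ConjClasses G))]
  refine Finset.sum_congr rfl fun c _ => ?_
  have hc : ConjClasses.mk (Quotient.out c) = c := Quotient.out_eq c
  have h1 : ∀ g ∈ Finset.univ.filter (fun g : G => ConjClasses.mk g = c),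
      F g = F (Quotient.out c) := by
    intro g hg
    rw [Finset.mem_filter] at hg
    apply isClassFunction_of_isConj hF
    rw [← ConjClasses.mk_eq_mk_iff_isConj, hg.2, hc]
  rw [Finset.sum_congr rfl h1, Finset.sum_const, nsmul_eq_mul]
  congr 2
  rw [index_centralizer_eq_card_conj, Nat.card_eq_fintype_card, Fintype.card_subtype]
  congr 1
  ext g
  simp only [Finset.mem_filter, Finset.mem_univ, true_and]
  rw [← ConjClasses.mk_eq_mk_iff_isConj, hc, eq_comm]

theorem isClassFunction_of_isCharacter {χ : G → ℂ} (hχ : IsIrrCharacter G χ) :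
    IsClassFunction G χ := by
  obtain ⟨n, ρ, -, rfl⟩ := hχ
  intro g h
  exact char_conj ρ g h

open Classical in
/-- The central character of a class function, grouped by conjugacy classes. -/
theorem omega_eq_sum_conjClasses {χ : G → ℂ} (hχ : IsClassFunction G χ) {a : G → ℂ}
    (ha : IsClassFunction G a) :
    omega χ a = ∑ c : ConjClasses G, a (Quotient.out c) * centralChar χ (Quotient.out c) := by
  unfold omega centralChar
  rw [sum_eq_sum_conjClasses (fun g => a g * χ g), Finset.sum_div]
  · refine Finset.sum_congr rfl fun c _ => ?_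
    ring
  · intro g h
    show a (h * g * h⁻¹) * χ (h * g * h⁻¹) = a g * χ g
    rw [ha, hχ]

theorem isIntegral_centralChar_irr {χ : G → ℂ} (hχ : IsIrrCharacter G χ) (g : G) :
    IsIntegral ℤ (centralChar χ g) := by
  obtain ⟨n, ρ, hirr, rfl⟩ := hχ
  have := hirr
  unfold centralChar
  rw [char_one]
  exact isIntegral_centralChar ρ g

theorem memLocalRing_centralChar {M : Ideal AlgInt} (hM : M.IsPrime) {χ : G → ℂ}
    (hχ : IsIrrCharacter G χ) (g : G) : MemLocalRing M (centralChar χ g) :=
  memLocalRing_algInt hM ⟨centralChar χ g, isIntegral_centralChar_irr hχ g⟩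

theorem memLocalRing_omega {M : Ideal AlgInt} (hM : M.IsPrime) {χ : G → ℂ}
    (hχ : IsIrrCharacter G χ) {a : G → ℂ} (ha : IsClassFunction G a)
    (haS : ∀ g, MemLocalRing M (a g)) : MemLocalRing M (omega χ a) := by
  classical
  rw [omega_eq_sum_conjClasses (isClassFunction_of_isCharacter hχ) ha]
  exact memLocalRing_sum hM _ _ fun c _ =>
    memLocalRing_mul hM (haS _) (memLocalRing_centralChar hM hχ _)

/-- Characters in the same block have congruent central characters on all `S`-valued class
functions. -/
theorem memLocalIdeal_omega_sub {M : Ideal AlgInt} (hM : M.IsPrime) {χ ψ : G → ℂ}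
    (hχ : IsClassFunction G χ) (hψ : IsClassFunction G ψ) (hsame : SameBlock M χ ψ)
    {a : G → ℂ} (ha : IsClassFunction G a)
    (haS : ∀ g, MemLocalRing M (a g)) : MemLocalIdeal M (omega χ a - omega ψ a) := by
  classical
  rw [omega_eq_sum_conjClasses hχ ha, omega_eq_sum_conjClasses hψ ha, ← Finset.sum_sub_distrib]
  refine memLocalIdeal_sum hM _ _ fun c _ => ?_
  rw [← mul_sub]
  exact memLocalIdeal_mul_left hM (haS _) (hsame _)


end Cfsg.Agent.Lib.Helper77
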