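import Cfsg.Agent.Lib.Helper77.InducedBlock2
import Cfsg.Agent.Lib.Helper77.DefectConj
import Cfsg.Agent.Lib.Helper84.PCore
import Cfsg.Agent.S0917
import Cfsg.Agent.S0912

set_option autoImplicit false

universe u

namespace Cfsg.Agent.Lib.Helper77

open Cfsg
open Cfsg.Agent.Lib.Helper81
open Cfsg.Agent.Lib.Helper80

variable {G : Type u} [Group G] [Finite G]

/-- If `P` is a defect group of `B`, `P ≤ H ≤ N_G(P)` and the block `b` of `H` induces `B`, then
`P` (viewed in `H`) is a defect group of `b`. -/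
theorem isDefectGroup_of_induced {p : ℕ} [Fact p.Prime] {M : Ideal AlgInt}
    (hpM : IsPModular p M) {P H : Subgroup G} (hPH : P ≤ H)
    (hHN : H ≤ Subgroup.normalizer (P : Set G))
    {b : Set (IrrCharacter H)} {B : Set (IrrCharacter G)} (hind : IsInducedBlock M H b B)
    (hP : IsDefectGroup p M B P) : IsDefectGroup p M b (P.subgroupOf H) := by
  classical
  have := Fintype.ofFinite G
  have := Fintype.ofFinite H
  have hPp : IsPGroup p P := isPGroup_of_isDefectGroup hP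
  obtain ⟨ξ, rfl⟩ := hind.1
  obtain ⟨χ₀, rfl⟩ := hind.2.1
  obtain ⟨Db, hDb⟩ := exists_isDefectGroup hpM ξ
  have h1 : Cfsg.pCore p H ≤ Db := Cfsg.Agent.S0912.result p M hpM _ ⟨ξ, rfl⟩ Db hDb
  obtain ⟨E, hE, hDE⟩ := Cfsg.Agent.S0917.result p M hpM _ _ ⟨ξ, rfl⟩ _ ⟨χ₀, rfl⟩ hind Db hDb
  have h2 : P.subgroupOf H ≤ Cfsg.pCore p H :=
    Cfsg.Agent.Lib.Helper84.le_pCore (Subgroup.normal_subgroupOf_of_le_normalizer hHN)
      hPp.comap_subtype
  have hPE : P ≤ E := by
    intro y hy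
    apply hDE
    exact ⟨⟨y, hPH hy⟩, h1 (h2 (show (⟨y, hPH hy⟩ : H) ∈ P.subgroupOf H from hy)), rfl⟩
  have hEq : P = E := eq_of_le_of_isDefectGroup hpM χ₀ hP hE hPE
  have : Db = P.subgroupOf H := by
    apply le_antisymm
    · intro y hy
      show (y : G) ∈ P
      rw [hEq]
      exact hDE ⟨y, hy, rfl⟩
    · exact h2.trans h1
  rw [← this]
  exact hDb

end Cfsg.Agent.Lib.Helper77
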