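import Cfsg.Agent.Lib.Helper77.Nilpotent
import Cfsg.Agent.Lib.Helper77.Osima

set_option autoImplicit false

universe u

namespace Cfsg.Agent.Lib.Helper77

open Cfsg
open Cfsg.Agent.Lib.Helper81
open Cfsg.Agent.Lib.Helper80

variable {G : Type u} [Group G] [Fintype G]

/-- The image under the central characters of the `S`-valued class functions supported on a
subgroup `C`, as a subring of the ring of functions on the irreducible characters. -/
def fourierSubringOn (M : Ideal AlgInt) (hM : M.IsPrime) (C : Subgroup G) :
    Subring (IrrCharacter G → ℂ) where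
  carrier := {φ | ∃ a : G → ℂ, IsClassFunction G a ∧ (∀ g, MemLocalRing M (a g)) ∧
    (∀ g, g ∉ C → a g = 0) ∧ ∀ χ : IrrCharacter G, φ χ = omega (χ : G → ℂ) a}
  mul_mem' := by
    rintro φ ψ ⟨a, ha, haS, haC, hφ⟩ ⟨b, hb, hbS, hbC, hψ⟩
    refine ⟨conv a b, conv_isClassFunction ha hb, ?_, ?_, ?_⟩
    · intro g
      exact memLocalRing_sum hM _ _ fun h _ => memLocalRing_mul hM (haS _) (hbS _)
    · intro g hg
      unfold conv
      refine Finset.sum_eq_zero fun h _ => ?_
      by_cases hh : h ∈ C
      · have : h⁻¹ * g ∉ C := by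
          intro h2
          apply hg
          have := C.mul_mem hh h2
          rwa [mul_inv_cancel_left] at this
        rw [hbC _ this, mul_zero]
      · rw [haC _ hh, zero_mul]
    · intro χ
      rw [omega_conv χ.2 ha hb, Pi.mul_apply, hφ, hψ]
  one_mem' := by
    refine ⟨deltaOne, deltaOne_isClassFunction, ?_, ?_, ?_⟩
    · intro g
      unfold deltaOne
      split_ifs
      · exact memLocalRing_one hM
      · exact memLocalRing_zero hM
    · intro g hg
      unfold deltaOne
      rw [if_neg]
      intro h
      exact hg (h ▸ C.one_mem)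
    · intro χ
      rw [omega_deltaOne _ (irr_one_ne_zero χ.2)]; rfl
  add_mem' := by
    rintro φ ψ ⟨a, ha, haS, haC, hφ⟩ ⟨b, hb, hbS, hbC, hψ⟩
    refine ⟨a + b, ?_, ?_, ?_, ?_⟩
    · intro g h
      show a _ + b _ = a g + b g
      rw [ha, hb]
    · intro g
      exact memLocalRing_add hM (haS g) (hbS g)
    · intro g hg
      show a g + b g = 0
      rw [haC g hg, hbC g hg, add_zero]
    · intro χ
      rw [omega_add, Pi.add_apply, hφ, hψ]
  zero_mem' := by
    refine ⟨0, fun _ _ => rfl, fun _ => memLocalRing_zero hM, fun _ _ => rfl, ?_⟩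
    intro χ
    rw [omega_zero]; rfl
  neg_mem' := by
    rintro φ ⟨a, ha, haS, haC, hφ⟩
    refine ⟨-a, ?_, ?_, ?_, ?_⟩
    · intro g h
      show -a _ = -a g
      rw [ha]
    · intro g
      exact memLocalRing_neg (haS g)
    · intro g hg
      show -a g = 0
      rw [haC g hg, neg_zero]
    · intro χ
      rw [omega_neg, Pi.neg_apply, hφ]

/-- Block idempotent with support in a normal subgroup `C`, provided that all central characters
vanish modulo the local ideal outside `C`. -/
theorem exists_block_idempotent_on [Fintype (IrrCharacter G)] {p : ℕ} {M : Ideal AlgInt}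
    (hpM : IsPModular p M) (C : Subgroup G) (hC : C.Normal)
    (hout : ∀ g, g ∉ C → ∀ χ : IrrCharacter G, MemLocalIdeal M (centralChar (χ : G → ℂ) g))
    (χ₀ : IrrCharacter G) :
    ∃ a : G → ℂ, IsClassFunction G a ∧ (∀ g, MemLocalRing M (a g)) ∧ (∀ g, g ∉ C → a g = 0) ∧
      ∀ χ : IrrCharacter G, omega (χ : G → ℂ) a =
        (by classical exact if χ ∈ blockOf M (χ₀ : G → ℂ) then (1 : ℂ) else 0) := by
  classical
  have hM : M.IsPrime := isPrime_of_isPModular hpM
  have key := indicator_mem (K := ℂ) (I := IrrCharacter G) (localSubring M hM)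
    {z | MemLocalIdeal M z} (memLocalIdeal_zero hM) (not_memLocalIdeal_one hM)
    (fun x hx y hy => memLocalIdeal_add hM hx hy)
    (fun s hs x hx => memLocalIdeal_mul_left hM hs hx)
    (fun s hs hsm => memLocalRing_inv_of_not_memLocalIdeal hs hsm)
    (fourierSubringOn M hM C)
    (by
      rintro φ ⟨a, ha, haS, -, hφ⟩ χ
      rw [hφ]
      exact memLocalRing_omega hM χ.2 ha haS)
    (by
      intro s hs
      refine ⟨fun g => s * deltaOne g, ?_, ?_, ?_, ?_⟩
      · intro g h
        show s * deltaOne _ = s * deltaOne g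
        rw [deltaOne_isClassFunction]
      · intro g
        refine memLocalRing_mul hM hs ?_
        unfold deltaOne
        split_ifs
        · exact memLocalRing_one hM
        · exact memLocalRing_zero hM
      · intro g hg
        show s * deltaOne g = 0
        unfold deltaOne
        rw [if_neg, mul_zero]
        intro h
        exact hg (h ▸ C.one_mem)
      · intro χ
        rw [omega_smul, omega_deltaOne _ (irr_one_ne_zero χ.2), mul_one])
    (Finset.univ.filter (fun χ : IrrCharacter G => χ ∈ blockOf M (χ₀ : G → ℂ)))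
    (by
      intro χ hχ ψ hψ
      simp only [Finset.mem_filter, Finset.mem_univ, true_and] at hχ hψ
      have hne : ¬ SameBlock M (χ : G → ℂ) (ψ : G → ℂ) := fun h => hψ (sameBlock_trans hM hχ h)
      unfold SameBlock at hne
      obtain ⟨g, hg⟩ := not_forall.mp hne
      have hgC : g ∈ C := by
        by_contra hgC
        exact hg (memLocalIdeal_sub hM (hout g hgC χ) (hout g hgC ψ))
      refine ⟨fun η => omega (η : G → ℂ) (classInd g),
        ⟨classInd g, classInd_isClassFunction g, ?_, ?_, fun _ => rfl⟩, ?_⟩
      · intro h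
        unfold classInd
        split_ifs
        · exact memLocalRing_one hM
        · exact memLocalRing_zero hM
      · intro h hh
        unfold classInd
        rw [if_neg]
        intro hc
        obtain ⟨c, hc⟩ := isConj_iff.mp hc
        exact hh (hc ▸ hC.conj_mem g hgC c)
      · show ¬ MemLocalIdeal M (omega (χ : G → ℂ) (classInd g) - omega (ψ : G → ℂ) (classInd g))
        rw [omega_classInd (isClassFunction_of_isCharacter χ.2),
          omega_classInd (isClassFunction_of_isCharacter ψ.2)]
        exact hg)
    (by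
      rintro χ hχ ψ hψ φ ⟨a, ha, haS, -, hφ⟩
      simp only [Finset.mem_filter, Finset.mem_univ, true_and] at hχ hψ
      show MemLocalIdeal M (φ χ - φ ψ)
      rw [hφ, hφ]
      exact memLocalIdeal_omega_sub hM (isClassFunction_of_isCharacter χ.2)
        (isClassFunction_of_isCharacter ψ.2)
        (sameBlock_trans hM (sameBlock_symm hχ) hψ) ha haS)
  obtain ⟨a, ha, haS, haC, hφ⟩ := key
  refine ⟨a, ha, haS, haC, ?_⟩
  intro χ
  rw [← hφ χ]
  simp only [Finset.mem_filter, Finset.mem_univ, true_and]

/-- The block idempotent is supported on the centralizer of any normal `p`-subgroup. -/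
theorem blockCoeff_eq_zero_of_not_mem_centralizer {p : ℕ} [Fact p.Prime] {M : Ideal AlgInt}
    (hpM : IsPModular p M) (P : Subgroup G) [P.Normal] (hP : IsPGroup p P)
    (χ₀ : IrrCharacter G) {g : G} (hg : g ∉ Subgroup.centralizer (P : Set G)) :
    blockCoeff (blockOf M (χ₀ : G → ℂ)) g = 0 := by
  classical
  have := Fintype.ofFinite (IrrCharacter G)
  have hCn : (Subgroup.centralizer (P : Set G)).Normal := inferInstance
  obtain ⟨a, ha, haS, haC, hω⟩ := exists_block_idempotent_on hpM
    (Subgroup.centralizer (P : Set G)) hCn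
    (fun g hg χ => memLocalIdeal_centralChar_of_not_mem_centralizer hpM P hP hg χ.2) χ₀
  have : a = blockCoeff (blockOf M (χ₀ : G → ℂ)) := by
    apply eq_of_omega_eq ha (blockCoeff_isClassFunction _)
    intro χ
    rw [hω, omega_blockCoeff]
  rw [← this]
  exact haC g hg

end Cfsg.Agent.Lib.Helper77
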