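import Cfsg.Agent.Lib.Helper77.Lambda

set_option autoImplicit false

universe u

namespace Cfsg.Agent.Lib.Helper77

open Cfsg
open Cfsg.Agent.Lib.Helper81
open Cfsg.Agent.Lib.Helper80

variable {G : Type u} [Group G] [Fintype G]

/-- The image in the Fourier picture of the class functions with values in the local ideal. -/
def fourierIdeal (M : Ideal AlgInt) (hM : M.IsPrime) : Ideal (fourierSubring (G := G) M hM) where
  carrier := {φ | ∃ a : G → ℂ, IsClassFunction G a ∧ (∀ g, MemLocalIdeal M (a g)) ∧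
    ∀ χ : IrrCharacter G, (φ : IrrCharacter G → ℂ) χ = omega (χ : G → ℂ) a}
  add_mem' := by
    rintro φ ψ ⟨a, ha, haS, hφ⟩ ⟨b, hb, hbS, hψ⟩
    refine ⟨a + b, ?_, ?_, ?_⟩
    · intro g h
      show a _ + b _ = a g + b g
      rw [ha, hb]
    · intro g
      exact memLocalIdeal_add hM (haS g) (hbS g)
    · intro χ
      rw [omega_add]
      show (φ : IrrCharacter G → ℂ) χ + (ψ : IrrCharacter G → ℂ) χ = _
      rw [hφ, hψ]
  zero_mem' := by
    refine ⟨0, fun _ _ => rfl, fun _ => memLocalIdeal_zero hM, ?_⟩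
    intro χ
    rw [omega_zero]; rfl
  smul_mem' := by
    rintro ⟨c, b, hb, hbS, hc⟩ φ ⟨a, ha, haS, hφ⟩
    refine ⟨conv b a, conv_isClassFunction hb ha, ?_, ?_⟩
    · intro g
      exact memLocalIdeal_sum hM _ _ fun h _ => memLocalIdeal_mul_left hM (hbS _) (haS _)
    · intro χ
      rw [omega_conv χ.2 hb ha]
      show c χ * (φ : IrrCharacter G → ℂ) χ = _
      rw [hc, hφ]

/-- An `S`-valued class function, idempotent modulo the local ideal, all of whose central
character values lie in the local ideal, has all its values in the local ideal. -/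
theorem memLocalIdeal_of_idempotent_of_omega {p : ℕ} {M : Ideal AlgInt}
    (hpM : IsPModular p M) {c : G → ℂ} (hc : ZS M c)
    (hidem : ∀ g, MemLocalIdeal M (conv c c g - c g))
    (hω : ∀ χ : IrrCharacter G, MemLocalIdeal M (omega (χ : G → ℂ) c)) :
    ∀ g, MemLocalIdeal M (c g) := by
  classical
  have hM : M.IsPrime := isPrime_of_isPModular hpM
  have := Fintype.ofFinite (IrrCharacter G)
  let R := fourierSubring (G := G) M hM
  let J := fourierIdeal (G := G) M hM
  let φ : R := ⟨fun χ => omega (χ : G → ℂ) c, c, hc.1, hc.2, fun _ => rfl⟩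
  -- constants from the local ideal lie in `J`
  let s : IrrCharacter G → R := fun ξ =>
    ⟨fun _ => omega (ξ : G → ℂ) c, (fun g => omega (ξ : G → ℂ) c * deltaOne g),
      (ZS.smul hM (hc.omega hM ξ) (ZS.deltaOne hM)).1,
      (ZS.smul hM (hc.omega hM ξ) (ZS.deltaOne hM)).2, fun χ => by
        rw [omega_smul, omega_deltaOne _ (irr_one_ne_zero χ.2), mul_one]⟩
  have hsJ : ∀ ξ, s ξ ∈ J := by
    intro ξ
    refine ⟨(fun g => omega (ξ : G → ℂ) c * deltaOne g),
      (ZS.smul hM (hc.omega hM ξ) (ZS.deltaOne hM)).1, ?_, fun χ => ?_⟩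
    · intro g
      exact memLocalIdeal_mul_right hM (hω ξ) ((ZS.deltaOne hM).2 g)
    · rw [omega_smul, omega_deltaOne _ (irr_one_ne_zero χ.2), mul_one]
  -- idempotent modulo `J`
  have hidJ : φ * φ - φ ∈ J := by
    refine ⟨conv c c - c, (ZS.sub hM (ZS.conv hM hc hc) hc).1, hidem, fun χ => ?_⟩
    rw [omega_sub, omega_conv χ.2 hc.1 hc.1]
    rfl
  -- the product vanishes
  have hprod : ∏ ξ : IrrCharacter G, (φ - s ξ) = 0 := by
    apply Subtype.ext
    funext χ
    rw [SubmonoidClass.coe_finsetProd, Finset.prod_apply]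
    refine Finset.prod_eq_zero (Finset.mem_univ χ) ?_
    show omega (χ : G → ℂ) c - omega (χ : G → ℂ) c = 0
    exact sub_self _
  -- pass to the quotient
  have hq : (Ideal.Quotient.mk J φ) ^ (Fintype.card (IrrCharacter G)) = 0 := by
    have h1 := congrArg (Ideal.Quotient.mk J) hprod
    rw [map_prod, map_zero] at h1
    have h2 : ∀ ξ ∈ (Finset.univ : Finset (IrrCharacter G)),
        Ideal.Quotient.mk J (φ - s ξ) = Ideal.Quotient.mk J φ := by
      intro ξ _
      rw [map_sub, Ideal.Quotient.eq_zero_iff_mem.mpr (hsJ ξ), sub_zero]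
    rw [Finset.prod_congr rfl h2, Finset.prod_const, Finset.card_univ] at h1
    exact h1
  have hidq : Ideal.Quotient.mk J φ * Ideal.Quotient.mk J φ = Ideal.Quotient.mk J φ := by
    have := Ideal.Quotient.eq_zero_iff_mem.mpr hidJ
    rw [map_sub, map_mul, sub_eq_zero] at this
    exact this
  have hpow : ∀ n : ℕ, Ideal.Quotient.mk J φ ^ (n + 1) = Ideal.Quotient.mk J φ := by
    intro n
    induction n with
    | zero => rw [zero_add, pow_one]
    | succ n ih => rw [pow_succ, ih, hidq]
  have hφJ : φ ∈ J := by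
    rw [← Ideal.Quotient.eq_zero_iff_mem, ← hpow (Fintype.card (IrrCharacter G)), pow_succ, hq,
      zero_mul]
  obtain ⟨a, ha, haS, hφa⟩ := hφJ
  have : c = a := eq_of_omega_eq hc.1 ha (fun χ => hφa χ)
  rw [this]
  exact haS

end Cfsg.Agent.Lib.Helper77
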