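import Cfsg.Agent.Lib.Helper77.InducedBlock
import Cfsg.Agent.Lib.Helper77.Radical
import Cfsg.Agent.Lib.Helper77.DefectGroup

set_option autoImplicit false

universe u

namespace Cfsg.Agent.Lib.Helper77

open Cfsg
open Cfsg.Agent.Lib.Helper81
open Cfsg.Agent.Lib.Helper80

variable {G : Type u} [Group G]

theorem blockOf_eq_of_mem {M : Ideal AlgInt} (hM : M.IsPrime) {χ₀ χ₁ : IrrCharacter G}
    (h : χ₁ ∈ blockOf M (χ₀ : G → ℂ)) : blockOf M (χ₁ : G → ℂ) = blockOf M (χ₀ : G → ℂ) := by
  ext ψ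
  constructor
  · intro hψ
    exact sameBlock_trans hM h hψ
  · intro hψ
    exact sameBlock_trans hM (sameBlock_symm h) hψ

/-- The block idempotent is idempotent under convolution. -/
theorem conv_blockCoeff_self [Fintype G] (B : Set (IrrCharacter G)) :
    conv (blockCoeff B) (blockCoeff B) = blockCoeff B := by
  classical
  apply eq_of_omega_eq (conv_isClassFunction (blockCoeff_isClassFunction B)
    (blockCoeff_isClassFunction B)) (blockCoeff_isClassFunction B)
  intro χ
  rw [omega_conv χ.2 (blockCoeff_isClassFunction B) (blockCoeff_isClassFunction B),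
    omega_blockCoeff]
  split_ifs <;> simp

/-- Existence of the induced block together with the defining congruence. -/
theorem exists_isInducedBlock' {p : ℕ} [Fact p.Prime] {M : Ideal AlgInt}
    (hpM : IsPModular p M) (P H : Subgroup G) [Fintype G] [Fintype H] (hP : IsPGroup p P)
    (hPH : P ≤ H) (hCH : Subgroup.centralizer (P : Set G) ≤ H)
    (hHN : H ≤ Subgroup.normalizer (P : Set G)) (ξ₀ : IrrCharacter H) :
    ∃ χ₀ : IrrCharacter G,
      (∀ a, ZS M a → MemLocalIdeal M (omega (ξ₀ : H → ℂ) (brRes P H a) - omega (χ₀ : G → ℂ) a)) ∧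
      IsInducedBlock M H (blockOf M (ξ₀ : H → ℂ)) (blockOf M (χ₀ : G → ℂ)) := by
  have hM : M.IsPrime := isPrime_of_isPModular hpM
  obtain ⟨χ₀, hχ₀⟩ := (brauer_modHom hpM P H hP hCH hHN ξ₀).exists_irr hpM
  refine ⟨χ₀, hχ₀, ⟨ξ₀, rfl⟩, ⟨χ₀, rfl⟩, ?_⟩
  intro ξ hξ χ hχ g
  have h1 := memLocalIdeal_induced_sub_brauer hpM P H hP hPH hHN ξ.2 g (M := M)
  have hbr := brRes_ZS hM P H hHN (ZS.classInd hM g)
  have h2 : MemLocalIdeal M (brauerCentralChar P H (ξ : H → ℂ) g -
      brauerCentralChar P H (ξ₀ : H → ℂ) g) := by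
    rw [brauerCentralChar_eq_omega, brauerCentralChar_eq_omega, ← brRes_classInd]
    exact memLocalIdeal_omega_sub hM (isClassFunction_of_isCharacter ξ.2)
      (isClassFunction_of_isCharacter ξ₀.2) (sameBlock_symm hξ) hbr.1 hbr.2
  have h3 : MemLocalIdeal M (brauerCentralChar P H (ξ₀ : H → ℂ) g -
      centralChar (χ₀ : G → ℂ) g) := by
    have := hχ₀ (classInd g) (ZS.classInd hM g)
    rw [omega_classInd (isClassFunction_of_isCharacter χ₀.2)] at this
    rw [brauerCentralChar_eq_omega, ← brRes_classInd]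
    exact this
  have h4 : MemLocalIdeal M (centralChar (χ₀ : G → ℂ) g - centralChar (χ : G → ℂ) g) := hχ g
  exact cong_trans hM h1 (cong_trans hM h2 (cong_trans hM h3 h4))

/-- If the block idempotent of `B` is a unit somewhere on `C_G(P)`, then `B` is induced from a
block of `H` (for `P C_G(P) ≤ H ≤ N_G(P)`). -/
theorem exists_isInducedBlock_of_blockCoeff {p : ℕ} [Fact p.Prime] {M : Ideal AlgInt}
    (hpM : IsPModular p M) (P H : Subgroup G) [Fintype G] [Fintype H] (hP : IsPGroup p P)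
    (hPH : P ≤ H) (hCH : Subgroup.centralizer (P : Set G) ≤ H)
    (hHN : H ≤ Subgroup.normalizer (P : Set G)) (χ₀ : IrrCharacter G) {g : G}
    (hgP : g ∈ Subgroup.centralizer (P : Set G))
    (hg : ¬ MemLocalIdeal M (blockCoeff (blockOf M (χ₀ : G → ℂ)) g)) :
    ∃ ξ : IrrCharacter H,
      IsInducedBlock M H (blockOf M (ξ : H → ℂ)) (blockOf M (χ₀ : G → ℂ)) := by
  classical
  have hM : M.IsPrime := isPrime_of_isPModular hpM
  set e := blockCoeff (blockOf M (χ₀ : G → ℂ)) with he
  have heZ : ZS M e := ZS.blockCoeff hpM χ₀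
  set c := brRes P H e with hc
  have hcZ : ZS M c := brRes_ZS hM P H hHN heZ
  have hidem : ∀ h : H, MemLocalIdeal M (conv c c h - c h) := by
    intro h
    have := memLocalIdeal_brRes_conv hpM P H hP hCH heZ heZ h
    rw [conv_blockCoeff_self] at this
    exact cong_symm this
  have hex : ∃ ξ : IrrCharacter H, ¬ MemLocalIdeal M (omega (ξ : H → ℂ) c) := by
    by_contra hcon
    push Not at hcon
    have := memLocalIdeal_of_idempotent_of_omega hpM hcZ hidem hcon ⟨g, hCH hgP⟩
    rw [hc, brRes_pos _ (show ((⟨g, hCH hgP⟩ : H) : G) ∈ _ from hgP)] at this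
    exact hg this
  obtain ⟨ξ, hξ⟩ := hex
  obtain ⟨χ₁, hχ₁, hind⟩ := exists_isInducedBlock' hpM P H hP hPH hCH hHN ξ
  have h1 := hχ₁ e heZ
  have h2 : ¬ MemLocalIdeal M (omega (χ₁ : G → ℂ) e) := by
    intro h
    apply hξ
    have := memLocalIdeal_add hM h1 h
    rwa [sub_add_cancel] at this
  have hmem : χ₁ ∈ blockOf M (χ₀ : G → ℂ) := by
    by_contra hn
    apply h2
    rw [he, omega_blockCoeff, if_neg hn]
    exact memLocalIdeal_zero hM
  rw [blockOf_eq_of_mem hM hmem] at hind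
  exact ⟨ξ, hind⟩

end Cfsg.Agent.Lib.Helper77
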