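import Cfsg.Agent.Lib.Helper77.SylowCent
import Cfsg.Agent.Lib.Helper77.InducedBlock2
import Cfsg.Agent.Lib.Helper77.DefectConj
import Cfsg.Agent.Lib.Helper77.BlockIdemSupp
import Cfsg.Agent.Lib.Helper84.PCore
import Cfsg.Agent.S0917
import Cfsg.Agent.S0912

set_option autoImplicit false

universe u

namespace Cfsg.Agent.Lib.Helper77

open Cfsg
open Cfsg.Agent.Lib.Helper81
open Cfsg.Agent.Lib.Helper80
open scoped Pointwise

variable {G : Type u} [Group G]

/-- If `D ∩ N` is a Sylow subgroup of `C_N(y)`, then `D` centralizes `y` and is a maximal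
`p`-subgroup of `N ∩ C_G(y)`. -/
theorem maxIn_of_sylow {p : ℕ} [Fact p.Prime] {D N : Subgroup G} (hDN : D ≤ N) (y : N)
    (Q : Sylow p (Subgroup.centralizer ({y} : Set N)))
    (hQ : D.subgroupOf N = (Q : Subgroup (Subgroup.centralizer ({y} : Set N))).map
      (Subgroup.centralizer ({y} : Set N)).subtype) :
    D ≤ Subgroup.centralizer ({(y : G)} : Set G) ∧
    ∀ R : Subgroup G, IsPGroup p R → D ≤ R → R ≤ N →
      R ≤ Subgroup.centralizer ({(y : G)} : Set G) → R = D := by
  constructor
  · intro d hd
    have h1 : (⟨d, hDN hd⟩ : N) ∈ D.subgroupOf N := hd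
    rw [hQ] at h1
    obtain ⟨q, -, hq⟩ := h1
    have h2 := q.2
    rw [Subgroup.mem_centralizer_singleton_iff] at h2 ⊢
    have hqd : ((q : N) : G) = d := congrArg (Subtype.val : N → G) hq
    have h3 := congrArg (Subtype.val : N → G) h2
    push_cast at h3
    rw [hqd] at h3
    exact h3
  · intro R hR hDR hRN hRC
    apply le_antisymm _ hDR
    have hRN' : R.subgroupOf N ≤ Subgroup.centralizer ({y} : Set N) := by
      intro r hr
      have h1 := hRC (show (r : G) ∈ R from hr)
      rw [Subgroup.mem_centralizer_singleton_iff] at h1 ⊢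
      exact Subtype.ext h1
    have hR' : IsPGroup p ((R.subgroupOf N).subgroupOf (Subgroup.centralizer ({y} : Set N))) :=
      hR.comap_subtype.comap_subtype
    have hQR : (Q : Subgroup (Subgroup.centralizer ({y} : Set N))) ≤
        (R.subgroupOf N).subgroupOf (Subgroup.centralizer ({y} : Set N)) := by
      intro q hq
      have h1 : (q : N) ∈ D.subgroupOf N := by
        rw [hQ]; exact ⟨q, hq, rfl⟩
      exact hDR h1
    have hEq := Q.is_maximal' hR' hQR
    intro r hr
    have h1 : (⟨⟨r, hRN hr⟩, hRN' (show (⟨r, hRN hr⟩ : N) ∈ R.subgroupOf N from hr)⟩ :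
        Subgroup.centralizer ({y} : Set N)) ∈
        (R.subgroupOf N).subgroupOf (Subgroup.centralizer ({y} : Set N)) := hr
    rw [hEq] at h1
    have h2 : (⟨r, hRN hr⟩ : N) ∈ D.subgroupOf N := by
      rw [hQ]; exact ⟨_, h1, rfl⟩
    exact h2

/-- Under `MaxIn`, the part of the `G`-class of `y` centralizing `D` is a single class of the
normalizer. -/
theorem brauerClassFn_eq_classInd [Finite G] {p : ℕ} [Fact p.Prime] {D : Subgroup G}
    (hD : IsPGroup p D) (y : Subgroup.normalizer (D : Set G))
    (hy : D ≤ Subgroup.centralizer ({(y : G)} : Set G)) (hmax : MaxIn p D (y : G)) :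
    brauerClassFn D (Subgroup.normalizer (D : Set G)) (y : G) = classInd y := by
  classical
  funext h
  unfold brauerClassFn classInd
  have hyD : (y : G) ∈ Subgroup.centralizer (D : Set G) := by
    rw [Subgroup.mem_centralizer_iff]
    intro d hd
    have := hy hd
    rw [Subgroup.mem_centralizer_singleton_iff] at this
    exact this
  have hiff : (IsConj (y : G) (h : G) ∧ (h : G) ∈ Subgroup.centralizer (D : Set G)) ↔
      IsConj y h := by
    constructor
    · rintro ⟨hc, hhD⟩
      obtain ⟨c, hc⟩ := isConj_iff.mp hc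
      have hDc : D ≤ Subgroup.centralizer ({c * (y : G) * c⁻¹} : Set G) := by
        intro d hd
        rw [hc, Subgroup.mem_centralizer_singleton_iff]
        exact (Subgroup.mem_centralizer_iff.mp hhD) d hd
      obtain ⟨n, hn, hny⟩ := exists_normalizer_conj hD hy hmax c hDc
      rw [isConj_iff]
      refine ⟨⟨n, hn⟩, Subtype.ext ?_⟩
      push_cast
      rw [hny, hc]
    · intro hc
      obtain ⟨n, hn⟩ := isConj_iff.mp hc
      have hn' : (n : G) * y * (n : G)⁻¹ = h := by
        have := congrArg (Subtype.val : Subgroup.normalizer (D : Set G) → G) hn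
        push_cast at this
        exact this
      refine ⟨isConj_iff.mpr ⟨n, hn'⟩, ?_⟩
      rw [← hn']
      exact conj_mem_centralizer_of_mem_normalizer n.2 hyD
  by_cases hc : IsConj y h
  · rw [if_pos hc, if_pos (hiff.mpr hc)]
  · rw [if_neg hc, if_neg (fun h' => hc (hiff.mp h'))]

/-- Under `MaxIn`, `D` is the image of a Sylow subgroup of `C_G(y)`. -/
theorem exists_sylow_map_eq_of_maxIn [Finite G] {p : ℕ} [Fact p.Prime] {D : Subgroup G} {y : G}
    (hD : IsPGroup p D) (hy : D ≤ Subgroup.centralizer ({y} : Set G)) (hmax : MaxIn p D y) :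
    ∃ P₁ : Sylow p (Subgroup.centralizer ({y} : Set G)),
      (P₁ : Subgroup (Subgroup.centralizer ({y} : Set G))).map
        (Subgroup.centralizer ({y} : Set G)).subtype = D := by
  obtain ⟨P₁, hP₁⟩ := (hD.comap_subtype (K := Subgroup.centralizer ({y} : Set G))).exists_le_sylow
  refine ⟨P₁, ?_⟩
  apply eq_of_maxIn hmax (P₁.2.map _)
  · intro d hd
    exact ⟨⟨d, hy hd⟩, hP₁ (show (⟨d, hy hd⟩ : Subgroup.centralizer ({y} : Set G)) ∈
      D.subgroupOf _ from hd), rfl⟩
  · exact Subgroup.map_subtype_le _

/-- For `y` as above, the central character of a block of the normalizer inducing `B` agrees at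
`y` with the central character of `B`. -/
theorem centralChar_cong_of_induced {p : ℕ} [Fact p.Prime] {M : Ideal AlgInt}
    (hpM : IsPModular p M) [Fintype G] {D : Subgroup G} (hD : IsPGroup p D)
    [Fintype (Subgroup.normalizer (D : Set G))]
    (ξ : IrrCharacter (Subgroup.normalizer (D : Set G))) (χ₀ : IrrCharacter G)
    (hind : IsInducedBlock M (Subgroup.normalizer (D : Set G))
      (blockOf M (ξ : Subgroup.normalizer (D : Set G) → ℂ)) (blockOf M (χ₀ : G → ℂ)))
    (y : Subgroup.normalizer (D : Set G))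
    (hy : D ≤ Subgroup.centralizer ({(y : G)} : Set G)) (hmax : MaxIn p D (y : G)) :
    MemLocalIdeal M (centralChar (ξ : Subgroup.normalizer (D : Set G) → ℂ) y -
      centralChar (χ₀ : G → ℂ) (y : G)) := by
  have hM : M.IsPrime := isPrime_of_isPModular hpM
  have h1 := memLocalIdeal_induced_sub_brauer hpM D (Subgroup.normalizer (D : Set G)) hD
    Subgroup.le_normalizer le_rfl ξ.2 (y : G) (M := M)
  have h2 := hind.2.2 ξ (sameBlock_refl hM _) χ₀ (sameBlock_refl hM _) (y : G)
  have h3 : brauerCentralChar D (Subgroup.normalizer (D : Set G))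
      (ξ : Subgroup.normalizer (D : Set G) → ℂ) (y : G) =
      centralChar (ξ : Subgroup.normalizer (D : Set G) → ℂ) y := by
    rw [brauerCentralChar_eq_omega, brauerClassFn_eq_classInd hD y hy hmax,
      omega_classInd (isClassFunction_of_isCharacter ξ.2)]
  rw [h3] at h1
  exact cong_trans hM (cong_symm h1) h2

/-- **First Main Theorem, part (i).** A block of `N_G(D)` with defect group `D` induces a block
of `G` with defect group `D`. -/
theorem isDefectGroup_of_induced_normalizer {p : ℕ} [Fact p.Prime] {M : Ideal AlgInt}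
    (hpM : IsPModular p M) [Fintype G] {D : Subgroup G} (hD : IsPGroup p D)
    [Fintype (Subgroup.normalizer (D : Set G))]
    (ξ₀ : IrrCharacter (Subgroup.normalizer (D : Set G))) (χ₀ : IrrCharacter G)
    (hDb : IsDefectGroup p M (blockOf M (ξ₀ : Subgroup.normalizer (D : Set G) → ℂ))
      (D.subgroupOf (Subgroup.normalizer (D : Set G))))
    (hind : IsInducedBlock M (Subgroup.normalizer (D : Set G))
      (blockOf M (ξ₀ : Subgroup.normalizer (D : Set G) → ℂ)) (blockOf M (χ₀ : G → ℂ))) :
    IsDefectGroup p M (blockOf M (χ₀ : G → ℂ)) D := by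
  have hM : M.IsPrime := isPrime_of_isPModular hpM
  have hDN : D ≤ Subgroup.normalizer (D : Set G) := Subgroup.le_normalizer
  have hDb' := hDb
  obtain ⟨y, hy, Q, hQ⟩ := hDb'
  obtain ⟨hyC, hmax'⟩ := maxIn_of_sylow hDN y Q hQ
  have hmax : MaxIn p D (y : G) := fun R hR hDR hRN hRC => hmax' R hR hDR hRN hRC
  have hcong := centralChar_cong_of_induced hpM hD ξ₀ χ₀ hind y hyC hmax
  have hω : ¬ MemLocalIdeal M (centralChar (χ₀ : G → ℂ) (y : G)) := by
    intro h
    apply hy.2.2 ξ₀ (sameBlock_refl hM _)
    have := memLocalIdeal_add hM hcong h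
    rwa [sub_add_cancel] at this
  obtain ⟨P₁, hP₁⟩ := exists_sylow_map_eq_of_maxIn hD hyC hmax
  obtain ⟨E, hE⟩ := exists_isDefectGroup hpM χ₀
  have hEp := isPGroup_of_isDefectGroup hE
  have hle : ∃ x : G, MulAut.conj x • E ≤ D := by
    have hE' := hE
    obtain ⟨h, hh, Qh, rfl⟩ := hE'
    have := defLE_of_blockCoeff hpM χ₀ (y : G) hω P₁ h hh.2.1
    rw [hP₁] at this
    exact this _ hEp (Subgroup.map_subtype_le _)
  obtain ⟨x, hx⟩ := hle
  have hcard1 : Nat.card E ≤ Nat.card D := by
    have := Subgroup.card_le_of_le hx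
    rwa [card_conj_smul] at this
  obtain ⟨E', hE', hDE'⟩ := Cfsg.Agent.S0917.result p M hpM _ _ ⟨ξ₀, rfl⟩ _ ⟨χ₀, rfl⟩ hind _ hDb
  rw [Subgroup.map_subgroupOf_eq_of_le hDN] at hDE'
  have hcard2 : Nat.card E' = Nat.card E := card_eq_of_isDefectGroup hpM χ₀ hE' hE
  have : D = E' := by
    apply SetLike.coe_injective
    exact Set.eq_of_subset_of_ncard_le hDE' (by
      show Nat.card E' ≤ Nat.card D
      rw [hcard2]; exact hcard1) (Set.toFinite _)
  rw [this]
  exact hE'

/-- **First Main Theorem, part (ii), existence.** A block of `G` with defect group `D` is induced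
from a block of `N_G(D)` with defect group `D`. -/
theorem exists_block_normalizer {p : ℕ} [Fact p.Prime] {M : Ideal AlgInt}
    (hpM : IsPModular p M) [Fintype G] {D : Subgroup G}
    [Fintype (Subgroup.normalizer (D : Set G))] (χ₀ : IrrCharacter G)
    (hD : IsDefectGroup p M (blockOf M (χ₀ : G → ℂ)) D) :
    ∃ ξ : IrrCharacter (Subgroup.normalizer (D : Set G)),
      IsDefectGroup p M (blockOf M (ξ : Subgroup.normalizer (D : Set G) → ℂ))
        (D.subgroupOf (Subgroup.normalizer (D : Set G))) ∧
      IsInducedBlock M (Subgroup.normalizer (D : Set G))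
        (blockOf M (ξ : Subgroup.normalizer (D : Set G) → ℂ)) (blockOf M (χ₀ : G → ℂ)) := by
  have hM : M.IsPrime := isPrime_of_isPModular hpM
  have hDp : IsPGroup p D := isPGroup_of_isDefectGroup hD
  have hDN : D ≤ Subgroup.normalizer (D : Set G) := Subgroup.le_normalizer
  have hD' := hD
  obtain ⟨g, hg, Q, hQ⟩ := hD'
  have hgD : g ∈ Subgroup.centralizer (D : Set G) := by
    rw [Subgroup.mem_centralizer_iff]
    intro y hy
    rw [hQ] at hy
    obtain ⟨z, -, rfl⟩ := hy
    have := z.2
    rw [Subgroup.mem_centralizer_singleton_iff] at this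
    exact this
  obtain ⟨ξ, hξ⟩ := exists_isInducedBlock_of_blockCoeff hpM D
    (Subgroup.normalizer (D : Set G)) hDp hDN
    (Subgroup.centralizer_le_normalizer _) le_rfl χ₀ hgD hg.2.1
  refine ⟨ξ, ?_, hξ⟩
  obtain ⟨Db, hDb⟩ := exists_isDefectGroup hpM ξ
  have h1 : Cfsg.pCore p (Subgroup.normalizer (D : Set G)) ≤ Db :=
    Cfsg.Agent.S0912.result p M hpM _ hξ.1 Db hDb
  obtain ⟨E, hE, hDE⟩ := Cfsg.Agent.S0917.result p M hpM _ _ hξ.1 _ hξ.2.1 hξ Db hDb
  have h2 : D.subgroupOf (Subgroup.normalizer (D : Set G)) ≤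
      Cfsg.pCore p (Subgroup.normalizer (D : Set G)) :=
    Cfsg.Agent.Lib.Helper84.le_pCore (Subgroup.normal_subgroupOf_of_le_normalizer le_rfl)
      hDp.comap_subtype
  have hDE' : D ≤ E := by
    intro y hy
    apply hDE
    exact ⟨⟨y, hDN hy⟩, h1 (h2 (show (⟨y, hDN hy⟩ : Subgroup.normalizer (D : Set G)) ∈
      D.subgroupOf _ from hy)), rfl⟩
  have hEq : D = E := eq_of_le_of_isDefectGroup hpM χ₀ hD hE hDE'
  have hDbeq : Db = D.subgroupOf (Subgroup.normalizer (D : Set G)) := by
    apply le_antisymm
    · intro r hr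
      have : (r : G) ∈ E := hDE ⟨r, hr, rfl⟩
      rw [← hEq] at this
      exact this
    · exact h2.trans h1
  rw [← hDbeq]
  exact hDb

/-- **First Main Theorem, part (ii), uniqueness.** Two blocks of `N_G(D)` inducing the same block
of `G`, one of them with defect group `D`, are equal. -/
theorem blockOf_eq_of_induced_normalizer {p : ℕ} [Fact p.Prime] {M : Ideal AlgInt}
    (hpM : IsPModular p M) [Fintype G] {D : Subgroup G} (hD : IsPGroup p D)
    [Fintype (Subgroup.normalizer (D : Set G))]
    (ξ ξ' : IrrCharacter (Subgroup.normalizer (D : Set G))) (χ₀ : IrrCharacter G)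
    (hDb : IsDefectGroup p M (blockOf M (ξ : Subgroup.normalizer (D : Set G) → ℂ))
      (D.subgroupOf (Subgroup.normalizer (D : Set G))))
    (hind : IsInducedBlock M (Subgroup.normalizer (D : Set G))
      (blockOf M (ξ : Subgroup.normalizer (D : Set G) → ℂ)) (blockOf M (χ₀ : G → ℂ)))
    (hind' : IsInducedBlock M (Subgroup.normalizer (D : Set G))
      (blockOf M (ξ' : Subgroup.normalizer (D : Set G) → ℂ)) (blockOf M (χ₀ : G → ℂ))) :
    blockOf M (ξ' : Subgroup.normalizer (D : Set G) → ℂ) =
      blockOf M (ξ : Subgroup.normalizer (D : Set G) → ℂ) := by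
  classical
  have hM : M.IsPrime := isPrime_of_isPModular hpM
  have hDN : D ≤ Subgroup.normalizer (D : Set G) := Subgroup.le_normalizer
  have hNorm : (D.subgroupOf (Subgroup.normalizer (D : Set G))).Normal :=
    Subgroup.normal_subgroupOf_of_le_normalizer le_rfl
  have hDNp : IsPGroup p (D.subgroupOf (Subgroup.normalizer (D : Set G))) := hD.comap_subtype
  set e := blockCoeff (blockOf M (ξ : Subgroup.normalizer (D : Set G) → ℂ)) with he
  have heZ : ZS M e := ZS.blockCoeff hpM ξ
  have hDb' := hDb
  obtain ⟨y₀, hy₀, Q₀, hQ₀⟩ := hDb'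
  -- the key claim
  have claim : ∀ y : Subgroup.normalizer (D : Set G), MemLocalIdeal M (e y) ∨
      MemLocalIdeal M (centralChar (ξ' : Subgroup.normalizer (D : Set G) → ℂ) y -
        centralChar (ξ : Subgroup.normalizer (D : Set G) → ℂ) y) := by
    intro y
    by_cases hey : MemLocalIdeal M (e y)
    · exact Or.inl hey
    right
    -- (1) `y` centralizes `D`
    have hyc : y ∈ Subgroup.centralizer
        ((D.subgroupOf (Subgroup.normalizer (D : Set G)) : Subgroup _) : Set _) := by
      by_contra hcon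
      apply hey
      rw [he, blockCoeff_eq_zero_of_not_mem_centralizer hpM _ hDNp ξ hcon]
      exact memLocalIdeal_zero hM
    have hyC : D ≤ Subgroup.centralizer ({(y : G)} : Set G) := by
      intro d hd
      have h1 := (Subgroup.mem_centralizer_iff.mp hyc) ⟨d, hDN hd⟩ hd
      rw [Subgroup.mem_centralizer_singleton_iff]
      exact congrArg (Subtype.val : Subgroup.normalizer (D : Set G) → G) h1
    -- (2) maximality
    have hdef := defLE_of_blockCoeff hpM ξ y₀ (hy₀.2.2 ξ (sameBlock_refl hM _)) Q₀ y hey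
    rw [← hQ₀] at hdef
    have hmax : MaxIn p D (y : G) := by
      intro R hR hDR hRN hRC
      have hRN' : R.subgroupOf (Subgroup.normalizer (D : Set G)) ≤
          Subgroup.centralizer ({y} : Set (Subgroup.normalizer (D : Set G))) := by
        intro r hr
        have h1 := hRC (show (r : G) ∈ R from hr)
        rw [Subgroup.mem_centralizer_singleton_iff] at h1 ⊢
        exact Subtype.ext h1
      obtain ⟨x, hx⟩ := hdef _ hR.comap_subtype hRN'
      have hc1 : Nat.card (R.subgroupOf (Subgroup.normalizer (D : Set G))) ≤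
          Nat.card (D.subgroupOf (Subgroup.normalizer (D : Set G))) := by
        have := Subgroup.card_le_of_le hx
        rwa [card_conj_smul] at this
      rw [Nat.card_congr (Subgroup.subgroupOfEquivOfLe hRN).toEquiv,
        Nat.card_congr (Subgroup.subgroupOfEquivOfLe hDN).toEquiv] at hc1
      symm
      apply SetLike.coe_injective
      exact Set.eq_of_subset_of_ncard_le hDR hc1 (Set.toFinite _)
    have h1 := centralChar_cong_of_induced hpM hD ξ χ₀ hind y hyC hmax
    have h2 := centralChar_cong_of_induced hpM hD ξ' χ₀ hind' y hyC hmax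
    exact cong_trans hM h2 (cong_symm h1)
  -- compare the central characters at the idempotent
  have hdiff : MemLocalIdeal M (omega (ξ' : Subgroup.normalizer (D : Set G) → ℂ) e -
      omega (ξ : Subgroup.normalizer (D : Set G) → ℂ) e) := by
    rw [omega_eq_sum_conjClasses (isClassFunction_of_isCharacter ξ'.2) heZ.1,
      omega_eq_sum_conjClasses (isClassFunction_of_isCharacter ξ.2) heZ.1,
      ← Finset.sum_sub_distrib]
    refine memLocalIdeal_sum hM _ _ fun c _ => ?_
    rw [← mul_sub]
    rcases claim (Quotient.out c) with h | h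
    · exact memLocalIdeal_mul_right hM h (memLocalRing_sub hM
        (memLocalRing_centralChar hM ξ'.2 _) (memLocalRing_centralChar hM ξ.2 _))
    · exact memLocalIdeal_mul_left hM (heZ.2 _) h
  have h1 : omega (ξ : Subgroup.normalizer (D : Set G) → ℂ) e = 1 := by
    rw [he, omega_blockCoeff, if_pos (show ξ ∈ blockOf M _ from sameBlock_refl hM _)]
  have hmem : ξ' ∈ blockOf M (ξ : Subgroup.normalizer (D : Set G) → ℂ) := by
    by_contra hn
    have h2 : omega (ξ' : Subgroup.normalizer (D : Set G) → ℂ) e = 0 := by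
      rw [he, omega_blockCoeff, if_neg hn]
    rw [h1, h2, zero_sub] at hdiff
    exact not_memLocalIdeal_one hM (by simpa using memLocalIdeal_neg hdiff)
  exact blockOf_eq_of_mem hM hmem

end Cfsg.Agent.Lib.Helper77
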