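import Cfsg.Agent.Lib.Helper77.Transitive
import Cfsg.Agent.Lib.Helper77.ConjBlocks
import Cfsg.Agent.Lib.Helper77.DefectInduced
import Cfsg.Agent.Lib.Helper77.FirstMain

set_option autoImplicit false

universe u

namespace Cfsg.Agent.Lib.Helper77

open Cfsg
open Cfsg.Agent.Lib.Helper81
open Cfsg.Agent.Lib.Helper80

variable {G : Type u} [Group G]

/-- The block induced by a given block is unique. -/
theorem isInducedBlock_unique {M : Ideal AlgInt} (hM : M.IsPrime) {H : Subgroup G}
    {b : Set (IrrCharacter H)} {B B' : Set (IrrCharacter G)}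
    (h : IsInducedBlock M H b B) (h' : IsInducedBlock M H b B') : B = B' := by
  obtain ⟨ξ, hb⟩ := h.1
  have hξ : ξ ∈ b := by rw [hb]; exact sameBlock_refl hM _
  obtain ⟨χ, hB⟩ := h.2.1
  obtain ⟨χ', hB'⟩ := h'.2.1
  have hχ : χ ∈ B := by rw [hB]; exact sameBlock_refl hM _
  have hχ' : χ' ∈ B' := by rw [hB']; exact sameBlock_refl hM _
  rw [hB, hB']
  symm
  apply blockOf_eq_of_mem hM
  intro g
  exact cong_trans hM (cong_symm (h.2.2 ξ hξ χ hχ g)) (h'.2.2 ξ hξ χ' hχ' g)

/-- A block of `L` (with `P C_G(P) ≤ L ≤ N_G(P)`) inducing `B` factors through a block of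
`N_G(P)`. -/
theorem exists_normalizer_block [Finite G] {p : ℕ} [Fact p.Prime] {M : Ideal AlgInt}
    (hpM : IsPModular p M) {P L : Subgroup G} (hPp : IsPGroup p P) (hPL : P ≤ L)
    (hCL : Subgroup.centralizer (P : Set G) ≤ L) (hLN : L ≤ Subgroup.normalizer (P : Set G))
    {b : Set (IrrCharacter L)} {B : Set (IrrCharacter G)} (h : IsInducedBlock M L b B) :
    ∃ ψ : IrrCharacter (Subgroup.normalizer (P : Set G)),
      IsInducedBlock M (L.subgroupOf (Subgroup.normalizer (P : Set G)))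
        (irrMap (Subgroup.subgroupOfEquivOfLe hLN) '' b)
        (blockOf M (ψ : Subgroup.normalizer (P : Set G) → ℂ)) ∧
      IsInducedBlock M (Subgroup.normalizer (P : Set G))
        (blockOf M (ψ : Subgroup.normalizer (P : Set G) → ℂ)) B := by
  classical
  have := Fintype.ofFinite G
  have := Fintype.ofFinite (Subgroup.normalizer (P : Set G))
  have := Fintype.ofFinite (L.subgroupOf (Subgroup.normalizer (P : Set G)))
  have hM : M.IsPrime := isPrime_of_isPModular hpM
  have hPN : P ≤ Subgroup.normalizer (P : Set G) := Subgroup.le_normalizer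
  obtain ⟨θ₀, hb⟩ := h.1
  have hnorm : (P.subgroupOf (Subgroup.normalizer (P : Set G))).Normal :=
    Subgroup.normal_subgroupOf_of_le_normalizer le_rfl
  obtain ⟨ψ, hψ⟩ := exists_isInducedBlock hpM (P.subgroupOf (Subgroup.normalizer (P : Set G)))
    (L.subgroupOf (Subgroup.normalizer (P : Set G))) hPp.comap_subtype
    (fun x hx => hPL hx)
    (by
      intro y hy
      show (y : G) ∈ L
      apply hCL
      rw [Subgroup.mem_centralizer_iff]
      intro z hz
      have := (Subgroup.mem_centralizer_iff.mp hy) ⟨z, hPN hz⟩ hz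
      exact congrArg Subtype.val this)
    (by
      intro x _
      rw [Subgroup.normalizer_eq_top (P.subgroupOf (Subgroup.normalizer (P : Set G)))]
      trivial)
    (irrMap (Subgroup.subgroupOfEquivOfLe hLN) θ₀)
  rw [← irrMap_image_blockOf, ← hb] at hψ
  obtain ⟨χ₁, hχ₁⟩ := exists_isInducedBlock hpM P (Subgroup.normalizer (P : Set G)) hPp hPN
    (Subgroup.centralizer_le_normalizer _) le_rfl ψ
  have htr := isInducedBlock_trans hM hLN h.1 hψ hχ₁
  have hBeq := isInducedBlock_unique hM h htr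
  refine ⟨ψ, hψ, ?_⟩
  rw [hBeq]
  exact hχ₁

/-- **Extended First Main Theorem, conjugacy part.** Two blocks of `L` (normal in `N_G(P)`, with
`P C_G(P) ≤ L`) inducing the same block with defect group `P` are conjugate under `N_G(P)`. -/
theorem exists_normalizer_conj_of_induced [Finite G] {p : ℕ} [Fact p.Prime] {M : Ideal AlgInt}
    (hpM : IsPModular p M) {P L : Subgroup G} (hPL : P ≤ L)
    (hCL : Subgroup.centralizer (P : Set G) ≤ L) (hLN : L ≤ Subgroup.normalizer (P : Set G))
    (hLnorm : ∀ y ∈ Subgroup.normalizer (P : Set G), ∀ x ∈ L, y * x * y⁻¹ ∈ L)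
    {b b' : Set (IrrCharacter L)} {B : Set (IrrCharacter G)} (hP : IsDefectGroup p M B P)
    (h1 : IsInducedBlock M L b B) (h2 : IsInducedBlock M L b' B) :
    ∃ n ∈ Subgroup.normalizer (P : Set G), ∀ θ ∈ b, ∃ θ' ∈ b', ∀ x : L,
      ∀ hx : n * (x : G) * n⁻¹ ∈ L, (θ' : L → ℂ) x = (θ : L → ℂ) ⟨n * (x : G) * n⁻¹, hx⟩ := by
  classical
  have := Fintype.ofFinite G
  have := Fintype.ofFinite (Subgroup.normalizer (P : Set G))
  have := Fintype.ofFinite (L.subgroupOf (Subgroup.normalizer (P : Set G)))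
  have hM : M.IsPrime := isPrime_of_isPModular hpM
  have hPp : IsPGroup p P := isPGroup_of_isDefectGroup hP
  obtain ⟨ψ, hψ1, hψ2⟩ := exists_normalizer_block hpM hPp hPL hCL hLN h1
  obtain ⟨ψ', hψ1', hψ2'⟩ := exists_normalizer_block hpM hPp hPL hCL hLN h2
  obtain ⟨χ₀, hB⟩ := h1.2.1
  have hdef : IsDefectGroup p M (blockOf M (ψ : Subgroup.normalizer (P : Set G) → ℂ))
      (P.subgroupOf (Subgroup.normalizer (P : Set G))) :=
    isDefectGroup_of_induced hpM Subgroup.le_normalizer le_rfl hψ2 hP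
  rw [hB] at hψ2 hψ2'
  have heq := blockOf_eq_of_induced_normalizer hpM hPp ψ ψ' χ₀ hdef hψ2 hψ2'
  rw [heq] at hψ1'
  have hLnormal : (L.subgroupOf (Subgroup.normalizer (P : Set G))).Normal := by
    refine ⟨fun x hx y => ?_⟩
    show ((y * x * y⁻¹ : Subgroup.normalizer (P : Set G)) : G) ∈ L
    push_cast
    exact hLnorm y y.2 x hx
  obtain ⟨n, hn⟩ := exists_conj_of_isInducedBlock hpM
    (L.subgroupOf (Subgroup.normalizer (P : Set G))) hψ1 hψ1'
  refine ⟨(n : G), n.2, fun θ hθ => ?_⟩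
  obtain ⟨θ', hθ', hθeq⟩ := hn _ (Set.mem_image_of_mem _ hθ)
  refine ⟨θ', hθ', fun x hx => ?_⟩
  have hxN : (x : G) ∈ Subgroup.normalizer (P : Set G) := hLN x.2
  have h3 := congrArg (fun f : IrrCharacter (L.subgroupOf (Subgroup.normalizer (P : Set G))) =>
    (f : (L.subgroupOf (Subgroup.normalizer (P : Set G))) → ℂ)
      ⟨⟨(x : G), hxN⟩, show (x : G) ∈ L from x.2⟩) hθeq
  simp only [irrMap_apply] at h3
  rw [conjIrr_apply, irrMap_apply] at h3
  convert h3 using 2
  · exact Subtype.ext rfl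
  · exact Subtype.ext rfl

end Cfsg.Agent.Lib.Helper77
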