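import Cfsg.Agent.Lib.Helper77.IndPart
import Cfsg.Agent.Lib.Helper16.WBO

/-!
# The block part of a class function through the block idempotent
-/

set_option autoImplicit false

universe u

namespace Cfsg.Agent.Lib.Helper77

open Cfsg Cfsg.Agent.Lib.Helper16
open scoped ComplexConjugate

variable {G : Type u} [Group G] [Fintype G]

/-- The `B`-part of a class function `ϑ` is `g ↦ ϑ (e_B g)`. -/
theorem blockPart_eq_sum_blockCoeff [Fintype (IrrCharacter G)] (B : Set (IrrCharacter G))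
    {ϑ : G → ℂ} (hϑ : IsClassFunction G ϑ) (g : G) :
    blockPart B ϑ g = ∑ k : G, blockCoeff B k * ϑ (k * g) := by
  classical
  have hG : (Nat.card G : ℂ) ≠ 0 := Nat.cast_ne_zero.mpr Nat.card_pos.ne'
  rw [blockPart_eq_sum]
  have h1 : ∀ χ : IrrCharacter G, classInner ϑ (χ : G → ℂ) * (χ : G → ℂ) g =
      ∑ c : G, (Nat.card G : ℂ)⁻¹ * ϑ c * ((χ : G → ℂ) g * conj ((χ : G → ℂ) c)) := by
    intro χ
    unfold classInner
    rw [Finset.mul_sum, Finset.sum_mul]
    refine Finset.sum_congr rfl fun c _ => ?_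
    ring
  rw [Finset.sum_congr rfl fun χ _ => h1 χ, Finset.sum_comm]
  simp_rw [← Finset.mul_sum, sum_irr_block_eq]
  -- now `∑ c, |G|⁻¹ * ϑ c * ∑ t, e (g⁻¹ * t * c * t⁻¹)`
  have h2 : ∀ t : G, ∑ c : G, ϑ c * blockCoeff B (g⁻¹ * t * c * t⁻¹) =
      ∑ k : G, blockCoeff B k * ϑ (k * g) := by
    intro t
    let e : G ≃ G := ((Equiv.mulLeft t).trans (Equiv.mulRight t⁻¹)).trans (Equiv.mulLeft g⁻¹)
    have he : ∀ c, e c = g⁻¹ * (t * c * t⁻¹) := fun c => rfl
    refine Fintype.sum_equiv e _ _ fun c => ?_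
    rw [he, mul_comm]
    congr 1
    · congr 1
      group
    · have e1 : g⁻¹ * (t * c * t⁻¹) * g = (g⁻¹ * t) * c * (g⁻¹ * t)⁻¹ := by group
      rw [e1, hϑ]
  calc ∑ c : G, (Nat.card G : ℂ)⁻¹ * ϑ c * ∑ t : G, blockCoeff B (g⁻¹ * t * c * t⁻¹)
      = (Nat.card G : ℂ)⁻¹ * ∑ t : G, ∑ c : G, ϑ c * blockCoeff B (g⁻¹ * t * c * t⁻¹) := by
        rw [Finset.sum_comm, Finset.mul_sum]
        refine Finset.sum_congr rfl fun c _ => ?_
        rw [Finset.mul_sum, Finset.mul_sum]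
        refine Finset.sum_congr rfl fun t _ => ?_
        ring
    _ = (Nat.card G : ℂ)⁻¹ * ((Nat.card G : ℂ) * ∑ k : G, blockCoeff B k * ϑ (k * g)) := by
        rw [Finset.sum_congr rfl fun t _ => h2 t, Finset.sum_const, Finset.card_univ,
          nsmul_eq_mul, Nat.card_eq_fintype_card]
    _ = _ := by rw [← mul_assoc, inv_mul_cancel₀ hG, one_mul]

end Cfsg.Agent.Lib.Helper77
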