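import Cfsg.Agent.Lib.Helper77.Transport
import Cfsg.Agent.Lib.Helper77.InducedOmega

set_option autoImplicit false

universe u

namespace Cfsg.Agent.Lib.Helper77

open Cfsg
open Cfsg.Agent.Lib.Helper81
open Cfsg.Agent.Lib.Helper80

variable {G : Type u} [Group G] [Finite G]

/-- Transitivity of block induction along `L ≤ N ≤ G`, the block of `L` being transported to the
copy `L.subgroupOf N` of `L` inside `N`. -/
theorem isInducedBlock_trans {M : Ideal AlgInt} (hM : M.IsPrime) {N L : Subgroup G} (hLN : L ≤ N)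
    {b : Set (IrrCharacter L)} (hb : IsPBlock M b) {β : Set (IrrCharacter N)}
    {B : Set (IrrCharacter G)}
    (h1 : IsInducedBlock M (L.subgroupOf N)
      (irrMap (Subgroup.subgroupOfEquivOfLe hLN) '' b) β)
    (h2 : IsInducedBlock M N β B) : IsInducedBlock M L b B := by
  classical
  have := Fintype.ofFinite G
  have := Fintype.ofFinite N
  have := Fintype.ofFinite L
  have := Fintype.ofFinite (L.subgroupOf N)
  refine ⟨hb, h2.2.1, fun θ hθ χ hχ g => ?_⟩
  obtain ⟨ψ₀, hβ⟩ := h1.2.1
  have hψ₀ : ψ₀ ∈ β := by rw [hβ]; exact sameBlock_refl hM _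
  have hZ := indClassFn_ZS hM N g
  have k1 := memLocalIdeal_omega_restrict_sub hM (L.subgroupOf N) h1
    (Set.mem_image_of_mem _ hθ) hψ₀ hZ
  have e1 : omega (irrMap (Subgroup.subgroupOfEquivOfLe hLN) θ : (L.subgroupOf N) → ℂ)
      (fun h : L.subgroupOf N => indClassFn N g (h : N)) = inducedCentralChar L (θ : L → ℂ) g := by
    rw [inducedCentralChar_eq_omega]
    have h3 : (fun h : L.subgroupOf N => indClassFn N g (h : N)) =
        fun h => indClassFn L g (Subgroup.subgroupOfEquivOfLe hLN h) := by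
      funext h
      rfl
    rw [h3]
    exact omega_comp_mulEquiv (Subgroup.subgroupOfEquivOfLe hLN) (θ : L → ℂ) (indClassFn L g)
  have e2 : omega (ψ₀ : N → ℂ) (indClassFn N g) = inducedCentralChar N (ψ₀ : N → ℂ) g :=
    (inducedCentralChar_eq_omega N _ g).symm
  rw [e1, e2] at k1
  exact cong_trans hM k1 (h2.2.2 ψ₀ hψ₀ χ hχ g)

end Cfsg.Agent.Lib.Helper77
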