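import Cfsg.Agent.Lib.Helper77.Transport
import Cfsg.Agent.Lib.Helper77.DefectInduced
import Cfsg.Agent.Lib.Helper77.Transitive

set_option autoImplicit false

universe u

namespace Cfsg.Agent.Lib.Helper77

open Cfsg
open Cfsg.Agent.Lib.Helper81
open Cfsg.Agent.Lib.Helper80

section Transport

variable {H₁ H₂ : Type u} [Group H₁] [Group H₂]

theorem isDefectClass_irrMap_image {M : Ideal AlgInt} (e : H₁ ≃* H₂)
    {B : Set (IrrCharacter H₂)} {g : H₁} (h : IsDefectClass M B (e g)) :
    IsDefectClass M (irrMap e '' B) g := by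
  obtain ⟨h1, h2, h3⟩ := h
  refine ⟨?_, ?_, ?_⟩
  · rw [blockCoeff_irrMap_image]; exact h1
  · rw [blockCoeff_irrMap_image]; exact h2
  · rintro χ ⟨θ, hθ, rfl⟩
    show ¬ MemLocalIdeal M (centralChar (fun y => (θ : H₂ → ℂ) (e y)) g)
    rw [centralChar_comp_mulEquiv]
    exact h3 θ hθ

/-- Defect groups are transported along group isomorphisms. -/
theorem isDefectGroup_irrMap_image [Finite H₁] [Finite H₂] {p : ℕ} [Fact p.Prime]
    {M : Ideal AlgInt} (e : H₁ ≃* H₂) {B : Set (IrrCharacter H₂)} {D : Subgroup H₂}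
    (h : IsDefectGroup p M B D) :
    IsDefectGroup p M (irrMap e '' B) (D.comap e.toMonoidHom) := by
  classical
  have := Fintype.ofFinite H₁
  have := Fintype.ofFinite H₂
  rw [isDefectGroup_iff] at h ⊢
  obtain ⟨g, hg, hD, hcard⟩ := h
  refine ⟨e.symm g, isDefectClass_irrMap_image e (by rwa [e.apply_symm_apply]), ?_, ?_⟩
  · intro y hy
    have h1 : e y ∈ Subgroup.centralizer ({g} : Set H₂) := hD hy
    rw [Subgroup.mem_centralizer_singleton_iff] at h1 ⊢
    apply e.injective
    rw [map_mul, map_mul, e.apply_symm_apply]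
    exact h1
  · have h1 : Nat.card (D.comap e.toMonoidHom) = Nat.card D :=
      Nat.card_congr (e.toEquiv.subtypeEquiv (fun y => Iff.rfl))
    have h2 : Nat.card (Subgroup.centralizer ({e.symm g} : Set H₁)) =
        Nat.card (Subgroup.centralizer ({g} : Set H₂)) := by
      refine Nat.card_congr (e.toEquiv.subtypeEquiv (fun y => ?_))
      show y ∈ Subgroup.centralizer ({e.symm g} : Set H₁) ↔
        e y ∈ Subgroup.centralizer ({g} : Set H₂)
      rw [Subgroup.mem_centralizer_singleton_iff, Subgroup.mem_centralizer_singleton_iff]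
      constructor
      · intro hy
        have := congrArg e hy
        rwa [map_mul, map_mul, e.apply_symm_apply] at this
      · intro hy
        apply e.injective
        rw [map_mul, map_mul, e.apply_symm_apply]
        exact hy
    rw [h1, h2]
    exact hcard

end Transport

variable {G : Type u} [Group G] [Finite G]

/-- A defect group of a block `b` inducing `B` that contains the defect group `P` of `B` equals
`P`. -/
theorem eq_subgroupOf_of_induced_of_le {p : ℕ} [Fact p.Prime] {M : Ideal AlgInt}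
    (hpM : IsPModular p M) {P H : Subgroup G} (hPH : P ≤ H)
    {b : Set (IrrCharacter H)} {B : Set (IrrCharacter G)} (hind : IsInducedBlock M H b B)
    (hP : IsDefectGroup p M B P) {D : Subgroup H} (hD : IsDefectGroup p M b D)
    (hPD : P.subgroupOf H ≤ D) : D = P.subgroupOf H := by
  classical
  have := Fintype.ofFinite G
  obtain ⟨χ₀, rfl⟩ := hind.2.1
  obtain ⟨E, hE, hDE⟩ := Cfsg.Agent.S0917.result p M hpM _ _ hind.1 _ ⟨χ₀, rfl⟩ hind D hD
  have hPE : P ≤ E := by
    intro y hy
    apply hDE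
    exact ⟨⟨y, hPH hy⟩, hPD (show (⟨y, hPH hy⟩ : H) ∈ P.subgroupOf H from hy), rfl⟩
  have hEq : P = E := eq_of_le_of_isDefectGroup hpM χ₀ hP hE hPE
  apply le_antisymm
  · intro y hy
    show (y : G) ∈ P
    rw [hEq]
    exact hDE ⟨y, hy, rfl⟩
  · exact hPD

/-- If a block `β` of `K` induces the block `c` of `G`, where `Q ≤ K ≤ N_G(Q)` for a `p`-subgroup
`Q`, then some defect group of `c` contains `Q`. -/
theorem exists_isDefectGroup_ge_of_induced {p : ℕ} [Fact p.Prime] {M : Ideal AlgInt}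
    (hpM : IsPModular p M) {Q K : Subgroup G} (hQ : IsPGroup p Q) (hQK : Q ≤ K)
    (hKN : K ≤ Subgroup.normalizer (Q : Set G))
    {β : Set (IrrCharacter K)} {c : Set (IrrCharacter G)} (hind : IsInducedBlock M K β c) :
    ∃ E : Subgroup G, IsDefectGroup p M c E ∧ Q ≤ E := by
  classical
  have := Fintype.ofFinite G
  have := Fintype.ofFinite K
  obtain ⟨ξ, hβ⟩ := hind.1
  obtain ⟨Db, hDb⟩ := exists_isDefectGroup hpM ξ
  rw [← hβ] at hDb
  have h1 : Cfsg.pCore p K ≤ Db := Cfsg.Agent.S0912.result p M hpM _ hind.1 Db hDb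
  obtain ⟨E, hE, hDE⟩ := Cfsg.Agent.S0917.result p M hpM _ _ hind.1 _ hind.2.1 hind Db hDb
  have h2 : Q.subgroupOf K ≤ Cfsg.pCore p K :=
    Cfsg.Agent.Lib.Helper84.le_pCore (Subgroup.normal_subgroupOf_of_le_normalizer hKN)
      hQ.comap_subtype
  refine ⟨E, hE, ?_⟩
  intro y hy
  apply hDE
  exact ⟨⟨y, hQK hy⟩, h1 (h2 (show (⟨y, hQK hy⟩ : K) ∈ Q.subgroupOf K from hy)), rfl⟩

/-- Reverse transitivity of block induction: if `b` (block of `L`) induces `β` (block of `N`) and
`B` (block of `G`), with `L ≤ N ≤ G`, then `β` induces `B`. -/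
theorem isInducedBlock_of_trans {M : Ideal AlgInt} (hM : M.IsPrime) {N L : Subgroup G}
    (hLN : L ≤ N) {b : Set (IrrCharacter L)} {β : Set (IrrCharacter N)}
    {B : Set (IrrCharacter G)}
    (h1 : IsInducedBlock M (L.subgroupOf N)
      (irrMap (Subgroup.subgroupOfEquivOfLe hLN) '' b) β)
    (h2 : IsInducedBlock M L b B) : IsInducedBlock M N β B := by
  classical
  have := Fintype.ofFinite G
  have := Fintype.ofFinite N
  have := Fintype.ofFinite L
  have := Fintype.ofFinite (L.subgroupOf N)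
  refine ⟨h1.2.1, h2.2.1, fun ψ hψ χ hχ g => ?_⟩
  obtain ⟨θ₀, hb⟩ := h2.1
  have hθ₀ : θ₀ ∈ b := by rw [hb]; exact sameBlock_refl hM _
  have hZ := indClassFn_ZS hM N g
  have k1 := memLocalIdeal_omega_restrict_sub hM (L.subgroupOf N) h1
    (Set.mem_image_of_mem _ hθ₀) hψ hZ
  have e1 : omega (irrMap (Subgroup.subgroupOfEquivOfLe hLN) θ₀ : (L.subgroupOf N) → ℂ)
      (fun h : L.subgroupOf N => indClassFn N g (h : N)) =
        inducedCentralChar L (θ₀ : L → ℂ) g := by
    rw [inducedCentralChar_eq_omega]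
    have h3 : (fun h : L.subgroupOf N => indClassFn N g (h : N)) =
        fun h => indClassFn L g (Subgroup.subgroupOfEquivOfLe hLN h) := by
      funext h
      rfl
    rw [h3]
    exact omega_comp_mulEquiv (Subgroup.subgroupOfEquivOfLe hLN) (θ₀ : L → ℂ) (indClassFn L g)
  have e2 : omega (ψ : N → ℂ) (indClassFn N g) = inducedCentralChar N (ψ : N → ℂ) g :=
    (inducedCentralChar_eq_omega N _ g).symm
  rw [e1, e2] at k1
  exact cong_trans hM (cong_symm k1) (h2.2.2 θ₀ hθ₀ χ hχ g)

end Cfsg.Agent.Lib.Helper77
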