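import Cfsg.Agent.Lib.Helper77.ThirdMain
import Cfsg.Agent.Lib.Helper77.TransportDefect
import Cfsg.Agent.S0908
import Cfsg.Agent.S0958

set_option autoImplicit false

universe u

namespace Cfsg.Agent.Lib.Helper77

open Cfsg
open Cfsg.Agent.Lib.Helper81
open Cfsg.Agent.Lib.Helper80

variable {G : Type u} [Group G] [Finite G]

/-- The defect does not decrease under block induction. -/
theorem blockDefect_le_of_induced {p : ℕ} [Fact p.Prime] {M : Ideal AlgInt}
    (hpM : IsPModular p M) {H : Subgroup G} {b : Set (IrrCharacter H)}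
    {B : Set (IrrCharacter G)} (hind : IsInducedBlock M H b B) :
    blockDefect p b ≤ blockDefect p B := by
  classical
  have := Fintype.ofFinite H
  have hp : p.Prime := Fact.out
  obtain ⟨ξ, hb⟩ := hind.1
  obtain ⟨Db, hDb⟩ := exists_isDefectGroup hpM ξ
  rw [← hb] at hDb
  obtain ⟨E, hE, hDE⟩ := Cfsg.Agent.S0917.result p M hpM _ _ hind.1 _ hind.2.1 hind Db hDb
  have h1 := Cfsg.Agent.S0908.result p M hpM b hind.1 Db hDb
  have h2 := Cfsg.Agent.S0908.result p M hpM B hind.2.1 E hE
  have h3 : Nat.card Db ≤ Nat.card E := by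
    have := Subgroup.card_le_of_le hDE
    rwa [Subgroup.card_map_of_injective (Subgroup.subtype_injective _)] at this
  rw [h1, h2] at h3
  exact (Nat.pow_le_pow_iff_right hp.one_lt).mp h3

omit [Finite G] in
theorem zpowers_le_centralizer_singleton (y : G) :
    Subgroup.zpowers y ≤ Subgroup.centralizer ({y} : Set G) := by
  rw [Subgroup.zpowers_le, Subgroup.mem_centralizer_singleton_iff]

omit [Finite G] in
theorem centralizer_singleton_le_normalizer_zpowers (y : G) :
    Subgroup.centralizer ({y} : Set G) ≤ Subgroup.normalizer ((Subgroup.zpowers y : Subgroup G) : Set G) := by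
  intro g hg
  rw [Subgroup.mem_centralizer_singleton_iff] at hg
  have hconj : g * y * g⁻¹ = y := by rw [hg, mul_inv_cancel_right]
  have hconj' : g⁻¹ * y * g = y := by
    rw [mul_assoc, ← hg, ← mul_assoc, inv_mul_cancel, one_mul]
  rw [Subgroup.mem_normalizer_iff]
  intro h
  constructor
  · rintro ⟨n, rfl⟩
    refine ⟨n, ?_⟩
    show y ^ n = g * y ^ n * g⁻¹
    have : g * y ^ n * g⁻¹ = (g * y * g⁻¹) ^ n := (conj_zpow).symm
    rw [this, hconj]
  · rintro ⟨n, hn⟩
    refine ⟨n, ?_⟩
    have hn' : y ^ n = g * h * g⁻¹ := hn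
    have : h = g⁻¹ * (g * h * g⁻¹) * g := by group
    show y ^ n = h
    rw [this, ← hn']
    have : g⁻¹ * y ^ n * g = (g⁻¹ * y * g) ^ n := by
      have := (conj_zpow (a := g⁻¹) (b := y) (i := n)).symm
      simpa using this
    rw [this, hconj']

/-- Every block of the centralizer of a `p`-element induces a block of the group. -/
theorem exists_isInducedBlock_centralizer {p : ℕ} [Fact p.Prime] {M : Ideal AlgInt}
    (hpM : IsPModular p M) {y : G} (hy : ∃ k : ℕ, orderOf y = p ^ k)
    (ξ₀ : IrrCharacter (Subgroup.centralizer ({y} : Set G))) :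
    ∃ χ₀ : IrrCharacter G, IsInducedBlock M (Subgroup.centralizer ({y} : Set G))
      (blockOf M (ξ₀ : Subgroup.centralizer ({y} : Set G) → ℂ)) (blockOf M (χ₀ : G → ℂ)) := by
  classical
  have := Fintype.ofFinite G
  have := Fintype.ofFinite (Subgroup.centralizer ({y} : Set G))
  obtain ⟨k, hk⟩ := hy
  have hQ : IsPGroup p (Subgroup.zpowers y) := by
    apply IsPGroup.of_card (n := k)
    rw [Nat.card_zpowers, hk]
  exact exists_isInducedBlock hpM (Subgroup.zpowers y) _ hQ
    (zpowers_le_centralizer_singleton y)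
    (Subgroup.centralizer_le (by
      intro z hz
      rw [Set.mem_singleton_iff] at hz
      rw [hz]
      exact Subgroup.mem_zpowers y))
    (centralizer_singleton_le_normalizer_zpowers y) ξ₀

/-- Deficiency class passes to centralizers of `p`-elements. -/
theorem deficiency_centralizer {p : ℕ} [Fact p.Prime] {M : Ideal AlgInt}
    (hpM : IsPModular p M) (r : ℕ)
    (hG : ∀ B' : Set (IrrCharacter G), IsPBlock M B' → B' ≠ principalBlock M G →
      blockDefect p B' < r) {y : G} (hy : ∃ k : ℕ, orderOf y = p ^ k)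
    (b : Set (IrrCharacter (Subgroup.centralizer ({y} : Set G)))) (hb : IsPBlock M b)
    (hne : b ≠ principalBlock M (Subgroup.centralizer ({y} : Set G))) :
    blockDefect p b < r := by
  classical
  have := Fintype.ofFinite G
  have := Fintype.ofFinite (Subgroup.centralizer ({y} : Set G))
  obtain ⟨ξ₀, rfl⟩ := hb
  obtain ⟨χ₀, hind⟩ := exists_isInducedBlock_centralizer hpM hy ξ₀
  have h3 := third_main hpM hind
  have hBne : blockOf M (χ₀ : G → ℂ) ≠ principalBlock M G := fun h => hne (h3.mp h)
  exact lt_of_le_of_lt (blockDefect_le_of_induced hpM hind) (hG _ ⟨χ₀, rfl⟩ hBne)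

/-- A nontrivial `p`-subgroup has a central element of order `p`. -/
theorem exists_center_orderOf_eq {p : ℕ} [Fact p.Prime] {D : Subgroup G} (hD : IsPGroup p D)
    (hcard : 1 < Nat.card D) :
    ∃ y : G, y ∈ D ∧ orderOf y = p ∧ ∀ d ∈ D, d * y = y * d := by
  have : Nontrivial D := Finite.one_lt_card_iff_nontrivial.mp hcard
  have : Nontrivial (Subgroup.center D) := hD.center_nontrivial
  have hZp : IsPGroup p (Subgroup.center D) := hD.to_subgroup _
  obtain ⟨k, hk⟩ := IsPGroup.iff_card.mp hZp
  have hk0 : k ≠ 0 := by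
    intro h0
    rw [h0, pow_zero] at hk
    have : 1 < Nat.card (Subgroup.center D) := Finite.one_lt_card
    omega
  have hdvd : p ∣ Nat.card (Subgroup.center D) := by
    rw [hk]
    exact dvd_pow_self p hk0
  obtain ⟨z, hz⟩ := exists_prime_orderOf_dvd_card' p hdvd
  refine ⟨((z : D) : G), (z : D).2, ?_, ?_⟩
  · rw [Subgroup.orderOf_coe, Subgroup.orderOf_coe, hz]
  · intro d hd
    have h1 := (Subgroup.mem_center_iff.mp z.2) ⟨d, hd⟩
    exact congrArg Subtype.val h1

/-- Deficiency class is detected on the centralizers of the elements of order `p`. -/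
theorem deficiency_of_centralizers {p : ℕ} [Fact p.Prime] {M : Ideal AlgInt}
    (hpM : IsPModular p M) (r : ℕ) (hr : 0 < r)
    (hC : ∀ y : G, orderOf y = p →
      ∀ B' : Set (IrrCharacter (Subgroup.centralizer ({y} : Set G))), IsPBlock M B' →
        B' ≠ principalBlock M (Subgroup.centralizer ({y} : Set G)) → blockDefect p B' < r)
    (B : Set (IrrCharacter G)) (hB : IsPBlock M B) (hne : B ≠ principalBlock M G) :
    blockDefect p B < r := by
  classical
  have := Fintype.ofFinite G
  have hM : M.IsPrime := isPrime_of_isPModular hpM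
  have hp : p.Prime := Fact.out
  obtain ⟨χ₀, hBeq⟩ := hB
  obtain ⟨D, hD⟩ := exists_isDefectGroup hpM χ₀
  rw [← hBeq] at hD
  have hcardD := Cfsg.Agent.S0908.result p M hpM B ⟨χ₀, hBeq⟩ D hD
  have hDp : IsPGroup p D := isPGroup_of_isDefectGroup hD
  by_cases hd : blockDefect p B = 0
  · rw [hd]; exact hr
  have hcard1 : 1 < Nat.card D := by
    rw [hcardD]
    exact Nat.one_lt_pow hd hp.one_lt
  obtain ⟨y, hyD, hyord, hycomm⟩ := exists_center_orderOf_eq hDp hcard1
  have := Fintype.ofFinite (Subgroup.centralizer ({y} : Set G))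
  have hDC : D ≤ Subgroup.centralizer ({y} : Set G) := by
    intro d hd
    rw [Subgroup.mem_centralizer_singleton_iff]
    exact hycomm d hd
  have hCC : Subgroup.centralizer (D : Set G) ≤ Subgroup.centralizer ({y} : Set G) := by
    intro g hg
    rw [Subgroup.mem_centralizer_singleton_iff]
    exact ((Subgroup.mem_centralizer_iff.mp hg) y hyD).symm
  have hLC : D ⊔ Subgroup.centralizer (D : Set G) ≤ Subgroup.centralizer ({y} : Set G) :=
    sup_le hDC hCC
  have hLN : D ⊔ Subgroup.centralizer (D : Set G) ≤ Subgroup.normalizer (D : Set G) :=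
    sup_le Subgroup.le_normalizer (Subgroup.centralizer_le_normalizer _)
  -- a block of `L` inducing `B`
  obtain ⟨bL, hbL⟩ := (Cfsg.Agent.S0958.result p M hpM D (D ⊔ Subgroup.centralizer (D : Set G))
      hDp le_rfl hLN B ⟨χ₀, hBeq⟩).2 ⟨D, hD, 1, by
        intro z hz
        obtain ⟨w, hw, rfl⟩ := hz
        simpa using hw⟩
  obtain ⟨θ₀, hbLeq⟩ := hbL.1
  have := Fintype.ofFinite ((D ⊔ Subgroup.centralizer (D : Set G)).subgroupOf
    (Subgroup.centralizer ({y} : Set G)))
  -- induce it to the centralizer of `y`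
  have hQK : D.subgroupOf (Subgroup.centralizer ({y} : Set G)) ≤
      (D ⊔ Subgroup.centralizer (D : Set G)).subgroupOf (Subgroup.centralizer ({y} : Set G)) :=
    fun z hz => (le_sup_left : D ≤ D ⊔ Subgroup.centralizer (D : Set G)) hz
  have hCK : Subgroup.centralizer ((D.subgroupOf (Subgroup.centralizer ({y} : Set G)) :
      Subgroup (Subgroup.centralizer ({y} : Set G))) : Set (Subgroup.centralizer ({y} : Set G))) ≤
      (D ⊔ Subgroup.centralizer (D : Set G)).subgroupOf (Subgroup.centralizer ({y} : Set G)) := by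
    intro z hz
    show (z : G) ∈ D ⊔ Subgroup.centralizer (D : Set G)
    apply (le_sup_right : Subgroup.centralizer (D : Set G) ≤ _)
    rw [Subgroup.mem_centralizer_iff]
    intro w hw
    have := (Subgroup.mem_centralizer_iff.mp hz) ⟨w, hDC hw⟩ hw
    exact congrArg Subtype.val this
  have hKN : (D ⊔ Subgroup.centralizer (D : Set G)).subgroupOf
      (Subgroup.centralizer ({y} : Set G)) ≤
      Subgroup.normalizer ((D.subgroupOf (Subgroup.centralizer ({y} : Set G)) :
        Subgroup (Subgroup.centralizer ({y} : Set G))) :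
          Set (Subgroup.centralizer ({y} : Set G))) := by
    intro z hz
    rw [Subgroup.mem_normalizer_iff]
    intro w
    exact (Subgroup.mem_normalizer_iff.mp (hLN hz)) (w : G)
  obtain ⟨ζ₀, hζ₀⟩ := exists_isInducedBlock hpM
    (D.subgroupOf (Subgroup.centralizer ({y} : Set G)))
    ((D ⊔ Subgroup.centralizer (D : Set G)).subgroupOf (Subgroup.centralizer ({y} : Set G)))
    hDp.comap_subtype hQK hCK hKN (irrMap (Subgroup.subgroupOfEquivOfLe hLC) θ₀)
  rw [← irrMap_image_blockOf, ← hbLeq] at hζ₀
  have hbB := isInducedBlock_of_trans hM hLC hζ₀ hbL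
  obtain ⟨E', hE', hDE'⟩ := exists_isDefectGroup_ge_of_induced hpM hDp.comap_subtype hQK hKN hζ₀
  have hcardE := Cfsg.Agent.S0908.result p M hpM _ ⟨ζ₀, rfl⟩ E' hE'
  have hle : Nat.card D ≤ Nat.card E' := by
    have h1 : Nat.card (D.subgroupOf (Subgroup.centralizer ({y} : Set G))) ≤ Nat.card E' :=
      Subgroup.card_le_of_le hDE'
    have h2 : Nat.card (D.subgroupOf (Subgroup.centralizer ({y} : Set G))) = Nat.card D :=
      Nat.card_congr (Subgroup.subgroupOfEquivOfLe hDC).toEquiv
    rwa [h2] at h1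
  rw [hcardD, hcardE] at hle
  have hdle := (Nat.pow_le_pow_iff_right hp.one_lt).mp hle
  have h3 := third_main hpM hbB
  have hbne : blockOf M (ζ₀ : Subgroup.centralizer ({y} : Set G) → ℂ) ≠
      principalBlock M (Subgroup.centralizer ({y} : Set G)) := fun h => hne (h3.mpr h)
  exact lt_of_le_of_lt hdle (hC y hyord _ ⟨ζ₀, rfl⟩ hbne)

end Cfsg.Agent.Lib.Helper77
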