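import Cfsg.Agent.Lib.Helper77.Radical

/-!
# Nilpotency modulo the local ideal of central elements with small central character values
-/

set_option autoImplicit false

universe u

namespace Cfsg.Agent.Lib.Helper77

open Cfsg
open Cfsg.Agent.Lib.Helper81
open Cfsg.Agent.Lib.Helper80

variable {G : Type u} [Group G] [Fintype G]

/-- Convolution powers. -/
noncomputable def convPow (c : G → ℂ) : ℕ → G → ℂ
  | 0 => deltaOne
  | (n + 1) => conv (convPow c n) c

theorem convPow_zero (c : G → ℂ) : convPow c 0 = deltaOne := rfl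

theorem convPow_succ (c : G → ℂ) (n : ℕ) : convPow c (n + 1) = conv (convPow c n) c := rfl

theorem ZS.convPow {M : Ideal AlgInt} (hM : M.IsPrime) {c : G → ℂ} (hc : ZS M c) (n : ℕ) :
    ZS M (convPow c n) := by
  induction n with
  | zero => exact ZS.deltaOne hM
  | succ n ih => exact ZS.conv hM ih hc

theorem omega_convPow {M : Ideal AlgInt} (hM : M.IsPrime) {c : G → ℂ} (hc : ZS M c)
    (χ : IrrCharacter G) (n : ℕ) :
    omega (χ : G → ℂ) (convPow c n) = omega (χ : G → ℂ) c ^ n := by
  induction n with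
  | zero => rw [convPow_zero, omega_deltaOne _ (irr_one_ne_zero χ.2), pow_zero]
  | succ n ih =>
    rw [convPow_succ, omega_conv χ.2 (ZS.convPow hM hc n).1 hc.1, ih, pow_succ]

/-- An `S`-valued class function all of whose central character values lie in the local ideal
is nilpotent for convolution modulo the local ideal. -/
theorem exists_convPow_memLocalIdeal {p : ℕ} {M : Ideal AlgInt}
    (hpM : IsPModular p M) {c : G → ℂ} (hc : ZS M c)
    (hω : ∀ χ : IrrCharacter G, MemLocalIdeal M (omega (χ : G → ℂ) c)) :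
    ∃ n : ℕ, ∀ g, MemLocalIdeal M (convPow c (n + 1) g) := by
  classical
  have hM : M.IsPrime := isPrime_of_isPModular hpM
  have := Fintype.ofFinite (IrrCharacter G)
  let R := fourierSubring (G := G) M hM
  let J := fourierIdeal (G := G) M hM
  let φ : R := ⟨fun χ => omega (χ : G → ℂ) c, c, hc.1, hc.2, fun _ => rfl⟩
  let s : IrrCharacter G → R := fun ξ =>
    ⟨fun _ => omega (ξ : G → ℂ) c, (fun g => omega (ξ : G → ℂ) c * deltaOne g),
      (ZS.smul hM (hc.omega hM ξ) (ZS.deltaOne hM)).1,
      (ZS.smul hM (hc.omega hM ξ) (ZS.deltaOne hM)).2, fun χ => by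
        rw [omega_smul, omega_deltaOne _ (irr_one_ne_zero χ.2), mul_one]⟩
  have hsJ : ∀ ξ, s ξ ∈ J := by
    intro ξ
    refine ⟨(fun g => omega (ξ : G → ℂ) c * deltaOne g),
      (ZS.smul hM (hc.omega hM ξ) (ZS.deltaOne hM)).1, ?_, fun χ => ?_⟩
    · intro g
      exact memLocalIdeal_mul_right hM (hω ξ) ((ZS.deltaOne hM).2 g)
    · rw [omega_smul, omega_deltaOne _ (irr_one_ne_zero χ.2), mul_one]
  have hprod : ∏ ξ : IrrCharacter G, (φ - s ξ) = 0 := by
    apply Subtype.ext
    funext χ
    rw [SubmonoidClass.coe_finsetProd, Finset.prod_apply]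
    refine Finset.prod_eq_zero (Finset.mem_univ χ) ?_
    show omega (χ : G → ℂ) c - omega (χ : G → ℂ) c = 0
    exact sub_self _
  have hq : (Ideal.Quotient.mk J φ) ^ (Fintype.card (IrrCharacter G)) = 0 := by
    have h1 := congrArg (Ideal.Quotient.mk J) hprod
    rw [map_prod, map_zero] at h1
    have h2 : ∀ ξ ∈ (Finset.univ : Finset (IrrCharacter G)),
        Ideal.Quotient.mk J (φ - s ξ) = Ideal.Quotient.mk J φ := by
      intro ξ _
      rw [map_sub, Ideal.Quotient.eq_zero_iff_mem.mpr (hsJ ξ), sub_zero]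
    rw [Finset.prod_congr rfl h2, Finset.prod_const, Finset.card_univ] at h1
    exact h1
  set n := Fintype.card (IrrCharacter G) with hn
  have hφJ : φ ^ n ∈ J := by
    rw [← Ideal.Quotient.eq_zero_iff_mem, map_pow]
    exact hq
  obtain ⟨a, ha, haS, hφa⟩ := hφJ
  have h3 : convPow c n = a := by
    apply eq_of_omega_eq (ZS.convPow hM hc n).1 ha
    intro χ
    rw [omega_convPow hM hc, ← hφa χ]
    rfl
  refine ⟨n, fun g => ?_⟩
  rw [convPow_succ]
  unfold conv
  refine memLocalIdeal_sum hM _ _ fun h _ => ?_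
  rw [h3]
  exact memLocalIdeal_mul_right hM (haS h) (hc.2 _)

end Cfsg.Agent.Lib.Helper77
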