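import Cfsg.Prelude.Def_Blocks
import Mathlib.GroupTheory.OrderOfElement
import Mathlib.Data.Nat.ChineseRemainder
import Mathlib.Data.Nat.Factorization.Basic

/-!
# The `p`-part of an element as a power
-/

set_option autoImplicit false
set_option linter.unusedSectionVars false

universe u

namespace Cfsg.Agent.Lib.Helper77

open Cfsg

variable {G : Type u} [Group G] [Finite G] {p : ℕ}

/-- An exponent computing `p`-parts. -/
theorem exists_ppart_exponent (G : Type u) [Group G] [Finite G] (p : ℕ) (hp : p.Prime) :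
    ∃ K r N : ℕ, Nat.card G = p ^ K * r ∧ ¬ p ∣ r ∧ r ∣ N ∧ N ≡ 1 [MOD p ^ K] := by
  have hn : Nat.card G ≠ 0 := Nat.card_pos.ne'
  set K := (Nat.card G).factorization p with hK
  set r := Nat.card G / p ^ K with hr
  have h1 : p ^ K * r = Nat.card G := Nat.ordProj_mul_ordCompl_eq_self (Nat.card G) p
  have h2 : ¬ p ∣ r := Nat.not_dvd_ordCompl hp hn
  have hcop : Nat.Coprime (p ^ K) r :=
    Nat.Coprime.pow_left K ((Nat.Prime.coprime_iff_not_dvd hp).mpr h2)
  obtain ⟨N, hN1, hN0⟩ := Nat.chineseRemainder hcop 1 0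
  exact ⟨K, r, N, h1.symm, h2, (Nat.modEq_zero_iff_dvd).mp hN0, hN1⟩

theorem pow_eq_of_isPPart (hp : p.Prime) {K r N : ℕ} (hcard : Nat.card G = p ^ K * r)
    (hpr : ¬ p ∣ r) (hrN : r ∣ N) (hN1 : N ≡ 1 [MOD p ^ K]) {g x : G} (hgx : IsPPart p g x) :
    g ^ N = x := by
  obtain ⟨y, hxy, hcomm, ⟨k, hk⟩, hy⟩ := hgx
  rw [← hxy, hcomm.mul_pow]
  have hcop : Nat.Coprime (p ^ k) r :=
    Nat.Coprime.pow_left k ((Nat.Prime.coprime_iff_not_dvd hp).mpr hpr)
  have h1 : p ^ k ∣ p ^ K := by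
    have : p ^ k ∣ p ^ K * r := by
      rw [← hcard, ← hk]
      exact orderOf_dvd_natCard x
    exact hcop.dvd_of_dvd_mul_right this
  have h2 : x ^ N = x := by
    have := pow_eq_pow_of_modEq (hN1.of_dvd h1) (by rw [← hk]; exact pow_orderOf_eq_one x)
    rwa [pow_one] at this
  have hcop2 : Nat.Coprime (orderOf y) (p ^ K) :=
    Nat.Coprime.pow_right K ((Nat.Prime.coprime_iff_not_dvd hp).mpr hy).symm
  have h3 : orderOf y ∣ r := by
    have : orderOf y ∣ p ^ K * r := by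
      rw [← hcard]
      exact orderOf_dvd_natCard y
    exact hcop2.dvd_of_dvd_mul_left this
  have h4 : y ^ N = 1 := orderOf_dvd_iff_pow_eq_one.mp (h3.trans hrN)
  rw [h2, h4, mul_one]

theorem isPPart_pow (hp : p.Prime) {K r N : ℕ} (hcard : Nat.card G = p ^ K * r)
    (hpr : ¬ p ∣ r) (hrN : r ∣ N) (hN1 : N ≡ 1 [MOD p ^ K]) (g : G) :
    IsPPart p g (g ^ N) := by
  have hgc : g ^ (p ^ K * r) = 1 := by rw [← hcard]; exact pow_card_eq_one'
  refine ⟨(g ^ N)⁻¹ * g, by group, ?_, ?_, ?_⟩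
  · exact ((Commute.refl (g ^ N)).inv_right).mul_right ((Commute.refl g).pow_left N)
  · have h1 : (g ^ N) ^ (p ^ K) = 1 := by
      obtain ⟨m, rfl⟩ := hrN
      have e : r * m * p ^ K = p ^ K * r * m := by ring
      rw [← pow_mul, e, pow_mul, hgc, one_pow]
    obtain ⟨k, -, hk⟩ := (Nat.dvd_prime_pow hp).mp (orderOf_dvd_of_pow_eq_one h1)
    exact ⟨k, hk⟩
  · intro hdvd
    apply hpr
    have h2 : ((g ^ N)⁻¹ * g) ^ r = 1 := by
      have hc : Commute (g ^ N)⁻¹ g := ((Commute.refl g).pow_left N).inv_left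
      rw [hc.mul_pow, inv_pow, ← pow_mul]
      have h3 : N * r ≡ 1 * r [MOD p ^ K * r] := Nat.ModEq.mul_right' r hN1
      rw [pow_eq_pow_of_modEq h3 hgc, one_mul, inv_mul_cancel]
    exact hdvd.trans (orderOf_dvd_of_pow_eq_one h2)

end Cfsg.Agent.Lib.Helper77
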