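import Cfsg.Agent.Lib.Helper77.LocalTrace
import Cfsg.Agent.Lib.Helper77.PPow
import Cfsg.Agent.Lib.Helper16.WBO

/-!
# Strong block orthogonality (block orthogonality for `p`-sections)
-/

set_option autoImplicit false
set_option linter.unusedSectionVars false

universe u

namespace Cfsg.Agent.Lib.Helper77.IdemTrace

open Matrix Cfsg Cfsg.Agent.Lib.Helper77 Cfsg.Agent.Lib.Helper81 Cfsg.Agent.Lib.Helper16
open Cfsg.Agent.Lib.Helper80
open scoped ComplexConjugate

variable {M : Ideal AlgInt} {G : Type u} [Group G] [Fintype G] [DecidableEq G]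

theorem cv_delta_left {S : Type*} [CommRing S] (f : G → S) : cv delta f = f := by
  funext t
  unfold cv delta
  rw [Finset.sum_eq_single 1]
  · simp
  · intro k _ hk
    rw [if_neg hk, zero_mul]
  · intro h
    exact absurd (Finset.mem_univ _) h

/-- The block idempotent with values in the local ring. -/
noncomputable def eS {p : ℕ} (hpM : IsPModular p M) (χ₀ : IrrCharacter G) :
    G → localSubring M (isPrime_of_isPModular hpM) :=
  fun t => ⟨blockCoeff (blockOf M (χ₀ : G → ℂ)) t, memLocalRing_blockCoeff hpM χ₀ t⟩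

theorem eS_coe {p : ℕ} (hpM : IsPModular p M) (χ₀ : IrrCharacter G) (t : G) :
    ((eS hpM χ₀ t : localSubring M (isPrime_of_isPModular hpM)) : ℂ) =
      blockCoeff (blockOf M (χ₀ : G → ℂ)) t := rfl

theorem eS_conj {p : ℕ} (hpM : IsPModular p M) (χ₀ : IrrCharacter G) (g t : G) :
    eS hpM χ₀ (g * t * g⁻¹) = eS hpM χ₀ t :=
  Subtype.ext (blockCoeff_isClassFunction _ t g)

theorem eS_conj' {p : ℕ} (hpM : IsPModular p M) (χ₀ : IrrCharacter G) (g t : G) :
    eS hpM χ₀ (g⁻¹ * t * g) = eS hpM χ₀ t := by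
  have := eS_conj hpM χ₀ g⁻¹ t
  rwa [inv_inv] at this

theorem cv_eS {p : ℕ} (hpM : IsPModular p M) (χ₀ : IrrCharacter G) :
    cv (eS hpM χ₀) (eS hpM χ₀) = eS hpM χ₀ := by
  funext t
  apply Subtype.ext
  have := congrFun (blockCoeff_conv_self (blockOf M (χ₀ : G → ℂ))) t
  unfold conv at this
  unfold cv
  rw [AddSubmonoidClass.coe_finsetSum]
  simpa [eS] using this

open Classical in
/-- Strong block orthogonality in terms of powers computing the `p`-parts. -/
theorem sum_block_eq_zero_of_pow [Fintype (IrrCharacter G)] {p : ℕ} [Fact p.Prime]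
    (hpM : IsPModular p M) (χ₀ : IrrCharacter G) {g h : G} {K r N : ℕ}
    (hcard : Nat.card G = p ^ K * r) (hrN : r ∣ N)
    (hnc : ∀ a : G, a * h ^ N * a⁻¹ ≠ g ^ N) :
    ∑ χ ∈ Finset.univ.filter (fun χ : IrrCharacter G => χ ∈ blockOf M (χ₀ : G → ℂ)),
      (χ : G → ℂ) g * conj ((χ : G → ℂ) h) = 0 := by
  classical
  rw [sum_irr_block_eq]
  have hfix : ∀ a : G, ¬ ((twoSided g⁻¹ h ^ N) a = a) := by
    intro a ha
    rw [twoSided_pow_apply] at ha
    apply hnc a
    have e1 : a * h ^ N = (g⁻¹ ^ N)⁻¹ * (g⁻¹ ^ N * a * h ^ N) := by group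
    rw [ha] at e1
    rw [e1, inv_pow, inv_inv]
    group
  have hcorner : cornerMat (fun a => (twoSided g⁻¹ h ^ N) a = a) =
      (0 : Matrix G G (localSubring M (isPrime_of_isPModular hpM))) := by
    ext i j
    unfold cornerMat
    rw [Matrix.diagonal_apply]
    simp [hfix]
  have key := sum_twoSided_eq_zero hpM (delta : G → localSubring M (isPrime_of_isPModular hpM))
    (eS hpM χ₀) (cv_delta_left _) (cv_eS hpM χ₀) g⁻¹ h
    (fun t => by
      unfold delta
      have : g⁻¹ * t * g⁻¹⁻¹ = 1 ↔ t = 1 := by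
        constructor
        · intro e
          have : t = g * (g⁻¹ * t * g⁻¹⁻¹) * g⁻¹ := by group
          rw [this, e]; group
        · rintro rfl; group
      simp only [this])
    (eS_conj' hpM χ₀ h) hcard hrN 1
    (by
      rw [hcorner, zero_mul, zero_mul, pow_one]
      intro i j
      exact Ideal.zero_mem _)
  rw [sum_lam_rho_twoSided] at key
  have key2 := congrArg Subtype.val key
  rw [AddSubmonoidClass.coe_finsetSum] at key2
  rw [Finset.sum_eq_single 1] at key2
  · simp only [delta, if_true, one_mul,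
      AddSubmonoidClass.coe_finsetSum, ZeroMemClass.coe_zero] at key2
    rw [← key2]
    refine Finset.sum_congr rfl fun a _ => ?_
    rw [eS_coe]
    have := blockCoeff_isClassFunction (blockOf M (χ₀ : G → ℂ)) (a⁻¹ * 1⁻¹ * g⁻¹ * a * h) a
    rw [← this]
    congr 1
    group
  · intro k _ hk
    simp [delta, hk]
  · intro h1
    exact absurd (Finset.mem_univ _) h1

open Classical in
/-- Strong block orthogonality: the block sum of `χ g * conj (χ h)` vanishes when the `p`-parts
of `g` and `h` are not conjugate. -/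
theorem strong_block_orthogonality_finset [Fintype (IrrCharacter G)] {p : ℕ} [Fact p.Prime]
    (hpM : IsPModular p M) (χ₀ : IrrCharacter G) {g h x y : G} (hx : IsPPart p g x)
    (hy : IsPPart p h y) (hxy : ¬ IsConj x y) :
    ∑ χ ∈ Finset.univ.filter (fun χ : IrrCharacter G => χ ∈ blockOf M (χ₀ : G → ℂ)),
      (χ : G → ℂ) g * conj ((χ : G → ℂ) h) = 0 := by
  have hp : p.Prime := Fact.out
  obtain ⟨K, r, N, hcard, hpr, hrN, hN1⟩ := exists_ppart_exponent G p hp
  have hgx := pow_eq_of_isPPart hp hcard hpr hrN hN1 hx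
  have hhy := pow_eq_of_isPPart hp hcard hpr hrN hN1 hy
  apply sum_block_eq_zero_of_pow hpM χ₀ hcard hrN
  intro a ha
  rw [hgx, hhy] at ha
  exact hxy (isConj_iff.mpr ⟨a, ha⟩).symm

end Cfsg.Agent.Lib.Helper77.IdemTrace
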