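import Cfsg.Agent.Lib.Helper77.GroupMat2
import Cfsg.Agent.Lib.Helper77.StrongOrth
import Cfsg.Agent.Lib.Helper77.Radical3

/-!
# The core of Brauer's second main theorem: the trace of `(h, g)` on `e_b RG e_B'`
-/

set_option autoImplicit false
set_option linter.unusedSectionVars false

universe u

namespace Cfsg.Agent.Lib.Helper77.IdemTrace

open Matrix Cfsg Cfsg.Agent.Lib.Helper77 Cfsg.Agent.Lib.Helper81 Cfsg.Agent.Lib.Helper16
open Cfsg.Agent.Lib.Helper80
open scoped ComplexConjugate

variable {M : Ideal AlgInt}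

theorem coe_cvPow (hM : M.IsPrime) {K : Type u} [Group K] [Fintype K] [DecidableEq K]
    (fS : K → localSubring M hM) (n : ℕ) (k : K) :
    ((cvPow fS n k : localSubring M hM) : ℂ) = convPow (fun k => (fS k : ℂ)) n k := by
  induction n generalizing k with
  | zero =>
    show ((delta k : localSubring M hM) : ℂ) = deltaOne k
    unfold delta deltaOne
    split_ifs <;> simp
  | succ n ih =>
    show ((cv (cvPow fS n) fS k : localSubring M hM) : ℂ) = conv (convPow _ n) _ k
    unfold cv conv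
    rw [AddSubmonoidClass.coe_finsetSum]
    refine Finset.sum_congr rfl fun x _ => ?_
    rw [Subring.coe_mul, ih]

variable {G : Type u} [Group G] [Fintype G] [DecidableEq G]

open Classical in
/-- The core of the second main theorem. -/
theorem second_main_core [Fintype (IrrCharacter G)] {p : ℕ} [Fact p.Prime]
    (hpM : IsPModular p M) (H : Subgroup G) [Fintype H] (ξ₀ : IrrCharacter H)
    (χ₀ : IrrCharacter G)
    (hω : ∀ ξ ∈ blockOf M (ξ₀ : H → ℂ), MemLocalIdeal M (omega (ξ : H → ℂ)
      (fun k : H => blockCoeff (blockOf M (χ₀ : G → ℂ)) (k : G))))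
    {h : G} (hh : h ∈ H) (g : G) {K r N : ℕ} (hcard : Nat.card G = p ^ K * r) (hrN : r ∣ N)
    (hfix : ∀ a : G, h ^ N * a * g ^ N = a → a ∈ H) :
    ∑ k : H, blockCoeff (blockOf M (ξ₀ : H → ℂ)) k *
      ∑ χ ∈ Finset.univ.filter (fun χ : IrrCharacter G => χ ∈ blockOf M (χ₀ : G → ℂ)),
        (χ : G → ℂ) (h⁻¹ * (k : G)) * conj ((χ : G → ℂ) g) = 0 := by
  have hM := isPrime_of_isPModular hpM
  have hp : p.Prime := Fact.out
  set ebH : H → localSubring M hM := eS hpM ξ₀ with hebH
  set eB' : G → localSubring M hM := eS hpM χ₀ with heB'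
  set resS : H → localSubring M hM := fun k => eB' (k : G) with hresS
  set νS : H → localSubring M hM := cv ebH resS with hνS
  set eb : G → localSubring M hM := ext0 H ebH with heb
  have hf : cv eb eb = eb := by rw [heb, cv_ext0_ext0, hebH, cv_eS]
  have hf' : cv eB' eB' = eB' := cv_eS hpM χ₀
  have hfh : ∀ t, eb (h * t * h⁻¹) = eb t :=
    ext0_conj H (fun k t => eS_conj hpM ξ₀ k t) hh
  have hf'g : ∀ t, eB' (g⁻¹ * t * g) = eB' t := eS_conj' hpM χ₀ g
  have hPlam : lam eb * rho eB' = lam (cv eb eB') := by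
    rw [rho_eq_lam (fun g t => eS_conj hpM χ₀ g t), lam_mul]
  have hPt : ∀ t : G, t ∈ H → cv eb eB' t = ext0 H νS t := by
    intro t ht
    rw [heb, cv_ext0_left, ext0_of_mem H νS ht, hνS]
    unfold cv
    refine Finset.sum_congr rfl fun k _ => ?_
    rfl
  -- nilpotency
  set ν : H → ℂ := fun k => (νS k : ℂ) with hν
  have hνeq : ν = conv (blockCoeff (blockOf M (ξ₀ : H → ℂ)))
      (fun k : H => blockCoeff (blockOf M (χ₀ : G → ℂ)) (k : G)) := by
    funext k
    rw [hν]
    show ((cv ebH resS k : localSubring M hM) : ℂ) = _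
    unfold cv conv
    rw [AddSubmonoidClass.coe_finsetSum]
    refine Finset.sum_congr rfl fun x _ => ?_
    rw [Subring.coe_mul]
    rfl
  have hresZ : ZS M (fun k : H => blockCoeff (blockOf M (χ₀ : G → ℂ)) (k : G)) := by
    refine ⟨?_, fun k => memLocalRing_blockCoeff hpM χ₀ _⟩
    intro k x
    show blockCoeff _ ((x * k * x⁻¹ : H) : G) = blockCoeff _ (k : G)
    push_cast
    exact blockCoeff_isClassFunction _ _ _
  have hνZ : ZS M ν := by
    rw [hνeq]
    exact ZS.conv hM (ZS.blockCoeff hpM ξ₀) hresZ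
  have hων : ∀ ξ : IrrCharacter H, MemLocalIdeal M (omega (ξ : H → ℂ) ν) := by
    intro ξ
    rw [hνeq, omega_conv ξ.2 (ZS.blockCoeff hpM ξ₀).1 hresZ.1, omega_blockCoeff]
    by_cases hξ : ξ ∈ blockOf M (ξ₀ : H → ℂ)
    · rw [if_pos hξ, one_mul]
      exact hω ξ hξ
    · rw [if_neg hξ, zero_mul]
      exact memLocalIdeal_zero hM
  obtain ⟨n, hn⟩ := exists_convPow_memLocalIdeal hpM hνZ hων
  set Λ : Matrix G G (localSubring M hM) := lam (ext0 H νS) with hΛ
  have hsmallΛ : Small (Λ ^ (n + 1)) := by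
    rw [hΛ, lam_pow, cvPow_ext0]
    intro i j
    rw [lam_apply]
    by_cases hmem : i * j⁻¹ ∈ H
    · rw [ext0_of_mem H _ hmem, mem_maximalIdeal_iff, coe_cvPow]
      exact hn _
    · rw [ext0_of_not_mem H _ hmem]
      exact Ideal.zero_mem _
  -- the p-part of the permutation
  set z : Equiv.Perm G := twoSided h g ^ N with hz
  have hzpow : z ^ (p ^ K) = 1 := by
    rw [hz, ← pow_mul]
    apply twoSided_pow_card
    rw [hcard, mul_comm N]
    exact Nat.mul_dvd_mul_left _ hrN
  have hzapp : ∀ a, z a = h ^ N * a * g ^ N := fun a => twoSided_pow_apply h g a N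
  have hhN : h ^ N ∈ H := H.pow_mem hh N
  have hΛz : permMat z * Λ = Λ * permMat z := by
    apply permMat_comm
    intro i j
    rw [hΛ, lam_apply, lam_apply, hzapp, hzapp]
    have e : h ^ N * i * g ^ N * (h ^ N * j * g ^ N)⁻¹ = h ^ N * (i * j⁻¹) * (h ^ N)⁻¹ := by
      group
    rw [e]
    exact ext0_conj H (fun k t => Subtype.ext (hνZ.1 t k)) hhN _
  have hpI : ((p : ℕ) : localSubring M hM) ∈ IsLocalRing.maximalIdeal (localSubring M hM) :=
    natCast_mem_maximalIdeal hpM
  have hcornerΛ := small_corner_pow hpI z hzpow hΛz n hsmallΛ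
  have hcorner_eq : cornerMat (fun a => z a = a) * (lam eb * rho eB') *
      cornerMat (fun a => z a = a) =
      cornerMat (fun a => z a = a) * Λ * cornerMat (fun a => z a = a) := by
    ext i j
    rw [mul_cornerMat_apply, mul_cornerMat_apply, cornerMat_mul_apply, cornerMat_mul_apply]
    by_cases hj : z j = j
    · by_cases hi : z i = i
      · rw [if_pos hj, if_pos hi, if_pos hj, if_pos hi, hPlam, hΛ, lam_apply, lam_apply]
        have hiH : i ∈ H := hfix i (by rw [← hzapp]; exact hi)
        have hjH : j ∈ H := hfix j (by rw [← hzapp]; exact hj)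
        exact congrArg Subtype.val (hPt _ (H.mul_mem hiH (H.inv_mem hjH)))
      · rw [if_pos hj, if_neg hi, if_pos hj, if_neg hi]
    · rw [if_neg hj, if_neg hj]
  have key := sum_twoSided_eq_zero hpM eb eB' hf hf' h g hfh hf'g hcard hrN (n + 1)
    (by rw [← hz, hcorner_eq]; exact hcornerΛ)
  rw [sum_lam_rho_twoSided, heb, sum_ext0_mul] at key
  have key2 := congrArg Subtype.val key
  rw [AddSubmonoidClass.coe_finsetSum, ZeroMemClass.coe_zero] at key2
  rw [← key2]
  refine Finset.sum_congr rfl fun k _ => ?_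
  rw [Subring.coe_mul, AddSubmonoidClass.coe_finsetSum]
  congr 1
  rw [sum_irr_block_eq]
  refine Finset.sum_congr rfl fun a _ => ?_
  rw [heB', eS_coe]
  have := blockCoeff_isClassFunction (blockOf M (χ₀ : G → ℂ))
    (a⁻¹ * (k : G)⁻¹ * h * a * g) a
  rw [← this]
  congr 1
  group
end Cfsg.Agent.Lib.Helper77.IdemTrace
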