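import Cfsg.Agent.Lib.Helper77.Columns
import Cfsg.Agent.Lib.Helper77.PPow
import Cfsg.Agent.Lib.Helper3.CharBasic
import Cfsg.Agent.Lib.Helper79.Basic
import Cfsg.Agent.Lib.Helper80.Kernel
import Cfsg.Agent.Lib.Helper22.Fitting
import Cfsg.Agent.Lib.Helper30.PPrimeCore
import Cfsg.Agent.S0938

/-!
# Brauer's method of columns: vanishing relations
-/

set_option autoImplicit false

universe u

namespace Cfsg.Agent.Lib.Helper77

open Cfsg
open Cfsg.Agent.Lib.Helper81
open Cfsg.Agent.Lib.Helper80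
open scoped ComplexConjugate

variable {G : Type u} [Group G] {M : Ideal AlgInt}

/-- The column coefficient of `χ` with respect to the function `θ` on `P`. -/
noncomputable def colCoeff (P : Subgroup G) [Fintype P] (θ : P → ℂ) (χ : G → ℂ) : ℂ :=
  (Nat.card P : ℂ)⁻¹ * ∑ y : P, χ (y : G) * θ y⁻¹

theorem colCoeff_eq (P : Subgroup G) [Fintype P] (θ : P → ℂ) (χ : G → ℂ) :
    colCoeff P θ χ = (Nat.card P : ℂ)⁻¹ * ∑ v : P, χ (v : G)⁻¹ * θ v := by
  unfold colCoeff
  congr 1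
  rw [← Equiv.sum_comp (Equiv.inv P)]
  refine Finset.sum_congr rfl fun v _ => ?_
  simp

open Classical in
/-- The basic vanishing relation. -/
theorem sum_colCoeff_mul_conj_eq_zero [Fintype G] [Fintype (IrrCharacter G)] {p : ℕ}
    [Fact p.Prime] (hpM : IsPModular p M) (P : Subgroup G) (hP : IsPGroup p P) [Fintype P]
    (U : Set G) (θ : P → ℂ) (hθU : ∀ y : P, (y : G) ∉ U → θ y = 0) {h x : G}
    (hx : IsPPart p h x) (hnc : ∀ v : P, (v : G) ∈ U → ¬ IsConj (v : G)⁻¹ x) :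
    ∑ χ ∈ Finset.univ.filter (fun χ : IrrCharacter G => χ ∈ principalBlock M G),
      colCoeff P θ (χ : G → ℂ) * conj ((χ : G → ℂ) h) = 0 := by
  have hp : p.Prime := Fact.out
  simp_rw [colCoeff_eq, mul_assoc, Finset.sum_mul]
  rw [← Finset.mul_sum, Finset.sum_comm]
  apply mul_eq_zero_of_right
  refine Finset.sum_eq_zero fun v _ => ?_
  by_cases hv : (v : G) ∈ U
  · have hvp : ∃ k : ℕ, orderOf (v : G)⁻¹ = p ^ k := by
      obtain ⟨k, hk⟩ := (IsPGroup.iff_orderOf.mp hP) v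
      exact ⟨k, by rw [orderOf_inv, Subgroup.orderOf_coe]; exact hk⟩
    have hsbo := IdemTrace.strong_block_orthogonality_finset hpM (oneIrr G)
      (isPPart_self_of_pElement hp hvp) hx (hnc v hv)
    have e : ∀ χ : IrrCharacter G, (χ : G → ℂ) (v : G)⁻¹ * θ v * conj ((χ : G → ℂ) h) =
        θ v * ((χ : G → ℂ) (v : G)⁻¹ * conj ((χ : G → ℂ) h)) := fun χ => by ring
    rw [Finset.sum_congr rfl fun χ _ => e χ, ← Finset.mul_sum]
    apply mul_eq_zero_of_right
    exact hsbo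
  · refine Finset.sum_eq_zero fun χ _ => ?_
    rw [hθU v hv, mul_zero, zero_mul]

theorem inv_eq_self_of_orderOf_two {t : G} (ht : orderOf t = 2) : t⁻¹ = t := by
  have h : t ^ 2 = 1 := by rw [← ht]; exact pow_orderOf_eq_one t
  rw [inv_eq_iff_mul_eq_one, ← pow_two, h]

open Classical in
/-- The three vanishing relations of Brauer's method of columns for an involution. -/
theorem three_relations [Fintype G] [Fintype (IrrCharacter G)] (hpM : IsPModular 2 M)
    (P : Subgroup G) (hP : IsPGroup 2 P) [Fintype P] (U : Set G) (t : G) (ht : orderOf t = 2)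
    (hinv : ∀ u ∈ U, ∀ g : G, (g * t * g⁻¹) * u * (g * t * g⁻¹)⁻¹ ≠ u⁻¹)
    (θ : P → ℂ) (hθU : ∀ y : P, (y : G) ∉ U → θ y = 0) :
    (∑ χ ∈ Finset.univ.filter (fun χ : IrrCharacter G => χ ∈ principalBlock M G),
      colCoeff P θ (χ : G → ℂ) * (χ : G → ℂ) t ^ 2 / (χ : G → ℂ) 1 = 0) ∧
    (∑ χ ∈ Finset.univ.filter (fun χ : IrrCharacter G => χ ∈ principalBlock M G),
      colCoeff P θ (χ : G → ℂ) * (χ : G → ℂ) 1 = 0) ∧
    (∑ χ ∈ Finset.univ.filter (fun χ : IrrCharacter G => χ ∈ principalBlock M G),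
      colCoeff P θ (χ : G → ℂ) * (χ : G → ℂ) t = 0) := by
  have hp2 : (2 : ℕ).Prime := Nat.prime_two
  have htinv : t⁻¹ = t := inv_eq_self_of_orderOf_two ht
  have htt : t * t = 1 := by rw [← pow_two, ← ht]; exact pow_orderOf_eq_one t
  have h1U : (1 : G) ∉ U := by
    intro h1
    apply hinv 1 h1 1
    group
  -- conjugates of `t` are involutions
  have hconjinv : ∀ g : G, (g * t * g⁻¹)⁻¹ = g * t * g⁻¹ := by
    intro g
    rw [mul_inv_rev, mul_inv_rev, inv_inv, htinv, mul_assoc]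
  refine ⟨?_, ?_, ?_⟩
  · -- the class multiplication relation
    have hG : (Nat.card G : ℂ) ≠ 0 := Nat.cast_ne_zero.mpr Nat.card_pos.ne'
    have e1 : ∀ χ : IrrCharacter G, colCoeff P θ (χ : G → ℂ) * (χ : G → ℂ) t ^ 2 /
        (χ : G → ℂ) 1 = (Nat.card G : ℂ)⁻¹ * ∑ x : G, colCoeff P θ (χ : G → ℂ) *
          conj ((χ : G → ℂ) ((x * t * x⁻¹) * t)) := by
      intro χ
      rw [← Finset.mul_sum]
      have h2 : ∀ x : G, conj ((χ : G → ℂ) ((x * t * x⁻¹) * t)) =
          (χ : G → ℂ) (t * (x * t * x⁻¹)) := by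
        intro x
        rw [← irr_conj_inv, mul_inv_rev, htinv, hconjinv]
      rw [Finset.sum_congr rfl fun x _ => h2 x, irr_sum_char_mul_conj]
      field_simp
    rw [Finset.sum_congr rfl fun χ _ => e1 χ, ← Finset.mul_sum, Finset.sum_comm]
    apply mul_eq_zero_of_right
    refine Finset.sum_eq_zero fun x _ => ?_
    obtain ⟨K, r, N, hcard, hpr, hrN, hN1⟩ := exists_ppart_exponent G 2 hp2
    obtain ⟨s, hs⟩ : ∃ s, s = x * t * x⁻¹ := ⟨_, rfl⟩
    rw [← hs]
    have hss : s * s = 1 := by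
      rw [hs]
      have e0 : x * t * x⁻¹ * (x * t * x⁻¹) = x * (t * t) * x⁻¹ := by group
      rw [e0, htt]
      group
    have hsinv : s⁻¹ = s := by rw [hs]; exact hconjinv x
    apply sum_colCoeff_mul_conj_eq_zero hpM P hP U θ hθU
      (isPPart_pow hp2 hcard hpr hrN hN1 (s * t))
    intro v hv hcon
    obtain ⟨k, hk⟩ := isConj_iff.mp hcon
    -- `s` inverts `s * t`
    have hinvst : s * (s * t) * s⁻¹ = (s * t)⁻¹ := by
      rw [mul_inv_rev, htinv, hsinv, ← mul_assoc, hss, one_mul]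
    have hinvz : s * (s * t) ^ N * s⁻¹ = ((s * t) ^ N)⁻¹ := by
      rw [← conj_pow, hinvst, inv_pow]
    -- a conjugate of `t` inverting `v`
    apply hinv (v : G) hv (k⁻¹ * x)
    have e2 : k⁻¹ * x * t * (k⁻¹ * x)⁻¹ = k⁻¹ * s * k := by rw [hs]; group
    rw [e2]
    have e3 : (v : G)⁻¹ = k⁻¹ * (s * t) ^ N * k := by rw [← hk]; group
    have e4 : (v : G) = k⁻¹ * ((s * t) ^ N)⁻¹ * k := by
      rw [← inv_inv (v : G), e3]; group
    rw [e3]
    nth_rewrite 1 [e4]
    rw [← hinvz]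
    have e5 : (k⁻¹ * s * k)⁻¹ = k⁻¹ * s * k := by
      rw [mul_inv_rev, mul_inv_rev, inv_inv, hsinv, mul_assoc]
    rw [e5]
    have e6 : k⁻¹ * s * k * (k⁻¹ * (s * (s * t) ^ N * s⁻¹) * k) * (k⁻¹ * s * k) =
        k⁻¹ * (s * s) * (s * t) ^ N * (s⁻¹ * s) * k := by group
    rw [e6, hss, inv_mul_cancel]
    group
  · have h := sum_colCoeff_mul_conj_eq_zero hpM P hP U θ hθU (h := 1) (x := 1)
      ⟨1, mul_one 1, Commute.one_right 1, ⟨0, by simp⟩, by simp⟩ (by
        intro v hv hcon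
        have h1 : (v : G)⁻¹ = 1 := isConj_one_left.mp hcon
        rw [inv_eq_one] at h1
        exact h1U (h1 ▸ hv))
    have e : ∀ χ : IrrCharacter G, conj ((χ : G → ℂ) 1) = (χ : G → ℂ) 1 := by
      intro χ
      rw [irr_apply_one_eq_charDegree χ, Complex.conj_natCast]
    simp_rw [e] at h
    exact h
  · have h := sum_colCoeff_mul_conj_eq_zero hpM P hP U θ hθU (h := t) (x := t)
      (isPPart_self_of_pElement hp2 ⟨1, by rw [ht, pow_one]⟩) (by
        intro v hv hcon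
        obtain ⟨g, hg⟩ := isConj_iff.mp hcon
        apply hinv (v : G) hv g⁻¹
        have e1 : g⁻¹ * t * g⁻¹⁻¹ = (v : G)⁻¹ := by rw [← hg]; group
        have e2 : (g⁻¹ * t * g⁻¹⁻¹)⁻¹ = g⁻¹ * t * g⁻¹⁻¹ := hconjinv g⁻¹
        rw [e2, e1]
        group)
    have e : ∀ χ : IrrCharacter G, conj ((χ : G → ℂ) t) = (χ : G → ℂ) t := by
      intro χ
      rw [← irr_conj_inv, htinv]
    simp_rw [e] at h
    exact h

/-- Real-variable core of the sign argument. -/
theorem real_columns_aux {ι : Type*} (s : Finset ι) (r d τ : ι → ℝ) (hd : ∀ i ∈ s, 0 < d i)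
    (h1 : ∑ i ∈ s, r i * τ i ^ 2 / d i = 0) (h2 : ∑ i ∈ s, r i * d i = 0)
    (h3 : ∑ i ∈ s, r i * τ i = 0)
    (hcard : (s.filter fun i => 0 < r i).card < 2) :
    ∃ l : ℝ, ∀ i ∈ s, r i ≠ 0 → τ i = l * d i := by
  classical
  -- the slope
  obtain ⟨l, hl⟩ : ∃ l : ℝ, ∀ i ∈ s, 0 < r i → τ i = l * d i := by
    by_cases hne : (s.filter fun i => 0 < r i).Nonempty
    · obtain ⟨i₁, hi₁⟩ := hne
      refine ⟨τ i₁ / d i₁, fun i hi hri => ?_⟩
      have hle : (s.filter fun i => 0 < r i).card ≤ 1 := by omega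
      have hmem : i ∈ s.filter fun i => 0 < r i := Finset.mem_filter.mpr ⟨hi, hri⟩
      have := Finset.card_le_one.mp hle i hmem i₁ hi₁
      rw [this]
      have hd1 : d i₁ ≠ 0 := (hd i₁ (Finset.mem_filter.mp hi₁).1).ne'
      field_simp
    · refine ⟨0, fun i hi hri => ?_⟩
      exact absurd ⟨i, Finset.mem_filter.mpr ⟨hi, hri⟩⟩ hne
  refine ⟨l, ?_⟩
  have hF : ∑ i ∈ s, r i * (τ i - l * d i) ^ 2 / d i = 0 := by
    have e : ∀ i ∈ s, r i * (τ i - l * d i) ^ 2 / d i =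
        r i * τ i ^ 2 / d i - 2 * l * (r i * τ i) + l ^ 2 * (r i * d i) := by
      intro i hi
      have hdi : d i ≠ 0 := (hd i hi).ne'
      field_simp
      ring
    rw [Finset.sum_congr rfl e, Finset.sum_add_distrib, Finset.sum_sub_distrib,
      ← Finset.mul_sum, ← Finset.mul_sum, h1, h2, h3]
    ring
  have hnonpos : ∀ i ∈ s, r i * (τ i - l * d i) ^ 2 / d i ≤ 0 := by
    intro i hi
    by_cases hri : 0 < r i
    · rw [hl i hi hri]
      simp
    · push Not at hri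
      apply div_nonpos_of_nonpos_of_nonneg _ (hd i hi).le
      exact mul_nonpos_of_nonpos_of_nonneg hri (sq_nonneg _)
  have hz := (Finset.sum_eq_zero_iff_of_nonpos hnonpos).mp hF
  intro i hi hri
  have h := hz i hi
  have hdi : d i ≠ 0 := (hd i hi).ne'
  rw [div_eq_zero_iff] at h
  rcases h with h | h
  · rcases mul_eq_zero.mp h with h | h
    · exact absurd h hri
    · have := pow_eq_zero_iff (two_ne_zero) |>.mp h
      linarith
  · exact absurd h hdi

theorem conj_genChar_inv {H : Type*} [Group H] [Finite H] {θ : H → ℂ}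
    (hθ : IsGeneralizedCharacter H θ) (y : H) : conj (θ y⁻¹) = θ y := by
  obtain ⟨α, β, hα, hβ, rfl⟩ := hθ
  simp only [Pi.sub_apply, map_sub]
  rw [Cfsg.Agent.Lib.Helper3.IsCharacter.inv hα, Cfsg.Agent.Lib.Helper3.IsCharacter.inv hβ,
    Complex.conj_conj, Complex.conj_conj]

theorem conj_colCoeff [Finite G] (P : Subgroup G) [Fintype P] (θ : P → ℂ)
    (hθ : IsGeneralizedCharacter P θ) (χ : IrrCharacter G) :
    conj (colCoeff P θ (χ : G → ℂ)) = colCoeff P θ (χ : G → ℂ) := by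
  conv_rhs => rw [colCoeff_eq]
  unfold colCoeff
  rw [map_mul, map_inv₀, Complex.conj_natCast, map_sum]
  congr 1
  refine Finset.sum_congr rfl fun y _ => ?_
  rw [map_mul, conj_genChar_inv hθ, ← irr_conj_inv]

open Classical in
/-- The sign alternative of Brauer's method of columns for an involution. -/
theorem part_four [Fintype G] [Fintype (IrrCharacter G)] (hpM : IsPModular 2 M)
    (P : Subgroup G) [Fintype P] (t : G) (ht : orderOf t = 2)
    (θ : P → ℂ) (hθ : IsGeneralizedCharacter P θ)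
    (h1 : ∑ χ ∈ Finset.univ.filter (fun χ : IrrCharacter G => χ ∈ principalBlock M G),
      colCoeff P θ (χ : G → ℂ) * (χ : G → ℂ) t ^ 2 / (χ : G → ℂ) 1 = 0)
    (h2 : ∑ χ ∈ Finset.univ.filter (fun χ : IrrCharacter G => χ ∈ principalBlock M G),
      colCoeff P θ (χ : G → ℂ) * (χ : G → ℂ) 1 = 0)
    (h3 : ∑ χ ∈ Finset.univ.filter (fun χ : IrrCharacter G => χ ∈ principalBlock M G),
      colCoeff P θ (χ : G → ℂ) * (χ : G → ℂ) t = 0)
    (h0 : (Nat.card P : ℂ)⁻¹ * ∑ y : P, θ y ≠ 0) :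
    (2 ≤ (Finset.univ.filter fun χ : IrrCharacter G => χ ∈ principalBlock M G ∧
        0 < (colCoeff P θ (χ : G → ℂ)).re).card ∧
      2 ≤ (Finset.univ.filter fun χ : IrrCharacter G => χ ∈ principalBlock M G ∧
        (colCoeff P θ (χ : G → ℂ)).re < 0).card) ∨
    ∃ K : Subgroup G, K.Normal ∧ K ≠ ⊤ ∧ pPrimeCore 2 G ≤ K ∧ t ∈ K := by
  have : Fact (Nat.Prime 2) := Nat.fact_prime_two
  have hMp : M.IsPrime := isPrime_of_isPModular hpM
  have htinv : t⁻¹ = t := inv_eq_self_of_orderOf_two ht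
  -- real data
  obtain ⟨r, hr⟩ : ∃ r : IrrCharacter G → ℝ,
      ∀ χ : IrrCharacter G, colCoeff P θ (χ : G → ℂ) = (r χ : ℂ) :=
    ⟨fun χ => (colCoeff P θ (χ : G → ℂ)).re,
      fun χ => (Complex.conj_eq_iff_re.mp (conj_colCoeff P θ hθ χ)).symm⟩
  obtain ⟨τ, hτ⟩ : ∃ τ : IrrCharacter G → ℝ,
      ∀ χ : IrrCharacter G, (χ : G → ℂ) t = (τ χ : ℂ) :=
    ⟨fun χ => ((χ : G → ℂ) t).re, fun χ => (Complex.conj_eq_iff_re.mp (by
      rw [← irr_conj_inv, htinv])).symm⟩
  obtain ⟨d, hd, hdpos⟩ : ∃ d : IrrCharacter G → ℝ,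
      (∀ χ : IrrCharacter G, (χ : G → ℂ) 1 = (d χ : ℂ)) ∧ ∀ χ, 0 < d χ :=
    ⟨fun χ => (charDegree (χ : G → ℂ) : ℝ), fun χ => by
      rw [irr_apply_one_eq_charDegree χ]; push_cast; rfl,
      fun χ => Nat.cast_pos.mpr (irr_charDegree_pos χ)⟩
  have hre : ∀ χ : IrrCharacter G, (colCoeff P θ (χ : G → ℂ)).re = r χ := fun χ => by
    rw [hr χ, Complex.ofReal_re]
  simp_rw [hre]
  obtain ⟨s, hs⟩ : ∃ s : Finset (IrrCharacter G),
      s = Finset.univ.filter (fun χ : IrrCharacter G => χ ∈ principalBlock M G) := ⟨_, rfl⟩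
  rw [← hs] at h1 h2 h3
  have hmem : ∀ χ, χ ∈ s ↔ χ ∈ principalBlock M G := fun χ => by rw [hs]; simp
  have k1 : ∑ χ ∈ s, r χ * τ χ ^ 2 / d χ = 0 := by
    have : ∑ χ ∈ s, ((r χ * τ χ ^ 2 / d χ : ℝ) : ℂ) = 0 := by
      rw [← h1]
      refine Finset.sum_congr rfl fun χ _ => ?_
      rw [hr χ, hτ χ, hd χ]
      push_cast
      rfl
    rw [← Complex.ofReal_sum] at this
    exact_mod_cast this
  have k2 : ∑ χ ∈ s, r χ * d χ = 0 := by
    have : ∑ χ ∈ s, ((r χ * d χ : ℝ) : ℂ) = 0 := by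
      rw [← h2]
      refine Finset.sum_congr rfl fun χ _ => ?_
      rw [hr χ, hd χ]
      push_cast
      rfl
    rw [← Complex.ofReal_sum] at this
    exact_mod_cast this
  have k3 : ∑ χ ∈ s, r χ * τ χ = 0 := by
    have : ∑ χ ∈ s, ((r χ * τ χ : ℝ) : ℂ) = 0 := by
      rw [← h3]
      refine Finset.sum_congr rfl fun χ _ => ?_
      rw [hr χ, hτ χ]
      push_cast
      rfl
    rw [← Complex.ofReal_sum] at this
    exact_mod_cast this
  by_contra hcon
  push Not at hcon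
  obtain ⟨hA, hB⟩ := hcon
  -- the slope
  have hslope : ∃ l : ℝ, ∀ χ ∈ s, r χ ≠ 0 → τ χ = l * d χ := by
    by_cases hc : 2 ≤ (Finset.univ.filter fun χ : IrrCharacter G => χ ∈ principalBlock M G ∧
        0 < r χ).card
    · have hc2 := hA hc
      have hcard : (s.filter fun χ => 0 < (-r χ)).card < 2 := by
        rw [hs, Finset.filter_filter]
        simp only [Left.neg_pos_iff]
        exact hc2
      obtain ⟨l, hl⟩ := real_columns_aux s (fun χ => -r χ) d τ (fun χ _ => hdpos χ)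
        (by simp only [neg_mul, neg_div, Finset.sum_neg_distrib, k1, neg_zero])
        (by simp only [neg_mul, Finset.sum_neg_distrib, k2, neg_zero])
        (by simp only [neg_mul, Finset.sum_neg_distrib, k3, neg_zero]) hcard
      exact ⟨l, fun χ hχ hne => hl χ hχ (neg_ne_zero.mpr hne)⟩
    · push Not at hc
      have hcard : (s.filter fun χ => 0 < r χ).card < 2 := by
        rw [hs, Finset.filter_filter]
        exact hc
      exact real_columns_aux s r d τ (fun χ _ => hdpos χ) k1 k2 k3 hcard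
  obtain ⟨l, hl⟩ := hslope
  -- the trivial character
  have h1mem : oneIrr G ∈ s := (hmem _).mpr (oneIrr_mem_principalBlock hMp)
  have hr1 : r (oneIrr G) ≠ 0 := by
    intro h
    apply h0
    have := hr (oneIrr G)
    rw [h, colCoeff_eq] at this
    simp only [oneIrr_apply, one_mul, Complex.ofReal_zero] at this
    exact this
  have hτ1 : τ (oneIrr G) = 1 := by
    have := hτ (oneIrr G)
    rw [oneIrr_apply] at this
    exact_mod_cast this.symm
  have hd1 : d (oneIrr G) = 1 := by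
    have := hd (oneIrr G)
    rw [oneIrr_apply] at this
    exact_mod_cast this.symm
  have hl1 : l = 1 := by
    have := hl _ h1mem hr1
    rw [hτ1, hd1, mul_one] at this
    exact this.symm
  subst hl1
  -- the kernel
  refine hB (⨅ χ : {χ : IrrCharacter G // χ ∈ principalBlock M G ∧ r χ ≠ 0},
    Cfsg.Agent.Lib.Helper79.charKer
      (Cfsg.Agent.Lib.Helper3.IsIrrCharacter.isCharacter χ.1.2)) ?_ ?_ ?_ ?_
  · exact Subgroup.normal_iInf_normal fun χ => inferInstance
  · intro htop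
    have hall : ∀ χ : IrrCharacter G, χ ∈ principalBlock M G → r χ ≠ 0 → χ = oneIrr G := by
      intro χ hχ hrχ
      by_contra hne
      have hsum := irr_sum_eq_zero_of_ne_one χ (fun h => hne (Subtype.ext h))
      have hconst : ∀ g : G, (χ : G → ℂ) g = (χ : G → ℂ) 1 := by
        intro g
        have hg : g ∈ (⊤ : Subgroup G) := Subgroup.mem_top g
        rw [← htop, Subgroup.mem_iInf] at hg
        exact (Cfsg.Agent.Lib.Helper79.mem_charKer _ g).mp (hg ⟨χ, hχ, hrχ⟩)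
      rw [Finset.sum_congr rfl fun g _ => hconst g, Finset.sum_const, Finset.card_univ,
        nsmul_eq_mul, hd χ] at hsum
      have h1 : (Fintype.card G : ℂ) ≠ 0 := Nat.cast_ne_zero.mpr Fintype.card_ne_zero
      have h2 : ((d χ : ℝ) : ℂ) ≠ 0 := by exact_mod_cast (hdpos χ).ne'
      exact (mul_ne_zero h1 h2) hsum
    have : ∑ χ ∈ s, r χ * d χ = r (oneIrr G) * d (oneIrr G) := by
      apply Finset.sum_eq_single_of_mem _ h1mem
      intro χ hχ hne
      by_cases hrχ : r χ = 0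
      · rw [hrχ, zero_mul]
      · exact absurd (hall χ ((hmem χ).mp hχ) hrχ) hne
    rw [k2, hd1, mul_one] at this
    exact hr1 this.symm
  · intro g hg
    rw [Subgroup.mem_iInf]
    intro χ
    rw [Cfsg.Agent.Lib.Helper79.mem_charKer]
    obtain ⟨K0, hK0n, hK0, -, -, hK0max⟩ := Cfsg.Agent.S0938.result 2 M hpM (principalBlock M G)
      (isPBlock_principalBlock M) (oneIrr G) (oneIrr_mem_principalBlock hMp)
    have hle : pPrimeCore 2 G ≤ K0 := by
      apply hK0max _ (Cfsg.Agent.Lib.Helper22.pPrimeCore_normal' 2 G)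
      · have := Cfsg.Agent.Lib.Helper30.pPrimeCore_card_coprime (G := G) 2
        intro hdvd
        have h2 := Nat.Coprime.eq_one_of_dvd this.symm hdvd
        omega
      · intro g _
        rfl
    have hgK : g ∈ (K0 : Set G) := hle hg
    rw [hK0] at hgK
    exact hgK χ.1 χ.2.1
  · rw [Subgroup.mem_iInf]
    intro χ
    rw [Cfsg.Agent.Lib.Helper79.mem_charKer, hτ, hd, hl _ ((hmem _).mpr χ.2.1) χ.2.2, one_mul]

end Cfsg.Agent.Lib.Helper77
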