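import Cfsg.Agent.S0939
import Cfsg.Agent.Lib.Helper16.WBO
import Cfsg.Agent.Lib.Helper81.OneIrr

/-!
# The principal block of a group with a normal `p`-complement: squared norms at `p`-regular
elements
-/

set_option autoImplicit false

universe u

namespace Cfsg.Agent.Lib.Helper77

open Cfsg Cfsg.Agent.Lib.Helper16 Cfsg.Agent.Lib.Helper81
open scoped ComplexConjugate

variable {C : Type u} [Group C] [Fintype C]

open Classical in
theorem sum_principalBlock_mul_conj_of_pnilpotent [Fintype (IrrCharacter C)] {p : ℕ}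
    [Fact p.Prime] {M : Ideal AlgInt} (hM : IsPModular p M)
    (hidx : ∃ k : ℕ, (pPrimeCore p C).index = p ^ k) (y : C) (hy : ¬ p ∣ orderOf y) :
    ∑ χ ∈ Finset.univ.filter (fun χ : IrrCharacter C => χ ∈ principalBlock M C),
      (χ : C → ℂ) y * conj ((χ : C → ℂ) y) =
    ((p ^ (Nat.card C).factorization p : ℕ) : ℂ) := by
  have hp : p.Prime := Fact.out
  have hMp : M.IsPrime := isPrime_of_isPModular hM
  obtain ⟨k, hk⟩ := hidx
  have hKn : (pPrimeCore p C).Normal := Cfsg.Agent.Lib.Helper22.pPrimeCore_normal' p C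
  have hcop : (Nat.card (pPrimeCore p C)).Coprime p :=
    Cfsg.Agent.Lib.Helper30.pPrimeCore_card_coprime p
  have hpK : ¬ p ∣ Nat.card (pPrimeCore p C) := by
    intro h
    have := Nat.Coprime.eq_one_of_dvd hcop.symm h
    exact hp.one_lt.ne' this
  have hb₀ := Cfsg.Agent.S0939.result p M hM ⟨k, hk⟩
  have hyK : y ∈ pPrimeCore p C := mem_of_regular_of_index _ hk hy
  have hχK : ∀ χ ∈ Finset.univ.filter (fun χ : IrrCharacter C => χ ∈ principalBlock M C),
      ∀ n ∈ pPrimeCore p C, (χ : C → ℂ) n = (χ : C → ℂ) 1 := by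
    intro χ hχ n hn
    have h1 := (Finset.mem_filter.mp hχ).2
    rw [hb₀] at h1
    exact h1 n hn
  set e := blockCoeff (principalBlock M C) with he
  have hC0 : (Nat.card C : ℂ) ≠ 0 := Nat.cast_ne_zero.mpr Nat.card_pos.ne'
  have hK0 : (Nat.card (pPrimeCore p C) : ℂ) ≠ 0 := Nat.cast_ne_zero.mpr Nat.card_pos.ne'
  have he1 : ∀ n ∈ pPrimeCore p C, e n = e 1 := by
    intro n hn
    rw [he, blockCoeff_eq_sum, blockCoeff_eq_sum]
    congr 1
    refine Finset.sum_congr rfl fun χ hχ => ?_
    rw [hχK χ hχ n hn]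
  have he0 : ∀ c : C, c ∉ pPrimeCore p C → e c = 0 := by
    intro c hc
    have hsing : p ∣ orderOf c := by
      by_contra h
      exact hc (mem_of_regular_of_index _ hk h)
    exact blockCoeff_eq_zero_of_singular hM (oneIrr C) hsing
  have hidem := congrFun (blockCoeff_conv_self (principalBlock M C)) 1
  unfold conv at hidem
  have h2 : ∑ x : C, e x * e (x⁻¹ * 1) =
      (Nat.card (pPrimeCore p C) : ℂ) * (e 1 * e 1) := by
    have h3 : ∀ x : C, e x * e (x⁻¹ * 1) =
        if x ∈ pPrimeCore p C then e 1 * e 1 else 0 := by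
      intro x
      by_cases hx : x ∈ pPrimeCore p C
      · rw [if_pos hx, mul_one, he1 x hx, he1 x⁻¹ ((pPrimeCore p C).inv_mem hx)]
      · rw [if_neg hx, he0 x hx, zero_mul]
    rw [Finset.sum_congr rfl fun x _ => h3 x, Finset.sum_ite, Finset.sum_const_zero, add_zero,
      Finset.sum_const, nsmul_eq_mul]
    congr 2
    rw [Nat.card_eq_fintype_card, Fintype.card_subtype]
  rw [← he, h2] at hidem
  have he1ne : e 1 ≠ 0 := by
    intro h0
    have hzero : e = 0 := by
      funext c
      by_cases hc : c ∈ pPrimeCore p C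
      · rw [he1 c hc, h0]; rfl
      · exact he0 c hc
    have h4 := omega_blockCoeff (principalBlock M C) (oneIrr C)
    rw [if_pos (oneIrr_mem_principalBlock hMp), ← he, hzero] at h4
    unfold omega at h4
    simp at h4
  have he1eq : e 1 = (Nat.card (pPrimeCore p C) : ℂ)⁻¹ := by
    have h5 : (Nat.card (pPrimeCore p C) : ℂ) * e 1 = 1 := by
      have h6 : ((Nat.card (pPrimeCore p C) : ℂ) * e 1) * e 1 = 1 * e 1 := by
        rw [one_mul, mul_assoc]
        exact hidem
      exact mul_right_cancel₀ he1ne h6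
    exact eq_inv_of_mul_eq_one_right h5
  have h7 : ∑ χ ∈ Finset.univ.filter (fun χ : IrrCharacter C => χ ∈ principalBlock M C),
      (χ : C → ℂ) y * conj ((χ : C → ℂ) y) = (Nat.card C : ℂ) * e 1 := by
    rw [he, blockCoeff_eq_sum, ← mul_assoc, mul_inv_cancel₀ hC0, one_mul]
    refine Finset.sum_congr rfl fun χ hχ => ?_
    rw [hχK χ hχ y hyK]
  rw [h7, he1eq]
  have hcard : Nat.card C = Nat.card (pPrimeCore p C) * p ^ k := by
    rw [← hk]
    exact (Subgroup.card_mul_index _).symm
  have hfac : (Nat.card C).factorization p = k := by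
    rw [hcard, Nat.factorization_mul Nat.card_pos.ne' (pow_ne_zero k hp.ne_zero),
      Finsupp.add_apply, Nat.factorization_eq_zero_of_not_dvd hpK, zero_add,
      Nat.Prime.factorization_pow hp, Finsupp.single_eq_same]
  rw [hfac, hcard]
  push_cast
  field_simp

end Cfsg.Agent.Lib.Helper77
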