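import Cfsg.Agent.Lib.Helper77.InducedOmega
import Cfsg.Agent.Lib.Helper77.InducedBlock2
import Cfsg.Agent.Lib.Helper81.OneIrr
import Cfsg.Agent.Lib.Helper25.Ind
import Cfsg.Agent.Lib.Helper3.Induced
import Cfsg.Agent.Lib.Helper3.CharOps
import Cfsg.Agent.S0952

set_option autoImplicit false

universe u

namespace Cfsg.Agent.Lib.Helper77

open Cfsg
open Cfsg.Agent.Lib.Helper81
open Cfsg.Agent.Lib.Helper80
open scoped ComplexConjugate

variable {G : Type u} [Group G]

open Classical in
/-- The indicator function of the `p`-regular elements. -/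
noncomputable def regInd (p : ℕ) : G → ℂ := fun g => if p ∣ orderOf g then 0 else 1

theorem orderOf_conj_eq (g h : G) : orderOf (h * g * h⁻¹) = orderOf g := by
  have : h * g * h⁻¹ = MulAut.conj h g := rfl
  rw [this, MulEquiv.orderOf_eq]

theorem regInd_isClassFunction (p : ℕ) : IsClassFunction G (regInd p) := by
  intro g h
  unfold regInd
  rw [orderOf_conj_eq]

theorem regInd_ZS {M : Ideal AlgInt} (hM : M.IsPrime) (p : ℕ) : ZS M (regInd p : G → ℂ) := by
  refine ⟨regInd_isClassFunction p, fun g => ?_⟩
  unfold regInd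
  split_ifs
  · exact memLocalRing_zero hM
  · exact memLocalRing_one hM

theorem regInd_coe (p : ℕ) (H : Subgroup G) (h : H) : regInd p (h : G) = regInd p h := by
  unfold regInd
  rw [Subgroup.orderOf_coe]

theorem conj_regInd (p : ℕ) (g : G) : conj (regInd p g) = regInd p g := by
  unfold regInd
  split_ifs <;> simp

open Classical in
/-- The number of `p`-regular elements. -/
noncomputable def regCount (p : ℕ) (G : Type u) [Group G] [Fintype G] : ℕ :=
  (Finset.univ.filter (fun g : G => ¬ p ∣ orderOf g)).card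

variable [Fintype G]

theorem sum_regInd (p : ℕ) : ∑ g : G, regInd p g = (regCount p G : ℂ) := by
  classical
  have h : (regInd p : G → ℂ) = fun g => if ¬ p ∣ orderOf g then (1 : ℂ) else 0 := by
    funext g
    unfold regInd
    split_ifs <;> rfl
  rw [h, Finset.sum_boole]
  rfl

/-- Outside the principal block the central character vanishes on the sum of the `p`-regular
elements. -/
theorem omega_regInd_of_not_mem {p : ℕ} [Fact p.Prime] {M : Ideal AlgInt} (hpM : IsPModular p M)
    (χ : IrrCharacter G) (h : χ ∉ principalBlock M G) : omega (χ : G → ℂ) (regInd p) = 0 := by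
  classical
  have := Fintype.ofFinite (IrrCharacter G)
  have hns : ¬ SameBlock M (χ : G → ℂ) ((oneIrr G : IrrCharacter G) : G → ℂ) :=
    fun hs => h (sameBlock_symm hs)
  have h0 := Cfsg.Agent.S0952.orth_regular p M hpM χ (oneIrr G) hns
  unfold omega
  have : ∑ g : G, regInd p g * (χ : G → ℂ) g = 0 := by
    rw [← h0, Finset.sum_filter]
    refine Finset.sum_congr rfl fun g _ => ?_
    unfold regInd
    by_cases hg : p ∣ orderOf g
    · rw [if_pos hg, if_neg (not_not.mpr hg), zero_mul]
    · rw [if_neg hg, if_pos hg, one_mul, oneIrr_apply, map_one, mul_one]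
  rw [this, zero_div]

/-- On the principal block the central character at the sum of the `p`-regular elements is
congruent to their number. -/
theorem memLocalIdeal_omega_regInd_sub {M : Ideal AlgInt} (hM : M.IsPrime) (p : ℕ)
    (χ : IrrCharacter G) (h : χ ∈ principalBlock M G) :
    MemLocalIdeal M (omega (χ : G → ℂ) (regInd p) - (regCount p G : ℂ)) := by
  have h1 := memLocalIdeal_omega_sub hM (isClassFunction_of_isCharacter χ.2)
    (isClassFunction_of_isCharacter (oneIrr G).2) (sameBlock_symm h) (regInd_ZS hM p).1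
    (regInd_ZS (G := G) hM p).2
  have h2 : omega ((oneIrr G : IrrCharacter G) : G → ℂ) (regInd p) = (regCount p G : ℂ) := by
    unfold omega
    simp only [oneIrr_apply, mul_one, div_one]
    exact sum_regInd p
  rwa [h2] at h1

omit [Fintype G] in
theorem regInd_eq_zero_of_mem_sylow {p : ℕ} [Fact p.Prime] (P : Sylow p G)
    (u : (P : Subgroup G)) (hu : u ≠ 1) : regInd p (u : G) = 0 := by
  unfold regInd
  rw [if_pos]
  obtain ⟨k, hk⟩ := (IsPGroup.iff_orderOf.mp P.2) u
  rw [Subgroup.orderOf_coe, hk]
  cases k with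
  | zero =>
    exfalso
    apply hu
    rw [pow_zero] at hk
    exact orderOf_eq_one_iff.mp hk
  | succ k => exact dvd_pow_self p (Nat.succ_ne_zero k)

/-- The number of `p`-regular elements of a finite group is not divisible by `p`. -/
theorem not_dvd_regCount {p : ℕ} [Fact p.Prime] {M : Ideal AlgInt} (hpM : IsPModular p M) :
    ¬ p ∣ regCount p G := by
  classical
  intro hdvd
  have hM : M.IsPrime := isPrime_of_isPModular hpM
  have := Fintype.ofFinite (IrrCharacter G)
  obtain P : Sylow p G := default
  have := Fintype.ofFinite (P : Subgroup G)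
  have hΘchar : IsCharacter G (indFun (P : Subgroup G) (fun _ : (P : Subgroup G) => (1 : ℂ))) :=
    Cfsg.Agent.Lib.Helper3.isCharacter_indFun _
      (Cfsg.Agent.Lib.Helper3.IsIrrCharacter.isCharacter isIrrCharacter_one)
  obtain ⟨a, -, hsum⟩ := Cfsg.Agent.Lib.Helper3.IsCharacter.exists_mult hΘchar
  have hfrob := Cfsg.Agent.Lib.Helper25.frobenius_reciprocity (P : Subgroup G)
    (fun _ : (P : Subgroup G) => (1 : ℂ)) (regInd p) (regInd_isClassFunction p)
  have hG : (Nat.card G : ℂ) ≠ 0 := Nat.cast_ne_zero.mpr Nat.card_pos.ne'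
  have hPc : (Nat.card (P : Subgroup G) : ℂ) ≠ 0 := Nat.cast_ne_zero.mpr Nat.card_pos.ne'
  have hR : classInner (fun _ : (P : Subgroup G) => (1 : ℂ))
      (fun h : (P : Subgroup G) => regInd p (h : G)) = (Nat.card (P : Subgroup G) : ℂ)⁻¹ := by
    unfold classInner
    rw [Finset.sum_eq_single (1 : (P : Subgroup G))]
    · have h1 : regInd p (((1 : (P : Subgroup G)) : G)) = 1 := by
        unfold regInd
        rw [if_neg]
        rw [OneMemClass.coe_one, orderOf_one]
        intro hp1
        exact (Fact.out : p.Prime).one_lt.ne' (Nat.dvd_one.mp hp1)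
      show (Nat.card (P : Subgroup G) : ℂ)⁻¹ * (1 * conj (regInd p ((1 : (P : Subgroup G)) : G))) = _
      rw [h1, map_one, mul_one, mul_one]
    · intro u _ hu
      show (1 : ℂ) * conj (regInd p (u : G)) = 0
      rw [regInd_eq_zero_of_mem_sylow P u hu, map_zero, mul_zero]
    · intro h
      exact absurd (Finset.mem_univ _) h
  have hL : classInner (indFun (P : Subgroup G) (fun _ : (P : Subgroup G) => (1 : ℂ))) (regInd p) =
      (Nat.card G : ℂ)⁻¹ * ∑ ψ : IrrCharacter G,
        (a ψ : ℂ) * ((ψ : G → ℂ) 1 * omega (ψ : G → ℂ) (regInd p)) := by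
    unfold classInner
    congr 1
    have h1 : ∀ g : G, indFun (P : Subgroup G) (fun _ : (P : Subgroup G) => (1 : ℂ)) g *
        conj (regInd p g) = ∑ ψ : IrrCharacter G, (a ψ : ℂ) * ((ψ : G → ℂ) g * regInd p g) := by
      intro g
      rw [conj_regInd]
      conv_lhs => rw [hsum]
      rw [Finset.sum_apply, Finset.sum_mul]
      refine Finset.sum_congr rfl fun ψ _ => ?_
      rw [Pi.smul_apply, smul_eq_mul, mul_assoc]
    rw [Finset.sum_congr rfl (fun g _ => h1 g), Finset.sum_comm]
    refine Finset.sum_congr rfl fun ψ _ => ?_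
    rw [← Finset.mul_sum]
    congr 1
    unfold omega
    rw [mul_div_cancel₀ _ (irr_one_ne_zero ψ.2)]
    refine Finset.sum_congr rfl fun g _ => ?_
    ring
  rw [hL, hR] at hfrob
  -- the sum lies in the local ideal
  have hc : MemLocalIdeal M ((regCount p G : ℕ) : ℂ) := (memLocalIdeal_natCast_iff hpM _).mpr hdvd
  have hsumI : MemLocalIdeal M (∑ ψ : IrrCharacter G,
      (a ψ : ℂ) * ((ψ : G → ℂ) 1 * omega (ψ : G → ℂ) (regInd p))) := by
    refine memLocalIdeal_sum hM _ _ fun ψ _ => ?_
    obtain ⟨n, -, hn⟩ := irr_one_eq_natCast ψ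
    refine memLocalIdeal_mul_left hM (memLocalRing_natCast hM _) ?_
    rw [hn]
    refine memLocalIdeal_mul_left hM (memLocalRing_natCast hM _) ?_
    by_cases hψ : ψ ∈ principalBlock M G
    · have h2 := memLocalIdeal_omega_regInd_sub hM p ψ hψ
      have := memLocalIdeal_add hM h2 hc
      rwa [sub_add_cancel] at this
    · rw [omega_regInd_of_not_mem hpM ψ hψ]
      exact memLocalIdeal_zero hM
  have hidx : (∑ ψ : IrrCharacter G,
      (a ψ : ℂ) * ((ψ : G → ℂ) 1 * omega (ψ : G → ℂ) (regInd p))) =
      ((P : Subgroup G).index : ℂ) := by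
    have h3 : (Nat.card G : ℂ) = (Nat.card (P : Subgroup G) : ℂ) * ((P : Subgroup G).index : ℂ) := by
      rw [← Nat.cast_mul, Subgroup.card_mul_index]
    have h4 := congrArg (fun z => (Nat.card G : ℂ) * z) hfrob
    simp only [mul_inv_cancel_left₀ hG] at h4
    rw [h4, h3]
    field_simp
  rw [hidx] at hsumI
  have := (memLocalIdeal_natCast_iff hpM _).mp hsumI
  exact P.not_dvd_index this

/-- Key comparison: two irreducible characters (of possibly different groups) whose central
characters agree modulo the local ideal on the sums of the `p`-regular elements lie both in the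
principal block or both outside. -/
theorem mem_principalBlock_iff_of_cong {K : Type u} [Group K] [Fintype K] {p : ℕ} [Fact p.Prime]
    {M : Ideal AlgInt} (hpM : IsPModular p M) (ξ : IrrCharacter K) (χ : IrrCharacter G)
    (h : MemLocalIdeal M (omega (ξ : K → ℂ) (regInd p) - omega (χ : G → ℂ) (regInd p))) :
    ξ ∈ principalBlock M K ↔ χ ∈ principalBlock M G := by
  have hM : M.IsPrime := isPrime_of_isPModular hpM
  constructor
  · intro hξ
    by_contra hχ
    rw [omega_regInd_of_not_mem hpM χ hχ, sub_zero] at h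
    have h2 := memLocalIdeal_omega_regInd_sub hM p ξ hξ
    have h3 := memLocalIdeal_sub hM h h2
    rw [sub_sub_cancel] at h3
    exact not_dvd_regCount hpM ((memLocalIdeal_natCast_iff hpM _).mp h3)
  · intro hχ
    by_contra hξ
    rw [omega_regInd_of_not_mem hpM ξ hξ, zero_sub] at h
    have h2 := memLocalIdeal_omega_regInd_sub hM p χ hχ
    have h3 := memLocalIdeal_add hM h h2
    rw [sub_eq_add_neg, neg_add_cancel_left] at h3
    have h4 := memLocalIdeal_neg h3
    rw [neg_neg] at h4
    exact not_dvd_regCount hpM ((memLocalIdeal_natCast_iff hpM _).mp h4)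

omit [Fintype G] in
theorem eq_principalBlock_iff {M : Ideal AlgInt} (hM : M.IsPrime) (χ₀ : IrrCharacter G) :
    blockOf M (χ₀ : G → ℂ) = principalBlock M G ↔ χ₀ ∈ principalBlock M G := by
  constructor
  · intro h
    rw [← h]
    exact sameBlock_refl hM _
  · intro h
    exact blockOf_eq_of_mem (χ₀ := oneIrr G) hM h

/-- **Brauer's Third Main Theorem.** -/
theorem third_main {p : ℕ} [Fact p.Prime] {M : Ideal AlgInt} (hpM : IsPModular p M)
    {H : Subgroup G} [Fintype H] {b : Set (IrrCharacter H)} {B : Set (IrrCharacter G)}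
    (hind : IsInducedBlock M H b B) : B = principalBlock M G ↔ b = principalBlock M H := by
  have hM : M.IsPrime := isPrime_of_isPModular hpM
  obtain ⟨ξ₀, hb⟩ := hind.1
  obtain ⟨χ₀, hB⟩ := hind.2.1
  have hξ₀ : ξ₀ ∈ b := by rw [hb]; exact sameBlock_refl hM _
  have hχ₀ : χ₀ ∈ B := by rw [hB]; exact sameBlock_refl hM _
  have k := memLocalIdeal_omega_restrict_sub hM H hind hξ₀ hχ₀ (regInd_ZS hM p)
  have hres : (fun h : H => regInd p (h : G)) = regInd p := funext (regInd_coe p H)
  rw [hres] at k
  have key := mem_principalBlock_iff_of_cong hpM ξ₀ χ₀ k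
  rw [hb, hB, eq_principalBlock_iff hM, eq_principalBlock_iff hM]
  exact key.symm

end Cfsg.Agent.Lib.Helper77
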