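import Cfsg.Agent.Lib.Helper77.BrauerMap

set_option autoImplicit false

universe u

namespace Cfsg.Agent.Lib.Helper77

open Cfsg
open Cfsg.Agent.Lib.Helper81
open Cfsg.Agent.Lib.Helper80

variable {G : Type u} [Group G]

/-- The Brauer map followed by a central character of `H` is a ring homomorphism modulo the local
ideal. -/
theorem brauer_modHom {p : ℕ} [Fact p.Prime] {M : Ideal AlgInt}
    (hpM : IsPModular p M) (P H : Subgroup G) [Fintype G] [Fintype H] (hP : IsPGroup p P)
    (hCH : Subgroup.centralizer (P : Set G) ≤ H)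
    (hHN : H ≤ Subgroup.normalizer (P : Set G)) (ξ₀ : IrrCharacter H) :
    ModHom M (fun a : G → ℂ => omega (ξ₀ : H → ℂ) (brRes P H a)) := by
  have hM : M.IsPrime := isPrime_of_isPModular hpM
  refine ⟨?_, ?_, ?_, ?_, ?_⟩
  · intro a b
    show omega _ (brRes P H (a + b)) = _
    rw [brRes_add, omega_add]
  · intro s a
    show omega _ (brRes P H (fun g => s * a g)) = _
    rw [brRes_smul, omega_smul]
  · intro a ha
    have := brRes_ZS hM P H hHN ha
    exact memLocalRing_omega hM ξ₀.2 this.1 this.2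
  · intro a b ha hb
    have hA := brRes_ZS hM P H hHN ha
    have hB := brRes_ZS hM P H hHN hb
    have hAB := brRes_ZS hM P H hHN (ZS.conv hM ha hb)
    show MemLocalIdeal M (omega _ (brRes P H (conv a b)) - omega _ (brRes P H a) *
      omega _ (brRes P H b))
    rw [← omega_conv ξ₀.2 hA.1 hB.1, ← omega_sub]
    have hZ := ZS.sub hM hAB (ZS.conv hM hA hB)
    refine memLocalIdeal_omega_of_forall hM ξ₀.2 hZ.1 hZ.2 fun h => Or.inl ?_
    exact memLocalIdeal_brRes_conv hpM P H hP hCH ha hb h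
  · show omega _ (brRes P H deltaOne) = 1
    rw [brRes_deltaOne, omega_deltaOne _ (irr_one_ne_zero ξ₀.2)]

/-- Existence of the induced block (Brauer correspondent) for `P C_G(P) ≤ H ≤ N_G(P)`. -/
theorem exists_isInducedBlock {p : ℕ} [Fact p.Prime] {M : Ideal AlgInt}
    (hpM : IsPModular p M) (P H : Subgroup G) [Fintype G] [Fintype H] (hP : IsPGroup p P)
    (hPH : P ≤ H) (hCH : Subgroup.centralizer (P : Set G) ≤ H)
    (hHN : H ≤ Subgroup.normalizer (P : Set G)) (ξ₀ : IrrCharacter H) :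
    ∃ χ₀ : IrrCharacter G, IsInducedBlock M H (blockOf M (ξ₀ : H → ℂ)) (blockOf M (χ₀ : G → ℂ)) := by
  have hM : M.IsPrime := isPrime_of_isPModular hpM
  obtain ⟨χ₀, hχ₀⟩ := (brauer_modHom hpM P H hP hCH hHN ξ₀).exists_irr hpM
  refine ⟨χ₀, ⟨ξ₀, rfl⟩, ⟨χ₀, rfl⟩, ?_⟩
  intro ξ hξ χ hχ g
  -- induced ≡ brauer
  have h1 := memLocalIdeal_induced_sub_brauer hpM P H hP hPH hHN ξ.2 g (M := M)
  -- brauer ξ ≡ brauer ξ₀
  have hbr := brRes_ZS hM P H hHN (ZS.classInd hM g)
  have h2 : MemLocalIdeal M (brauerCentralChar P H (ξ : H → ℂ) g -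
      brauerCentralChar P H (ξ₀ : H → ℂ) g) := by
    rw [brauerCentralChar_eq_omega, brauerCentralChar_eq_omega, ← brRes_classInd]
    exact memLocalIdeal_omega_sub hM (isClassFunction_of_isCharacter ξ.2)
      (isClassFunction_of_isCharacter ξ₀.2) (sameBlock_symm hξ) hbr.1 hbr.2
  -- brauer ξ₀ ≡ central χ₀
  have h3 : MemLocalIdeal M (brauerCentralChar P H (ξ₀ : H → ℂ) g -
      centralChar (χ₀ : G → ℂ) g) := by
    have := hχ₀ (classInd g) (ZS.classInd hM g)
    rw [omega_classInd (isClassFunction_of_isCharacter χ₀.2)] at this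
    rw [brauerCentralChar_eq_omega, ← brRes_classInd]
    exact this
  -- central χ₀ ≡ central χ
  have h4 : MemLocalIdeal M (centralChar (χ₀ : G → ℂ) g - centralChar (χ : G → ℂ) g) := hχ g
  exact cong_trans hM h1 (cong_trans hM h2 (cong_trans hM h3 h4))

end Cfsg.Agent.Lib.Helper77
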