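import Cfsg.Agent.Lib.Helper77.Clifford
import Cfsg.Agent.Lib.Helper77.InducedBlock

set_option autoImplicit false

universe u

namespace Cfsg.Agent.Lib.Helper77

open Cfsg Representation
open Cfsg.Agent.Lib.Helper81
open Cfsg.Agent.Lib.Helper80

variable {G : Type u} [Group G]

theorem indClassFn_ZS {M : Ideal AlgInt} (hM : M.IsPrime) (H : Subgroup G) (g : G) :
    ZS M (indClassFn H g) := by
  refine ⟨indClassFn_isClassFunction H g, fun h => ?_⟩
  unfold indClassFn
  split_ifs
  · exact memLocalRing_one hM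
  · exact memLocalRing_zero hM

/-- For a normal subgroup `H`, a constituent `θ` of the restriction of `χ` has the same central
character values at classes inside `H`. -/
theorem inducedCentralChar_eq_of_mem [Fintype G] (H : Subgroup G) [H.Normal] [Fintype H]
    {χ : G → ℂ} (hχ : IsIrrCharacter G χ) {θ : H → ℂ} (hθ : IsIrrCharacter H θ)
    (hne : classInner (fun h : H => χ h) θ ≠ 0) {g : G} (hg : g ∈ H) :
    inducedCentralChar H θ g = centralChar χ g := by
  classical
  rw [inducedCentralChar_eq_omega, ← omega_classInd (isClassFunction_of_isCharacter hχ),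
    omega_eq_of_classInner_ne_zero H hχ hθ hne (classInd_isClassFunction g)]
  · rfl
  · intro x hx
    unfold classInd
    rw [if_neg]
    intro hc
    obtain ⟨c, hc⟩ := isConj_iff.mp hc
    exact hx (hc ▸ ‹H.Normal›.conj_mem g hg c)

/-- Outside a normal subgroup `H` the induced central character vanishes. -/
theorem inducedCentralChar_eq_zero_of_not_mem (H : Subgroup G) [H.Normal] [Fintype H]
    (θ : H → ℂ) {g : G} (hg : g ∉ H) : inducedCentralChar H θ g = 0 := by
  classical
  rw [inducedCentralChar_eq_omega]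
  have : indClassFn H g = 0 := by
    funext h
    unfold indClassFn
    rw [if_neg]
    · rfl
    · intro hc
      obtain ⟨c, hc⟩ := isConj_iff.mp hc.symm
      exact hg (hc ▸ ‹H.Normal›.conj_mem (h : G) h.2 c)
  rw [this, omega_zero]

/-- A block of `G` covering a block `b` of a normal subgroup `H` containing the centralizer of a
normal `p`-subgroup is induced from `b`. -/
theorem isInducedBlock_of_cover {p : ℕ} [Fact p.Prime] {M : Ideal AlgInt}
    (hpM : IsPModular p M) [Fintype G] (Q : Subgroup G) [Q.Normal] (hQ : IsPGroup p Q)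
    (H : Subgroup G) [H.Normal] [Fintype H] (hCH : Subgroup.centralizer (Q : Set G) ≤ H)
    (ξ₀ : IrrCharacter H) (χ₀ : IrrCharacter G) {χ : IrrCharacter G}
    (hχ : χ ∈ blockOf M (χ₀ : G → ℂ)) {θ : IrrCharacter H} (hθ : θ ∈ blockOf M (ξ₀ : H → ℂ))
    (hne : classInner (fun h : H => (χ : G → ℂ) h) (θ : H → ℂ) ≠ 0) :
    IsInducedBlock M H (blockOf M (ξ₀ : H → ℂ)) (blockOf M (χ₀ : G → ℂ)) := by
  have hM : M.IsPrime := isPrime_of_isPModular hpM
  refine ⟨⟨ξ₀, rfl⟩, ⟨χ₀, rfl⟩, ?_⟩
  intro ξ hξ χ' hχ' g
  -- induced ξ ≡ induced θ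
  have hZ := indClassFn_ZS hM H g
  have h1 : MemLocalIdeal M (inducedCentralChar H (ξ : H → ℂ) g -
      inducedCentralChar H (θ : H → ℂ) g) := by
    rw [inducedCentralChar_eq_omega, inducedCentralChar_eq_omega]
    exact memLocalIdeal_omega_sub hM (isClassFunction_of_isCharacter ξ.2)
      (isClassFunction_of_isCharacter θ.2)
      (sameBlock_trans hM (sameBlock_symm hξ) hθ) hZ.1 hZ.2
  -- induced θ ≡ central χ
  have h2 : MemLocalIdeal M (inducedCentralChar H (θ : H → ℂ) g -
      centralChar (χ : G → ℂ) g) := by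
    by_cases hg : g ∈ H
    · rw [inducedCentralChar_eq_of_mem H χ.2 θ.2 hne hg, sub_self]; exact memLocalIdeal_zero hM
    · rw [inducedCentralChar_eq_zero_of_not_mem H _ hg, zero_sub]
      refine memLocalIdeal_neg ?_
      exact memLocalIdeal_centralChar_of_not_mem_centralizer hpM Q hQ
        (fun hc => hg (hCH hc)) χ.2
  -- central χ ≡ central χ'
  have h3 : MemLocalIdeal M (centralChar (χ : G → ℂ) g - centralChar (χ' : G → ℂ) g) :=
    sameBlock_trans hM (sameBlock_symm hχ) hχ' g
  exact cong_trans hM h1 (cong_trans hM h2 h3)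

end Cfsg.Agent.Lib.Helper77
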