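import Cfsg.Agent.Lib.Helper77.Nilpotent2

set_option autoImplicit false

universe u

namespace Cfsg.Agent.Lib.Helper77

open Cfsg
open Cfsg.Agent.Lib.Helper81
open Cfsg.Agent.Lib.Helper80

section General

variable {G : Type u} [Group G] [Fintype G]

/-- If at every element either the coefficient or the central character lies in the local ideal,
then so does the central character value of the class function. -/
theorem memLocalIdeal_omega_of_forall {M : Ideal AlgInt} (hM : M.IsPrime) {χ : G → ℂ}
    (hχ : IsIrrCharacter G χ) {a : G → ℂ} (ha : IsClassFunction G a)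
    (haS : ∀ g, MemLocalRing M (a g))
    (h : ∀ g, MemLocalIdeal M (a g) ∨ MemLocalIdeal M (centralChar χ g)) :
    MemLocalIdeal M (omega χ a) := by
  classical
  rw [omega_eq_sum_conjClasses (isClassFunction_of_isCharacter hχ) ha]
  refine memLocalIdeal_sum hM _ _ fun c _ => ?_
  rcases h (Quotient.out c) with h1 | h1
  · exact memLocalIdeal_mul_right hM h1 (memLocalRing_centralChar hM hχ _)
  · exact memLocalIdeal_mul_left hM (haS _) h1

end General

variable {G : Type u} [Group G]

open Classical in
/-- The indicator on `H` of the `G`-class of `g`. -/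
noncomputable def indClassFn (H : Subgroup G) (g : G) : H → ℂ :=
  fun h => if IsConj g (h : G) then 1 else 0

open Classical in
/-- The indicator on `H` of the part of the `G`-class of `g` centralizing `P`. -/
noncomputable def brauerClassFn (P H : Subgroup G) (g : G) : H → ℂ :=
  fun h => if IsConj g (h : G) ∧ (h : G) ∈ Subgroup.centralizer (P : Set G) then 1 else 0

theorem indClassFn_isClassFunction (H : Subgroup G) (g : G) :
    IsClassFunction H (indClassFn H g) := by
  intro h k
  unfold indClassFn
  have : IsConj g ((k * h * k⁻¹ : H) : G) ↔ IsConj g (h : G) := by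
    push_cast
    exact isConj_conj_iff g (h : G) (k : G)
  by_cases hc : IsConj g (h : G)
  · rw [if_pos hc, if_pos (this.mpr hc)]
  · rw [if_neg hc, if_neg (fun h' => hc (this.mp h'))]

theorem conj_mem_centralizer_of_mem_normalizer {P : Subgroup G} {k h : G}
    (hk : k ∈ Subgroup.normalizer (P : Set G)) (hh : h ∈ Subgroup.centralizer (P : Set G)) :
    k * h * k⁻¹ ∈ Subgroup.centralizer (P : Set G) := by
  rw [Subgroup.mem_centralizer_iff] at hh ⊢
  intro x hx
  have hx' : k⁻¹ * x * k ∈ P := by
    have := (Subgroup.mem_normalizer_iff''.mp hk x).mp hx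
    exact this
  have := hh _ hx'
  calc x * (k * h * k⁻¹) = k * ((k⁻¹ * x * k) * h) * k⁻¹ := by group
    _ = k * (h * (k⁻¹ * x * k)) * k⁻¹ := by rw [this]
    _ = k * h * k⁻¹ * x := by group

theorem conj_mem_centralizer_iff {P : Subgroup G} {k h : G}
    (hk : k ∈ Subgroup.normalizer (P : Set G)) :
    k * h * k⁻¹ ∈ Subgroup.centralizer (P : Set G) ↔ h ∈ Subgroup.centralizer (P : Set G) := by
  constructor
  · intro hh
    have := conj_mem_centralizer_of_mem_normalizer (Subgroup.inv_mem _ hk) hh
    have e : k⁻¹ * (k * h * k⁻¹) * k⁻¹⁻¹ = h := by group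
    rwa [e] at this
  · exact conj_mem_centralizer_of_mem_normalizer hk

theorem brauerClassFn_isClassFunction (P H : Subgroup G)
    (hHN : H ≤ Subgroup.normalizer (P : Set G)) (g : G) :
    IsClassFunction H (brauerClassFn P H g) := by
  intro h k
  unfold brauerClassFn
  have h1 : IsConj g ((k * h * k⁻¹ : H) : G) ↔ IsConj g (h : G) := by
    push_cast
    exact isConj_conj_iff g (h : G) (k : G)
  have h2 : ((k * h * k⁻¹ : H) : G) ∈ Subgroup.centralizer (P : Set G) ↔
      (h : G) ∈ Subgroup.centralizer (P : Set G) := by
    push_cast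
    exact conj_mem_centralizer_iff (hHN k.2)
  by_cases hc : IsConj g (h : G) ∧ (h : G) ∈ Subgroup.centralizer (P : Set G)
  · rw [if_pos hc, if_pos ⟨h1.mpr hc.1, h2.mpr hc.2⟩]
  · rw [if_neg hc, if_neg (fun h' => hc ⟨h1.mp h'.1, h2.mp h'.2⟩)]

theorem inducedCentralChar_eq_omega (H : Subgroup G) [Fintype H] (ξ : H → ℂ) (g : G) :
    inducedCentralChar H ξ g = omega ξ (indClassFn H g) := by
  classical
  unfold inducedCentralChar omega indClassFn
  rw [finsum_eq_sum_of_fintype, Finset.sum_div]
  refine Finset.sum_congr rfl fun h _ => ?_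
  rw [finsum_eq_if]
  by_cases hc : IsConj g (h : G)
  · rw [if_pos (show h ∈ {h : H | IsConj g (h : G)} from hc), if_pos hc, one_mul]
  · rw [if_neg (show h ∉ {h : H | IsConj g (h : G)} from hc), if_neg hc, zero_mul, zero_div]

theorem brauerCentralChar_eq_omega (P H : Subgroup G) [Fintype H] (ξ : H → ℂ) (g : G) :
    brauerCentralChar P H ξ g = omega ξ (brauerClassFn P H g) := by
  classical
  unfold brauerCentralChar omega brauerClassFn
  rw [finsum_eq_sum_of_fintype, Finset.sum_div]
  refine Finset.sum_congr rfl fun h _ => ?_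
  rw [finsum_eq_if]
  by_cases hc : IsConj g (h : G) ∧ (h : G) ∈ Subgroup.centralizer (P : Set G)
  · rw [if_pos (show h ∈ {h : H | IsConj g (h : G) ∧
      (h : G) ∈ Subgroup.centralizer (P : Set G)} from hc), if_pos hc, one_mul]
  · rw [if_neg (show h ∉ {h : H | IsConj g (h : G) ∧
      (h : G) ∈ Subgroup.centralizer (P : Set G)} from hc), if_neg hc, zero_mul, zero_div]

/-- The induced central character and the Brauer central character agree modulo the local ideal
when `P ≤ H ≤ N_G(P)`. -/
theorem memLocalIdeal_induced_sub_brauer {p : ℕ} [Fact p.Prime] {M : Ideal AlgInt}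
    (hpM : IsPModular p M) (P H : Subgroup G) [Fintype H] (hP : IsPGroup p P) (hPH : P ≤ H)
    (hHN : H ≤ Subgroup.normalizer (P : Set G)) {ξ : H → ℂ} (hξ : IsIrrCharacter H ξ) (g : G) :
    MemLocalIdeal M (inducedCentralChar H ξ g - brauerCentralChar P H ξ g) := by
  classical
  have hM : M.IsPrime := isPrime_of_isPModular hpM
  rw [inducedCentralChar_eq_omega, brauerCentralChar_eq_omega, ← omega_sub]
  have hN : (P.subgroupOf H).Normal := Subgroup.normal_subgroupOf_of_le_normalizer hHN
  have hNp : IsPGroup p (P.subgroupOf H) := hP.comap_subtype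
  refine memLocalIdeal_omega_of_forall hM hξ ?_ ?_ ?_
  · intro h k
    show indClassFn H g _ - brauerClassFn P H g _ = indClassFn H g h - brauerClassFn P H g h
    rw [indClassFn_isClassFunction, brauerClassFn_isClassFunction P H hHN]
  · intro h
    show MemLocalRing M (indClassFn H g h - brauerClassFn P H g h)
    unfold indClassFn brauerClassFn
    refine memLocalRing_sub hM ?_ ?_ <;> split_ifs <;>
      first | exact memLocalRing_one hM | exact memLocalRing_zero hM
  · intro h
    by_cases hc : (h : G) ∈ Subgroup.centralizer (P : Set G)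
    · left
      show MemLocalIdeal M (indClassFn H g h - brauerClassFn P H g h)
      unfold indClassFn brauerClassFn
      by_cases hg : IsConj g (h : G)
      · rw [if_pos hg, if_pos ⟨hg, hc⟩, sub_self]; exact memLocalIdeal_zero hM
      · rw [if_neg hg, if_neg (fun h' => hg h'.1), sub_self]; exact memLocalIdeal_zero hM
    · right
      refine memLocalIdeal_centralChar_of_not_mem_centralizer hpM (P.subgroupOf H) hNp ?_ hξ
      intro hcon
      apply hc
      rw [Subgroup.mem_centralizer_iff] at hcon ⊢
      intro x hx
      have := hcon ⟨x, hPH hx⟩ (show (⟨x, hPH hx⟩ : H) ∈ P.subgroupOf H from hx)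
      exact congrArg Subtype.val this

end Cfsg.Agent.Lib.Helper77
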