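import Cfsg.Agent.Lib.Helper77.BrauerMap

set_option autoImplicit false

universe u

namespace Cfsg.Agent.Lib.Helper77

open Cfsg Representation
open Cfsg.Agent.Lib.Helper81
open Cfsg.Agent.Lib.Helper80
open scoped ComplexConjugate

variable {G : Type u} [Group G]

/-- Translation formula: a class-function-weighted sum of translates of an irreducible character
is the central character value times the character. -/
theorem sum_mul_char_mul [Fintype G] {χ : G → ℂ} (hχ : IsIrrCharacter G χ) {a : G → ℂ}
    (ha : IsClassFunction G a) (x : G) :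
    ∑ y : G, a y * χ (y * x) = omega χ a * χ x := by
  obtain ⟨n, ρ, hirr, rfl⟩ := hχ
  have := hirr
  have h := sum_classFun_smul ρ a ha
  have h2 := congrArg (fun T : Module.End ℂ (Fin n → ℂ) =>
    LinearMap.trace ℂ (Fin n → ℂ) (T * ρ x)) h
  simp only [Finset.sum_mul, map_sum] at h2
  have h3 : ∀ y : G, LinearMap.trace ℂ (Fin n → ℂ) ((a y • ρ y) * ρ x) =
      a y * ρ.character (y * x) := by
    intro y
    rw [smul_mul_assoc, map_smul, smul_eq_mul, ← map_mul]
    rfl
  rw [Finset.sum_congr rfl (fun y _ => h3 y), smul_mul_assoc, map_smul, smul_eq_mul] at h2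
  have h4 : (LinearMap.id : Module.End ℂ (Fin n → ℂ)) * ρ x = ρ x := one_mul _
  rw [h4] at h2
  rw [h2]
  unfold omega
  rw [char_one]
  rfl

/-- **Clifford-type lemma.** If `θ` is a constituent of the restriction of `χ` to `H`, then the
central character of `χ` at a class function of `G` supported on `H` equals the central character
of `θ` at its restriction. -/
theorem omega_eq_of_classInner_ne_zero [Fintype G] (H : Subgroup G) [Fintype H]
    {χ : G → ℂ} (hχ : IsIrrCharacter G χ) {θ : H → ℂ} (hθ : IsIrrCharacter H θ)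
    (hne : classInner (fun h : H => χ h) θ ≠ 0) {a : G → ℂ} (ha : IsClassFunction G a)
    (haH : ∀ g, g ∉ H → a g = 0) :
    omega χ a = omega θ (fun h : H => a h) := by
  classical
  have ha' : IsClassFunction H (fun h : H => a h) := by
    intro h k
    show a ((k * h * k⁻¹ : H) : G) = a h
    push_cast
    exact ha _ _
  have hθc : IsClassFunction H θ := isClassFunction_of_isCharacter hθ
  have hθinv : ∀ z : H, conj (θ z) = θ z⁻¹ := fun z =>
    (Cfsg.Agent.Lib.Helper3.IsCharacter.inv
      (Cfsg.Agent.Lib.Helper3.IsIrrCharacter.isCharacter hθ) z).symm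
  have hsum : ∑ z : H, χ z * conj (θ z) ≠ 0 := by
    intro h0
    apply hne
    unfold classInner
    rw [h0, mul_zero]
  -- first evaluation
  have hA : ∑ x : H, (∑ y : H, a y * χ ((y : G) * x)) * conj (θ x) =
      omega χ a * ∑ z : H, χ z * conj (θ z) := by
    rw [Finset.mul_sum]
    refine Finset.sum_congr rfl fun x _ => ?_
    have : ∑ y : H, a y * χ ((y : G) * x) = ∑ y : G, a y * χ (y * x) :=
      sum_subgroup_eq (H := H) (fun y => a y * χ (y * x)) (fun y hy => by
        show a y * χ (y * x) = 0
        rw [haH y hy, zero_mul])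
    rw [this, sum_mul_char_mul hχ ha, mul_assoc]
  -- second evaluation
  have hB : ∑ x : H, (∑ y : H, a y * χ ((y : G) * x)) * conj (θ x) =
      omega θ (fun h : H => a h) * ∑ z : H, χ z * conj (θ z) := by
    have h1 : ∑ x : H, (∑ y : H, a y * χ ((y : G) * x)) * conj (θ x) =
        ∑ y : H, ∑ x : H, a y * χ ((y : G) * x) * conj (θ x) := by
      rw [Finset.sum_comm]
      refine Finset.sum_congr rfl fun x _ => ?_
      rw [Finset.sum_mul]
    have h2 : ∀ y : H, ∑ x : H, a y * χ ((y : G) * x) * conj (θ x) =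
        ∑ z : H, a y * χ z * conj (θ (y⁻¹ * z)) := by
      intro y
      refine Fintype.sum_equiv (Equiv.mulLeft y) _ _ ?_
      intro x
      show a y * χ ((y : G) * x) * conj (θ x) = a y * χ ((y * x : H) : G) * conj (θ (y⁻¹ * (y * x)))
      rw [inv_mul_cancel_left]
      push_cast
      rfl
    rw [h1, Finset.sum_congr rfl (fun y _ => h2 y), Finset.sum_comm, Finset.mul_sum]
    refine Finset.sum_congr rfl fun z _ => ?_
    have h3 : ∀ y : H, a y * χ z * conj (θ (y⁻¹ * z)) = χ z * (a y * θ (y * z⁻¹)) := by
      intro y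
      rw [hθinv]
      have e : (y⁻¹ * z)⁻¹ = z⁻¹ * (y * z⁻¹) * z⁻¹⁻¹ := by group
      rw [e, hθc]
      ring
    rw [Finset.sum_congr rfl (fun y _ => h3 y), ← Finset.mul_sum,
      sum_mul_char_mul hθ ha' z⁻¹, ← hθinv]
    ring
  have := hA.symm.trans hB
  exact mul_right_cancel₀ hsum this

end Cfsg.Agent.Lib.Helper77
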