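import Cfsg.Agent.Lib.Helper77.InducedBlock
import Cfsg.Agent.Lib.Helper77.InducedBlock2
import Cfsg.Prelude.Def_BrauerPairs

set_option autoImplicit false

universe u

namespace Cfsg.Agent.Lib.Helper77

open Cfsg
open Cfsg.Agent.Lib.Helper81
open Cfsg.Agent.Lib.Helper80

variable {G : Type u} [Group G]

/-- The Brauer-map central character of the frozen vocabulary, in terms of `omega` and `brRes`. -/
theorem brauerOmega_eq_omega (P : Subgroup G) [Fintype (Subgroup.centralizer (P : Set G))]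
    (β : G → ℂ) (ξ : Subgroup.centralizer (P : Set G) → ℂ) :
    brauerOmega P β ξ = omega ξ (brRes P (Subgroup.centralizer (P : Set G)) β) := by
  unfold brauerOmega omega
  rw [finsum_eq_sum_of_fintype, Finset.sum_div]
  refine Finset.sum_congr rfl fun x _ => ?_
  rw [brRes_pos _ x.2]

/-- Every Brauer pair belongs to a block: the block is determined by a central character. -/
theorem exists_irr_of_isBrauerPair [Fintype G] {p : ℕ} [Fact p.Prime] {M : Ideal AlgInt}
    (hpM : IsPModular p M) {P : Subgroup G} (hP : IsPGroup p P)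
    [Fintype (Subgroup.centralizer (P : Set G))]
    (ξ₀ : IrrCharacter (Subgroup.centralizer (P : Set G))) :
    ∃ χ : IrrCharacter G, ∀ a : G → ℂ, ZS M a →
      ∀ ξ : IrrCharacter (Subgroup.centralizer (P : Set G)),
      ξ ∈ blockOf M (ξ₀ : Subgroup.centralizer (P : Set G) → ℂ) →
      MemLocalIdeal M (brauerOmega P a (ξ : Subgroup.centralizer (P : Set G) → ℂ) -
        omega (χ : G → ℂ) a) := by
  have hM : M.IsPrime := isPrime_of_isPModular hpM
  have hmod := brauer_modHom hpM P (Subgroup.centralizer (P : Set G)) hP le_rfl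
    (Subgroup.centralizer_le_normalizer _) ξ₀
  obtain ⟨χ, hχ⟩ := hmod.exists_irr hpM
  refine ⟨χ, fun a ha ξ hξ => ?_⟩
  rw [brauerOmega_eq_omega]
  have hbr := brRes_ZS hM P (Subgroup.centralizer (P : Set G))
    (Subgroup.centralizer_le_normalizer _) ha
  have h1 := memLocalIdeal_omega_sub hM (isClassFunction_of_isCharacter ξ.2)
    (isClassFunction_of_isCharacter ξ₀.2) (sameBlock_symm hξ) hbr.1 hbr.2
  exact cong_trans hM h1 (hχ a ha)

/-- Every Brauer pair is a Brauer pair of exactly one block. -/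
theorem existsUnique_isBrauerPairOf [Fintype G] {p : ℕ} [Fact p.Prime] {M : Ideal AlgInt}
    (hpM : IsPModular p M) {P : Subgroup G}
    {e : Set (IrrCharacter (Subgroup.centralizer (P : Set G)))} (hPe : IsBrauerPair p M P e) :
    ∃! B : Set (IrrCharacter G), IsBrauerPairOf p M B P e := by
  classical
  have hM : M.IsPrime := isPrime_of_isPModular hpM
  have := Fintype.ofFinite (Subgroup.centralizer (P : Set G))
  obtain ⟨hPp, ξ₀, he⟩ := hPe
  obtain ⟨χ, hχ⟩ := exists_irr_of_isBrauerPair hpM hPp ξ₀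
  have hξ₀ : ξ₀ ∈ blockOf M (ξ₀ : Subgroup.centralizer (P : Set G) → ℂ) := sameBlock_refl hM _
  refine ⟨blockOf M (χ : G → ℂ), ⟨⟨hPp, ξ₀, he⟩, ⟨χ, rfl⟩, ?_⟩, ?_⟩
  · intro ξ hξ
    rw [he] at hξ
    have h1 := hχ _ (ZS.blockCoeff hpM χ) ξ hξ
    rw [omega_blockCoeff, if_pos (show χ ∈ blockOf M (χ : G → ℂ) from sameBlock_refl hM _)] at h1
    exact h1
  · rintro B' ⟨-, ⟨χ', hB'⟩, hcong⟩
    have h1 := hχ _ (ZS.blockCoeff hpM χ') ξ₀ hξ₀
    have h2 := hcong ξ₀ (by rw [he]; exact hξ₀)
    rw [hB'] at h2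
    rw [omega_blockCoeff] at h1
    by_cases hc : χ ∈ blockOf M (χ' : G → ℂ)
    · rw [hB']
      exact (blockOf_eq_of_mem hM hc).symm
    · exfalso
      rw [if_neg hc, sub_zero] at h1
      have h3 := memLocalIdeal_sub hM h1 h2
      rw [sub_sub_cancel] at h3
      exact not_memLocalIdeal_one hM h3

end Cfsg.Agent.Lib.Helper77
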