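import Mathlib
import Cfsg.Agent.Lib.Helper6.Nc.Defs

/-!
# Nc hive (S3894), leaf NC-B2C: a monomial matrix of determinant one fixes a line
-/

set_option autoImplicit false

namespace Cfsg.Agent.Lib.Helper6.Nc

open Matrix

variable {F : Type*} [Field F]

/-- NC-B2C.  Diagonal: fixes `(1,0)`.  Antidiagonal `[[0,x],[y,0]]`, `-xy = 1`: fixes `(x, i)`. -/
theorem mono_hasFix (i : F) (hi : i * i = -1) (m : GL (Fin 2) F) (hm : IsMono m)
    (hdet : (m : Matrix (Fin 2) (Fin 2) F).det = 1) : HasFix m := by
  have hi0 : i ≠ 0 := by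
    intro h
    rw [h, mul_zero] at hi
    exact one_ne_zero (neg_eq_zero.mp hi.symm)
  rw [Matrix.det_fin_two] at hdet
  rcases hm with ⟨h01, h10⟩ | ⟨h00, h11⟩
  · -- diagonal
    rw [h01, zero_mul, sub_zero] at hdet
    have h00 : (m : Matrix (Fin 2) (Fin 2) F) 0 0 ≠ 0 := by
      intro h
      rw [h, zero_mul] at hdet
      exact zero_ne_one hdet
    refine ⟨![1, 0], ?_, ?_⟩
    · intro h
      have := congrFun h 0
      simp at this
    · rw [mem_lineStab]
      refine ⟨Units.mk0 _ h00, ?_⟩
      ext k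
      fin_cases k
      · simp [Matrix.mulVec, dotProduct, Fin.sum_univ_two]
      · simp [Matrix.mulVec, dotProduct, Fin.sum_univ_two, h10]
  · -- antidiagonal
    rw [h00, h11, zero_mul, zero_sub] at hdet
    refine ⟨![(m : Matrix (Fin 2) (Fin 2) F) 0 1, i], ?_, ?_⟩
    · intro h
      have := congrFun h 1
      simp at this
      exact hi0 this
    · rw [mem_lineStab]
      refine ⟨Units.mk0 i hi0, ?_⟩
      ext k
      fin_cases k
      · simp [Matrix.mulVec, dotProduct, Fin.sum_univ_two, h00]
        ring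
      · simp [Matrix.mulVec, dotProduct, Fin.sum_univ_two, h11]
        rw [hi]
        linear_combination -hdet

end Cfsg.Agent.Lib.Helper6.Nc
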