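/-
D3 hive (S2183, architect helper12), leaf D3-SQRT `sqrt_fix` (Mathlib only): in a finite field of characteristic 2 with
a ring endomorphism `φ`, for `φ`-fixed `e`, `n ≠ 0` there is a `φ`-fixed `lam` with `lam ^ 2 * n = e`
(squaring is injective, hence bijective; `lam = sqrt (e / n)`; `(φ lam) ^ 2 = φ (lam ^ 2) = lam ^ 2`).
Exact name + statement + header of tools/helper12/D3Skel.lean.txt.  The statement uses none of the D3Defs
definitions, so this file imports Mathlib files only.
-/
import Mathlib.FieldTheory.Finite.Basic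
import Mathlib.Algebra.CharP.Frobenius
import Mathlib.Algebra.CharP.Reduced

set_option autoImplicit false

namespace Cfsg.Agent.Lib.Helper12.D3

variable (K : Type*) [Field K] (φ : K →+* K)

/-- D3-SQRT -/
theorem sqrt_fix [Fintype K] [CharP K 2] (e n : K) (he : φ e = e) (hn : φ n = n) (hn0 : n ≠ 0) :
    ∃ lam : K, φ lam = lam ∧ lam ^ 2 * n = e := by
  have : Fact (Nat.Prime 2) := ⟨Nat.prime_two⟩
  have hinj : Function.Injective (fun x : K => x ^ 2) := fun a b h =>
    frobenius_inj K 2 (by simpa [frobenius_def] using h)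
  have hsurj : Function.Surjective (fun x : K => x ^ 2) := Finite.injective_iff_surjective.mp hinj
  obtain ⟨lam, hlam⟩ := hsurj (e * n⁻¹)
  have hlam' : lam ^ 2 = e * n⁻¹ := hlam
  refine ⟨lam, hinj ?_, ?_⟩
  · show (φ lam) ^ 2 = lam ^ 2
    rw [← map_pow, hlam', map_mul, map_inv₀, he, hn]
  · rw [hlam', mul_assoc, inv_mul_cancel₀ hn0, mul_one]

end Cfsg.Agent.Lib.Helper12.D3
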