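import Mathlib.Algebra.Ring.Subring.Basic
import Mathlib.Algebra.BigOperators.Pi
import Mathlib.Algebra.Field.Basic
import Mathlib.Algebra.BigOperators.Ring.Finset
import Mathlib.Data.Fintype.Basic
import Mathlib.Tactic.Ring
import Mathlib.Tactic.LinearCombination
import Mathlib.Tactic.FieldSimp

set_option autoImplicit false

namespace Cfsg.Agent.Lib.Helper77

/-- Abstract block-idempotent lemma.  `S` is a subring of a field `K`, `m` a subset of `K` playing
the role of the maximal ideal of the local ring `S`; `A` is a subring of the function ring `I → K`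
all of whose members take values in `S`, and which contains the `S`-valued constants.  If a finite
set `C` of indices is separated from its complement by members of `A` modulo `m`, while the members
of `A` are constant on `C` modulo `m`, then the indicator function of `C` lies in `A`. -/
theorem indicator_mem {K : Type*} [Field K] {I : Type*} [Fintype I] [DecidableEq I]
    (S : Subring K) (m : Set K)
    (h0 : (0 : K) ∈ m) (h1 : (1 : K) ∉ m)
    (hadd : ∀ x ∈ m, ∀ y ∈ m, x + y ∈ m)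
    (hmul : ∀ s ∈ S, ∀ x ∈ m, s * x ∈ m)
    (hunit : ∀ s ∈ S, s ∉ m → s⁻¹ ∈ S)
    (A : Subring (I → K)) (hAS : ∀ a ∈ A, ∀ i, a i ∈ S)
    (hconst : ∀ s ∈ S, (fun _ : I => s) ∈ A)
    (C : Finset I)
    (hsep : ∀ i ∈ C, ∀ j, j ∉ C → ∃ a ∈ A, a i - a j ∉ m)
    (hcong : ∀ i ∈ C, ∀ i' ∈ C, ∀ a ∈ A, a i - a i' ∈ m) :
    (fun i => if i ∈ C then (1 : K) else 0) ∈ A := by
  classical
  rcases C.eq_empty_or_nonempty with hC | ⟨i₀, hi₀⟩
  · subst hC
    have : (fun i : I => if i ∈ (∅ : Finset I) then (1 : K) else 0) = 0 := by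
      funext i; simp
    rw [this]; exact A.zero_mem
  -- products of elements of `S` outside `m` stay outside `m`
  have hprod2 : ∀ s t : K, (s ∈ S ∧ s ∉ m) → (t ∈ S ∧ t ∉ m) → (s * t ∈ S ∧ s * t ∉ m) := by
    rintro s t ⟨hs, hsm⟩ ⟨ht, htm⟩
    refine ⟨S.mul_mem hs ht, fun hst => htm ?_⟩
    have hs0 : s ≠ 0 := fun h => hsm (h ▸ h0)
    have := hmul s⁻¹ (hunit s hs hsm) _ hst
    rwa [← mul_assoc, inv_mul_cancel₀ hs0, one_mul] at this
  have hprod : ∀ (T : Finset I) (φ : I → K), (∀ i ∈ T, φ i ∈ S ∧ φ i ∉ m) →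
      (∏ i ∈ T, φ i) ∈ S ∧ (∏ i ∈ T, φ i) ∉ m := by
    intro T φ h
    exact Finset.prod_induction φ (fun x => x ∈ S ∧ x ∉ m) hprod2 ⟨S.one_mem, h1⟩ h
  have hneg : ∀ s : K, (s ∈ S ∧ s ∉ m) → (-s ∈ S ∧ -s ∉ m) := by
    rintro s ⟨hs, hsm⟩
    refine ⟨S.neg_mem hs, fun h => hsm ?_⟩
    have := hmul (-1) (S.neg_mem S.one_mem) _ h
    simpa using this
  -- choose separating functions
  have hsep' : ∀ j, j ∉ C → ∃ a ∈ A, a i₀ - a j ∉ m := fun j hj => hsep i₀ hi₀ j hj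
  choose! a haA ha using hsep'
  have hmemc : ∀ j, j ∈ Cᶜ → j ∉ C := fun j hj => by simpa using hj
  let f : I → K := ∏ j ∈ Cᶜ, (a j - fun _ => a j j)
  have hfA : f ∈ A := Subring.prod_mem _ (fun j hj =>
    A.sub_mem (haA j (hmemc j hj)) (hconst _ (hAS _ (haA j (hmemc j hj)) j)))
  have hf_eval : ∀ k, f k = ∏ j ∈ Cᶜ, (a j k - a j j) := by
    intro k
    simp only [f, Finset.prod_apply, Pi.sub_apply]
  have hf_out : ∀ j, j ∉ C → f j = 0 := by
    intro j hj
    rw [hf_eval]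
    exact Finset.prod_eq_zero (i := j) (by simpa using hj) (sub_self _)
  have hf_in : ∀ i ∈ C, f i ∈ S ∧ f i ∉ m := by
    intro i hi
    rw [hf_eval]
    apply hprod
    intro j hj
    have hjC := hmemc j hj
    have hajA := haA j hjC
    refine ⟨S.sub_mem (hAS _ hajA i) (hAS _ hajA j), fun h => ha j hjC ?_⟩
    have h2 := hcong i₀ hi₀ i hi (a j) hajA
    have := hadd _ h _ h2
    have e : a j i - a j j + (a j i₀ - a j i) = a j i₀ - a j j := by ring
    rwa [e] at this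
  set v : K := ∏ i ∈ C, (-(f i)) with hv
  have hvS : v ∈ S ∧ v ∉ m := hprod C _ (fun i hi => hneg _ (hf_in i hi))
  have hv0 : v ≠ 0 := fun h => hvS.2 (h ▸ h0)
  let z : I → K := 1 - (fun _ => v⁻¹) * ∏ i ∈ C, (f - fun _ => f i)
  have hzA : z ∈ A := by
    refine A.sub_mem A.one_mem (A.mul_mem (hconst _ (hunit v hvS.1 hvS.2)) ?_)
    exact Subring.prod_mem _ (fun i hi => A.sub_mem hfA (hconst _ (hf_in i hi).1))
  have hz_eval : ∀ k, z k = 1 - v⁻¹ * ∏ i ∈ C, (f k - f i) := by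
    intro k
    simp only [z, Pi.sub_apply, Pi.one_apply, Pi.mul_apply, Finset.prod_apply]
  have : (fun i => if i ∈ C then (1 : K) else 0) = z := by
    funext k
    rw [hz_eval]
    by_cases hk : k ∈ C
    · rw [if_pos hk, Finset.prod_eq_zero (i := k) hk (sub_self _), mul_zero, sub_zero]
    · rw [if_neg hk, hf_out k hk]
      have : ∏ i ∈ C, (0 - f i) = v := by
        rw [hv]; exact Finset.prod_congr rfl (fun i _ => zero_sub _)
      rw [this, inv_mul_cancel₀ hv0, sub_self]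
  rw [this]
  exact hzA

/-- Abstract unit lemma: in the setting of `indicator_mem`, a member `φ` of `A` whose values on a
finite set `C` of indices lie outside `m` is invertible on `C` inside `A`. -/
theorem exists_inverse_on {K : Type*} [Field K] {I : Type*} [DecidableEq I]
    (S : Subring K) (m : Set K)
    (h0 : (0 : K) ∈ m) (h1 : (1 : K) ∉ m)
    (hmul : ∀ s ∈ S, ∀ x ∈ m, s * x ∈ m)
    (hunit : ∀ s ∈ S, s ∉ m → s⁻¹ ∈ S)
    (A : Subring (I → K)) (hAS : ∀ a ∈ A, ∀ i, a i ∈ S)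
    (hconst : ∀ s ∈ S, (fun _ : I => s) ∈ A)
    (C : Finset I) (φ : I → K) (hφ : φ ∈ A) (hφC : ∀ i ∈ C, φ i ∉ m) :
    ∃ θ ∈ A, ∀ i ∈ C, φ i * θ i = 1 := by
  classical
  have hprod2 : ∀ s t : K, (s ∈ S ∧ s ∉ m) → (t ∈ S ∧ t ∉ m) → (s * t ∈ S ∧ s * t ∉ m) := by
    rintro s t ⟨hs, hsm⟩ ⟨ht, htm⟩
    refine ⟨S.mul_mem hs ht, fun hst => htm ?_⟩
    have hs0 : s ≠ 0 := fun h => hsm (h ▸ h0)
    have := hmul s⁻¹ (hunit s hs hsm) _ hst
    rwa [← mul_assoc, inv_mul_cancel₀ hs0, one_mul] at this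
  have hneg : ∀ s : K, (s ∈ S ∧ s ∉ m) → (-s ∈ S ∧ -s ∉ m) := by
    rintro s ⟨hs, hsm⟩
    refine ⟨S.neg_mem hs, fun h => hsm ?_⟩
    have := hmul (-1) (S.neg_mem S.one_mem) _ h
    simpa using this
  -- the product expands as `φ * θ + constant`
  have key : ∀ T : Finset I, ∃ θ ∈ A,
      ∏ i ∈ T, (φ - fun _ => φ i) = φ * θ + fun _ => ∏ i ∈ T, (-(φ i)) := by
    intro T
    induction T using Finset.induction_on with
    | empty =>
      refine ⟨0, A.zero_mem, ?_⟩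
      funext k
      simp
    | insert j T hj ih =>
      obtain ⟨θ, hθ, hθe⟩ := ih
      refine ⟨(φ - fun _ => φ j) * θ + fun _ => ∏ i ∈ T, (-(φ i)), ?_, ?_⟩
      · refine A.add_mem (A.mul_mem (A.sub_mem hφ (hconst _ (hAS φ hφ j))) hθ) (hconst _ ?_)
        exact Subring.prod_mem _ (fun i _ => S.neg_mem (hAS φ hφ i))
      · rw [Finset.prod_insert hj, Finset.prod_insert hj, hθe]
        funext k
        simp only [Pi.mul_apply, Pi.sub_apply, Pi.add_apply]
        ring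
  obtain ⟨θ, hθ, hθe⟩ := key C
  set v : K := ∏ i ∈ C, (-(φ i)) with hv
  have hvS : v ∈ S ∧ v ∉ m :=
    Finset.prod_induction _ (fun x => x ∈ S ∧ x ∉ m) hprod2 ⟨S.one_mem, h1⟩
      (fun i hi => hneg _ ⟨hAS φ hφ i, hφC i hi⟩)
  have hv0 : v ≠ 0 := fun h => hvS.2 (h ▸ h0)
  refine ⟨(fun _ => -v⁻¹) * θ, A.mul_mem (hconst _ (S.neg_mem (hunit v hvS.1 hvS.2))) hθ, ?_⟩
  intro i hi
  have h2 := congrFun hθe i
  simp only [Finset.prod_apply, Pi.sub_apply, Pi.mul_apply, Pi.add_apply] at h2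
  rw [Finset.prod_eq_zero hi (sub_self _)] at h2
  have h3 : φ i * θ i = -v := by
    rw [hv]; linear_combination -h2
  simp only [Pi.mul_apply]
  calc φ i * (-v⁻¹ * θ i) = -v⁻¹ * (φ i * θ i) := by ring
    _ = -v⁻¹ * -v := by rw [h3]
    _ = 1 := by field_simp

end Cfsg.Agent.Lib.Helper77
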