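import Cfsg.Agent.Lib.Helper77.Fourier
import Cfsg.Agent.Lib.Helper77.Indicator

set_option autoImplicit false

namespace Cfsg.Agent.Lib.Helper77

open Cfsg Representation
open Cfsg.Agent.Lib.Helper80 Cfsg.Agent.Lib.Helper81
open scoped ComplexConjugate

universe u

variable {G : Type u} [Group G]

/-- The local ring at `M` as a subring of `ℂ`. -/
def localSubring (M : Ideal AlgInt) (hM : M.IsPrime) : Subring ℂ where
  carrier := {z | MemLocalRing M z}
  mul_mem' := fun hx hy => memLocalRing_mul hM hx hy
  one_mem' := memLocalRing_one hM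
  add_mem' := fun hx hy => memLocalRing_add hM hx hy
  zero_mem' := memLocalRing_zero hM
  neg_mem' := fun hx => memLocalRing_neg hx

theorem mem_localSubring {M : Ideal AlgInt} (hM : M.IsPrime) (z : ℂ) :
    z ∈ localSubring M hM ↔ MemLocalRing M z := Iff.rfl

open Classical in
/-- The coefficient function of the identity of the group algebra. -/
noncomputable def deltaOne : G → ℂ := fun g => if g = 1 then 1 else 0

open Classical in
/-- The coefficient function of the class sum of `g`. -/
noncomputable def classInd (g : G) : G → ℂ := fun h => if IsConj g h then 1 else 0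

theorem deltaOne_isClassFunction : IsClassFunction G (deltaOne : G → ℂ) := by
  intro g h
  unfold deltaOne
  have : h * g * h⁻¹ = 1 ↔ g = 1 := by
    constructor
    · intro e
      have : g = h⁻¹ * (h * g * h⁻¹) * h := by group
      rw [this, e]; group
    · rintro rfl; group
  by_cases hg : g = 1
  · rw [if_pos hg, if_pos (this.mpr hg)]
  · rw [if_neg hg, if_neg (fun e => hg (this.mp e))]

theorem classInd_isClassFunction (g : G) : IsClassFunction G (classInd g) := by
  intro x y
  unfold classInd
  have : IsConj g (y * x * y⁻¹) ↔ IsConj g x := by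
    constructor
    · intro h
      exact h.trans (isConj_iff.mpr ⟨y⁻¹, by group⟩)
    · intro h
      exact h.trans (isConj_iff.mpr ⟨y, rfl⟩)
  by_cases hg : IsConj g x
  · rw [if_pos hg, if_pos (this.mpr hg)]
  · rw [if_neg hg, if_neg (fun e => hg (this.mp e))]

variable [Fintype G]

theorem omega_deltaOne (χ : G → ℂ) (hχ : χ 1 ≠ 0) : omega χ deltaOne = 1 := by
  classical
  unfold omega deltaOne
  simp only [ite_mul, one_mul, zero_mul, Finset.sum_ite_eq', Finset.mem_univ, if_true]
  exact div_self hχ

theorem omega_smul (χ : G → ℂ) (s : ℂ) (a : G → ℂ) :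
    omega χ (fun g => s * a g) = s * omega χ a := by
  unfold omega
  simp only [mul_assoc, ← Finset.mul_sum, mul_div_assoc]

theorem omega_classInd {χ : G → ℂ} (hχ : IsClassFunction G χ) (g : G) :
    omega χ (classInd g) = centralChar χ g := by
  classical
  unfold omega centralChar
  congr 1
  have : ∀ h : G, classInd g h * χ h = if IsConj g h then χ g else 0 := by
    intro h
    unfold classInd
    by_cases hc : IsConj g h
    · rw [if_pos hc, if_pos hc, one_mul, isClassFunction_of_isConj hχ hc]
    · rw [if_neg hc, if_neg hc, zero_mul]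
  rw [Finset.sum_congr rfl (fun h _ => this h)]
  rw [← Finset.sum_filter, Finset.sum_const, nsmul_eq_mul, index_centralizer_eq_card_conj,
    Nat.card_eq_fintype_card, Fintype.card_subtype]

theorem irr_one_ne_zero {χ : G → ℂ} (hχ : IsIrrCharacter G χ) : χ 1 ≠ 0 := by
  obtain ⟨n, ρ, hirr, rfl⟩ := hχ
  have := hirr
  rw [char_one]
  exact finrank_ne_zero_of_irreducible ρ

/-- The image of the `S`-valued class functions under the central characters, as a subring of
the ring of functions on the irreducible characters. -/
def fourierSubring (M : Ideal AlgInt) (hM : M.IsPrime) : Subring (IrrCharacter G → ℂ) where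
  carrier := {φ | ∃ a : G → ℂ, IsClassFunction G a ∧ (∀ g, MemLocalRing M (a g)) ∧
    ∀ χ : IrrCharacter G, φ χ = omega (χ : G → ℂ) a}
  mul_mem' := by
    rintro φ ψ ⟨a, ha, haS, hφ⟩ ⟨b, hb, hbS, hψ⟩
    refine ⟨conv a b, conv_isClassFunction ha hb, ?_, ?_⟩
    · intro g
      exact memLocalRing_sum hM _ _ fun h _ => memLocalRing_mul hM (haS _) (hbS _)
    · intro χ
      rw [omega_conv χ.2 ha hb, Pi.mul_apply, hφ, hψ]
  one_mem' := by
    refine ⟨deltaOne, deltaOne_isClassFunction, ?_, ?_⟩
    · intro g
      unfold deltaOne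
      split_ifs
      · exact memLocalRing_one hM
      · exact memLocalRing_zero hM
    · intro χ
      rw [omega_deltaOne _ (irr_one_ne_zero χ.2)]; rfl
  add_mem' := by
    rintro φ ψ ⟨a, ha, haS, hφ⟩ ⟨b, hb, hbS, hψ⟩
    refine ⟨a + b, ?_, ?_, ?_⟩
    · intro g h
      show a _ + b _ = a g + b g
      rw [ha, hb]
    · intro g
      exact memLocalRing_add hM (haS g) (hbS g)
    · intro χ
      rw [omega_add, Pi.add_apply, hφ, hψ]
  zero_mem' := by
    refine ⟨0, fun _ _ => rfl, fun _ => memLocalRing_zero hM, ?_⟩
    intro χ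
    rw [omega_zero]; rfl
  neg_mem' := by
    rintro φ ⟨a, ha, haS, hφ⟩
    refine ⟨-a, ?_, ?_, ?_⟩
    · intro g h
      show -a _ = -a g
      rw [ha]
    · intro g
      exact memLocalRing_neg (haS g)
    · intro χ
      rw [omega_neg, Pi.neg_apply, hφ]

/-- Existence of the block idempotent in `Z(SG)`: for a block `B` there is an `S`-valued class
function whose central character values are the indicator of `B`. -/
theorem exists_block_idempotent [Fintype (IrrCharacter G)] {p : ℕ} {M : Ideal AlgInt}
    (hpM : IsPModular p M) (χ₀ : IrrCharacter G) :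
    ∃ a : G → ℂ, IsClassFunction G a ∧ (∀ g, MemLocalRing M (a g)) ∧
      ∀ χ : IrrCharacter G, omega (χ : G → ℂ) a =
        (by classical exact if χ ∈ blockOf M (χ₀ : G → ℂ) then (1 : ℂ) else 0) := by
  classical
  have hM : M.IsPrime := isPrime_of_isPModular hpM
  have key := indicator_mem (K := ℂ) (I := IrrCharacter G) (localSubring M hM)
    {z | MemLocalIdeal M z} (memLocalIdeal_zero hM) (not_memLocalIdeal_one hM)
    (fun x hx y hy => memLocalIdeal_add hM hx hy)
    (fun s hs x hx => memLocalIdeal_mul_left hM hs hx)
    (fun s hs hsm => memLocalRing_inv_of_not_memLocalIdeal hs hsm)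
    (fourierSubring M hM)
    (by
      rintro φ ⟨a, ha, haS, hφ⟩ χ
      rw [hφ]
      exact memLocalRing_omega hM χ.2 ha haS)
    (by
      intro s hs
      refine ⟨fun g => s * deltaOne g, ?_, ?_, ?_⟩
      · intro g h
        show s * deltaOne _ = s * deltaOne g
        rw [deltaOne_isClassFunction]
      · intro g
        refine memLocalRing_mul hM hs ?_
        unfold deltaOne
        split_ifs
        · exact memLocalRing_one hM
        · exact memLocalRing_zero hM
      · intro χ
        rw [omega_smul, omega_deltaOne _ (irr_one_ne_zero χ.2), mul_one])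
    (Finset.univ.filter (fun χ : IrrCharacter G => χ ∈ blockOf M (χ₀ : G → ℂ)))
    (by
      intro χ hχ ψ hψ
      simp only [Finset.mem_filter, Finset.mem_univ, true_and] at hχ hψ
      have hne : ¬ SameBlock M (χ : G → ℂ) (ψ : G → ℂ) := fun h => hψ (sameBlock_trans hM hχ h)
      unfold SameBlock at hne
      obtain ⟨g, hg⟩ := not_forall.mp hne
      refine ⟨fun η => omega (η : G → ℂ) (classInd g),
        ⟨classInd g, classInd_isClassFunction g, ?_, fun _ => rfl⟩, ?_⟩
      · intro h
        unfold classInd
        split_ifs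
        · exact memLocalRing_one hM
        · exact memLocalRing_zero hM
      · show ¬ MemLocalIdeal M (omega (χ : G → ℂ) (classInd g) - omega (ψ : G → ℂ) (classInd g))
        rw [omega_classInd (isClassFunction_of_isCharacter χ.2),
          omega_classInd (isClassFunction_of_isCharacter ψ.2)]
        exact hg)
    (by
      rintro χ hχ ψ hψ φ ⟨a, ha, haS, hφ⟩
      simp only [Finset.mem_filter, Finset.mem_univ, true_and] at hχ hψ
      show MemLocalIdeal M (φ χ - φ ψ)
      rw [hφ, hφ]
      exact memLocalIdeal_omega_sub hM (isClassFunction_of_isCharacter χ.2)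
        (isClassFunction_of_isCharacter ψ.2)
        (sameBlock_trans hM (sameBlock_symm hχ) hψ) ha haS)
  obtain ⟨a, ha, haS, hφ⟩ := key
  refine ⟨a, ha, haS, ?_⟩
  intro χ
  rw [← hφ χ]
  simp only [Finset.mem_filter, Finset.mem_univ, true_and]

end Cfsg.Agent.Lib.Helper77
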