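import Cfsg.Agent.Lib.Helper77.BPairF
import Cfsg.Agent.Lib.Helper77.DefectConj
import Cfsg.Agent.Lib.Helper77.Radical

/-!
# Brauer pairs: pairs at a defect group, induced blocks, and normal steps
-/

set_option autoImplicit false

universe u

namespace Cfsg.Agent.Lib.Helper77

open Cfsg
open Cfsg.Agent.Lib.Helper81
open Cfsg.Agent.Lib.Helper80

variable {G : Type u} [Group G] [Fintype G] {p : ℕ} [Fact p.Prime] {M : Ideal AlgInt}

/-- **Lemma DP.** Every block has a Brauer pair at each of its defect groups. -/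
theorem exists_isBrauerPairOf_of_isDefectGroup (hpM : IsPModular p M)
    {B : Set (IrrCharacter G)} (hB : IsPBlock M B) {D : Subgroup G}
    (hD : IsDefectGroup p M B D) :
    ∃ g : Set (IrrCharacter (Subgroup.centralizer (D : Set G))), IsBrauerPairOf p M B D g := by
  classical
  have hM : M.IsPrime := isPrime_of_isPModular hpM
  have := Fintype.ofFinite (Subgroup.centralizer (D : Set G))
  have hDp : IsPGroup p D := isPGroup_of_isDefectGroup hD
  obtain ⟨y, hy, hDle, -⟩ := isDefectGroup_iff.mp hD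
  have hyC : y ∈ Subgroup.centralizer (D : Set G) := by
    rw [Subgroup.mem_centralizer_iff]
    intro d hd
    have := hDle hd
    rw [Subgroup.mem_centralizer_singleton_iff] at this
    exact this
  obtain ⟨χ₀, hBχ₀⟩ := hB
  have heB : ZS M (blockCoeff B) := by rw [hBχ₀]; exact ZS.blockCoeff hpM χ₀
  have ha : ZS M (brRes D (Subgroup.centralizer (D : Set G)) (blockCoeff B)) :=
    brRes_ZS hM D _ (Subgroup.centralizer_le_normalizer _) heB
  have hid : ∀ h, MemLocalIdeal M
      (conv (brRes D (Subgroup.centralizer (D : Set G)) (blockCoeff B))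
        (brRes D (Subgroup.centralizer (D : Set G)) (blockCoeff B)) h -
        brRes D (Subgroup.centralizer (D : Set G)) (blockCoeff B) h) := by
    intro h
    have h1 := memLocalIdeal_brRes_conv hpM D (Subgroup.centralizer (D : Set G)) hDp le_rfl
      heB heB h
    rw [conv_blockCoeff_self] at h1
    have := memLocalIdeal_neg h1
    rwa [neg_sub] at this
  -- some central character does not vanish
  have hex : ∃ ξ : IrrCharacter (Subgroup.centralizer (D : Set G)),
      ¬ MemLocalIdeal M (omega (ξ : Subgroup.centralizer (D : Set G) → ℂ)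
        (brRes D (Subgroup.centralizer (D : Set G)) (blockCoeff B))) := by
    by_contra hcon
    push Not at hcon
    have h1 := memLocalIdeal_of_idempotent_of_omega hpM ha hid hcon ⟨y, hyC⟩
    rw [brRes_pos _ hyC] at h1
    exact hy.2.1 h1
  obtain ⟨ξ, hξ⟩ := hex
  have hu : MemLocalRing M (omega (ξ : Subgroup.centralizer (D : Set G) → ℂ)
      (brRes D (Subgroup.centralizer (D : Set G)) (blockCoeff B))) := ha.omega hM ξ
  have hu2 : MemLocalIdeal M (omega (ξ : Subgroup.centralizer (D : Set G) → ℂ)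
      (brRes D (Subgroup.centralizer (D : Set G)) (blockCoeff B)) *
      omega (ξ : Subgroup.centralizer (D : Set G) → ℂ)
      (brRes D (Subgroup.centralizer (D : Set G)) (blockCoeff B)) -
      omega (ξ : Subgroup.centralizer (D : Set G) → ℂ)
      (brRes D (Subgroup.centralizer (D : Set G)) (blockCoeff B))) := by
    rw [← omega_conv ξ.2 ha.1 ha.1, ← omega_sub]
    have hZ := ZS.sub hM (ZS.conv hM ha ha) ha
    exact memLocalIdeal_omega_of_forall hM ξ.2 hZ.1 hZ.2 fun h => Or.inl (hid h)
  have hu1 : MemLocalIdeal M (omega (ξ : Subgroup.centralizer (D : Set G) → ℂ)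
      (brRes D (Subgroup.centralizer (D : Set G)) (blockCoeff B)) - 1) := by
    by_contra hcon
    exact hξ (u_idem_cases hM hu hu2 hcon)
  refine ⟨blockOf M (ξ : Subgroup.centralizer (D : Set G) → ℂ), ⟨hDp, ξ, rfl⟩, ⟨χ₀, hBχ₀⟩, ?_⟩
  intro ξ' hξ'
  rw [brauerOmega_eq_omega]
  have h2 := memLocalIdeal_omega_sub hM (isClassFunction_of_isCharacter ξ'.2)
    (isClassFunction_of_isCharacter ξ.2) (sameBlock_symm hξ') ha.1 ha.2
  exact cong_trans hM h2 hu1

omit [Fintype G] [Fact p.Prime] in
theorem brauerClassFn_centralizer (P : Subgroup G) (g : G) :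
    brauerClassFn P (Subgroup.centralizer (P : Set G)) g =
      indClassFn (Subgroup.centralizer (P : Set G)) g := by
  classical
  funext h
  unfold brauerClassFn indClassFn
  by_cases hc : IsConj g (h : G)
  · rw [if_pos ⟨hc, h.2⟩, if_pos hc]
  · rw [if_neg (fun h' => hc h'.1), if_neg hc]

/-- **Lemma IB.** A Brauer pair of `B` at `P` gives a block of `C_G(P)` inducing `B`. -/
theorem isInducedBlock_of_isBrauerPairOf (hpM : IsPModular p M) {B : Set (IrrCharacter G)}
    {P : Subgroup G} {e : Set (IrrCharacter (Subgroup.centralizer (P : Set G)))}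
    (h : IsBrauerPairOf p M B P e) :
    IsInducedBlock M (Subgroup.centralizer (P : Set G)) e B := by
  classical
  have hM : M.IsPrime := isPrime_of_isPModular hpM
  have := Fintype.ofFinite (Subgroup.centralizer (P : Set G))
  obtain ⟨⟨hPp, ξ₀, he⟩, hB, hcong⟩ := h
  obtain ⟨χ, hχ⟩ := exists_irr_of_isBrauerPair hpM hPp ξ₀
  have hξ₀ : ξ₀ ∈ blockOf M (ξ₀ : Subgroup.centralizer (P : Set G) → ℂ) := sameBlock_refl hM _
  obtain ⟨χ₀, hBχ₀⟩ := hB
  -- `χ ∈ B`
  have hχB : χ ∈ B := by
    have h1 := hχ _ (ZS.blockCoeff hpM χ₀) ξ₀ hξ₀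
    have h2 := hcong ξ₀ (by rw [he]; exact hξ₀)
    rw [hBχ₀] at h2
    rw [omega_blockCoeff] at h1
    by_contra hc
    rw [hBχ₀] at hc
    rw [if_neg hc, sub_zero] at h1
    have h3 := memLocalIdeal_sub hM h1 h2
    rw [sub_sub_cancel] at h3
    exact not_memLocalIdeal_one hM h3
  refine ⟨⟨ξ₀, he⟩, ⟨χ₀, hBχ₀⟩, fun ξ hξ χ' hχ' g => ?_⟩
  rw [he] at hξ
  have h1 := hχ _ (ZS.classInd hM g) ξ hξ
  rw [brauerOmega_eq_omega, brRes_classInd, brauerClassFn_centralizer,
    ← inducedCentralChar_eq_omega, omega_classInd (isClassFunction_of_isCharacter χ.2)] at h1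
  refine cong_trans hM h1 ?_
  rw [hBχ₀] at hχB hχ'
  exact sameBlock_trans hM (sameBlock_symm hχB) hχ' g

omit [Fintype G] [Fact p.Prime] in
theorem isPBlock_nonempty (hM : M.IsPrime) {H : Type u} [Group H] {f : Set (IrrCharacter H)}
    (hf : IsPBlock M f) : ∃ θ, θ ∈ f := by
  obtain ⟨θ₀, rfl⟩ := hf
  exact ⟨θ₀, sameBlock_refl hM _⟩

/-- A normal step upward preserves the block of a Brauer pair. -/
theorem isBrauerPairOf_of_isNormalSubpair (hpM : IsPModular p M) {Q P : Subgroup G}
    {f : Set (IrrCharacter (Subgroup.centralizer (Q : Set G)))}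
    {e : Set (IrrCharacter (Subgroup.centralizer (P : Set G)))}
    (h : IsNormalSubpair p M Q f P e) {B : Set (IrrCharacter G)}
    (hB : IsBrauerPairOf p M B Q f) : IsBrauerPairOf p M B P e := by
  classical
  have hM : M.IsPrime := isPrime_of_isPModular hpM
  have := Fintype.ofFinite (Subgroup.centralizer (P : Set G))
  have := Fintype.ofFinite (Subgroup.centralizer (Q : Set G))
  obtain ⟨hQf, hPe, hQP, hPN, hst, h1⟩ := h
  have hPK := normalizer_le_normalizer_centralizer_of_le hPN
  have hCK : Subgroup.centralizer (P : Set G) ≤ Subgroup.centralizer (Q : Set G) :=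
    Subgroup.centralizer_le hQP
  obtain ⟨θ, hθ⟩ := isPBlock_nonempty hM hQf.2
  obtain ⟨χ₀, hBχ₀⟩ := hB.2.1
  have heB : ZS M (blockCoeff B) := by rw [hBχ₀]; exact ZS.blockCoeff hpM χ₀
  -- the restriction of the idempotent of `B` to `C_G(Q)`
  have hc : ZS M (fun k : Subgroup.centralizer (Q : Set G) => blockCoeff B (k : G)) := by
    refine ⟨fun k k' => ?_, fun k => heB.2 _⟩
    show blockCoeff B ((k' * k * k'⁻¹ : Subgroup.centralizer (Q : Set G)) : G) = _
    push_cast
    exact heB.1 _ _
  have hcst : KStable P (Subgroup.centralizer (Q : Set G))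
      (fun k : Subgroup.centralizer (Q : Set G) => blockCoeff B (k : G)) := by
    intro q _ k k' hk
    show blockCoeff B (k' : G) = blockCoeff B (k : G)
    rw [hk]
    exact heB.1 _ _
  refine ⟨hPe, hB.2.1, fun ξ hξ => ?_⟩
  have hf1 := h1 ξ hξ
  rw [brauerOmega_sbc hCK] at hf1
  have h2 := lemmaN hpM hPe.1 hPK hCK ξ.2 hQf.2 (kStable_blockCoeff hM hPK hQf.2 hst) hf1
    hc hcst hθ
  have e1 : brauerOmega P (blockCoeff B) (ξ : Subgroup.centralizer (P : Set G) → ℂ) =
      omega (ξ : Subgroup.centralizer (P : Set G) → ℂ) (resC hCK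
        (fun k : Subgroup.centralizer (Q : Set G) => blockCoeff B (k : G))) := by
    rw [brauerOmega_eq_omega]
    congr 1
    funext x
    rw [brRes_pos _ x.2]
    rfl
  have e2 : brauerOmega Q (blockCoeff B) (θ : Subgroup.centralizer (Q : Set G) → ℂ) =
      omega (θ : Subgroup.centralizer (Q : Set G) → ℂ)
        (fun k : Subgroup.centralizer (Q : Set G) => blockCoeff B (k : G)) := by
    rw [brauerOmega_eq_omega]
    congr 1
    funext x
    rw [brRes_pos _ x.2]
  rw [e1]
  have h3 := hB.2.2 θ hθ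
  rw [e2] at h3
  exact cong_trans hM h2 h3

end Cfsg.Agent.Lib.Helper77
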