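import Cfsg.Agent.Lib.Helper77.BPairI

/-!
# Brauer pairs: a Brauer pair above `(P, e)` on a defect group of the covering block of `S C_G(P)`
-/

set_option autoImplicit false

universe u

namespace Cfsg.Agent.Lib.Helper77

open Cfsg
open Cfsg.Agent.Lib.Helper81
open Cfsg.Agent.Lib.Helper80
open Cfsg.Agent.Lib.Helper16
open scoped Pointwise

variable {G : Type u} [Group G]

/-- The centralizer in `G` of the image of `D' ≤ L`, when it lies in `L`, is the centralizer of
`D'` in `L`. -/
def centEquiv {L : Subgroup G} (D' : Subgroup L)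
    (h : Subgroup.centralizer ((D'.map L.subtype : Subgroup G) : Set G) ≤ L) :
    Subgroup.centralizer ((D'.map L.subtype : Subgroup G) : Set G) ≃*
      Subgroup.centralizer (D' : Set L) where
  toFun x := ⟨⟨(x : G), h x.2⟩, by
    rw [Subgroup.mem_centralizer_iff]
    intro d hd
    apply Subtype.ext
    exact (Subgroup.mem_centralizer_iff.mp x.2) (d : G) ⟨d, hd, rfl⟩⟩
  invFun y := ⟨((y : L) : G), by
    rw [Subgroup.mem_centralizer_iff]
    rintro _ ⟨d, hd, rfl⟩
    exact congrArg Subtype.val ((Subgroup.mem_centralizer_iff.mp y.2) d hd)⟩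
  left_inv x := rfl
  right_inv y := rfl
  map_mul' x y := rfl

theorem coe_centEquiv {L : Subgroup G} (D' : Subgroup L)
    (h : Subgroup.centralizer ((D'.map L.subtype : Subgroup G) : Set G) ≤ L)
    (x : Subgroup.centralizer ((D'.map L.subtype : Subgroup G) : Set G)) :
    (((centEquiv D' h x : Subgroup.centralizer (D' : Set L)) : L) : G) = (x : G) := rfl

section

variable [Fintype G] {p : ℕ} [Fact p.Prime] {M : Ideal AlgInt}

omit [Fintype G] [Fact p.Prime] in
/-- **Claim X, part (b).** -/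
theorem claimX_b {P L : Subgroup G} (hPp : IsPGroup p P)
    (hPL : P ≤ L) (hCL : Subgroup.centralizer (P : Set G) ≤ L)
    (hLN : L ≤ Subgroup.normalizer (P : Set G))
    {e : Set (IrrCharacter (Subgroup.centralizer (P : Set G)))} (he : IsPBlock M e)
    (hLe : ∀ x ∈ L, StabilizesBlock (Subgroup.centralizer (P : Set G)) e x)
    {B₁ : Set (IrrCharacter L)}
    (hBc : ∀ l : L, blockCoeff B₁ l =
      subgroupBlockCoeff (Subgroup.centralizer (P : Set G)) e (l : G))
    {D' : Subgroup L} (hPD' : P.subgroupOf L ≤ D')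
    {g₁ : Set (IrrCharacter (Subgroup.centralizer (D' : Set L)))}
    (hg₁ : IsBrauerPairOf p M B₁ D' g₁) :
    ∃ g : Set (IrrCharacter (Subgroup.centralizer ((D'.map L.subtype : Subgroup G) : Set G))),
      IsNormalSubpair p M P e (D'.map L.subtype) g := by
  classical
  have hPD : P ≤ D'.map L.subtype := by
    intro x hx
    exact ⟨⟨x, hPL hx⟩, hPD' (show (⟨x, hPL hx⟩ : L) ∈ P.subgroupOf L from hx), rfl⟩
  have hDL : D'.map L.subtype ≤ L := Subgroup.map_subtype_le _
  have hDC : Subgroup.centralizer ((D'.map L.subtype : Subgroup G) : Set G) ≤ L :=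
    (Subgroup.centralizer_le hPD).trans hCL
  refine ⟨irrMap (centEquiv D' hDC) '' g₁, ⟨hPp, he⟩,
    ⟨hg₁.1.1.map _, isPBlock_irrMap_image _ hg₁.1.2⟩, hPD, hDL.trans hLN,
    fun x hx => hLe x (hDL hx), ?_⟩
  rintro _ ⟨ξ₁, hξ₁, rfl⟩
  have h1 := hg₁.2.2 ξ₁ hξ₁
  have e1 : brauerOmega (D'.map L.subtype)
      (subgroupBlockCoeff (Subgroup.centralizer (P : Set G)) e)
      (irrMap (centEquiv D' hDC) ξ₁ : _ → ℂ) =
      brauerOmega D' (blockCoeff B₁) (ξ₁ : Subgroup.centralizer (D' : Set L) → ℂ) := by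
    unfold brauerOmega
    refine finsum_eq_of_bijective (centEquiv D' hDC) (centEquiv D' hDC).bijective fun x => ?_
    rw [irrMap_apply, irrMap_apply, map_one, hBc, coe_centEquiv]
  rw [e1]
  exact h1

end

end Cfsg.Agent.Lib.Helper77

namespace Cfsg.Agent.Lib.Helper77

open Cfsg
open Cfsg.Agent.Lib.Helper81
open Cfsg.Agent.Lib.Helper80
open Cfsg.Agent.Lib.Helper16

variable {G : Type u} [Group G] [Fintype G] {p : ℕ} [Fact p.Prime] {M : Ideal AlgInt}

omit [Fintype G] in
theorem relIndex_centralizer_sup [Finite G] {P S : Subgroup G} (hSp : IsPGroup p S)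
    (hSN : S ≤ Subgroup.normalizer (P : Set G)) :
    ∃ k : ℕ, (Subgroup.centralizer (P : Set G)).relIndex
      (S ⊔ Subgroup.centralizer (P : Set G)) = p ^ k := by
  have hp : p.Prime := Fact.out
  have hCL : Subgroup.centralizer (P : Set G) ≤ S ⊔ Subgroup.centralizer (P : Set G) :=
    le_sup_right
  have hSL : S ≤ S ⊔ Subgroup.centralizer (P : Set G) := le_sup_left
  have hLN : S ⊔ Subgroup.centralizer (P : Set G) ≤ Subgroup.normalizer (P : Set G) :=
    sup_le hSN (Subgroup.centralizer_le_normalizer _)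
  have hN₁ : ((Subgroup.centralizer (P : Set G)).subgroupOf
      (S ⊔ Subgroup.centralizer (P : Set G))).Normal := by
    refine ⟨fun n hn l => ?_⟩
    show ((l * n * l⁻¹ : (S ⊔ Subgroup.centralizer (P : Set G) : Subgroup G)) : G) ∈
      Subgroup.centralizer (P : Set G)
    push_cast
    exact (conj_mem_centralizer_iff (hLN l.2)).mpr hn
  have htop : (Subgroup.centralizer (P : Set G)).subgroupOf
      (S ⊔ Subgroup.centralizer (P : Set G)) ⊔
      S.subgroupOf (S ⊔ Subgroup.centralizer (P : Set G)) = ⊤ := by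
    rw [← Subgroup.subgroupOf_sup hCL hSL, sup_comm, Subgroup.subgroupOf_self]
  have h1 : (Subgroup.centralizer (P : Set G)).relIndex
      (S ⊔ Subgroup.centralizer (P : Set G)) =
      ((Subgroup.centralizer (P : Set G)).subgroupOf
        (S ⊔ Subgroup.centralizer (P : Set G))).relIndex
        (S.subgroupOf (S ⊔ Subgroup.centralizer (P : Set G))) := by
    have e1 : (Subgroup.centralizer (P : Set G)).relIndex
        (S ⊔ Subgroup.centralizer (P : Set G)) =
        ((Subgroup.centralizer (P : Set G)).subgroupOf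
          (S ⊔ Subgroup.centralizer (P : Set G))).relIndex ⊤ := by
      rw [Subgroup.relIndex_top_right]
      rfl
    rw [e1, ← htop, Subgroup.relIndex_sup_left]
  have h2 : ((Subgroup.centralizer (P : Set G)).subgroupOf
        (S ⊔ Subgroup.centralizer (P : Set G))).relIndex
        (S.subgroupOf (S ⊔ Subgroup.centralizer (P : Set G))) ∣ Nat.card S := by
    have := Subgroup.relIndex_dvd_card ((Subgroup.centralizer (P : Set G)).subgroupOf
        (S ⊔ Subgroup.centralizer (P : Set G)))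
        (S.subgroupOf (S ⊔ Subgroup.centralizer (P : Set G)))
    rwa [Nat.card_congr (Subgroup.subgroupOfEquivOfLe hSL).toEquiv] at this
  obtain ⟨n, hn⟩ := IsPGroup.iff_card.mp hSp
  rw [hn] at h2
  obtain ⟨k, -, hk⟩ := (Nat.dvd_prime_pow hp).mp h2
  exact ⟨k, by rw [h1, hk]⟩

/-- **Claim X.** -/
theorem claimX (hpM : IsPModular p M) {P S : Subgroup G} (hPp : IsPGroup p P)
    {e : Set (IrrCharacter (Subgroup.centralizer (P : Set G)))} (he : IsPBlock M e)
    (hSp : IsPGroup p S) (hPS : P ≤ S) (hSN : S ≤ Subgroup.normalizer (P : Set G))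
    (hSe : ∀ x ∈ S, StabilizesBlock (Subgroup.centralizer (P : Set G)) e x) :
    ∃ (D : Subgroup G) (g : Set (IrrCharacter (Subgroup.centralizer (D : Set G)))),
      IsNormalSubpair p M P e D g ∧
      D ⊔ Subgroup.centralizer (P : Set G) = S ⊔ Subgroup.centralizer (P : Set G) ∧
      IsDefectGroup p M e ((D ⊓ Subgroup.centralizer (P : Set G)).subgroupOf
        (Subgroup.centralizer (P : Set G))) := by
  classical
  have hM : M.IsPrime := isPrime_of_isPModular hpM
  have := Fintype.ofFinite (Subgroup.centralizer (P : Set G))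
  have := Fintype.ofFinite (S ⊔ Subgroup.centralizer (P : Set G) : Subgroup G)
  have hCL : Subgroup.centralizer (P : Set G) ≤ S ⊔ Subgroup.centralizer (P : Set G) :=
    le_sup_right
  have hSL : S ≤ S ⊔ Subgroup.centralizer (P : Set G) := le_sup_left
  have hPL : P ≤ S ⊔ Subgroup.centralizer (P : Set G) := hPS.trans hSL
  have hLN : S ⊔ Subgroup.centralizer (P : Set G) ≤ Subgroup.normalizer (P : Set G) :=
    sup_le hSN (Subgroup.centralizer_le_normalizer _)
  have hLstab : S ⊔ Subgroup.centralizer (P : Set G) ≤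
      stabSub (Subgroup.centralizer (P : Set G)) e := by
    refine sup_le (fun x hx => (mem_stabSub_iff hM _ he).mpr (hSe x hx)) (fun x hx => ?_)
    exact (mem_stabSub_iff hM _ he).mpr (stabilizesBlock_of_mem _ e hx)
  have hLe : ∀ x ∈ S ⊔ Subgroup.centralizer (P : Set G),
      StabilizesBlock (Subgroup.centralizer (P : Set G)) e x :=
    fun x hx => (mem_stabSub_iff hM _ he).mp (hLstab hx)
  have hidx := relIndex_centralizer_sup (p := p) hSp hSN
  obtain ⟨B₁, hB₁, hBc, hDef⟩ := claimX_a hpM hCL hLN he hLe hidx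
  obtain ⟨χ₁, hχ₁⟩ := hB₁
  obtain ⟨D', hD'⟩ := exists_isDefectGroup hpM χ₁
  rw [← hχ₁] at hD'
  obtain ⟨hsup, hdefe⟩ := hDef D' hD'
  have hPnorm : (P.subgroupOf (S ⊔ Subgroup.centralizer (P : Set G))).Normal :=
    Subgroup.normal_subgroupOf_of_le_normalizer hLN
  have hPD' : P.subgroupOf (S ⊔ Subgroup.centralizer (P : Set G)) ≤ D' :=
    (Cfsg.Agent.Lib.Helper84.le_pCore hPnorm hPp.comap_subtype).trans
      (Cfsg.Agent.S0912.result p M hpM B₁ ⟨χ₁, hχ₁⟩ D' hD')
  obtain ⟨g₁, hg₁⟩ := exists_isBrauerPairOf_of_isDefectGroup hpM ⟨χ₁, hχ₁⟩ hD'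
  obtain ⟨g, hg⟩ := claimX_b hPp hPL hCL hLN he hLe hBc hPD' hg₁
  refine ⟨D'.map (S ⊔ Subgroup.centralizer (P : Set G) : Subgroup G).subtype, g, hg, ?_, hdefe⟩
  have h1 := congrArg (Subgroup.map (S ⊔ Subgroup.centralizer (P : Set G) : Subgroup G).subtype)
    hsup
  rw [Subgroup.map_sup, Subgroup.subgroupOf_map_subtype, ← MonoidHom.range_eq_map,
    Subgroup.range_subtype, inf_eq_left.mpr hCL, sup_comm] at h1
  exact h1

end Cfsg.Agent.Lib.Helper77
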