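import Cfsg.Agent.Lib.Helper77.BPairJ
import Cfsg.Agent.S0966

/-!
# Brauer pairs: the subgroup of a maximal Brauer pair is a defect group
-/

set_option autoImplicit false

universe u

namespace Cfsg.Agent.Lib.Helper77

open Cfsg
open Cfsg.Agent.Lib.Helper81
open Cfsg.Agent.Lib.Helper80
open Cfsg.Agent.Lib.Helper16

variable {G : Type u} [Group G]

theorem normal_centralizer_subgroupOf_normalizer (P : Subgroup G) :
    ((Subgroup.centralizer (P : Set G)).subgroupOf (Subgroup.normalizer (P : Set G))).Normal := by
  refine ⟨fun n hn l => ?_⟩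
  show ((l * n * l⁻¹ : Subgroup.normalizer (P : Set G)) : G) ∈ Subgroup.centralizer (P : Set G)
  push_cast
  exact (conj_mem_centralizer_iff l.2).mpr hn

theorem relIndex_centralizer_sup_eq [Finite G] {P X : Subgroup G}
    (hXN : X ≤ Subgroup.normalizer (P : Set G)) :
    (Subgroup.centralizer (P : Set G)).relIndex (X ⊔ Subgroup.centralizer (P : Set G)) =
      (Subgroup.centralizer (P : Set G)).relIndex X := by
  have hCN : Subgroup.centralizer (P : Set G) ≤ Subgroup.normalizer (P : Set G) :=
    Subgroup.centralizer_le_normalizer _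
  have hn := normal_centralizer_subgroupOf_normalizer P
  rw [← Subgroup.relIndex_subgroupOf (sup_le hXN hCN), Subgroup.subgroupOf_sup hXN hCN,
    Subgroup.relIndex_sup_right, Subgroup.relIndex_subgroupOf hXN]

/-- The numerical consequence of `S C = P C`. -/
theorem factorization_card_le_of_sup_eq [Finite G] {p : ℕ} [Fact p.Prime] {P S : Subgroup G}
    (hPN : P ≤ Subgroup.normalizer (P : Set G)) (hSN : S ≤ Subgroup.normalizer (P : Set G))
    (hsup : P ⊔ Subgroup.centralizer (P : Set G) = S ⊔ Subgroup.centralizer (P : Set G)) :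
    (Nat.card S).factorization p +
      (Nat.card (P ⊓ Subgroup.centralizer (P : Set G) : Subgroup G)).factorization p ≤
      (Nat.card (Subgroup.centralizer (P : Set G))).factorization p +
        (Nat.card P).factorization p := by
  have h1 : (Subgroup.centralizer (P : Set G)).relIndex S =
      (Subgroup.centralizer (P : Set G)).relIndex P := by
    rw [← relIndex_centralizer_sup_eq hSN, ← relIndex_centralizer_sup_eq hPN, hsup]
  have h2 : Nat.card S = Nat.card (S ⊓ Subgroup.centralizer (P : Set G) : Subgroup G) *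
      (Subgroup.centralizer (P : Set G)).relIndex S := by
    have := card_eq_card_mul_relIndex (inf_le_left :
      S ⊓ Subgroup.centralizer (P : Set G) ≤ S)
    rwa [inf_comm, Subgroup.inf_relIndex_right, inf_comm] at this
  have h3 : Nat.card P = Nat.card (P ⊓ Subgroup.centralizer (P : Set G) : Subgroup G) *
      (Subgroup.centralizer (P : Set G)).relIndex P := by
    have := card_eq_card_mul_relIndex (inf_le_left :
      P ⊓ Subgroup.centralizer (P : Set G) ≤ P)
    rwa [inf_comm, Subgroup.inf_relIndex_right, inf_comm] at this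
  have h4 : Nat.card S * Nat.card (P ⊓ Subgroup.centralizer (P : Set G) : Subgroup G) =
      Nat.card (S ⊓ Subgroup.centralizer (P : Set G) : Subgroup G) * Nat.card P := by
    rw [h2, h3, h1]
    ring
  have h5 : (Nat.card S * Nat.card (P ⊓ Subgroup.centralizer (P : Set G) : Subgroup G)).factorization p =
      (Nat.card (S ⊓ Subgroup.centralizer (P : Set G) : Subgroup G) * Nat.card P).factorization p := by
    rw [h4]
  rw [Nat.factorization_mul Nat.card_pos.ne' Nat.card_pos.ne',
    Nat.factorization_mul Nat.card_pos.ne' Nat.card_pos.ne', Finsupp.add_apply,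
    Finsupp.add_apply] at h5
  have h6 : (Nat.card (S ⊓ Subgroup.centralizer (P : Set G) : Subgroup G)).factorization p ≤
      (Nat.card (Subgroup.centralizer (P : Set G))).factorization p :=
    (Nat.factorization_le_iff_dvd Nat.card_pos.ne' Nat.card_pos.ne').mpr
      (Subgroup.card_dvd_of_le inf_le_right) p
  omega

end Cfsg.Agent.Lib.Helper77

namespace Cfsg.Agent.Lib.Helper77

open Cfsg
open Cfsg.Agent.Lib.Helper81
open Cfsg.Agent.Lib.Helper80
open Cfsg.Agent.Lib.Helper16

variable {G : Type u} [Group G]

theorem stabilizesBlock_of_mem_self (P : Subgroup G)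
    (e : Set (IrrCharacter (Subgroup.centralizer (P : Set G)))) {x : G} (hx : x ∈ P) :
    StabilizesBlock (Subgroup.centralizer (P : Set G)) e x := by
  refine ⟨Cfsg.Agent.S4691.normalizer_le_normalizer_centralizer' P (Subgroup.le_normalizer hx),
    fun θ hθ => ⟨θ, hθ, fun k k' hk => ?_⟩⟩
  have h1 : k' = k := by
    apply Subtype.ext
    rw [hk, (Subgroup.mem_centralizer_iff.mp k.2) x hx]
    group
  rw [h1]

theorem card_comap_mulEquiv {H₁ H₂ : Type*} [Group H₁] [Group H₂] (f : H₁ ≃* H₂)
    (K : Subgroup H₂) : Nat.card (K.comap f.toMonoidHom) = Nat.card K := by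
  have : K.comap f.toMonoidHom = K.map f.symm.toMonoidHom := by
    ext x
    rw [Subgroup.mem_comap, Subgroup.mem_map]
    constructor
    · intro h
      exact ⟨f x, h, f.symm_apply_apply x⟩
    · rintro ⟨y, hy, rfl⟩
      show f (f.symm y) ∈ K
      rw [f.apply_symm_apply]
      exact hy
  rw [this]
  exact Subgroup.card_map_of_injective f.symm.injective

/-- **The subgroup of a maximal Brauer pair of `B` is a defect group of `B`.** -/
theorem isDefectGroup_of_isMaximalBrauerPair [Fintype G] {p : ℕ} [Fact p.Prime]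
    {M : Ideal AlgInt} (hpM : IsPModular p M) {B : Set (IrrCharacter G)} {P : Subgroup G}
    {e : Set (IrrCharacter (Subgroup.centralizer (P : Set G)))}
    (hmax : IsMaximalBrauerPair p M B P e) : IsDefectGroup p M B P := by
  classical
  have hM : M.IsPrime := isPrime_of_isPModular hpM
  have hp : p.Prime := Fact.out
  obtain ⟨hBP, hmaxi⟩ := hmax
  have hPp : IsPGroup p P := hBP.1.1
  have he : IsPBlock M e := hBP.1.2
  have := Fintype.ofFinite (Subgroup.centralizer (P : Set G))
  have := Fintype.ofFinite (Subgroup.normalizer (P : Set G))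
  have := Fintype.ofFinite ((Subgroup.centralizer (P : Set G)).subgroupOf
    (Subgroup.normalizer (P : Set G)))
  have hPN : P ≤ Subgroup.normalizer (P : Set G) := Subgroup.le_normalizer
  have hCN : Subgroup.centralizer (P : Set G) ≤ Subgroup.normalizer (P : Set G) :=
    Subgroup.centralizer_le_normalizer _
  -- the stabilizer
  obtain ⟨T, hTdef⟩ : ∃ T : Subgroup G, T = stabSub (Subgroup.centralizer (P : Set G)) e ⊓
    Subgroup.normalizer (P : Set G) := ⟨_, rfl⟩
  have hmemT : ∀ x : G, x ∈ T ↔ x ∈ Subgroup.normalizer (P : Set G) ∧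
      StabilizesBlock (Subgroup.centralizer (P : Set G)) e x := by
    intro x
    rw [hTdef, Subgroup.mem_inf, mem_stabSub_iff hM _ he, and_comm]
  have hTN : T ≤ Subgroup.normalizer (P : Set G) := fun x hx => ((hmemT x).mp hx).1
  have hPT : P ≤ T := fun x hx => (hmemT x).mpr ⟨hPN hx, stabilizesBlock_of_mem_self P e hx⟩
  -- a Sylow subgroup of the stabilizer containing `P`
  obtain ⟨Q, hQ⟩ := (hPp.comap_subtype (K := T)).exists_le_sylow
  obtain ⟨S, hSdef⟩ : ∃ S : Subgroup G, S = (Q : Subgroup T).map T.subtype := ⟨_, rfl⟩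
  have hSp : IsPGroup p S := by rw [hSdef]; exact Q.2.map _
  have hST : S ≤ T := by rw [hSdef]; exact Subgroup.map_subtype_le _
  have hPS : P ≤ S := by
    intro x hx
    rw [hSdef]
    exact ⟨⟨x, hPT hx⟩, hQ (show (⟨x, hPT hx⟩ : T) ∈ P.subgroupOf T from hx), rfl⟩
  have hSN : S ≤ Subgroup.normalizer (P : Set G) := hST.trans hTN
  have hSe : ∀ x ∈ S, StabilizesBlock (Subgroup.centralizer (P : Set G)) e x :=
    fun x hx => ((hmemT x).mp (hST hx)).2
  have hScard : Nat.card S = p ^ (Nat.card T).factorization p := by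
    rw [hSdef, Subgroup.card_map_of_injective (Subgroup.subtype_injective _)]
    exact Sylow.card_eq_multiplicity Q
  -- the pair above
  obtain ⟨D, g, hnorm, hsup, hdef⟩ := claimX hpM hPp he hSp hPS hSN hSe
  have hDB := isBrauerPairOf_of_isNormalSubpair hpM hnorm hBP
  have hDP : D = P := hmaxi D g hDB (Relation.ReflTransGen.single hnorm)
  subst hDP
  -- numerics
  have hnum0 := factorization_card_le_of_sup_eq (p := p) hPN hSN hsup
  have hSfac : (Nat.card S).factorization p = (Nat.card T).factorization p := by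
    rw [hScard, hp.factorization_pow, Finsupp.single_eq_same]
  have hdefcard := Cfsg.Agent.S0908.result p M hpM e he _ hdef
  rw [Nat.card_congr (Subgroup.subgroupOfEquivOfLe (inf_le_right :
    D ⊓ Subgroup.centralizer (D : Set G) ≤ Subgroup.centralizer (D : Set G))).toEquiv]
    at hdefcard
  have hPCfac : (Nat.card (D ⊓ Subgroup.centralizer (D : Set G) : Subgroup G)).factorization p =
      blockDefect p e := by
    rw [hdefcard, hp.factorization_pow, Finsupp.single_eq_same]
  -- inside the normalizer
  obtain ⟨θ₀, heθ₀⟩ := he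
  obtain ⟨b', hb'def⟩ : ∃ b' : Set (IrrCharacter ((Subgroup.centralizer (D : Set G)).subgroupOf
      (Subgroup.normalizer (D : Set G)))),
      b' = blockOf M ((irrMap (Subgroup.subgroupOfEquivOfLe hCN) θ₀ :
        IrrCharacter ((Subgroup.centralizer (D : Set G)).subgroupOf
          (Subgroup.normalizer (D : Set G)))) :
        ((Subgroup.centralizer (D : Set G)).subgroupOf (Subgroup.normalizer (D : Set G))) → ℂ) :=
    ⟨_, rfl⟩
  have hb' : irrMap (Subgroup.subgroupOfEquivOfLe hCN) '' e = b' := by
    rw [heθ₀, irrMap_image_blockOf, hb'def]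
  have hP'n : (D.subgroupOf (Subgroup.normalizer (D : Set G))).Normal :=
    Subgroup.normal_subgroupOf_of_le_normalizer le_rfl
  have hH'n := normal_centralizer_subgroupOf_normalizer D
  have hCH' : Subgroup.centralizer
      ((D.subgroupOf (Subgroup.normalizer (D : Set G)) :
        Subgroup (Subgroup.normalizer (D : Set G))) : Set (Subgroup.normalizer (D : Set G))) ≤
      (Subgroup.centralizer (D : Set G)).subgroupOf (Subgroup.normalizer (D : Set G)) := by
    intro y hy
    show (y : G) ∈ Subgroup.centralizer (D : Set G)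
    rw [Subgroup.mem_centralizer_iff]
    intro z hz
    have := (Subgroup.mem_centralizer_iff.mp hy) ⟨z, hPN hz⟩ hz
    exact congrArg Subtype.val this
  obtain ⟨ψ, hψ⟩ := Cfsg.Agent.S0966.exists_over
    ((Subgroup.centralizer (D : Set G)).subgroupOf (Subgroup.normalizer (D : Set G)))
    (irrMap (Subgroup.subgroupOfEquivOfLe hCN) θ₀)
  have hind' : IsInducedBlock M ((Subgroup.centralizer (D : Set G)).subgroupOf
      (Subgroup.normalizer (D : Set G))) b'
      (blockOf M (ψ : Subgroup.normalizer (D : Set G) → ℂ)) := by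
    rw [hb'def]
    exact isInducedBlock_of_cover hpM (D.subgroupOf (Subgroup.normalizer (D : Set G)))
      hPp.comap_subtype
      ((Subgroup.centralizer (D : Set G)).subgroupOf (Subgroup.normalizer (D : Set G))) hCH'
      (irrMap (Subgroup.subgroupOfEquivOfLe hCN) θ₀) ψ (sameBlock_refl hM _)
      (sameBlock_refl hM _) hψ
  obtain ⟨χ₁, hχ₁⟩ := exists_isInducedBlock hpM D (Subgroup.normalizer (D : Set G)) hPp hPN
    hCN le_rfl ψ
  have htr : IsInducedBlock M (Subgroup.centralizer (D : Set G)) e
      (blockOf M (χ₁ : G → ℂ)) := by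
    refine isInducedBlock_trans hM hCN ⟨θ₀, heθ₀⟩ ?_ hχ₁
    rw [hb']
    exact hind'
  have hBeq : B = blockOf M (χ₁ : G → ℂ) :=
    isInducedBlock_unique hM (isInducedBlock_of_isBrauerPairOf hpM hBP) htr
  -- the defect of the transported block
  have hdef' := isDefectGroup_irrMap_image (Subgroup.subgroupOfEquivOfLe hCN) hdef
  rw [hb'] at hdef'
  have hdefcard' := Cfsg.Agent.S0908.result p M hpM b' hind'.1 _ hdef'
  rw [card_comap_mulEquiv, Nat.card_congr (Subgroup.subgroupOfEquivOfLe (inf_le_right :
    D ⊓ Subgroup.centralizer (D : Set G) ≤ Subgroup.centralizer (D : Set G))).toEquiv,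
    hdefcard] at hdefcard'
  have hdeq : blockDefect p e = blockDefect p b' :=
    (Nat.pow_right_inj hp.one_lt).mp hdefcard'
  -- the stabilizer condition
  have hT' : ∀ y : Subgroup.normalizer (D : Set G),
      (∀ θ ∈ b', conjIrr ((Subgroup.centralizer (D : Set G)).subgroupOf
          (Subgroup.normalizer (D : Set G))) y θ ∈ b') →
      (∀ θ ∈ b', conjIrr ((Subgroup.centralizer (D : Set G)).subgroupOf
          (Subgroup.normalizer (D : Set G))) y⁻¹ θ ∈ b') →
      y ∈ T.subgroupOf (Subgroup.normalizer (D : Set G)) := by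
    intro y _ h2
    show (y : G) ∈ T
    rw [hmemT]
    have hyNC := Cfsg.Agent.S4691.normalizer_le_normalizer_centralizer' D y.2
    refine ⟨y.2, hyNC, fun θ hθ => ⟨cjIrr _ (y : G) hyNC θ, ?_, isConjCharOf_cjIrr _ _ hyNC θ⟩⟩
    have h3 := h2 (irrMap (Subgroup.subgroupOfEquivOfLe hCN) θ) (by
      rw [← hb']
      exact Set.mem_image_of_mem _ hθ)
    rw [← hb'] at h3
    obtain ⟨θ₁, hθ₁, heq⟩ := h3
    have h4 : conjIrr ((Subgroup.centralizer (D : Set G)).subgroupOf
        (Subgroup.normalizer (D : Set G))) y⁻¹ (irrMap (Subgroup.subgroupOfEquivOfLe hCN) θ) =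
        irrMap (Subgroup.subgroupOfEquivOfLe hCN) (cjIrr _ (y : G) hyNC θ) := by
      apply Subtype.ext
      funext n
      rw [conjIrr_apply, irrMap_apply, irrMap_apply, cjIrr_apply]
      refine congrArg _ (Subtype.ext ?_)
      rw [coe_conjAut]
      show ((y⁻¹ : Subgroup.normalizer (D : Set G)) : G) *
        ((n : Subgroup.normalizer (D : Set G)) : G) *
        ((y⁻¹ : Subgroup.normalizer (D : Set G)) : G)⁻¹ = _
      push_cast
      rw [inv_inv]
      rfl
    rw [h4] at heq
    rw [← irrMap_injective _ heq]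
    exact hθ₁
  -- the numerical hypothesis
  have hnum : (Nat.card (T.subgroupOf (Subgroup.normalizer (D : Set G)))).factorization p +
      blockDefect p b' ≤
      (Nat.card ((Subgroup.centralizer (D : Set G)).subgroupOf
        (Subgroup.normalizer (D : Set G)))).factorization p +
      (Nat.card (D.subgroupOf (Subgroup.normalizer (D : Set G)))).factorization p := by
    rw [Nat.card_congr (Subgroup.subgroupOfEquivOfLe hTN).toEquiv,
      Nat.card_congr (Subgroup.subgroupOfEquivOfLe hCN).toEquiv,
      Nat.card_congr (Subgroup.subgroupOfEquivOfLe hPN).toEquiv, ← hdeq, ← hPCfac, ← hSfac]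
    exact hnum0
  have hdefN := isDefectGroup_of_card_le hpM (D.subgroupOf (Subgroup.normalizer (D : Set G)))
    hPp.comap_subtype
    ((Subgroup.centralizer (D : Set G)).subgroupOf (Subgroup.normalizer (D : Set G))) hCH'
    hind' (T.subgroupOf (Subgroup.normalizer (D : Set G))) hT' hnum
  rw [hBeq]
  exact isDefectGroup_of_induced_normalizer hpM hPp ψ χ₁ hdefN hχ₁

end Cfsg.Agent.Lib.Helper77
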