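import Cfsg.Agent.Lib.Helper77.BPairL

/-!
# Brauer pairs: maximal pairs are conjugate
-/

set_option autoImplicit false

universe u

namespace Cfsg.Agent.Lib.Helper77

open Cfsg
open Cfsg.Agent.Lib.Helper81
open Cfsg.Agent.Lib.Helper80
open Cfsg.Agent.Lib.Helper16
open Cfsg.Agent.S4681 (centConj)

variable {G : Type u} [Group G]

/-- Above every Brauer pair of `B` there is a maximal one. -/
theorem exists_isMaximalBrauerPair_ge [Fintype G] {p : ℕ} {M : Ideal AlgInt}
    {B : Set (IrrCharacter G)} :
    ∀ (n : ℕ) (Q : Subgroup G) (f : Set (IrrCharacter (Subgroup.centralizer (Q : Set G)))),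
      Nat.card G - Nat.card Q = n → IsBrauerPairOf p M B Q f →
      ∃ (Q' : Subgroup G) (f' : Set (IrrCharacter (Subgroup.centralizer (Q' : Set G)))),
        IsMaximalBrauerPair p M B Q' f' ∧ SubpairLE p M Q f Q' f' := by
  intro n
  induction n using Nat.strong_induction_on with
  | _ n ih =>
    intro Q f hn hQf
    by_cases hmax : ∀ (R : Subgroup G) (g : Set (IrrCharacter (Subgroup.centralizer (R : Set G)))),
        IsBrauerPairOf p M B R g → SubpairLE p M Q f R g → R = Q
    · exact ⟨Q, f, ⟨hQf, hmax⟩, Relation.ReflTransGen.refl⟩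
    · push Not at hmax
      obtain ⟨R, g, hRg, hle, hne⟩ := hmax
      have hQR : Q ≤ R := (Cfsg.Agent.S4681.le_of_subpairRel hle).1
      have hcard : Nat.card Q < Nat.card R := by
        by_contra hle'
        push Not at hle'
        exact hne (Subgroup.eq_of_le_of_card_ge hQR hle').symm
      have hRG : Nat.card R ≤ Nat.card G := Subgroup.card_le_card_group R
      obtain ⟨Q', f', hmax', hle'⟩ := ih (Nat.card G - Nat.card R) (by omega) R g rfl hRg
      exact ⟨Q', f', hmax', hle.trans hle'⟩

/-- A block of `C_G(P)` inducing `B` factors through a block of `N_G(P)`. -/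
theorem exists_normalizer_block_centralizer [Fintype G] {p : ℕ} [Fact p.Prime]
    {M : Ideal AlgInt} (hpM : IsPModular p M) {P : Subgroup G} (hPp : IsPGroup p P)
    {e : Set (IrrCharacter (Subgroup.centralizer (P : Set G)))} {B : Set (IrrCharacter G)}
    (h : IsInducedBlock M (Subgroup.centralizer (P : Set G)) e B) :
    ∃ ψ : IrrCharacter (Subgroup.normalizer (P : Set G)),
      IsInducedBlock M ((Subgroup.centralizer (P : Set G)).subgroupOf
        (Subgroup.normalizer (P : Set G)))
        (irrMap (Subgroup.subgroupOfEquivOfLe (Subgroup.centralizer_le_normalizer _)) '' e)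
        (blockOf M (ψ : Subgroup.normalizer (P : Set G) → ℂ)) ∧
      IsInducedBlock M (Subgroup.normalizer (P : Set G))
        (blockOf M (ψ : Subgroup.normalizer (P : Set G) → ℂ)) B := by
  classical
  have hM : M.IsPrime := isPrime_of_isPModular hpM
  have := Fintype.ofFinite (Subgroup.centralizer (P : Set G))
  have := Fintype.ofFinite (Subgroup.normalizer (P : Set G))
  have := Fintype.ofFinite ((Subgroup.centralizer (P : Set G)).subgroupOf
    (Subgroup.normalizer (P : Set G)))
  have hPN : P ≤ Subgroup.normalizer (P : Set G) := Subgroup.le_normalizer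
  have hCN : Subgroup.centralizer (P : Set G) ≤ Subgroup.normalizer (P : Set G) :=
    Subgroup.centralizer_le_normalizer _
  obtain ⟨θ₀, heθ₀⟩ := h.1
  have hP'n : (P.subgroupOf (Subgroup.normalizer (P : Set G))).Normal :=
    Subgroup.normal_subgroupOf_of_le_normalizer le_rfl
  have hH'n := normal_centralizer_subgroupOf_normalizer P
  have hCH' : Subgroup.centralizer
      ((P.subgroupOf (Subgroup.normalizer (P : Set G)) :
        Subgroup (Subgroup.normalizer (P : Set G))) : Set (Subgroup.normalizer (P : Set G))) ≤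
      (Subgroup.centralizer (P : Set G)).subgroupOf (Subgroup.normalizer (P : Set G)) := by
    intro y hy
    show (y : G) ∈ Subgroup.centralizer (P : Set G)
    rw [Subgroup.mem_centralizer_iff]
    intro z hz
    have := (Subgroup.mem_centralizer_iff.mp hy) ⟨z, hPN hz⟩ hz
    exact congrArg Subtype.val this
  obtain ⟨ψ, hψ⟩ := Cfsg.Agent.S0966.exists_over
    ((Subgroup.centralizer (P : Set G)).subgroupOf (Subgroup.normalizer (P : Set G)))
    (irrMap (Subgroup.subgroupOfEquivOfLe hCN) θ₀)
  have hind' := isInducedBlock_of_cover hpM (P.subgroupOf (Subgroup.normalizer (P : Set G)))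
    hPp.comap_subtype
    ((Subgroup.centralizer (P : Set G)).subgroupOf (Subgroup.normalizer (P : Set G))) hCH'
    (irrMap (Subgroup.subgroupOfEquivOfLe hCN) θ₀) ψ (sameBlock_refl hM _)
    (sameBlock_refl hM _) hψ
  rw [← irrMap_image_blockOf, ← heθ₀] at hind'
  obtain ⟨χ₁, hχ₁⟩ := exists_isInducedBlock hpM P (Subgroup.normalizer (P : Set G)) hPp hPN
    hCN le_rfl ψ
  have htr := isInducedBlock_trans hM hCN h.1 hind' hχ₁
  have hBeq := isInducedBlock_unique hM h htr
  refine ⟨ψ, hind', ?_⟩
  rw [hBeq]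
  exact hχ₁

/-- Two blocks of `C_G(P)` inducing the same block with defect group `P` are conjugate under
`N_G(P)`. -/
theorem exists_normalizer_conj_centralizer [Fintype G] {p : ℕ} [Fact p.Prime]
    {M : Ideal AlgInt} (hpM : IsPModular p M) {P : Subgroup G}
    {e e' : Set (IrrCharacter (Subgroup.centralizer (P : Set G)))} {B : Set (IrrCharacter G)}
    (hP : IsDefectGroup p M B P)
    (h1 : IsInducedBlock M (Subgroup.centralizer (P : Set G)) e B)
    (h2 : IsInducedBlock M (Subgroup.centralizer (P : Set G)) e' B) :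
    ∃ (m : G) (hm : m ∈ Subgroup.normalizer
        ((Subgroup.centralizer (P : Set G) : Subgroup G) : Set G)),
      m ∈ Subgroup.normalizer (P : Set G) ∧
        cjIrr (Subgroup.centralizer (P : Set G)) m hm '' e = e' := by
  classical
  have hM : M.IsPrime := isPrime_of_isPModular hpM
  have := Fintype.ofFinite (Subgroup.centralizer (P : Set G))
  have := Fintype.ofFinite (Subgroup.normalizer (P : Set G))
  have := Fintype.ofFinite ((Subgroup.centralizer (P : Set G)).subgroupOf
    (Subgroup.normalizer (P : Set G)))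
  have hPp : IsPGroup p P := isPGroup_of_isDefectGroup hP
  have hCN : Subgroup.centralizer (P : Set G) ≤ Subgroup.normalizer (P : Set G) :=
    Subgroup.centralizer_le_normalizer _
  obtain ⟨ψ, hψ1, hψ2⟩ := exists_normalizer_block_centralizer hpM hPp h1
  obtain ⟨ψ', hψ1', hψ2'⟩ := exists_normalizer_block_centralizer hpM hPp h2
  obtain ⟨χ₀, hB⟩ := h1.2.1
  have hdef : IsDefectGroup p M (blockOf M (ψ : Subgroup.normalizer (P : Set G) → ℂ))
      (P.subgroupOf (Subgroup.normalizer (P : Set G))) :=
    isDefectGroup_of_induced hpM Subgroup.le_normalizer le_rfl hψ2 hP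
  rw [hB] at hψ2 hψ2'
  have heq := blockOf_eq_of_induced_normalizer hpM hPp ψ ψ' χ₀ hdef hψ2 hψ2'
  rw [heq] at hψ1'
  have hH'n := normal_centralizer_subgroupOf_normalizer P
  obtain ⟨n, hn⟩ := exists_conj_of_isInducedBlock hpM
    ((Subgroup.centralizer (P : Set G)).subgroupOf (Subgroup.normalizer (P : Set G))) hψ1 hψ1'
  have hnN : ((n : G))⁻¹ ∈ Subgroup.normalizer (P : Set G) := Subgroup.inv_mem _ n.2
  have hm := Cfsg.Agent.S4691.normalizer_le_normalizer_centralizer' P hnN
  refine ⟨((n : G))⁻¹, hm, hnN, ?_⟩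
  have hsub : ∀ θ₀ ∈ e, cjIrr (Subgroup.centralizer (P : Set G)) ((n : G))⁻¹ hm θ₀ ∈ e' := by
    intro θ₀ hθ₀
    obtain ⟨θ₁, hθ₁, heq1⟩ := hn _ (Set.mem_image_of_mem _ hθ₀)
    have h4 : conjIrr ((Subgroup.centralizer (P : Set G)).subgroupOf
        (Subgroup.normalizer (P : Set G))) n (irrMap (Subgroup.subgroupOfEquivOfLe hCN) θ₀) =
        irrMap (Subgroup.subgroupOfEquivOfLe hCN)
          (cjIrr (Subgroup.centralizer (P : Set G)) ((n : G))⁻¹ hm θ₀) := by
      apply Subtype.ext
      funext k
      rw [conjIrr_apply, irrMap_apply, irrMap_apply, cjIrr_apply]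
      refine congrArg _ (Subtype.ext ?_)
      rw [coe_conjAut, inv_inv]
      rfl
    rw [h4] at heq1
    rw [← irrMap_injective _ heq1]
    exact hθ₁
  obtain ⟨θ₀, hθ₀⟩ := isPBlock_nonempty hM h1.1
  exact eq_of_isPBlock_of_mem hM (isPBlock_irrMap_image _ h1.1) h2.1
    (Set.mem_image_of_mem _ hθ₀) (hsub θ₀ hθ₀)

/-- Extensionality for Brauer pairs along an equality of subgroups. -/
theorem brauerPairIdx_ext {P' P : Subgroup G} (hPP : P' = P)
    (e' : Set (IrrCharacter (Subgroup.centralizer (P' : Set G))))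
    (e : Set (IrrCharacter (Subgroup.centralizer (P : Set G))))
    (h : ∀ ξ' : IrrCharacter (Subgroup.centralizer (P' : Set G)), ξ' ∈ e' ↔
      ∃ ξ ∈ e, ∀ (c' : Subgroup.centralizer (P' : Set G))
        (c : Subgroup.centralizer (P : Set G)), (c' : G) = (c : G) →
          (ξ' : Subgroup.centralizer (P' : Set G) → ℂ) c' =
            (ξ : Subgroup.centralizer (P : Set G) → ℂ) c) :
    (⟨P', e'⟩ : BrauerPairIdx G) = ⟨P, e⟩ := by
  subst hPP
  congr 1
  ext ξ'
  rw [h ξ']
  constructor
  · rintro ⟨ξ, hξ, hrel⟩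
    have : ξ' = ξ := by
      apply Subtype.ext
      funext c
      exact hrel c c rfl
    rw [this]
    exact hξ
  · intro hξ'
    exact ⟨ξ', hξ', fun c' c hc => by rw [Subtype.ext hc]⟩

end Cfsg.Agent.Lib.Helper77
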