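import Cfsg.Agent.Lib.Helper77.BPairN
import Cfsg.Agent.Lib.Helper52.Subpairs2
import Cfsg.Prelude.Def_BlockFusion

/-!
# Fully centralized / centric subgroups in the fusion system of a block

The results are conditional on the statement `Concl61` (centralizers in a maximal Brauer pair and
defect groups of local blocks), which is supplied when the final statements are assembled.
-/

set_option autoImplicit false

universe u

namespace Cfsg.Agent.Lib.Helper77

open Cfsg
open Cfsg.Agent.Lib.Helper81
open Cfsg.Agent.Lib.Helper80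
open Cfsg.Agent.S4681 (centConj)

variable {G : Type u} [Group G]

/-- The conclusion of the statement on centralizers inside a maximal Brauer pair. -/
def Concl61 (p : ℕ) (M : Ideal AlgInt) (P Q : Subgroup G)
    (e : Set (IrrCharacter (Subgroup.centralizer (P : Set G))))
    (f : Set (IrrCharacter (Subgroup.centralizer (Q : Set G)))) : Prop :=
  (∃ D : Subgroup (Subgroup.centralizer (Q : Set G)), IsDefectGroup p M f D ∧
      (P ⊓ Subgroup.centralizer (Q : Set G)).subgroupOf (Subgroup.centralizer (Q : Set G)) ≤ D) ∧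
    ∃ x : G, SubpairLE p M (Q.map (MulAut.conj x).toMonoidHom) (conjBlock Q x f) P e ∧
      IsDefectGroup p M (conjBlock Q x f)
        ((P ⊓ Subgroup.centralizer ((Q.map (MulAut.conj x).toMonoidHom) : Set G)).subgroupOf
          (Subgroup.centralizer ((Q.map (MulAut.conj x).toMonoidHom) : Set G)))

/-- The lower member of an inclusion of Brauer pairs is a block. -/
theorem isPBlock_of_subpairLE {p : ℕ} {M : Ideal AlgInt} {P Q : Subgroup G}
    {e : Set (IrrCharacter (Subgroup.centralizer (P : Set G)))}
    {f : Set (IrrCharacter (Subgroup.centralizer (Q : Set G)))}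
    (hPe : IsPBlock M e) (h : SubpairLE p M Q f P e) : IsPBlock M f := by
  rcases Relation.ReflTransGen.cases_head h with h1 | ⟨c, hc, -⟩
  · have hQP : Q = P := congrArg Sigma.fst h1
    subst hQP
    have : f = e := eq_of_heq (Sigma.mk.inj_iff.mp h1).2
    rw [this]
    exact hPe
  · exact hc.1.2

/-- Transport of the subgroup `R ∩ C(Q)` under the conjugation isomorphism of centralizers. -/
theorem comap_centConj_subgroupOf (Q R : Subgroup G) (x : G) :
    ((R ⊓ Subgroup.centralizer (Q : Set G)).subgroupOf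
        (Subgroup.centralizer (Q : Set G))).comap (centConj Q x).toMonoidHom =
      (R.map (MulAut.conj x).toMonoidHom ⊓
          Subgroup.centralizer ((Q.map (MulAut.conj x).toMonoidHom : Subgroup G) : Set G)).subgroupOf
        (Subgroup.centralizer ((Q.map (MulAut.conj x).toMonoidHom : Subgroup G) : Set G)) := by
  ext c
  rw [Subgroup.mem_comap, Subgroup.mem_subgroupOf, Subgroup.mem_subgroupOf]
  show ((centConj Q x c : Subgroup.centralizer (Q : Set G)) : G) ∈ _ ↔ _
  rw [coe_centConj, Subgroup.mem_inf, Subgroup.mem_inf]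
  constructor
  · rintro ⟨h1, -⟩
    refine ⟨⟨x⁻¹ * (c : G) * x, h1, ?_⟩, c.2⟩
    show x * (x⁻¹ * (c : G) * x) * x⁻¹ = c
    group
  · rintro ⟨⟨r, hr, hrc⟩, -⟩
    refine ⟨?_, (centConj Q x c).2⟩
    have : x⁻¹ * (c : G) * x = r := by
      rw [← hrc]
      show x⁻¹ * (x * r * x⁻¹) * x = r
      group
    rw [this]
    exact hr

variable [Fintype G]

/-- Defect groups of a block of `C(Q)` and of its conjugate have the same order. -/
theorem card_defect_conjBlock {p : ℕ} [Fact p.Prime] {M : Ideal AlgInt} (hpM : IsPModular p M)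
    {Q : Subgroup G} {f : Set (IrrCharacter (Subgroup.centralizer (Q : Set G)))}
    (hf : IsPBlock M f) (x : G) {D : Subgroup (Subgroup.centralizer (Q : Set G))}
    {D' : Subgroup (Subgroup.centralizer ((Q.map (MulAut.conj x).toMonoidHom : Subgroup G) : Set G))}
    (hD : IsDefectGroup p M f D) (hD' : IsDefectGroup p M (conjBlock Q x f) D') :
    Nat.card D = Nat.card D' := by
  classical
  have h1 := isDefectGroup_irrMap_image (centConj Q x) hD
  rw [← conjBlock_eq_image] at h1
  have hb : IsPBlock M (conjBlock Q x f) := by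
    rw [conjBlock_eq_image]
    exact isPBlock_irrMap_image _ hf
  obtain ⟨χ₀, hχ₀⟩ := hb
  rw [hχ₀] at h1 hD'
  have h2 := card_eq_of_isDefectGroup hpM χ₀ h1 hD'
  rw [← h2]
  exact (Nat.card_congr ((centConj Q x).toEquiv.subtypeEquiv (fun y => Iff.rfl))).symm

/-- A defect group statement for the conjugate block transported back. -/
theorem isDefectGroup_of_conjBlock {p : ℕ} [Fact p.Prime] {M : Ideal AlgInt}
    {Q R : Subgroup G} {f : Set (IrrCharacter (Subgroup.centralizer (Q : Set G)))} (x : G)
    (h : IsDefectGroup p M (conjBlock Q x f)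
      ((R.map (MulAut.conj x).toMonoidHom ⊓
          Subgroup.centralizer ((Q.map (MulAut.conj x).toMonoidHom : Subgroup G) : Set G)).subgroupOf
        (Subgroup.centralizer ((Q.map (MulAut.conj x).toMonoidHom : Subgroup G) : Set G)))) :
    IsDefectGroup p M f ((R ⊓ Subgroup.centralizer (Q : Set G)).subgroupOf
        (Subgroup.centralizer (Q : Set G))) := by
  classical
  have h1 := isDefectGroup_irrMap_image (centConj Q x).symm h
  have e1 : irrMap (centConj Q x).symm '' (conjBlock Q x f) = f := by
    rw [conjBlock_eq_image, Set.image_image]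
    have : ∀ ξ, irrMap (centConj Q x).symm (irrMap (centConj Q x) ξ) = ξ := by
      intro ξ
      apply Subtype.ext
      funext c
      rw [irrMap_apply, irrMap_apply, MulEquiv.apply_symm_apply]
    simp only [this, Set.image_id']
  rw [e1, ← comap_centConj_subgroupOf] at h1
  have e2 : (((R ⊓ Subgroup.centralizer (Q : Set G)).subgroupOf
        (Subgroup.centralizer (Q : Set G))).comap (centConj Q x).toMonoidHom).comap
        (centConj Q x).symm.toMonoidHom =
      (R ⊓ Subgroup.centralizer (Q : Set G)).subgroupOf (Subgroup.centralizer (Q : Set G)) := by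
    ext c
    rw [Subgroup.mem_comap, Subgroup.mem_comap]
    show (centConj Q x) ((centConj Q x).symm c) ∈ _ ↔ _
    rw [MulEquiv.apply_symm_apply]
  rw [e2] at h1
  exact h1

/-- The forward direction of the previous lemma. -/
theorem isDefectGroup_conjBlock {p : ℕ} [Fact p.Prime] {M : Ideal AlgInt}
    {Q R : Subgroup G} {f : Set (IrrCharacter (Subgroup.centralizer (Q : Set G)))} (x : G)
    (h : IsDefectGroup p M f ((R ⊓ Subgroup.centralizer (Q : Set G)).subgroupOf
        (Subgroup.centralizer (Q : Set G)))) :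
    IsDefectGroup p M (conjBlock Q x f)
      ((R.map (MulAut.conj x).toMonoidHom ⊓
          Subgroup.centralizer ((Q.map (MulAut.conj x).toMonoidHom : Subgroup G) : Set G)).subgroupOf
        (Subgroup.centralizer ((Q.map (MulAut.conj x).toMonoidHom : Subgroup G) : Set G))) := by
  classical
  have h1 := isDefectGroup_irrMap_image (centConj Q x) h
  rw [← conjBlock_eq_image, comap_centConj_subgroupOf] at h1
  exact h1

section Fusion

variable {p : ℕ} [Fact p.Prime] {M : Ideal AlgInt} {B : Set (IrrCharacter G)} {P : Subgroup G}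
  {e : Set (IrrCharacter (Subgroup.centralizer (P : Set G)))} {F : FusionSystem P}

omit [Fintype G] [Fact p.Prime] in
theorem range_conjHom (Q : Subgroup G) (x : G) :
    (conjHom Q x).range = Q.map (MulAut.conj x).toMonoidHom := by
  unfold conjHom
  rw [MonoidHom.range_comp, Subgroup.range_subtype]

omit [Fintype G] [Fact p.Prime] in
/-- A conjugate pair below `(P, e)` gives a conjugate subgroup in the fusion system. -/
theorem isConj_of_subpairLE_conj (hF : IsBlockFusionSystemOn p M B P e F) {Q : Subgroup G}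
    {f : Set (IrrCharacter (Subgroup.centralizer (Q : Set G)))} (hQP : Q ≤ P)
    (hle : SubpairLE p M Q f P e) {x : G}
    (hx : SubpairLE p M (Q.map (MulAut.conj x).toMonoidHom) (conjBlock Q x f) P e) :
    F.IsConj Q (Q.map (MulAut.conj x).toMonoidHom) := by
  refine ⟨conjHom Q x, ?_, range_conjHom Q x⟩
  rw [hF.2]
  refine ⟨hQP, x, fun u => rfl, ?_, f, hle, hx⟩
  exact Cfsg.Agent.Lib.Helper52.Subpairs.le_of_reflTransGen hx

/-- A subgroup conjugate to `Q` in the fusion system is `Q^g` with `(Q, f)^g ≤ (P, e)`. -/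
theorem exists_of_isConj (hpM : IsPModular p M) (hF : IsBlockFusionSystemOn p M B P e F)
    {Q : Subgroup G} {f : Set (IrrCharacter (Subgroup.centralizer (Q : Set G)))}
    (hle : SubpairLE p M Q f P e) {R : Subgroup G} (hR : F.IsConj Q R) :
    ∃ g : G, R = Q.map (MulAut.conj g).toMonoidHom ∧
      SubpairLE p M (Q.map (MulAut.conj g).toMonoidHom) (conjBlock Q g f) P e := by
  obtain ⟨φ, hφ, hrange⟩ := hR
  rw [hF.2] at hφ
  obtain ⟨-, g, hφg, -, f₁, hf₁, hf₁g⟩ := hφ
  have hPe : IsBrauerPair p M P e := hF.1.1.1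
  have hff : f₁ = f :=
    Cfsg.Agent.Lib.Helper52.Subpairs.subpairLE_unique hpM _ P Q e f₁ f rfl hPe hf₁ hle
  rw [hff] at hf₁g
  refine ⟨g, ?_, hf₁g⟩
  rw [← hrange, ← range_conjHom]
  congr 1
  ext u
  exact hφg u

/-- **Fully centralized subgroups.** -/
theorem fullyCentralized_iff (hpM : IsPModular p M) (hF : IsBlockFusionSystemOn p M B P e F)
    (h61 : ∀ (Q : Subgroup G) (f : Set (IrrCharacter (Subgroup.centralizer (Q : Set G)))),
      Q ≤ P → IsPBlock M f → SubpairLE p M Q f P e → Concl61 p M P Q e f)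
    {Q : Subgroup G} {f : Set (IrrCharacter (Subgroup.centralizer (Q : Set G)))} (hQP : Q ≤ P)
    (hf : IsPBlock M f) (hle : SubpairLE p M Q f P e) :
    F.IsFullyCentralized Q ↔ IsDefectGroup p M f
      ((P ⊓ Subgroup.centralizer (Q : Set G)).subgroupOf (Subgroup.centralizer (Q : Set G))) := by
  classical
  have hcardC : ∀ R : Subgroup G, Nat.card (FusionSystem.centralizerIn P R) =
      Nat.card ((P ⊓ Subgroup.centralizer (R : Set G)).subgroupOf
        (Subgroup.centralizer (R : Set G))) := fun R =>
    (Nat.card_congr (Subgroup.subgroupOfEquivOfLe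
      (inf_le_right : P ⊓ Subgroup.centralizer (R : Set G) ≤ _)).toEquiv).symm
  constructor
  · rintro ⟨-, hfc⟩
    obtain ⟨⟨D, hD, hCD⟩, x, hxle, hxD⟩ := h61 Q f hQP hf hle
    have hconj := isConj_of_subpairLE_conj hF hQP hle hxle
    have h1 := hfc _ hconj
    rw [hcardC, hcardC] at h1
    have h2 := card_defect_conjBlock hpM hf x hD hxD
    have h3 : Nat.card D ≤ Nat.card ((P ⊓ Subgroup.centralizer (Q : Set G)).subgroupOf
        (Subgroup.centralizer (Q : Set G))) := by rw [h2]; exact h1
    have h4 := Subgroup.eq_of_le_of_card_ge hCD h3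
    rw [h4]
    exact hD
  · intro hdef
    refine ⟨hQP, fun R hR => ?_⟩
    obtain ⟨g, rfl, hgle⟩ := exists_of_isConj hpM hF hle hR
    have hfg : IsPBlock M (conjBlock Q g f) := by
      rw [conjBlock_eq_image]
      exact isPBlock_irrMap_image _ hf
    have hQg : Q.map (MulAut.conj g).toMonoidHom ≤ P :=
      Cfsg.Agent.Lib.Helper52.Subpairs.le_of_reflTransGen hgle
    obtain ⟨⟨D', hD', hCD'⟩, -⟩ := h61 _ _ hQg hfg hgle
    rw [hcardC, hcardC]
    have h2 := card_defect_conjBlock hpM hf g hdef hD'
    rw [h2]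
    exact Subgroup.card_le_of_le hCD'

/-- **Centric subgroups.** -/
theorem centric_iff (hpM : IsPModular p M) (hF : IsBlockFusionSystemOn p M B P e F)
    (h61 : ∀ (Q : Subgroup G) (f : Set (IrrCharacter (Subgroup.centralizer (Q : Set G)))),
      Q ≤ P → IsPBlock M f → SubpairLE p M Q f P e → Concl61 p M P Q e f)
    {Q : Subgroup G} {f : Set (IrrCharacter (Subgroup.centralizer (Q : Set G)))} (hQP : Q ≤ P)
    (hf : IsPBlock M f) (hle : SubpairLE p M Q f P e) :
    F.IsCentric Q ↔ IsDefectGroup p M f
      ((Q ⊓ Subgroup.centralizer (Q : Set G)).subgroupOf (Subgroup.centralizer (Q : Set G))) := by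
  classical
  constructor
  · rintro ⟨-, hc⟩
    obtain ⟨-, x, hxle, hxD⟩ := h61 Q f hQP hf hle
    have hconj := isConj_of_subpairLE_conj hF hQP hle hxle
    have h1 := hc _ hconj
    have hQx : Q.map (MulAut.conj x).toMonoidHom ≤ P :=
      Cfsg.Agent.Lib.Helper52.Subpairs.le_of_reflTransGen hxle
    have e1 : P ⊓ Subgroup.centralizer ((Q.map (MulAut.conj x).toMonoidHom : Subgroup G) : Set G) =
        Q.map (MulAut.conj x).toMonoidHom ⊓
          Subgroup.centralizer ((Q.map (MulAut.conj x).toMonoidHom : Subgroup G) : Set G) := by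
      apply le_antisymm
      · exact le_inf h1 inf_le_right
      · exact inf_le_inf_right _ hQx
    rw [e1] at hxD
    exact isDefectGroup_of_conjBlock x hxD
  · intro hdef
    refine ⟨hQP, fun R hR => ?_⟩
    obtain ⟨g, rfl, hgle⟩ := exists_of_isConj hpM hF hle hR
    have hfg : IsPBlock M (conjBlock Q g f) := by
      rw [conjBlock_eq_image]
      exact isPBlock_irrMap_image _ hf
    have hQg : Q.map (MulAut.conj g).toMonoidHom ≤ P :=
      Cfsg.Agent.Lib.Helper52.Subpairs.le_of_reflTransGen hgle
    obtain ⟨⟨D', hD', hCD'⟩, -⟩ := h61 _ _ hQg hfg hgle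
    have hZ := isDefectGroup_conjBlock g hdef
    have h2 := card_defect_conjBlock hpM hf g hdef hD'
    -- `Z(Q^g) ≤ C_P(Q^g) ≤ D'` with `|Z(Q^g)| = |D'|`
    have hle1 : (Q.map (MulAut.conj g).toMonoidHom ⊓
          Subgroup.centralizer ((Q.map (MulAut.conj g).toMonoidHom : Subgroup G) : Set G)).subgroupOf
        (Subgroup.centralizer ((Q.map (MulAut.conj g).toMonoidHom : Subgroup G) : Set G)) ≤
        (P ⊓ Subgroup.centralizer ((Q.map (MulAut.conj g).toMonoidHom : Subgroup G) : Set G)).subgroupOf
          (Subgroup.centralizer ((Q.map (MulAut.conj g).toMonoidHom : Subgroup G) : Set G)) := by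
      intro c hc
      rw [Subgroup.mem_subgroupOf] at hc ⊢
      exact ⟨hQg hc.1, hc.2⟩
    obtain ⟨χ₀, hχ₀⟩ := hfg
    rw [hχ₀] at hZ hD'
    have h3 := card_eq_of_isDefectGroup hpM χ₀ hZ hD'
    have h4 := Subgroup.eq_of_le_of_card_ge (hle1.trans hCD') h3.symm.le
    intro y hy
    have hyC : y ∈ Subgroup.centralizer
        ((Q.map (MulAut.conj g).toMonoidHom : Subgroup G) : Set G) := hy.2
    have h5 : (⟨y, hyC⟩ : Subgroup.centralizer
        ((Q.map (MulAut.conj g).toMonoidHom : Subgroup G) : Set G)) ∈ D' := by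
      apply hCD'
      rw [Subgroup.mem_subgroupOf]
      exact hy
    rw [← h4, Subgroup.mem_subgroupOf] at h5
    exact h5.1

end Fusion

end Cfsg.Agent.Lib.Helper77
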