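import Cfsg.Agent.Lib.Helper77.LTransC
import Cfsg.Agent.Lib.Helper52.PairUp

/-!
# A Sylow theorem for Brauer pairs inside the stabilizer of a pair
-/

set_option autoImplicit false

universe u

namespace Cfsg.Agent.Lib.Helper77

open Cfsg
open Cfsg.Agent.Lib.Helper81
open Cfsg.Agent.Lib.Helper80
open Cfsg.Agent.Lib.Helper52.ConjPairs (conjIdx conjSub)
open Cfsg.Agent.Lib.Helper52.PairUp (up)

variable {G : Type u} [Group G] [Fintype G] {p : ℕ} [Fact p.Prime] {M : Ideal AlgInt}

/-- An inclusion between pairs on the same subgroup is an equality. -/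
theorem eq_of_reflTransGen_of_fst_eq (hpM : IsPModular p M) {a b : BrauerPairIdx G}
    (h : Relation.ReflTransGen (NormalSubpairRel p M) a b) (hab : a.1 = b.1) : a = b := by
  rcases Cfsg.Agent.Lib.Helper52.Subpairs.subpairLE_cases hpM h with h1 | ⟨c, hac, hcb, hne⟩
  · exact h1
  · exfalso
    apply hne
    have h1 : a.1 ≤ c.1 := Cfsg.Agent.Lib.Helper52.Subpairs.le_of_reflTransGen hac
    have h2 : c.1 ≤ b.1 := hcb.2.2.1
    exact le_antisymm h2 (hab ▸ h1)

/-- A Brauer pair of `B` on a defect group of `B` is maximal. -/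
theorem isMaximalBrauerPair_of_isDefectGroup (hpM : IsPModular p M) {B : Set (IrrCharacter G)}
    {R : Subgroup G} {g : Set (IrrCharacter (Subgroup.centralizer (R : Set G)))}
    (hRg : IsBrauerPairOf p M B R g) (hR : IsDefectGroup p M B R) :
    IsMaximalBrauerPair p M B R g := by
  refine ⟨hRg, fun R₂ g₂ hR₂ hle => ?_⟩
  obtain ⟨R₃, g₃, hmax₃, hle₃⟩ := exists_isMaximalBrauerPair_ge _ R₂ g₂ rfl hR₂
  have hR₃ := isDefectGroup_of_isMaximalBrauerPair hpM hmax₃
  obtain ⟨χ₀, hχ₀⟩ := hRg.2.1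
  rw [hχ₀] at hR hR₃
  have hcard := card_eq_of_isDefectGroup hpM χ₀ hR hR₃
  have h1 : R ≤ R₂ := Cfsg.Agent.Lib.Helper52.Subpairs.le_of_reflTransGen hle
  have h2 : R₂ ≤ R₃ := Cfsg.Agent.Lib.Helper52.Subpairs.le_of_reflTransGen hle₃
  have h3 : Nat.card R₂ ≤ Nat.card R := by
    rw [hcard]
    exact Subgroup.card_le_of_le h2
  exact (Subgroup.eq_of_le_of_card_ge h1 h3).symm

section Stab

variable {Q T : Subgroup G} {f : Set (IrrCharacter (Subgroup.centralizer (Q : Set G)))}

/-- A pair normally above `(Q, f)` comes from a Brauer pair of the block of the stabilizer. -/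
theorem exists_down_aux {F : Set (IrrCharacter T)} (hF : IsPBlock M F)
    (hFc : ∀ t : T, blockCoeff F t =
      subgroupBlockCoeff (Subgroup.centralizer (Q : Set G)) f (t : G))
    (hCT : Subgroup.centralizer (Q : Set G) ≤ T) (A' : Subgroup T) (A : Subgroup G)
    (hA : A = A'.map T.subtype)
    (g : Set (IrrCharacter (Subgroup.centralizer (A : Set G))))
    (hN : IsNormalSubpair p M Q f A g) :
    ∃ a' : BrauerPairIdx T, IsBrauerPairOf p M F a'.1 a'.2 ∧ up a' = ⟨A, g⟩ ∧ a'.1 = A' := by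
  subst hA
  have hDC : Subgroup.centralizer ((A'.map T.subtype : Subgroup G) : Set G) ≤ T :=
    (Subgroup.centralizer_le hN.2.2.1).trans hCT
  refine ⟨⟨A', irrMap (centEquiv A' hDC).symm '' g⟩,
    Cfsg.Agent.Lib.Helper52.StabBlock.isBrauerPairOf_sub_of_isNormalSubpair hF hFc hDC hN, ?_, rfl⟩
  show (⟨A'.map T.subtype, Cfsg.Agent.Lib.Helper52.PairUp.upBlock A'
    (irrMap (centEquiv A' hDC).symm '' g)⟩ : BrauerPairIdx G) = ⟨A'.map T.subtype, g⟩
  rw [Cfsg.Agent.Lib.Helper52.PairUp.upBlock_image_symm]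

theorem exists_down
    (hT : ∀ y : G, y ∈ T ↔ y ∈ Subgroup.normalizer (Q : Set G) ∧
      StabilizesBlock (Subgroup.centralizer (Q : Set G)) f y)
    {F : Set (IrrCharacter T)} (hF : IsPBlock M F)
    (hFc : ∀ t : T, blockCoeff F t =
      subgroupBlockCoeff (Subgroup.centralizer (Q : Set G)) f (t : G))
    {a : BrauerPairIdx G} (hN : NormalSubpairRel p M ⟨Q, f⟩ a) :
    ∃ a' : BrauerPairIdx T, IsBrauerPairOf p M F a'.1 a'.2 ∧ up a' = a ∧
      a'.1.map T.subtype = a.1 := by
  classical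
  have := Fintype.ofFinite (Subgroup.centralizer (Q : Set G))
  obtain ⟨A, g⟩ := a
  have hN' : IsNormalSubpair p M Q f A g := hN
  have hCT : Subgroup.centralizer (Q : Set G) ≤ T := fun c hc =>
    (hT c).mpr ⟨Subgroup.centralizer_le_normalizer _ hc, stabilizesBlock_of_mem _ f hc⟩
  have hAT : A ≤ T := fun y hy => (hT y).mpr ⟨hN'.2.2.2.1 hy, hN'.2.2.2.2.1 y hy⟩
  have hA : A = (A.subgroupOf T).map T.subtype := (Subgroup.map_subgroupOf_eq_of_le hAT).symm
  obtain ⟨a', h1, h2, h3⟩ := exists_down_aux hF hFc hCT (A.subgroupOf T) A hA g hN'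
  refine ⟨a', h1, h2, ?_⟩
  rw [h3]
  exact hA.symm

/-- **Sylow's theorem for pairs above `(Q, f)`.** Let `T` be the stabilizer of `(Q, f)`, `F` the
block of `T` with the idempotent of `f` and `D'` a defect group of `F`.  If `a` and `b` are pairs
normally above `(Q, f)` and the subgroup of `b` is `D'`, then some `T`-conjugate of `a` lies below
`b`. -/
theorem sylow_stab (hpM : IsPModular p M)
    (hT : ∀ y : G, y ∈ T ↔ y ∈ Subgroup.normalizer (Q : Set G) ∧
      StabilizesBlock (Subgroup.centralizer (Q : Set G)) f y)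
    {F : Set (IrrCharacter T)} (hF : IsPBlock M F)
    (hFc : ∀ t : T, blockCoeff F t =
      subgroupBlockCoeff (Subgroup.centralizer (Q : Set G)) f (t : G))
    {D' : Subgroup T} (hD' : IsDefectGroup p M F D')
    {a b : BrauerPairIdx G} (ha : NormalSubpairRel p M ⟨Q, f⟩ a)
    (hb : NormalSubpairRel p M ⟨Q, f⟩ b) (hbD : b.1 = D'.map T.subtype) :
    ∃ n ∈ T, Relation.ReflTransGen (NormalSubpairRel p M) (conjIdx n a) b := by
  classical
  have hM : M.IsPrime := isPrime_of_isPModular hpM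
  have := Fintype.ofFinite (Subgroup.centralizer (Q : Set G))
  have := Fintype.ofFinite T
  have hCT : Subgroup.centralizer (Q : Set G) ≤ T := fun c hc =>
    (hT c).mpr ⟨Subgroup.centralizer_le_normalizer _ hc, stabilizesBlock_of_mem _ f hc⟩
  have hTN : T ≤ Subgroup.normalizer (Q : Set G) := fun t ht => ((hT t).mp ht).1
  obtain ⟨a', ha'F, ha'up, ha'1⟩ := exists_down hT hF hFc ha
  obtain ⟨b', hb'F, hb'up, hb'1⟩ := exists_down hT hF hFc hb
  have hb'D : b'.1 = D' := by
    apply Subgroup.map_injective T.subtype_injective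
    rw [hb'1, hbD]
  have hb'def : IsDefectGroup p M F b'.1 := by rw [hb'D]; exact hD'
  have hmax := isMaximalBrauerPair_of_isDefectGroup hpM hb'F hb'def
  obtain ⟨n, hn⟩ := exists_conj_subpairLE hpM hmax ha'F
  refine ⟨(n : G), n.2, ?_⟩
  have hn' : Relation.ReflTransGen (NormalSubpairRel p M) (conjIdx n a') b' := hn
  have hQa : Q ≤ a'.1.map T.subtype := by rw [ha'1]; exact ha.2.2.1
  have hCa : Subgroup.centralizer ((a'.1.map T.subtype : Subgroup G) : Set G) ≤ T :=
    (Subgroup.centralizer_le hQa).trans hCT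
  have hCa' : Subgroup.centralizer (((conjIdx n a').1.map T.subtype : Subgroup G) : Set G) ≤ T := by
    show Subgroup.centralizer (((conjSub a'.1 n).map T.subtype : Subgroup G) : Set G) ≤ T
    rw [Cfsg.Agent.Lib.Helper52.PairUp.map_conjSub]
    intro y hy
    have h1 : (n : G)⁻¹ * y * (n : G) ∈ T :=
      hCa (Cfsg.Agent.Lib.Helper52.ConjPairs.mem_centralizer_conjSub.mp hy)
    have e1 : y = (n : G) * ((n : G)⁻¹ * y * (n : G)) * (n : G)⁻¹ := by group
    rw [e1]
    exact T.mul_mem (T.mul_mem n.2 h1) (T.inv_mem n.2)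
  have h2 := Cfsg.Agent.Lib.Helper52.PairUp.reflTransGen_up hCa' hn'
  rw [Cfsg.Agent.Lib.Helper52.PairUp.up_conjIdx n a' hCa, ha'up, hb'up] at h2
  exact h2

end Stab

end Cfsg.Agent.Lib.Helper77
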