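import Cfsg.Agent.Lib.Helper77.NilC
import Cfsg.Agent.Lib.Helper77.InducedOmega

/-!
# Local blocks over an abelian maximal Brauer pair
-/

set_option autoImplicit false

universe u

namespace Cfsg.Agent.Lib.Helper77

open Cfsg
open Cfsg.Agent.Lib.Helper81
open Cfsg.Agent.Lib.Helper80
open scoped Pointwise

variable {G : Type u} [Group G]

/-- The induced central character computed inside `L` agrees with the induced central character
of the group `L`, along an identification of the subgroup. -/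
theorem inducedCentralChar_eq_In {L K : Subgroup G} {K' : Subgroup L} (φ : K' ≃* K)
    (hφ : ∀ k' : K', ((φ k' : K) : G) = ((k' : L) : G)) (ξ : IrrCharacter K) (h : L) :
    inducedCentralChar K' (irrMap φ ξ : K' → ℂ) h =
      inducedCentralCharIn L K (ξ : K → ℂ) (h : G) := by
  unfold inducedCentralChar inducedCentralCharIn
  refine finsum_mem_eq_of_bijOn φ ⟨?_, φ.injective.injOn, ?_⟩ fun k' _ => ?_
  · intro k' hk'
    obtain ⟨x, hx⟩ := isConj_iff.mp hk'
    refine ⟨x⁻¹, ?_⟩
    rw [hφ, ← hx]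
    push_cast
    group
  · intro k hk
    obtain ⟨x, hx⟩ := hk
    refine ⟨φ.symm k, ?_, φ.apply_symm_apply k⟩
    refine isConj_iff.mpr ⟨x⁻¹, ?_⟩
    apply Subtype.ext
    push_cast
    rw [← hx]
    have := hφ (φ.symm k)
    rw [φ.apply_symm_apply] at this
    rw [← this]
    group
  · rw [irrMap_apply, irrMap_apply, map_one]

theorem isInducedBlock_of_In {M : Ideal AlgInt} {L K : Subgroup G} {K' : Subgroup L}
    (φ : K' ≃* K) (hφ : ∀ k' : K', ((φ k' : K) : G) = ((k' : L) : G))
    {e : Set (IrrCharacter K)} {f : Set (IrrCharacter L)} (h : IsInducedBlockIn M L K e f) :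
    IsInducedBlock M K' (irrMap φ '' e) f := by
  refine ⟨isPBlock_irrMap_image φ h.1, h.2.1, ?_⟩
  rintro _ ⟨ξ, hξ, rfl⟩ χ hχ l
  rw [inducedCentralChar_eq_In φ hφ]
  exact h.2.2 ξ hξ χ hχ l

theorem isInducedBlockIn_of_isInducedBlock {M : Ideal AlgInt} {L K : Subgroup G}
    {K' : Subgroup L}
    (φ : K' ≃* K) (hφ : ∀ k' : K', ((φ k' : K) : G) = ((k' : L) : G))
    {e : Set (IrrCharacter K)} (he : IsPBlock M e) {f : Set (IrrCharacter L)}
    (h : IsInducedBlock M K' (irrMap φ '' e) f) : IsInducedBlockIn M L K e f := by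
  refine ⟨he, h.2.1, fun ξ hξ χ hχ l => ?_⟩
  rw [← inducedCentralChar_eq_In φ hφ]
  exact h.2.2 _ ⟨ξ, hξ, rfl⟩ χ hχ l

variable [Fintype G] {p : ℕ} [Fact p.Prime] {M : Ideal AlgInt}

/-- Converse of Lemma IB: a block of `C_G(P)` inducing `B` gives a Brauer pair of `B`. -/
theorem isBrauerPairOf_of_isInducedBlock (hpM : IsPModular p M) {B : Set (IrrCharacter G)}
    {P : Subgroup G} (hPp : IsPGroup p P)
    {c : Set (IrrCharacter (Subgroup.centralizer (P : Set G)))}
    (hc : IsInducedBlock M (Subgroup.centralizer (P : Set G)) c B) :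
    IsBrauerPairOf p M B P c := by
  classical
  have hM : M.IsPrime := isPrime_of_isPModular hpM
  have := Fintype.ofFinite (Subgroup.centralizer (P : Set G))
  refine ⟨⟨hPp, hc.1⟩, hc.2.1, fun ξ hξ => ?_⟩
  obtain ⟨χ₀, hBχ₀⟩ := hc.2.1
  have hχ₀ : χ₀ ∈ B := by rw [hBχ₀]; exact sameBlock_refl hM _
  have hZ : ZS M (blockCoeff B) := by rw [hBχ₀]; exact ZS.blockCoeff hpM χ₀
  have h1 := memLocalIdeal_omega_restrict_sub hM _ hc hξ hχ₀ hZ
  rw [omega_blockCoeff, if_pos hχ₀] at h1
  rw [brauerOmega_eq_omega]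
  have e1 : brRes P (Subgroup.centralizer (P : Set G)) (blockCoeff B) =
      fun h : Subgroup.centralizer (P : Set G) => blockCoeff B (h : G) := by
    funext h
    exact brRes_pos _ h.2
  rw [e1]
  exact h1

/-- A `p`-element of the stabilizer of an abelian maximal pair `(P, e)` centralizes `P`. -/
theorem ppow_mem_centralizer_of_abelian (hpM : IsPModular p M) {B : Set (IrrCharacter G)}
    {P : Subgroup G} {e : Set (IrrCharacter (Subgroup.centralizer (P : Set G)))}
    (hmax : IsMaximalBrauerPair p M B P e) (hab : ∀ x ∈ P, ∀ y ∈ P, x * y = y * x) {z : G}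
    (hzN : z ∈ Subgroup.normalizer (P : Set G))
    (hzst : StabilizesBlock (Subgroup.centralizer (P : Set G)) e z) {k : ℕ}
    (hk : orderOf z = p ^ k) : z ∈ Subgroup.centralizer (P : Set G) := by
  classical
  have hM : M.IsPrime := isPrime_of_isPModular hpM
  have := Fintype.ofFinite (Subgroup.centralizer (P : Set G))
  have hBP := hmax.1
  have he : IsPBlock M e := hBP.1.2
  have hPp : IsPGroup p P := hBP.1.1
  have hPC : P ≤ Subgroup.centralizer (P : Set G) := le_centralizer_of_abelian hab le_rfl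
  have hZp : IsPGroup p (Subgroup.zpowers z) := by
    apply IsPGroup.of_card (n := k)
    rw [Nat.card_zpowers, hk]
  have hZN : Subgroup.zpowers z ≤ Subgroup.normalizer (P : Set G) := by
    rw [Subgroup.zpowers_le]
    exact hzN
  have hSp : IsPGroup p (Subgroup.zpowers z ⊔ P : Subgroup G) :=
    IsPGroup.to_sup_of_normal_right' hZp hPp hZN
  have hSN : Subgroup.zpowers z ⊔ P ≤ Subgroup.normalizer (P : Set G) :=
    sup_le hZN Subgroup.le_normalizer
  have hSe : ∀ y ∈ Subgroup.zpowers z ⊔ P,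
      StabilizesBlock (Subgroup.centralizer (P : Set G)) e y := by
    have hle : Subgroup.zpowers z ⊔ P ≤ stabSub (Subgroup.centralizer (P : Set G)) e := by
      refine sup_le ?_ ?_
      · rw [Subgroup.zpowers_le]
        exact (mem_stabSub_iff hM _ he).mpr hzst
      · intro y hy
        exact (mem_stabSub_iff hM _ he).mpr (stabilizesBlock_of_mem _ e (hPC hy))
    intro y hy
    exact (mem_stabSub_iff hM _ he).mp (hle hy)
  obtain ⟨D, g, hDg, hsup, -⟩ := claimX hpM hPp he hSp le_sup_right hSN hSe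
  have hDB : IsBrauerPairOf p M B D g := isBrauerPairOf_of_isNormalSubpair hpM hDg hBP
  have hDP : D = P := hmax.2 D g hDB (Relation.ReflTransGen.single hDg)
  have h1 : z ∈ Subgroup.zpowers z ⊔ P ⊔ Subgroup.centralizer (P : Set G) :=
    Subgroup.mem_sup_left (Subgroup.mem_sup_left (Subgroup.mem_zpowers _))
  rw [← hsup, hDP, sup_eq_right.mpr hPC] at h1
  exact h1

end Cfsg.Agent.Lib.Helper77
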