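import Cfsg.Agent.Lib.Helper77.BPairM

/-!
# Brauer pairs: every Brauer pair of `B` is conjugate into a given maximal one
-/

set_option autoImplicit false

universe u

namespace Cfsg.Agent.Lib.Helper77

open Cfsg
open Cfsg.Agent.Lib.Helper81
open Cfsg.Agent.Lib.Helper80
open Cfsg.Agent.Lib.Helper16
open Cfsg.Agent.S4681 (centConj)

variable {G : Type u} [Group G]

theorem conj_mul_toMonoidHom (m x : G) :
    (MulAut.conj (m * x)).toMonoidHom =
      (MulAut.conj m).toMonoidHom.comp (MulAut.conj x).toMonoidHom := by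
  ext y
  simp [MulAut.conj_apply, mul_assoc]

theorem map_conj_eq_of_mem_normalizer {P : Subgroup G} {m : G}
    (hm : m ∈ Subgroup.normalizer (P : Set G)) : P.map (MulAut.conj m).toMonoidHom = P :=
  Subgroup.mem_normalizer_iff_map_conj_eq.mp hm

/-- **Every Brauer pair of `B` is conjugate into a given maximal Brauer pair of `B`.** -/
theorem exists_conj_subpairLE [Fintype G] {p : ℕ} [Fact p.Prime] {M : Ideal AlgInt}
    (hpM : IsPModular p M) {B : Set (IrrCharacter G)} {P Q : Subgroup G}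
    {e : Set (IrrCharacter (Subgroup.centralizer (P : Set G)))}
    {f : Set (IrrCharacter (Subgroup.centralizer (Q : Set G)))}
    (hmax : IsMaximalBrauerPair p M B P e) (hQf : IsBrauerPairOf p M B Q f) :
    ∃ x : G, SubpairLE p M (Q.map (MulAut.conj x).toMonoidHom) (conjBlock Q x f) P e := by
  classical
  have hM : M.IsPrime := isPrime_of_isPModular hpM
  obtain ⟨Q', f', hmax', hle⟩ := exists_isMaximalBrauerPair_ge _ Q f rfl hQf
  have hPdef := isDefectGroup_of_isMaximalBrauerPair hpM hmax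
  have hQ'def := isDefectGroup_of_isMaximalBrauerPair hpM hmax'
  obtain ⟨χ₀, hBχ₀⟩ := hQf.2.1
  have hPdef' := hPdef
  have hQ'def' := hQ'def
  rw [hBχ₀] at hPdef' hQ'def'
  obtain ⟨x, hx⟩ := exists_conj_le_of_isDefectGroup hpM χ₀ hPdef' hQ'def'
  have hxeq : Q'.map (MulAut.conj x).toMonoidHom = P := by
    have h1 : Q'.map (MulAut.conj x).toMonoidHom ≤ P := hx
    refine Subgroup.eq_of_le_of_card_ge h1 ?_
    rw [Subgroup.card_map_of_injective (MulAut.conj x).injective,
      card_eq_of_isDefectGroup hpM χ₀ hPdef' hQ'def']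
  have hB'' := isBrauerPairOf_conj hmax'.1 x
  have hmaxB := hmax.1
  clear hPdef' hQ'def' hx
  subst hxeq
  have h1 := isInducedBlock_of_isBrauerPairOf hpM hB''
  have h2 := isInducedBlock_of_isBrauerPairOf hpM hmaxB
  obtain ⟨m, hm, hmN, himg⟩ := exists_normalizer_conj_centralizer hpM hPdef h1 h2
  refine ⟨m * x, ?_⟩
  have hle_z := subpairLE_conj (p := p) (M := M) (m * x) hle
  have hPP : Q'.map (MulAut.conj (m * x)).toMonoidHom = Q'.map (MulAut.conj x).toMonoidHom := by
    rw [conj_mul_toMonoidHom, ← Subgroup.map_map]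
    exact map_conj_eq_of_mem_normalizer hmN
  have hE3 : (⟨Q'.map (MulAut.conj (m * x)).toMonoidHom, conjBlock Q' (m * x) f'⟩ :
      BrauerPairIdx G) = ⟨Q'.map (MulAut.conj x).toMonoidHom, e⟩ := by
    refine brauerPairIdx_ext hPP _ _ fun ξ' => ?_
    rw [← himg]
    constructor
    · rintro ⟨ξ₀, hξ₀, hrel⟩
      refine ⟨cjIrr _ m hm (irrMap (centConj Q' x) ξ₀), ⟨irrMap (centConj Q' x) ξ₀, ?_, rfl⟩,
        fun c' c hc => ?_⟩
      · rw [conjBlock_eq_image]
        exact Set.mem_image_of_mem _ hξ₀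
      · rw [cjIrr_apply, irrMap_apply]
        apply hrel
        rw [coe_centConj, coe_conjAut, hc]
        group
    · rintro ⟨ξ, ⟨ξ₁, hξ₁, rfl⟩, hrel⟩
      rw [conjBlock_eq_image] at hξ₁
      obtain ⟨ξ₀, hξ₀, rfl⟩ := hξ₁
      refine ⟨ξ₀, hξ₀, fun c₀ c' hc' => ?_⟩
      have hc'mem : (c' : G) ∈ Subgroup.centralizer
          ((Q'.map (MulAut.conj x).toMonoidHom : Subgroup G) : Set G) := by
        rw [← hPP]
        exact c'.2
      rw [hrel c' ⟨c', hc'mem⟩ rfl, cjIrr_apply, irrMap_apply]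
      refine congrArg _ (Subtype.ext ?_)
      rw [coe_centConj, coe_conjAut]
      show x⁻¹ * (m⁻¹ * (c' : G) * m) * x = (c₀ : G)
      rw [hc']
      group
  show Relation.ReflTransGen (NormalSubpairRel p M) _ _
  rw [← hE3]
  exact hle_z

end Cfsg.Agent.Lib.Helper77
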