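import Cfsg.Agent.Lib.Helper77.BlockPartCoeff
import Cfsg.Agent.Lib.Helper77.DefectClass
import Cfsg.Agent.Lib.Helper77.InducedBlock2
import Cfsg.Agent.Lib.Helper3.Complete

/-!
# A class function is the sum of its block parts
-/

set_option autoImplicit false

universe u

namespace Cfsg.Agent.Lib.Helper77

open Cfsg
open scoped ComplexConjugate

variable {G : Type u} [Group G] [Fintype G]

/-- If all block parts of a class function vanish at a point, so does the function. -/
theorem eq_zero_of_forall_blockPart_eq_zero {M : Ideal AlgInt} (hM : M.IsPrime) {ϑ : G → ℂ}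
    (hϑ : IsClassFunction G ϑ) (y : G)
    (h : ∀ ξ₀ : IrrCharacter G, blockPart (blockOf M (ξ₀ : G → ℂ)) ϑ y = 0) : ϑ y = 0 := by
  classical
  have := Fintype.ofFinite (IrrCharacter G)
  have h1 := congrFun (Cfsg.Agent.Lib.Helper3.classFunction_eq_sum hϑ) y
  rw [Finset.sum_apply] at h1
  rw [h1]
  set a : IrrCharacter G → ℂ := fun ξ => (classInner ϑ (ξ : G → ℂ) • (ξ : G → ℂ)) y with ha
  let gmap : IrrCharacter G → Set (IrrCharacter G) := fun ξ => blockOf M (ξ : G → ℂ)
  rw [← Finset.sum_fiberwise_of_maps_to (s := Finset.univ) (t := Finset.univ.image gmap)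
    (g := gmap) (fun x _ => Finset.mem_image_of_mem _ (Finset.mem_univ x))]
  refine Finset.sum_eq_zero fun b hb => ?_
  obtain ⟨ξ₁, -, rfl⟩ := Finset.mem_image.mp hb
  have h2 := h ξ₁
  rw [blockPart_eq_sum] at h2
  rw [← h2]
  apply Finset.sum_congr
  · ext ξ
    simp only [Finset.mem_filter, Finset.mem_univ, true_and, gmap]
    constructor
    · intro hξ
      rw [← hξ]
      exact self_mem_blockOf hM ξ
    · intro hξ
      exact blockOf_eq_of_mem hM hξ
  · intro ξ _
    rfl

end Cfsg.Agent.Lib.Helper77
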