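import Cfsg.Agent.Lib.Helper77.BrauerCorr
import Cfsg.Agent.Lib.Helper77.TransportDefect
import Cfsg.Prelude.Def_BrauerPairs

set_option autoImplicit false

universe u

namespace Cfsg.Agent.Lib.Helper77

open Cfsg
open Cfsg.Agent.Lib.Helper81
open Cfsg.Agent.Lib.Helper80

variable {G : Type u} [Group G]

theorem subgroupOf_le_normalizer_subgroupOf (P H : Subgroup G) :
    P.subgroupOf H ≤ (Subgroup.normalizer (P : Set G)).subgroupOf H :=
  fun _ hy => Subgroup.le_normalizer hy

theorem centralizer_subgroupOf_le {P H : Subgroup G} (hPH : P ≤ H) :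
    Subgroup.centralizer ((P.subgroupOf H : Subgroup H) : Set H) ≤
      (Subgroup.normalizer (P : Set G)).subgroupOf H := by
  intro y hy
  show (y : G) ∈ Subgroup.normalizer (P : Set G)
  apply Subgroup.centralizer_le_normalizer
  rw [Subgroup.mem_centralizer_iff]
  intro z hz
  have := (Subgroup.mem_centralizer_iff.mp hy) ⟨z, hPH hz⟩ hz
  exact congrArg Subtype.val this

theorem normalizer_subgroupOf_le (P H : Subgroup G) :
    (Subgroup.normalizer (P : Set G)).subgroupOf H ≤
      Subgroup.normalizer ((P.subgroupOf H : Subgroup H) : Set H) := by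
  intro y hy
  rw [Subgroup.mem_normalizer_iff]
  intro z
  exact (Subgroup.mem_normalizer_iff.mp hy) (z : G)

theorem mem_centralizer_subgroupOf {P H : Subgroup G} {x : G} (hxH : x ∈ H)
    (hx : x ∈ Subgroup.centralizer (P : Set G)) :
    (⟨x, hxH⟩ : H) ∈ Subgroup.centralizer ((P.subgroupOf H : Subgroup H) : Set H) := by
  rw [Subgroup.mem_centralizer_iff]
  intro z hz
  apply Subtype.ext
  exact (Subgroup.mem_centralizer_iff.mp hx) z hz

theorem subgroupBlockCoeff_of_mem {H : Subgroup G} (c : Set (IrrCharacter H)) {x : G}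
    (hxH : x ∈ H) : subgroupBlockCoeff H c x = blockCoeff c ⟨x, hxH⟩ := by
  unfold subgroupBlockCoeff
  rw [dif_pos hxH]

variable [Fintype G]

/-- Core of the Brauer correspondence over `H ≥ N_G(P)`: a block of `N_G(P)` with defect group
`P` induces blocks of `G` and of `H` with defect group `P`, whose idempotents agree on `C_G(P)`
modulo the local ideal. -/
theorem brauerCorr_core {p : ℕ} [Fact p.Prime] {M : Ideal AlgInt} (hpM : IsPModular p M)
    {P H : Subgroup G} (hP : IsPGroup p P) (hH : Subgroup.normalizer (P : Set G) ≤ H)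
    (ψ₀ : IrrCharacter (Subgroup.normalizer (P : Set G)))
    (hdef : IsDefectGroup p M (blockOf M (ψ₀ : Subgroup.normalizer (P : Set G) → ℂ))
      (P.subgroupOf (Subgroup.normalizer (P : Set G)))) :
    ∃ (χ₀ : IrrCharacter G) (ζ₀ : IrrCharacter H),
      IsInducedBlock M (Subgroup.normalizer (P : Set G))
        (blockOf M (ψ₀ : Subgroup.normalizer (P : Set G) → ℂ)) (blockOf M (χ₀ : G → ℂ)) ∧
      IsDefectGroup p M (blockOf M (χ₀ : G → ℂ)) P ∧
      IsInducedBlock M ((Subgroup.normalizer (P : Set G)).subgroupOf H)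
        (irrMap (Subgroup.subgroupOfEquivOfLe hH) ''
          blockOf M (ψ₀ : Subgroup.normalizer (P : Set G) → ℂ)) (blockOf M (ζ₀ : H → ℂ)) ∧
      IsDefectGroup p M (blockOf M (ζ₀ : H → ℂ)) (P.subgroupOf H) ∧
      ∀ x : G, x ∈ Subgroup.centralizer (P : Set G) →
        MemLocalIdeal M (blockCoeff (blockOf M (χ₀ : G → ℂ)) x -
          subgroupBlockCoeff H (blockOf M (ζ₀ : H → ℂ)) x) := by
  classical
  have hM : M.IsPrime := isPrime_of_isPModular hpM
  have hPN : P ≤ Subgroup.normalizer (P : Set G) := Subgroup.le_normalizer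
  have hPH : P ≤ H := hPN.trans hH
  have := Fintype.ofFinite H
  have := Fintype.ofFinite (Subgroup.normalizer (P : Set G))
  have := Fintype.ofFinite ((Subgroup.normalizer (P : Set G)).subgroupOf H)
  -- the block of `G`
  obtain ⟨χ₀, hχ₀⟩ := exists_isInducedBlock hpM P (Subgroup.normalizer (P : Set G)) hP hPN
    (Subgroup.centralizer_le_normalizer _) le_rfl ψ₀
  have hdefB : IsDefectGroup p M (blockOf M (χ₀ : G → ℂ)) P :=
    isDefectGroup_of_induced_normalizer hpM hP ψ₀ χ₀ hdef hχ₀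
  have huniqG : ∀ ψ : IrrCharacter (Subgroup.normalizer (P : Set G)),
      IsInducedBlock M (Subgroup.normalizer (P : Set G))
        (blockOf M (ψ : Subgroup.normalizer (P : Set G) → ℂ)) (blockOf M (χ₀ : G → ℂ)) →
      ψ ∈ blockOf M (ψ₀ : Subgroup.normalizer (P : Set G) → ℂ) := by
    intro ψ hψ
    have := blockOf_eq_of_induced_normalizer hpM hP ψ₀ ψ χ₀ hdef hχ₀ hψ
    rw [← this]
    exact sameBlock_refl hM _
  -- the block of `H`
  have hQK := subgroupOf_le_normalizer_subgroupOf P H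
  have hCK := centralizer_subgroupOf_le hPH
  have hKN := normalizer_subgroupOf_le P H
  have hPp' : IsPGroup p (P.subgroupOf H) := hP.comap_subtype
  obtain ⟨ζ₀, hζ₀⟩ := exists_isInducedBlock hpM (P.subgroupOf H)
    ((Subgroup.normalizer (P : Set G)).subgroupOf H) hPp' hQK hCK hKN
    (irrMap (Subgroup.subgroupOfEquivOfLe hH) ψ₀)
  rw [← irrMap_image_blockOf] at hζ₀
  have hcB : IsInducedBlock M H (blockOf M (ζ₀ : H → ℂ)) (blockOf M (χ₀ : G → ℂ)) :=
    isInducedBlock_of_trans hM hH hζ₀ hχ₀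
  obtain ⟨E, hE, hQE⟩ := exists_isDefectGroup_ge_of_induced hpM hPp' hQK hKN hζ₀
  have hEeq := eq_subgroupOf_of_induced_of_le hpM hPH hcB hdefB hE hQE
  rw [hEeq] at hE
  have huniqH : ∀ ψ : IrrCharacter ((Subgroup.normalizer (P : Set G)).subgroupOf H),
      IsInducedBlock M ((Subgroup.normalizer (P : Set G)).subgroupOf H)
        (blockOf M (ψ : (Subgroup.normalizer (P : Set G)).subgroupOf H → ℂ))
        (blockOf M (ζ₀ : H → ℂ)) →
      ψ ∈ irrMap (Subgroup.subgroupOfEquivOfLe hH) ''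
        blockOf M (ψ₀ : Subgroup.normalizer (P : Set G) → ℂ) := by
    intro ψ hψ
    have h1 : blockOf M (ψ : (Subgroup.normalizer (P : Set G)).subgroupOf H → ℂ) =
        irrMap (Subgroup.subgroupOfEquivOfLe hH) ''
          blockOf M (irrMap (Subgroup.subgroupOfEquivOfLe hH).symm ψ :
            Subgroup.normalizer (P : Set G) → ℂ) := by
      rw [irrMap_image_blockOf, irrMap_irrMap_symm]
    rw [h1] at hψ
    have h2 := isInducedBlock_trans hM hH ⟨_, rfl⟩ hψ hcB
    exact ⟨_, huniqG _ h2, irrMap_irrMap_symm _ ψ⟩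
  refine ⟨χ₀, ζ₀, hχ₀, hdefB, hζ₀, hE, ?_⟩
  intro x hx
  have hxN : x ∈ Subgroup.normalizer (P : Set G) := Subgroup.centralizer_le_normalizer _ hx
  have hxH : x ∈ H := hH hxN
  have k1 := memLocalIdeal_brRes_blockCoeff_sub hpM P (Subgroup.normalizer (P : Set G)) hP hPN
    (Subgroup.centralizer_le_normalizer _) le_rfl hχ₀ huniqG ⟨x, hxN⟩
  rw [brRes_pos _ (show ((⟨x, hxN⟩ : Subgroup.normalizer (P : Set G)) : G) ∈
    Subgroup.centralizer (P : Set G) from hx)] at k1
  have hxc := mem_centralizer_subgroupOf hxH hx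
  have k2 := memLocalIdeal_brRes_blockCoeff_sub hpM (P.subgroupOf H)
    ((Subgroup.normalizer (P : Set G)).subgroupOf H) hPp' hQK hCK hKN hζ₀ huniqH
    ⟨⟨x, hxH⟩, hxN⟩
  rw [brRes_pos _ (show ((⟨⟨x, hxH⟩, hxN⟩ : (Subgroup.normalizer (P : Set G)).subgroupOf H) : H) ∈
    Subgroup.centralizer ((P.subgroupOf H : Subgroup H) : Set H) from hxc),
    blockCoeff_irrMap_image] at k2
  rw [subgroupBlockCoeff_of_mem _ hxH]
  have h5 : (Subgroup.subgroupOfEquivOfLe hH)
      (⟨⟨x, hxH⟩, hxN⟩ : (Subgroup.normalizer (P : Set G)).subgroupOf H) = ⟨x, hxN⟩ :=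
    Subtype.ext rfl
  rw [h5] at k2
  have := memLocalIdeal_sub hM k1 k2
  rwa [sub_sub_sub_cancel_right] at this

end Cfsg.Agent.Lib.Helper77
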