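import Cfsg.Agent.Lib.Helper77.OrbitSum
import Cfsg.Agent.Lib.Helper77.Clifford
import Cfsg.Agent.Lib.Helper77.Osima
import Cfsg.Agent.Lib.Helper77.DefectGroup
import Cfsg.Agent.Lib.Helper77.BrauerCorr2
import Cfsg.Agent.Lib.Helper16.OrbitBlock
import Cfsg.Agent.S0964
import Cfsg.Agent.S0965
import Cfsg.Agent.S0966
import Cfsg.Prelude.Def_BrauerPairs

/-!
# Stable blocks of normal subgroups of `p`-power index
-/

set_option autoImplicit false

universe u

namespace Cfsg.Agent.Lib.Helper77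

open Cfsg
open Cfsg.Agent.Lib.Helper81
open Cfsg.Agent.Lib.Helper80

variable {G : Type u} [Group G]

theorem conjIrr_mem_of_stabilizes (N : Subgroup G) [hN : N.Normal] {c : Set (IrrCharacter N)}
    {g : G} (h : StabilizesBlock N c g⁻¹) {θ : IrrCharacter N} (hθ : θ ∈ c) :
    conjIrr N g θ ∈ c := by
  obtain ⟨χ', hχ', hconj⟩ := h.2 θ hθ
  have : χ' = conjIrr N g θ := by
    apply Subtype.ext
    funext k'
    rw [conjIrr_apply]
    exact hconj ⟨g * k' * g⁻¹, hN.conj_mem k' k'.2 g⟩ k' (by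
      show (k' : G) = g⁻¹ * (g * k' * g⁻¹) * g⁻¹⁻¹
      group)
  rw [← this]
  exact hχ'

theorem irrMap_conjNormal_image_eq (N : Subgroup G) [hN : N.Normal] {c : Set (IrrCharacter N)}
    (hst : ∀ g : G, ∀ θ ∈ c, conjIrr N g θ ∈ c) (g : G) :
    irrMap (MulAut.conjNormal g : N ≃* N) '' c = c := by
  ext ψ
  constructor
  · rintro ⟨θ, hθ, rfl⟩
    exact hst g θ hθ
  · intro hψ
    refine ⟨conjIrr N g⁻¹ ψ, hst g⁻¹ ψ hψ, ?_⟩
    show conjIrr N g (conjIrr N g⁻¹ ψ) = ψ
    rw [conjIrr_conjIrr, inv_mul_cancel, conjIrr_one]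

theorem subgroupBlockCoeff_of_not_mem {H : Subgroup G} (c : Set (IrrCharacter H)) {x : G}
    (hx : x ∉ H) : subgroupBlockCoeff H c x = 0 := by
  unfold subgroupBlockCoeff
  exact dif_neg hx

/-- The idempotent of a stable block of a normal subgroup is a class function of the group. -/
theorem subgroupBlockCoeff_isClassFunction (N : Subgroup G) [hN : N.Normal] [Fintype N]
    {c : Set (IrrCharacter N)} (hst : ∀ g : G, ∀ θ ∈ c, conjIrr N g θ ∈ c) :
    IsClassFunction G (subgroupBlockCoeff N c) := by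
  intro x g
  by_cases hx : x ∈ N
  · have hx' : g * x * g⁻¹ ∈ N := hN.conj_mem x hx g
    rw [subgroupBlockCoeff_of_mem c hx, subgroupBlockCoeff_of_mem c hx']
    have h1 : (⟨g * x * g⁻¹, hx'⟩ : N) = MulAut.conjNormal g (⟨x, hx⟩ : N) := rfl
    rw [h1, ← blockCoeff_irrMap_image, irrMap_conjNormal_image_eq N hst]
  · have hx' : g * x * g⁻¹ ∉ N := by
      intro h
      apply hx
      have := hN.conj_mem _ h g⁻¹
      simpa [mul_assoc] using this
    rw [subgroupBlockCoeff_of_not_mem c hx, subgroupBlockCoeff_of_not_mem c hx']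

open Classical in
/-- Central character of an irreducible character of `G` at the idempotent of a stable block of
a normal subgroup. -/
theorem omega_subgroupBlockCoeff [Fintype G] (N : Subgroup G) [hN : N.Normal] [Fintype N]
    {c : Set (IrrCharacter N)} (hst : ∀ g : G, ∀ θ ∈ c, conjIrr N g θ ∈ c)
    (χ : IrrCharacter G) (θ : IrrCharacter N)
    (hne : classInner (fun n : N => (χ : G → ℂ) n) (θ : N → ℂ) ≠ 0) :
    omega (χ : G → ℂ) (subgroupBlockCoeff N c) = if θ ∈ c then 1 else 0 := by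
  rw [omega_eq_of_classInner_ne_zero N χ.2 θ.2 hne (subgroupBlockCoeff_isClassFunction N hst)
    (fun g hg => subgroupBlockCoeff_of_not_mem c hg)]
  have : (fun h : N => subgroupBlockCoeff N c (h : G)) = blockCoeff c := by
    funext h
    rw [subgroupBlockCoeff_of_mem c h.2]
  rw [this, omega_blockCoeff]

/-- In a block covering a stable block of a normal subgroup, every constituent of the restriction
of a member lies in the stable block. -/
theorem mem_of_constituent_of_cover [Fintype G] {p : ℕ} [Fact p.Prime] {M : Ideal AlgInt}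
    (hpM : IsPModular p M) (N : Subgroup G) [hN : N.Normal] [Fintype N]
    {c : Set (IrrCharacter N)} (hc : IsPBlock M c)
    (hst : ∀ g : G, ∀ θ ∈ c, conjIrr N g θ ∈ c) {B : Set (IrrCharacter G)} (hB : IsPBlock M B)
    (hcov : ∃ χ ∈ B, ∃ θ ∈ c, classInner (fun n : N => (χ : G → ℂ) n) (θ : N → ℂ) ≠ 0)
    {χ' : IrrCharacter G} (hχ' : χ' ∈ B) {ψ : IrrCharacter N}
    (hψ : classInner (fun n : N => (χ' : G → ℂ) n) (ψ : N → ℂ) ≠ 0) : ψ ∈ c := by
  obtain ⟨χ, hχ, θ, hθ, hcon⟩ := hcov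
  obtain ⟨g, θ', hθ', hconj⟩ := Cfsg.Agent.S0964.result p M hpM N B hB c hc χ hχ θ hθ hcon χ' hχ' ψ hψ
  have : ψ = conjIrr N g θ' := by
    apply Subtype.ext
    funext n
    rw [conjIrr_apply]
    exact hconj n
  rw [this]
  exact hst g θ' hθ'

open Classical in
/-- The idempotent of a stable block of a normal subgroup of `p`-power index is a block idempotent
of the group. -/
theorem exists_block_blockCoeff_eq [Fintype G] {p : ℕ} [Fact p.Prime] {M : Ideal AlgInt}
    (hpM : IsPModular p M) (N : Subgroup G) [hN : N.Normal] [Fintype N]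
    (hidx : ∃ k : ℕ, N.index = p ^ k) {c : Set (IrrCharacter N)} (hc : IsPBlock M c)
    (hst : ∀ g : G, ∀ θ ∈ c, conjIrr N g θ ∈ c) :
    ∃ B : Set (IrrCharacter G), IsPBlock M B ∧
      ∀ g : G, blockCoeff B g = subgroupBlockCoeff N c g := by
  have hM : M.IsPrime := isPrime_of_isPModular hpM
  obtain ⟨B, ⟨hB, hcov⟩, huniq⟩ := Cfsg.Agent.S0966.result p M hpM N hidx c hc
  refine ⟨B, hB, fun g => ?_⟩
  refine congrFun (eq_of_omega_eq (blockCoeff_isClassFunction B)
    (subgroupBlockCoeff_isClassFunction N hst) fun χ => ?_) g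
  obtain ⟨ψ, hψ⟩ := Cfsg.Agent.Lib.Helper16.exists_constituent N χ
  rw [omega_blockCoeff, omega_subgroupBlockCoeff N hst χ ψ hψ]
  by_cases hχ : χ ∈ B
  · rw [if_pos hχ, if_pos (mem_of_constituent_of_cover hpM N hc hst hB hcov hχ hψ)]
  · rw [if_neg hχ, if_neg]
    intro hψc
    apply hχ
    have := huniq (blockOf M (χ : G → ℂ)) ⟨⟨χ, rfl⟩, χ, sameBlock_refl hM _, ψ, hψc, hψ⟩
    rw [← this]
    exact sameBlock_refl hM _

/-- Cardinality core: a `p`-subgroup `P` of order `p ^ ν|C|` inside `C`, where `N C = G` and `N`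
has `p`-power index. -/
theorem sylow_inf_normal_of_sup_eq_top [Finite G] {p : ℕ} [Fact p.Prime] (N : Subgroup G)
    [hN : N.Normal] {k : ℕ} (hidx : N.index = p ^ k) (C P : Subgroup G) (hPC : P ≤ C)
    (hcard : Nat.card P = p ^ (Nat.card C).factorization p) (hsup : N ⊔ C = ⊤) :
    N ⊔ P = ⊤ ∧ Nat.card (P ⊓ N : Subgroup G) =
      p ^ (Nat.card (C ⊓ N : Subgroup G)).factorization p := by
  have hp : p.Prime := Fact.out
  set a := (Nat.card C).factorization p with ha
  -- `[C : C ∩ N] = p ^ k`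
  have h1 : N.relIndex C = p ^ k := by
    rw [← Subgroup.relIndex_sup_left, hsup, Subgroup.relIndex_top_right, hidx]
  have h2 : Nat.card C = Nat.card (C ⊓ N : Subgroup G) * p ^ k := by
    rw [card_eq_card_mul_relIndex (inf_le_left : C ⊓ N ≤ C), Subgroup.inf_relIndex_left, h1]
  have hCN0 : Nat.card (C ⊓ N : Subgroup G) ≠ 0 := Nat.card_pos.ne'
  have h3 : a = (Nat.card (C ⊓ N : Subgroup G)).factorization p + k := by
    rw [ha, h2, Nat.factorization_mul hCN0 (pow_ne_zero _ hp.ne_zero), Finsupp.add_apply,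
      hp.factorization_pow, Finsupp.single_eq_same]
  -- `[P : P ∩ N]` divides `p ^ k`
  have h4 : N.relIndex P ∣ p ^ k := by
    rw [← hidx]
    exact Subgroup.relIndex_dvd_index_of_normal N P
  obtain ⟨j, hjk, hj⟩ := (Nat.dvd_prime_pow hp).mp h4
  have h5 : Nat.card P = Nat.card (P ⊓ N : Subgroup G) * p ^ j := by
    rw [card_eq_card_mul_relIndex (inf_le_left : P ⊓ N ≤ P), Subgroup.inf_relIndex_left, hj]
  -- `P ∩ N` is a `p`-subgroup of `C ∩ N`
  have h6 : Nat.card (P ⊓ N : Subgroup G) ∣ Nat.card (C ⊓ N : Subgroup G) :=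
    Subgroup.card_dvd_of_le (inf_le_inf_right N hPC)
  have h7 : Nat.card (P ⊓ N : Subgroup G) ∣ p ^ a := by
    rw [← hcard, h5]
    exact dvd_mul_right _ _
  obtain ⟨i, hia, hi⟩ := (Nat.dvd_prime_pow hp).mp h7
  have h8 : i ≤ (Nat.card (C ⊓ N : Subgroup G)).factorization p := by
    rw [hi] at h6
    exact (hp.pow_dvd_iff_le_factorization hCN0).mp h6
  have h9 : a = i + j := by
    have : p ^ a = p ^ (i + j) := by rw [← hcard, h5, hi, pow_add]
    exact Nat.pow_right_injective hp.two_le this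
  have hjk' : j = k := by omega
  have hi' : i = (Nat.card (C ⊓ N : Subgroup G)).factorization p := by omega
  refine ⟨?_, by rw [hi, hi']⟩
  rw [← Subgroup.index_eq_one]
  have h10 := Subgroup.relIndex_mul_index (le_sup_left : N ≤ N ⊔ P)
  rw [Subgroup.relIndex_sup_left, hj, hjk', hidx] at h10
  have hpk : 0 < p ^ k := pow_pos hp.pos k
  exact Nat.eq_of_mul_eq_mul_left hpk (by rw [h10, mul_one])

open Classical in
/-- Defect groups of the block whose idempotent is that of a stable block of a normal subgroup of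
`p`-power index. -/
theorem stable_block_defect [Fintype G] {p : ℕ} [Fact p.Prime] {M : Ideal AlgInt}
    (hpM : IsPModular p M) (N : Subgroup G) [hN : N.Normal] [Fintype N]
    (hidx : ∃ k : ℕ, N.index = p ^ k) {c : Set (IrrCharacter N)} (hc : IsPBlock M c)
    (hst : ∀ g : G, ∀ θ ∈ c, conjIrr N g θ ∈ c) {B : Set (IrrCharacter G)} (hB : IsPBlock M B)
    (hBc : ∀ g : G, blockCoeff B g = subgroupBlockCoeff N c g) {P : Subgroup G}
    (hP : IsDefectGroup p M B P) :
    N ⊔ P = ⊤ ∧ IsDefectGroup p M c ((P ⊓ N).subgroupOf N) := by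
  have hM : M.IsPrime := isPrime_of_isPModular hpM
  have hp : p.Prime := Fact.out
  obtain ⟨k, hk⟩ := hidx
  obtain ⟨χ₀, hBχ₀⟩ := hB
  obtain ⟨θ₀, hcθ₀⟩ := hc
  have hχ₀B : χ₀ ∈ B := by rw [hBχ₀]; exact sameBlock_refl hM _
  -- `B` covers `c`
  obtain ⟨ψ, hψ⟩ := Cfsg.Agent.Lib.Helper16.exists_constituent N χ₀
  have hψc : ψ ∈ c := by
    have h1 := omega_blockCoeff B χ₀
    rw [if_pos hχ₀B, show blockCoeff B = subgroupBlockCoeff N c from funext hBc,
      omega_subgroupBlockCoeff N hst χ₀ ψ hψ] at h1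
    by_contra hcon
    rw [if_neg hcon] at h1
    exact zero_ne_one h1
  have hcov : ∃ χ ∈ B, ∃ θ ∈ c, classInner (fun n : N => (χ : G → ℂ) n) (θ : N → ℂ) ≠ 0 :=
    ⟨χ₀, hχ₀B, ψ, hψc, hψ⟩
  have hcong := (Cfsg.Agent.S0965.result p M hpM N B ⟨χ₀, hBχ₀⟩ c ⟨θ₀, hcθ₀⟩).mp hcov
  -- a defect class
  obtain ⟨x, hx, hPle, hPcard⟩ := isDefectGroup_iff.mp hP
  have hxN : x ∈ N := by
    by_contra hcon
    apply hx.2.1
    rw [hBc, subgroupBlockCoeff_of_not_mem c hcon]
    exact memLocalIdeal_zero hM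
  have := Fintype.ofFinite
    (G ⧸ (N ⊔ Subgroup.centralizer ({((⟨x, hxN⟩ : N) : G)} : Set G) : Subgroup G))
  have hblock : ∀ θ ∈ c, ∀ g : G, SameBlock M (conjIrr N g θ : N → ℂ) (θ : N → ℂ) := by
    intro θ hθ g
    have h1 := hst g θ hθ
    rw [hcθ₀] at h1 hθ
    exact sameBlock_trans hM (sameBlock_symm h1) hθ
  have hkey : ∀ θ ∈ c, ¬ p ∣ (N ⊔ Subgroup.centralizer ({x} : Set G) : Subgroup G).index ∧
      ¬ MemLocalIdeal M (centralChar (θ : N → ℂ) (⟨x, hxN⟩ : N)) := by
    intro θ hθ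
    have h1 := hcong χ₀ hχ₀B θ hθ ⟨x, hxN⟩
    have h2 := memLocalIdeal_inducedCentralChar_sub hM N θ ⟨x, hxN⟩ (hblock θ hθ)
    have h3 : ¬ MemLocalIdeal M
        (((N ⊔ Subgroup.centralizer ({x} : Set G) : Subgroup G).index : ℂ) *
          centralChar (θ : N → ℂ) (⟨x, hxN⟩ : N)) := by
      intro h
      apply hx.2.2 χ₀ hχ₀B
      have := memLocalIdeal_add hM (memLocalIdeal_add hM h1 h2) h
      simpa using this
    constructor
    · intro hdvd
      apply h3
      exact memLocalIdeal_mul_right hM ((memLocalIdeal_natCast_iff hpM _).mpr hdvd)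
        (memLocalRing_centralChar hM θ.2 _)
    · intro h
      apply h3
      exact memLocalIdeal_mul_left hM (memLocalRing_natCast hM _) h
  -- `N C_G(x) = G`
  have hsup : N ⊔ Subgroup.centralizer ({x} : Set G) = ⊤ := by
    rw [← Subgroup.index_eq_one]
    have h1 : (N ⊔ Subgroup.centralizer ({x} : Set G) : Subgroup G).index ∣ p ^ k := by
      rw [← hk]
      exact Subgroup.index_dvd_of_le le_sup_left
    obtain ⟨j, -, hj⟩ := (Nat.dvd_prime_pow hp).mp h1
    have h2 := (hkey θ₀ (by rw [hcθ₀]; exact sameBlock_refl hM _)).1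
    rw [hj] at h2 ⊢
    cases j with
    | zero => rfl
    | succ j => exact absurd (dvd_pow_self p (Nat.succ_ne_zero j)) h2
  obtain ⟨hNP, hcardPN⟩ := sylow_inf_normal_of_sup_eq_top N hk
    (Subgroup.centralizer ({x} : Set G)) P hPle hPcard hsup
  refine ⟨hNP, isDefectGroup_iff.mpr ⟨⟨x, hxN⟩, ⟨?_, ?_, fun θ hθ => (hkey θ hθ).2⟩, ?_, ?_⟩⟩
  · rw [← subgroupBlockCoeff_of_mem c hxN, ← hBc]
    exact hx.1
  · rw [← subgroupBlockCoeff_of_mem c hxN, ← hBc]
    exact hx.2.1
  · intro y hy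
    rw [Subgroup.mem_subgroupOf] at hy
    have h1 := hPle hy.1
    rw [Subgroup.mem_centralizer_singleton_iff] at h1 ⊢
    exact Subtype.ext h1
  · rw [Nat.card_congr (Subgroup.subgroupOfEquivOfLe (inf_le_right : P ⊓ N ≤ N)).toEquiv,
      hcardPN, centralizer_singleton_eq_subgroupOf, ← Subgroup.inf_subgroupOf_right,
      Nat.card_congr (Subgroup.subgroupOfEquivOfLe
        (inf_le_right : Subgroup.centralizer ({x} : Set G) ⊓ N ≤ N)).toEquiv]

end Cfsg.Agent.Lib.Helper77
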