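import Cfsg.Agent.Lib.Helper18.AutDefs
import Cfsg.Agent.Lib.Helper36.ChevNormU
import Cfsg.Agent.S1045
import Cfsg.Agent.S0311

/-! # S2156, piece T2a: a subgroup strictly between `B` and `G` contains a negative fundamental
root subgroup (helper77, for helper18). -/

set_option autoImplicit false

namespace Cfsg.Agent.Lib.Helper77.Au

open Cfsg Cfsg.Lie Cfsg.Agent.Lib.Helper36 Cfsg.Agent.Lib.Helper18

/-- T2a: a subgroup strictly between `B` and `G` contains a negative fundamental root subgroup.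
(Holds for every field; the finiteness hypothesis of the skeleton is not needed.) -/
theorem T2a_overgroup' (D : ChevalleyDatum)
    (hD : D ∈ [chevG2, chevB2, chevD4, chevF4, chevE6, chevE7, chevE8])
    (F : Type*) [Field F] (P : Subgroup (GL D.Idx F)) (hBP : D.borelSubgroup F ≤ P)
    (hPG : P ≤ D.group F) (hne : P ≠ D.borelSubgroup F) :
    ∃ i : Fin D.rank, ∀ t : F, xGL D hD F (D.neg (D.simple i)) t ∈ P := by
  have h45 : ∀ i < D.rank, H45 D F i := fun i hi => Cfsg.Agent.S1045.result D hD i hi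
  obtain ⟨BN, hB, -, hS⟩ := exists_bnPair D hD F h45
  obtain ⟨K, hKS, hK⟩ := Cfsg.Agent.S0311.result BN (P.subgroupOf (D.group F)) (by
    rw [hB]
    intro g hg
    rw [Subgroup.mem_subgroupOf] at hg ⊢
    exact hBP hg)
  have hKne : K.Nonempty := by
    by_contra hK0
    rw [Set.not_nonempty_iff_eq_empty] at hK0
    apply hne
    have h1 : P.subgroupOf (D.group F) = (D.borelSubgroup F).subgroupOf (D.group F) := by
      rw [hK, hK0]
      unfold BNPair.parabolic
      rw [Subgroup.closure_empty, sup_bot_eq, hB]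
    have h2 := congrArg (Subgroup.map (D.group F).subtype) h1
    rwa [Subgroup.map_subgroupOf_eq_of_le hPG,
      Subgroup.map_subgroupOf_eq_of_le (borel_le_group D hD F)] at h2
  obtain ⟨s, hs⟩ := hKne
  have hsS := hKS hs
  rw [hS] at hsS
  obtain ⟨k, hk, e⟩ := hsS
  have hsP : s ∈ P.subgroupOf (D.group F) := by
    rw [hK]
    unfold BNPair.parabolic
    exact (le_sup_right : Subgroup.closure K ≤ _) (Subgroup.subset_closure hs)
  rw [Subgroup.mem_subgroupOf] at hsP
  have es : (s : GL D.Idx F) = nGL D hD F (D.simple k) 1 := Units.ext (by rw [e, nGL_coe])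
  rw [es] at hsP
  refine ⟨⟨k, hk⟩, fun t => ?_⟩
  have hp := (chkN2_spec D (chkN2_all D hD) k hk).1
  have hrel := (rank1Rel_all D hD F (D.simple k) hp).1 (-t)
  have e2 : xGL D hD F (D.neg (D.simple k)) t =
      nGL D hD F (D.simple k) 1 * xGL D hD F (D.simple k) (-t) * (nGL D hD F (D.simple k) 1)⁻¹ := by
    rw [hrel, neg_neg]
    group
  have hx : xGL D hD F (D.simple k) (-t) ∈ P :=
    hBP (pos_le_borel D F (Subgroup.subset_closure
      ⟨_, -t, isPosRoot_simple D hD k hk, xGL_coe D hD F _ _⟩))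
  show xGL D hD F (D.neg (D.simple k)) t ∈ P
  rw [e2]
  exact P.mul_mem (P.mul_mem hsP hx) (P.inv_mem hsP)

/-- T2a with the EXACT statement of `Cfsg.Agent.Lib.Helper18.Au.T2a_overgroup` (AutSkel). -/
theorem T2a_overgroup (D : ChevalleyDatum)
    (hD : D ∈ [chevG2, chevB2, chevD4, chevF4, chevE6, chevE7, chevE8])
    (F : Type*) [Field F] [Finite F] (P : Subgroup (GL D.Idx F)) (hBP : D.borelSubgroup F ≤ P)
    (hPG : P ≤ D.group F) (hne : P ≠ D.borelSubgroup F) :
    ∃ i : Fin D.rank, ∀ t : F, xGL D hD F (D.neg (D.simple i)) t ∈ P :=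
  T2a_overgroup' D hD F P hBP hPG hne

end Cfsg.Agent.Lib.Helper77.Au
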