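import Mathlib

/-!
# U3 hive (S2283), sub-hive XE, leaf XE-NT (pure Mathlib number theory)

`|F| = q^2`, `q ≥ 3`, `q ≠ 5`, `q ≠ 8`, `orderOf μ = q + 1`: the powers of `μ⁻¹ ^ 3` span `F`
additively (that is `F_p[μ^3] = F`).
-/

set_option autoImplicit false

namespace Cfsg.Agent.Lib.Helper23.U3

/-- arithmetic heart of XE-NT -/
theorem u3xent_arith {q s d p j : ℕ} (hp : p.Prime) (hs : s = p ^ j) (hsd : s ^ d = q ^ 2)
    (hq3 : 3 ≤ q) (hq5 : q ≠ 5) (hq8 : q ≠ 8)
    (hm : (q + 1) / Nat.gcd (q + 1) 3 ∣ s - 1) : d = 1 := by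
  have hq2 : 9 ≤ q ^ 2 := by nlinarith
  -- s ≥ 2 and d ≥ 1
  have hd0 : d ≠ 0 := by
    rintro rfl
    simp at hsd
    omega
  have hs2 : 2 ≤ s := by
    by_contra h
    have h1 : s ≤ 1 := by omega
    have : s ^ d ≤ 1 ^ d := Nat.pow_le_pow_left h1 d
    simp at this
    omega
  -- the gcd
  set g := Nat.gcd (q + 1) 3 with hg
  have hg3 : g ∣ 3 := Nat.gcd_dvd_right _ _
  have hgle : g ≤ 3 := Nat.le_of_dvd (by norm_num) hg3
  have hgpos : 0 < g := Nat.pos_of_dvd_of_pos hg3 (by norm_num)
  set m := (q + 1) / g with hmdef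
  have hmg : m * g = q + 1 := Nat.div_mul_cancel (Nat.gcd_dvd_left _ _)
  have hmq : m ∣ q + 1 := ⟨g, hmg.symm⟩
  rcases Nat.even_or_odd' d with ⟨e, he | he⟩
  · -- d even
    exfalso
    have he1 : 1 ≤ e := by omega
    have hse : s ^ e = q := by
      have : (s ^ e) ^ 2 = q ^ 2 := by rw [← pow_mul, mul_comm, ← he]; exact hsd
      exact Nat.pow_left_injective (by norm_num : 2 ≠ 0) this
    have h1 : s - 1 ∣ q - 1 := by
      have := Nat.sub_one_dvd_pow_sub_one (x := s) (n := e)
      rwa [hse] at this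
    have h2 : m ∣ q - 1 := hm.trans h1
    have h3 : m ∣ (q + 1) - (q - 1) := Nat.dvd_sub hmq h2
    have h4 : (q + 1) - (q - 1) = 2 := by omega
    rw [h4] at h3
    have hm2 : m ≤ 2 := Nat.le_of_dvd (by norm_num) h3
    have hq5' : q + 1 ≤ 6 := by
      calc q + 1 = m * g := hmg.symm
        _ ≤ 2 * 3 := Nat.mul_le_mul hm2 hgle
    have hq : q = 3 ∨ q = 4 := by omega
    rcases hq with rfl | rfl
    · have : m = 4 := by simp [hmdef, hg]
      rw [this] at h3
      omega
    · have : m = 5 := by simp [hmdef, hg]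
      rw [this] at h3
      omega
  · -- d odd
    by_contra hd1
    have he1 : 1 ≤ e := by omega
    have hd3 : 3 ≤ d := by omega
    -- q is a power of p
    have hqdvd : q ∣ p ^ (j * d) := by
      rw [pow_mul, ← hs, hsd]
      exact Dvd.intro_left (q ^ 1) (by ring)
    obtain ⟨k, -, hk⟩ := (Nat.dvd_prime_pow hp).1 hqdvd
    have h2k : 2 * k = j * d := by
      have : p ^ (2 * k) = p ^ (j * d) := by
        calc p ^ (2 * k) = (p ^ k) ^ 2 := by rw [← pow_mul, mul_comm]
          _ = q ^ 2 := by rw [hk]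
          _ = s ^ d := hsd.symm
          _ = p ^ (j * d) := by rw [hs, pow_mul]
      exact Nat.pow_right_injective hp.two_le this
    have hjev : Even j := by
      have hev : Even (j * d) := ⟨k, by omega⟩
      rcases Nat.even_mul.1 hev with h | h
      · exact h
      · exfalso
        rcases h with ⟨r, hr⟩
        omega
    obtain ⟨j', hj'⟩ := hjev
    set t := p ^ j' with ht
    have hst : s = t * t := by rw [hs, hj', pow_add]
    have hkd : k = j' * d := by
      have : 2 * k = 2 * (j' * d) := by rw [h2k, hj']; ring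
      omega
    have hqt : q = t ^ d := by rw [hk, hkd, pow_mul]
    have ht2 : 2 ≤ t := by
      by_contra h
      have h1 : t ≤ 1 := by omega
      have : t * t ≤ 1 * 1 := Nat.mul_le_mul h1 h1
      omega
    have hspos : 0 < s - 1 := by omega
    have hmle : m ≤ s - 1 := Nat.le_of_dvd hspos hm
    have hq1 : q + 1 ≤ 3 * (t * t - 1) := by
      calc q + 1 = m * g := hmg.symm
        _ ≤ (s - 1) * 3 := Nat.mul_le_mul hmle hgle
        _ = 3 * (t * t - 1) := by rw [hst, mul_comm]
    have ht3 : t ^ 3 ≤ q := by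
      rw [hqt]
      exact Nat.pow_le_pow_right (by omega) hd3
    have htt : 1 ≤ t * t := by nlinarith
    have hkey : t ^ 3 + 4 ≤ 3 * (t * t) := by
      have : 3 * (t * t - 1) = 3 * (t * t) - 3 := by omega
      omega
    have ht2' : t = 2 := by
      by_contra hne
      have h3 : 3 ≤ t := by omega
      have : 3 * (t * t) ≤ t ^ 3 := by
        have : t ^ 3 = t * (t * t) := by ring
        rw [this]
        exact Nat.mul_le_mul_right _ h3
      omega
    -- t = 2 : q + 1 ≤ 9
    rw [ht2'] at hq1 hqt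
    have hq8' : q ≤ 8 := by omega
    have hd3' : d ≤ 3 := by
      by_contra h
      have h4 : 4 ≤ d := by omega
      have : 2 ^ 4 ≤ 2 ^ d := Nat.pow_le_pow_right (by norm_num) h4
      omega
    have : d = 3 := by omega
    rw [this] at hqt
    norm_num at hqt
    exact hq8 hqt

/-- XE-NT, general form: the powers of `μ⁻¹ ^ 3` span `F` additively. -/
theorem u3xent_core {F : Type*} [Field F] [Fintype F] {q : ℕ} (hF : Fintype.card F = q ^ 2)
    (hq3 : 3 ≤ q) (hq5 : q ≠ 5) (hq8 : q ≠ 8) (μ : F) (hμ : orderOf μ = q + 1) :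
    AddSubgroup.closure {x : F | ∃ j : ℕ, x = (μ⁻¹ ^ 3) ^ j} = ⊤ := by
  classical
  have hμ0 : μ ≠ 0 := by
    rintro rfl
    have h1 : (0 : F) ^ orderOf (0 : F) = 1 := pow_orderOf_eq_one _
    rw [hμ, zero_pow (by omega)] at h1
    exact zero_ne_one h1
  set ν : F := μ⁻¹ ^ 3 with hν
  have hν0 : ν ≠ 0 := pow_ne_zero _ (inv_ne_zero hμ0)
  -- the subring generated by ν
  set R : Subring F := Subring.closure {ν} with hRdef
  have hset : {x : F | ∃ j : ℕ, x = ν ^ j} = (Submonoid.closure ({ν} : Set F) : Set F) := by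
    ext x
    rw [← Submonoid.powers_eq_closure]
    simp only [Set.mem_ofPred_eq, SetLike.mem_coe, Submonoid.mem_powers_iff]
    constructor
    · rintro ⟨j, rfl⟩; exact ⟨j, rfl⟩
    · rintro ⟨j, rfl⟩; exact ⟨j, rfl⟩
  have hR : AddSubgroup.closure {x : F | ∃ j : ℕ, x = ν ^ j} = R.toAddSubgroup := by
    ext x
    rw [hset]
    exact Subring.mem_closure_iff.symm
  rw [hR]
  have hcardF2 : 2 ≤ Fintype.card F := by rw [hF]; nlinarith
  -- R is a subfield
  let K : Subfield F :=
    { R with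
      inv_mem' := by
        intro x hx
        by_cases hx0 : x = 0
        · subst hx0; simp
        · have h1 : x ^ (Fintype.card F - 1) = 1 := FiniteField.pow_card_sub_one_eq_one x hx0
          have h2 : x * x ^ (Fintype.card F - 2) = 1 := by
            rw [← pow_succ']
            have : Fintype.card F - 2 + 1 = Fintype.card F - 1 := by omega
            rw [this]; exact h1
          have h3 : x⁻¹ = x ^ (Fintype.card F - 2) := (eq_inv_of_mul_eq_one_right h2).symm ▸ rfl
          rw [h3]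
          exact R.pow_mem hx _ }
  have hKR : ∀ x : F, x ∈ K ↔ x ∈ R := fun x => Iff.rfl
  have hνK : ν ∈ K := (hKR ν).2 (Subring.subset_closure (Set.mem_singleton ν))
  -- cardinalities
  have hcard : Nat.card F = Nat.card K ^ Module.finrank K F := Module.natCard_eq_pow_finrank
  obtain ⟨p, -, n, hp, hpn⟩ := FiniteField.card' K
  have hsK : Nat.card K = p ^ (n : ℕ) := by rw [Nat.card_eq_fintype_card]; exact hpn
  have hFq : Nat.card F = q ^ 2 := by rw [Nat.card_eq_fintype_card]; exact hF
  -- order of ν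
  have hνpow : ν ^ (Nat.card K - 1) = 1 := by
    have h1 : (⟨ν, hνK⟩ : K) ^ (Fintype.card K - 1) = 1 :=
      FiniteField.pow_card_sub_one_eq_one _ (by
        intro h
        exact hν0 (congrArg Subtype.val h))
    have h2 := congrArg Subtype.val h1
    rw [Nat.card_eq_fintype_card]
    simpa using h2
  have hμ3 : (μ ^ 3) ^ (Nat.card K - 1) = 1 := by
    have : ν = (μ ^ 3)⁻¹ := by rw [hν, inv_pow]
    rw [this, inv_pow, inv_eq_one] at hνpow
    exact hνpow
  have hord : orderOf (μ ^ 3) = (q + 1) / Nat.gcd (q + 1) 3 := by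
    rw [orderOf_pow' μ (by norm_num : 3 ≠ 0), hμ]
  have hdvd : (q + 1) / Nat.gcd (q + 1) 3 ∣ Nat.card K - 1 := by
    rw [← hord]
    exact orderOf_dvd_of_pow_eq_one hμ3
  have hd1 : Module.finrank K F = 1 :=
    u3xent_arith hp hsK (by rw [← hcard, hFq]) hq3 hq5 hq8 hdvd
  -- conclusion
  apply AddSubgroup.eq_top_of_card_eq
  have h1 : Nat.card R.toAddSubgroup = Nat.card K :=
    Nat.card_congr (Equiv.subtypeEquivRight (fun x => Iff.rfl))
  rw [h1, hcard, hd1, pow_one]

end Cfsg.Agent.Lib.Helper23.U3
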