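import Cfsg.Agent.Lib.Helper77.Osima
import Cfsg.Agent.Lib.Helper79.Basic

set_option autoImplicit false

universe u

namespace Cfsg.Agent.Lib.Helper77

open Cfsg
open Cfsg.Agent.Lib.Helper81
open Cfsg.Agent.Lib.Helper80
open scoped ComplexConjugate

variable {H₁ H₂ : Type u} [Group H₁] [Group H₂]

/-- Pull an irreducible character back along a group isomorphism. -/
def irrMap (e : H₁ ≃* H₂) (θ : IrrCharacter H₂) : IrrCharacter H₁ :=
  ⟨fun x => (θ : H₂ → ℂ) (e x),
    Cfsg.Agent.Lib.Helper79.isIrrCharacter_comp_surjective θ.2 e.toMonoidHom e.surjective⟩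

@[simp] theorem irrMap_apply (e : H₁ ≃* H₂) (θ : IrrCharacter H₂) (x : H₁) :
    (irrMap e θ : H₁ → ℂ) x = (θ : H₂ → ℂ) (e x) := rfl

theorem irrMap_symm_irrMap (e : H₁ ≃* H₂) (θ : IrrCharacter H₂) :
    irrMap e.symm (irrMap e θ) = θ := by
  apply Subtype.ext
  funext y
  simp

theorem irrMap_irrMap_symm (e : H₁ ≃* H₂) (ψ : IrrCharacter H₁) :
    irrMap e (irrMap e.symm ψ) = ψ := by
  apply Subtype.ext
  funext y
  simp

theorem irrMap_injective (e : H₁ ≃* H₂) : Function.Injective (irrMap e) := by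
  intro θ₁ θ₂ h
  rw [← irrMap_symm_irrMap e θ₁, ← irrMap_symm_irrMap e θ₂, h]

theorem centralizer_index_mulEquiv (e : H₁ ≃* H₂) (x : H₁) :
    (Subgroup.centralizer ({x} : Set H₁)).index =
      (Subgroup.centralizer ({e x} : Set H₂)).index := by
  have h : Subgroup.centralizer ({x} : Set H₁) =
      (Subgroup.centralizer ({e x} : Set H₂)).comap e.toMonoidHom := by
    ext y
    rw [Subgroup.mem_comap, Subgroup.mem_centralizer_singleton_iff,
      Subgroup.mem_centralizer_singleton_iff]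
    show y * x = x * y ↔ e y * e x = e x * e y
    rw [← map_mul, ← map_mul, e.injective.eq_iff]
  rw [h]
  exact Subgroup.index_comap_of_surjective _ e.surjective

theorem centralChar_comp_mulEquiv (e : H₁ ≃* H₂) (θ : H₂ → ℂ) (x : H₁) :
    centralChar (fun y => θ (e y)) x = centralChar θ (e x) := by
  unfold centralChar
  rw [centralizer_index_mulEquiv e x]
  show _ * θ (e x) / θ (e 1) = _
  rw [map_one]

theorem sameBlock_comp_mulEquiv_iff {M : Ideal AlgInt} (e : H₁ ≃* H₂) (θ₁ θ₂ : H₂ → ℂ) :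
    SameBlock M (fun y => θ₁ (e y)) (fun y => θ₂ (e y)) ↔ SameBlock M θ₁ θ₂ := by
  constructor
  · intro h g
    have := h (e.symm g)
    rwa [centralChar_comp_mulEquiv, centralChar_comp_mulEquiv, e.apply_symm_apply] at this
  · intro h g
    rw [centralChar_comp_mulEquiv, centralChar_comp_mulEquiv]
    exact h (e g)

theorem irrMap_image_blockOf {M : Ideal AlgInt} (e : H₁ ≃* H₂) (θ₀ : IrrCharacter H₂) :
    irrMap e '' blockOf M (θ₀ : H₂ → ℂ) = blockOf M (irrMap e θ₀ : H₁ → ℂ) := by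
  ext ψ
  constructor
  · rintro ⟨θ, hθ, rfl⟩
    exact (sameBlock_comp_mulEquiv_iff e _ _).2 hθ
  · intro hψ
    refine ⟨irrMap e.symm ψ, ?_, irrMap_irrMap_symm e ψ⟩
    have : SameBlock M (fun y => (θ₀ : H₂ → ℂ) (e y))
        (fun y => (irrMap e.symm ψ : H₂ → ℂ) (e y)) := by
      have h2 : (fun y => (irrMap e.symm ψ : H₂ → ℂ) (e y)) = (ψ : H₁ → ℂ) := by
        funext y; simp
      rw [h2]
      exact hψ
    exact (sameBlock_comp_mulEquiv_iff e _ _).1 this

theorem isPBlock_irrMap_image {M : Ideal AlgInt} (e : H₁ ≃* H₂) {b : Set (IrrCharacter H₂)}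
    (hb : IsPBlock M b) : IsPBlock M (irrMap e '' b) := by
  obtain ⟨θ₀, rfl⟩ := hb
  exact ⟨irrMap e θ₀, irrMap_image_blockOf e θ₀⟩

theorem omega_comp_mulEquiv [Fintype H₁] [Fintype H₂] (e : H₁ ≃* H₂) (θ a : H₂ → ℂ) :
    omega (fun y => θ (e y)) (fun y => a (e y)) = omega θ a := by
  unfold omega
  show (∑ g, a (e g) * θ (e g)) / θ (e 1) = _
  rw [map_one]
  congr 1
  exact Fintype.sum_equiv e.toEquiv _ _ (fun _ => rfl)

theorem blockCoeff_irrMap_image (e : H₁ ≃* H₂) (B : Set (IrrCharacter H₂)) (x : H₁) :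
    blockCoeff (irrMap e '' B) x = blockCoeff B (e x) := by
  unfold blockCoeff
  rw [Nat.card_congr e.toEquiv, finsum_mem_image (fun _ _ _ _ h => irrMap_injective e h)]
  congr 1
  refine finsum_congr fun θ => ?_
  refine finsum_congr fun _ => ?_
  rw [irrMap_apply, irrMap_apply, map_one]

end Cfsg.Agent.Lib.Helper77
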