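import Cfsg.Agent.Lib.Helper77.BPairC

/-!
# Brauer pairs: the action of `P` on the blocks of `K`, and the unique stable block below
-/

set_option autoImplicit false

universe u

namespace Cfsg.Agent.Lib.Helper77

open Cfsg
open Cfsg.Agent.Lib.Helper81
open Cfsg.Agent.Lib.Helper80
open scoped Pointwise

variable {G : Type u} [Group G]

/-- The conjugate of a character of `K` by an element normalizing `K`:
`(x · θ)(k) = θ (x⁻¹ k x)`. -/
noncomputable def cjIrr (K : Subgroup G) (x : G) (hx : x ∈ Subgroup.normalizer (K : Set G))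
    (θ : IrrCharacter K) : IrrCharacter K :=
  irrMap (Cfsg.Agent.S4691.conjAut K x hx) θ

theorem cjIrr_apply (K : Subgroup G) (x : G) (hx : x ∈ Subgroup.normalizer (K : Set G))
    (θ : IrrCharacter K) (k : K) :
    (cjIrr K x hx θ : K → ℂ) k = (θ : K → ℂ) (Cfsg.Agent.S4691.conjAut K x hx k) := rfl

theorem coe_conjAut (K : Subgroup G) (x : G) (hx : x ∈ Subgroup.normalizer (K : Set G))
    (k : K) : ((Cfsg.Agent.S4691.conjAut K x hx k : K) : G) = x⁻¹ * (k : G) * x := rfl

theorem isConjCharOf_cjIrr (K : Subgroup G) (x : G) (hx : x ∈ Subgroup.normalizer (K : Set G))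
    (θ : IrrCharacter K) :
    IsConjCharOf K x (θ : K → ℂ) (cjIrr K x hx θ : K → ℂ) := by
  intro k k' hk
  rw [cjIrr_apply]
  refine congrArg _ (Subtype.ext ?_)
  rw [coe_conjAut, hk]
  group

theorem eq_cjIrr_of_isConjCharOf (K : Subgroup G) (x : G)
    (hx : x ∈ Subgroup.normalizer (K : Set G)) {θ θ' : IrrCharacter K}
    (h : IsConjCharOf K x (θ : K → ℂ) (θ' : K → ℂ)) : θ' = cjIrr K x hx θ := by
  apply Subtype.ext
  funext k'
  rw [cjIrr_apply]
  apply h
  rw [coe_conjAut]
  group

/-- The action of `P ≤ N_G(K)` on the irreducible characters of `K`. -/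
@[instance_reducible] noncomputable def irrAct (P K : Subgroup G)
    (hPK : P ≤ Subgroup.normalizer (K : Set G)) : MulAction P (IrrCharacter K) where
  smul q θ := cjIrr K q (hPK q.2) θ
  one_smul θ := by
    apply Subtype.ext
    funext k
    show (cjIrr K ((1 : P) : G) _ θ : K → ℂ) k = _
    rw [cjIrr_apply]
    refine congrArg _ (Subtype.ext ?_)
    rw [coe_conjAut]
    simp
  mul_smul q q' θ := by
    apply Subtype.ext
    funext k
    show (cjIrr K ((q * q' : P) : G) _ θ : K → ℂ) k =
      (cjIrr K (q : G) _ (cjIrr K (q' : G) _ θ) : K → ℂ) k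
    rw [cjIrr_apply, cjIrr_apply, cjIrr_apply]
    refine congrArg _ (Subtype.ext ?_)
    rw [coe_conjAut, coe_conjAut, coe_conjAut]
    push_cast
    group

theorem irrAct_smul (P K : Subgroup G) (hPK : P ≤ Subgroup.normalizer (K : Set G)) (q : P)
    (θ : IrrCharacter K) :
    (letI := irrAct P K hPK; q • θ) = cjIrr K q (hPK q.2) θ := rfl

theorem irrAct_smul_set (P K : Subgroup G) (hPK : P ≤ Subgroup.normalizer (K : Set G)) (q : P)
    (S : Set (IrrCharacter K)) :
    (letI := irrAct P K hPK; q • S) = cjIrr K q (hPK q.2) '' S := rfl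

theorem eq_of_isPBlock_of_mem {H : Type u} [Group H] {M : Ideal AlgInt} (hM : M.IsPrime)
    {f f' : Set (IrrCharacter H)} (hf : IsPBlock M f) (hf' : IsPBlock M f') {θ : IrrCharacter H}
    (h1 : θ ∈ f) (h2 : θ ∈ f') : f = f' := by
  obtain ⟨θ₀, rfl⟩ := hf
  obtain ⟨θ₁, rfl⟩ := hf'
  rw [← blockOf_eq_of_mem hM h1, ← blockOf_eq_of_mem hM h2]

/-- A block stabilized by `x` is equal to its `x`-conjugate. -/
theorem cjIrr_image_eq_of_stabilizes {M : Ideal AlgInt} (hM : M.IsPrime) (K : Subgroup G)
    {f : Set (IrrCharacter K)} (hf : IsPBlock M f) {x : G}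
    (hx : x ∈ Subgroup.normalizer (K : Set G)) (hst : StabilizesBlock K f x) :
    cjIrr K x hx '' f = f := by
  obtain ⟨θ₀, hθ₀⟩ := hf
  have hθ₀f : θ₀ ∈ f := by rw [hθ₀]; exact sameBlock_refl hM _
  obtain ⟨θ', hθ'f, hθ'⟩ := hst.2 θ₀ hθ₀f
  have h1 : θ' = cjIrr K x hx θ₀ := eq_cjIrr_of_isConjCharOf K x hx hθ'
  refine (eq_of_isPBlock_of_mem hM (isPBlock_irrMap_image _ ⟨θ₀, hθ₀⟩) ⟨θ₀, hθ₀⟩
    (θ := θ') ?_ hθ'f)
  rw [h1]
  exact Set.mem_image_of_mem _ hθ₀f

theorem stabilizesBlock_of_image_eq (K : Subgroup G) {f : Set (IrrCharacter K)} {x : G}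
    (hx : x ∈ Subgroup.normalizer (K : Set G)) (h : cjIrr K x hx '' f = f) :
    StabilizesBlock K f x := by
  refine ⟨hx, fun θ hθ => ⟨cjIrr K x hx θ, ?_, isConjCharOf_cjIrr K x hx θ⟩⟩
  rw [← h]
  exact Set.mem_image_of_mem _ hθ

theorem blockCoeff_cjIrr_image (K : Subgroup G) (f : Set (IrrCharacter K)) (x : G)
    (hx : x ∈ Subgroup.normalizer (K : Set G)) (k : K) :
    blockCoeff (cjIrr K x hx '' f) k = blockCoeff f (Cfsg.Agent.S4691.conjAut K x hx k) :=
  blockCoeff_irrMap_image _ f k

/-- The idempotent of a `P`-stable block is `P`-stable. -/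
theorem kStable_blockCoeff {M : Ideal AlgInt} (hM : M.IsPrime) {P K : Subgroup G}
    (hPK : P ≤ Subgroup.normalizer (K : Set G)) {f : Set (IrrCharacter K)} (hf : IsPBlock M f)
    (hst : ∀ q ∈ P, StabilizesBlock K f q) : KStable P K (blockCoeff f) := by
  intro q hq k k' hk
  have h1 := cjIrr_image_eq_of_stabilizes hM K hf (hPK hq) (hst q hq)
  have h2 := blockCoeff_cjIrr_image K f q (hPK hq) k'
  rw [h1] at h2
  rw [h2]
  refine congrArg _ (Subtype.ext ?_)
  rw [coe_conjAut, hk]
  group

section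

variable [Fintype G] {p : ℕ} [Fact p.Prime] {M : Ideal AlgInt}

omit [Fact p.Prime] in
theorem omega_finset_sum {ι : Type*} (T : Finset ι) (χ : G → ℂ) (a : ι → G → ℂ) :
    omega χ (fun g => ∑ i ∈ T, a i g) = ∑ i ∈ T, omega χ (a i) := by
  unfold omega
  rw [← Finset.sum_div]
  congr 1
  simp_rw [Finset.sum_mul]
  exact Finset.sum_comm

omit [Fact p.Prime] in
open Classical in
/-- The block idempotents sum to the identity. -/
theorem sum_blocks_blockCoeff (hM : M.IsPrime) [Fintype (IrrCharacter G)] (g : G) :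
    ∑ S : Set (IrrCharacter G), (if IsPBlock M S then blockCoeff S g else 0) = deltaOne g := by
  have hcl : IsClassFunction G (fun g => ∑ S : Set (IrrCharacter G),
      (if IsPBlock M S then blockCoeff S g else 0)) := by
    intro g h
    refine Finset.sum_congr rfl fun S _ => ?_
    split_ifs
    · exact blockCoeff_isClassFunction S g h
    · rfl
  have := eq_of_omega_eq hcl deltaOne_isClassFunction (fun χ => ?_)
  · exact congrFun this g
  · rw [omega_deltaOne _ (irr_one_ne_zero χ.2)]
    have e1 : (fun g => ∑ S : Set (IrrCharacter G),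
        (if IsPBlock M S then blockCoeff S g else 0)) =
        fun g => ∑ S : Set (IrrCharacter G),
          (fun S g => if IsPBlock M S then blockCoeff S g else 0) S g := rfl
    rw [e1, omega_finset_sum]
    have e2 : ∀ S : Set (IrrCharacter G),
        omega (χ : G → ℂ) (fun g => if IsPBlock M S then blockCoeff S g else 0) =
        if S = blockOf M (χ : G → ℂ) then 1 else 0 := by
      intro S
      by_cases hS : IsPBlock M S
      · have : (fun g => if IsPBlock M S then blockCoeff S g else 0) = blockCoeff S := by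
          funext g; rw [if_pos hS]
        rw [this, omega_blockCoeff]
        by_cases hχ : χ ∈ S
        · rw [if_pos hχ, if_pos]
          exact eq_of_isPBlock_of_mem hM hS ⟨χ, rfl⟩ hχ (sameBlock_refl hM _)
        · rw [if_neg hχ, if_neg]
          rintro rfl
          exact hχ (sameBlock_refl hM _)
      · have : (fun g => if IsPBlock M S then blockCoeff S g else 0) = 0 := by
          funext g; rw [if_neg hS]; rfl
        rw [this, omega_zero, if_neg]
        rintro rfl
        exact hS ⟨χ, rfl⟩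
    simp_rw [e2]
    rw [Finset.sum_ite_eq' Finset.univ (blockOf M (χ : G → ℂ)) (fun _ => (1 : ℂ))]
    simp

end

end Cfsg.Agent.Lib.Helper77
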