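import Cfsg.Agent.Lib.Helper77.ThirdMain
import Cfsg.Agent.Lib.Helper77.BrauerPair

set_option autoImplicit false

universe u

namespace Cfsg.Agent.Lib.Helper77

open Cfsg
open Cfsg.Agent.Lib.Helper81
open Cfsg.Agent.Lib.Helper80

variable {G : Type u} [Group G] [Fintype G]

/-- Brauer's Third Main Theorem in the language of Brauer pairs. -/
theorem isBrauerPairOf_principalBlock_iff {p : ℕ} [Fact p.Prime] {M : Ideal AlgInt}
    (hpM : IsPModular p M) {Q : Subgroup G} (hQ : IsPGroup p Q)
    {e : Set (IrrCharacter (Subgroup.centralizer (Q : Set G)))} (he : IsPBlock M e) :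
    IsBrauerPairOf p M (principalBlock M G) Q e ↔
      e = principalBlock M (Subgroup.centralizer (Q : Set G)) := by
  classical
  have hM : M.IsPrime := isPrime_of_isPModular hpM
  have := Fintype.ofFinite (Subgroup.centralizer (Q : Set G))
  obtain ⟨ξ₀, rfl⟩ := he
  obtain ⟨χ, hχ⟩ := exists_irr_of_isBrauerPair hpM hQ ξ₀
  have hξ₀ : ξ₀ ∈ blockOf M (ξ₀ : Subgroup.centralizer (Q : Set G) → ℂ) := sameBlock_refl hM _
  -- the test function
  have k := hχ (regInd p) (regInd_ZS hM p) ξ₀ hξ₀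
  rw [brauerOmega_eq_omega] at k
  have hres : brRes Q (Subgroup.centralizer (Q : Set G)) (regInd p) = regInd p := by
    funext c
    rw [brRes_pos _ c.2, regInd_coe]
  rw [hres] at k
  have key := mem_principalBlock_iff_of_cong hpM ξ₀ χ k
  rw [eq_principalBlock_iff hM, key]
  have hZ : ZS M (blockCoeff (principalBlock M G)) := ZS.blockCoeff hpM (oneIrr G)
  constructor
  · rintro ⟨-, -, hcong⟩
    by_contra hc
    have h1 := hχ _ hZ ξ₀ hξ₀
    rw [omega_blockCoeff, if_neg hc, sub_zero] at h1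
    have h2 := hcong ξ₀ hξ₀
    have h3 := memLocalIdeal_sub hM h1 h2
    rw [sub_sub_cancel] at h3
    exact not_memLocalIdeal_one hM h3
  · intro hc
    refine ⟨⟨hQ, ξ₀, rfl⟩, isPBlock_principalBlock M, fun ξ hξ => ?_⟩
    have h1 := hχ _ hZ ξ hξ
    rwa [omega_blockCoeff, if_pos hc] at h1

end Cfsg.Agent.Lib.Helper77
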