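import Mathlib

/-!
# The inertial quotient of a Klein four group: pure group theory
-/

set_option autoImplicit false

universe u

namespace Cfsg.Agent.Lib.Helper77.Kf

variable {G : Type u} [Group G] [Finite G]

/-- If every `2`-element of `T` centralizes `P` then `|T : C_G(P)|` is odd. -/
theorem relIndex_centralizer_odd {P T : Subgroup G}
    (h2 : ∀ g ∈ T, (∃ k : ℕ, orderOf g = 2 ^ k) → g ∈ Subgroup.centralizer (P : Set G)) :
    ¬ 2 ∣ (Subgroup.centralizer (P : Set G)).relIndex T := by
  have : Fact (Nat.Prime 2) := ⟨Nat.prime_two⟩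
  obtain ⟨S⟩ : Nonempty (Sylow 2 T) := inferInstance
  have hle : (S : Subgroup T) ≤ (Subgroup.centralizer (P : Set G)).subgroupOf T := by
    intro s hs
    rw [Subgroup.mem_subgroupOf]
    apply h2 _ s.2
    obtain ⟨k, hk⟩ := IsPGroup.iff_orderOf.mp S.2 ⟨s, hs⟩
    refine ⟨k, ?_⟩
    rw [← hk, Subgroup.orderOf_mk, Subgroup.orderOf_coe]
  have h1 := Subgroup.index_dvd_of_le hle
  intro hdvd
  exact S.not_dvd_index (hdvd.trans h1)

/-- `|T : C_G(P)|` divides `|P|!`. -/
theorem relIndex_centralizer_dvd_factorial {P T : Subgroup G}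
    (hTN : T ≤ Subgroup.normalizer (P : Set G))
    (hCT : Subgroup.centralizer (P : Set G) ≤ T) :
    (Subgroup.centralizer (P : Set G)).relIndex T ∣ (Nat.card P).factorial := by
  have key := Subgroup.card_dvd_of_injective _
    (QuotientGroup.kerLift_injective P.normalizerMonoidHom)
  rw [Subgroup.normalizerMonoidHom_ker, ← Subgroup.index, ← Subgroup.relIndex] at key
  have h1 : (Subgroup.centralizer (P : Set G)).relIndex T ∣
      (Subgroup.centralizer (P : Set G)).relIndex (Subgroup.normalizer (P : Set G)) := by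
    rw [← Subgroup.relIndex_mul_relIndex _ _ _ hCT hTN]
    exact dvd_mul_right _ _
  have h2 : Nat.card (MulAut P) ∣ Nat.card (Equiv.Perm P) := by
    apply Subgroup.card_dvd_of_injective (MulAut.toPerm P)
    intro a b hab
    apply MulEquiv.ext
    intro x
    exact congrFun (congrArg (fun e : Equiv.Perm P => (e : P → P)) hab) x
  have h3 : Nat.card (Equiv.Perm P) = (Nat.card P).factorial := Nat.card_perm
  rw [h3] at h2
  exact h1.trans (key.trans h2)

theorem eq_one_or_three_of_dvd {e : ℕ} (h24 : e ∣ Nat.factorial 4) (hodd : ¬ 2 ∣ e) :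
    e = 1 ∨ e = 3 := by
  have h1 : e ∣ 8 * 3 := by
    have : Nat.factorial 4 = 8 * 3 := by decide
    rwa [this] at h24
  have hc : Nat.Coprime e 8 := by
    have : Nat.Coprime e 2 := ((Nat.Prime.coprime_iff_not_dvd Nat.prime_two).mpr hodd).symm
    exact Nat.Coprime.pow_right 3 this
  have h3 : e ∣ 3 := hc.dvd_of_dvd_mul_left h1
  exact (Nat.dvd_prime Nat.prime_three).mp h3

end Cfsg.Agent.Lib.Helper77.Kf

namespace Cfsg.Agent.Lib.Helper77.Kf

variable {G : Type u} [Group G] [Finite G]

/-- Conjugation by an element of the normalizer, as a map of the subgroup. -/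
def cj {P : Subgroup G} (t : G) (ht : t ∈ Subgroup.normalizer (P : Set G)) (x : P) : P :=
  ⟨t * x * t⁻¹, (Subgroup.mem_normalizer_iff.mp ht x).mp x.2⟩

omit [Finite G] in
theorem cj_mul {P : Subgroup G} (t : G) (ht : t ∈ Subgroup.normalizer (P : Set G)) (x y : P) :
    cj t ht (x * y) = cj t ht x * cj t ht y := by
  apply Subtype.ext
  show t * ((x : G) * (y : G)) * t⁻¹ = t * (x : G) * t⁻¹ * (t * (y : G) * t⁻¹)
  group

omit [Finite G] in
theorem cj_injective {P : Subgroup G} (t : G) (ht : t ∈ Subgroup.normalizer (P : Set G)) :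
    Function.Injective (cj t ht : P → P) := by
  intro x y hxy
  have h1 : t * (x : G) * t⁻¹ = t * (y : G) * t⁻¹ := congrArg Subtype.val hxy
  apply Subtype.ext
  have h2 := congrArg (fun z => t⁻¹ * z * t) h1
  simpa [mul_assoc] using h2

omit [Finite G] in
theorem cj_one {P : Subgroup G} (t : G) (ht : t ∈ Subgroup.normalizer (P : Set G)) :
    cj t ht (1 : P) = 1 := by
  apply Subtype.ext
  show t * 1 * t⁻¹ = 1
  group

theorem exists_ne_ne {P : Subgroup G} [IsKleinFour P] (x : P) : ∃ y : P, y ≠ 1 ∧ y ≠ x := by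
  by_contra hcon
  push Not at hcon
  have hsub : (Set.univ : Set P) ⊆ {1, x} := by
    intro y _
    by_cases h1 : y = 1
    · exact Or.inl h1
    · exact Or.inr (hcon y h1)
  have h1 : Nat.card P = (Set.univ : Set P).ncard := (Set.ncard_univ P).symm
  have h2 : (Set.univ : Set P).ncard ≤ ({1, x} : Set P).ncard :=
    Set.ncard_le_ncard hsub (Set.toFinite _)
  have h3 : ({1, x} : Set P).ncard ≤ 2 := (Set.ncard_insert_le _ _).trans (by
    rw [Set.ncard_singleton])
  have h4 : Nat.card P = 4 := IsKleinFour.card_four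
  omega

/-- When the inertial index is three, the inertial group is transitive on the involutions. -/
theorem exists_conj_eq_of_relIndex_three {P T : Subgroup G} [IsKleinFour P]
    (hTN : T ≤ Subgroup.normalizer (P : Set G))
    (h3 : (Subgroup.centralizer (P : Set G)).relIndex T = 3) {u v : G} (hu : u ∈ P) (hv : v ∈ P)
    (hu1 : u ≠ 1) (hv1 : v ≠ 1) : ∃ t ∈ T, t * u * t⁻¹ = v := by
  have hcomm : ∀ x y : P, x * y = y * x :=
    mul_comm_of_exponent_two IsKleinFour.exponent_two
  have hsq : ∀ x : P, x * x = 1 := IsKleinFour.mul_self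
  -- an element outside the centralizer
  obtain ⟨t, htT, htC⟩ : ∃ t ∈ T, t ∉ Subgroup.centralizer (P : Set G) := by
    by_contra hcon
    push Not at hcon
    have : T ≤ Subgroup.centralizer (P : Set G) := hcon
    rw [← Subgroup.relIndex_eq_one] at this
    omega
  have htN : t ∈ Subgroup.normalizer (P : Set G) := hTN htT
  -- the cube lies in the centralizer
  have hnorm : ((Subgroup.centralizer (P : Set G)).subgroupOf T).Normal := by
    constructor
    intro n hn g
    rw [Subgroup.mem_subgroupOf] at hn ⊢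
    rw [Subgroup.mem_centralizer_iff]
    intro x hx
    have hgN : (g : G) ∈ Subgroup.normalizer (P : Set G) := hTN g.2
    have hx' : (g : G)⁻¹ * x * (g : G) ∈ P := by
      have := (Subgroup.mem_normalizer_iff.mp (Subgroup.inv_mem _ hgN) x).mp hx
      simpa using this
    have h1 := (Subgroup.mem_centralizer_iff.mp hn) _ hx'
    show x * ((g : G) * (n : G) * (g : G)⁻¹) = (g : G) * (n : G) * (g : G)⁻¹ * x
    have e1 : x * ((g : G) * (n : G) * (g : G)⁻¹) =
        (g : G) * (((g : G)⁻¹ * x * (g : G)) * (n : G)) * (g : G)⁻¹ := by group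
    have e2 : (g : G) * (n : G) * (g : G)⁻¹ * x =
        (g : G) * ((n : G) * ((g : G)⁻¹ * x * (g : G))) * (g : G)⁻¹ := by group
    rw [e1, e2, h1]
  have hcube : t ^ 3 ∈ Subgroup.centralizer (P : Set G) := by
    have hcard : Nat.card (T ⧸ (Subgroup.centralizer (P : Set G)).subgroupOf T) = 3 := by
      rw [← Subgroup.index_eq_card]
      exact h3
    have h1 : ((⟨t, htT⟩ : T) : T ⧸ (Subgroup.centralizer (P : Set G)).subgroupOf T) ^ 3 = 1 := by
      rw [← hcard]
      exact pow_card_eq_one'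
    rw [← QuotientGroup.mk_pow, QuotientGroup.eq_one_iff, Subgroup.mem_subgroupOf] at h1
    exact h1
  -- fixed points
  have hfix : ∀ x : P, x ≠ 1 → cj t htN x ≠ x := by
    intro x hx1 hfx
    apply htC
    obtain ⟨y, hy1, hyx⟩ := exists_ne_ne x
    have hz1 : cj t htN y ≠ 1 := by
      intro h
      rw [← cj_one t htN] at h
      exact hy1 (cj_injective t htN h)
    have hzx : cj t htN y ≠ x := by
      intro h
      rw [← hfx] at h
      exact hyx (cj_injective t htN h)
    have hzz : cj t htN (cj t htN y) = y := by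
      by_cases hzy : cj t htN y = y
      · rw [hzy, hzy]
      · have h1 := IsKleinFour.eq_mul_of_ne_all hx1 hy1 (Ne.symm hyx) hz1 hzx hzy
        rw [h1, cj_mul, hfx]
        conv_lhs => rw [h1]
        rw [← mul_assoc, hsq x, one_mul]
    -- `t * t` centralizes `P`
    have hsqC : t * t ∈ Subgroup.centralizer (P : Set G) := by
      have hx2 : t * t * (x : G) * (t * t)⁻¹ = (x : G) := by
        have h1 : t * (x : G) * t⁻¹ = (x : G) := congrArg Subtype.val hfx
        have e1 : t * t * (x : G) * (t * t)⁻¹ = t * (t * (x : G) * t⁻¹) * t⁻¹ := by group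
        rw [e1, h1, h1]
      have hy2 : t * t * (y : G) * (t * t)⁻¹ = (y : G) := by
        have h1 : t * (t * (y : G) * t⁻¹) * t⁻¹ = (y : G) := congrArg Subtype.val hzz
        have e1 : t * t * (y : G) * (t * t)⁻¹ = t * (t * (y : G) * t⁻¹) * t⁻¹ := by group
        rw [e1, h1]
      rw [Subgroup.mem_centralizer_iff]
      intro q hq
      have key : ∀ q : G, t * t * q * (t * t)⁻¹ = q → q * (t * t) = t * t * q := by
        intro q h
        have h' : t * t * q * (t * t)⁻¹ * (t * t) = q * (t * t) := by rw [h]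
        rw [← h', inv_mul_cancel_right]
      have hq' : (⟨q, hq⟩ : P) = 1 ∨ (⟨q, hq⟩ : P) = x ∨ (⟨q, hq⟩ : P) = y ∨
          (⟨q, hq⟩ : P) = x * y := by
        by_cases c1 : (⟨q, hq⟩ : P) = 1
        · exact Or.inl c1
        by_cases c2 : (⟨q, hq⟩ : P) = x
        · exact Or.inr (Or.inl c2)
        by_cases c3 : (⟨q, hq⟩ : P) = y
        · exact Or.inr (Or.inr (Or.inl c3))
        exact Or.inr (Or.inr (Or.inr
          (IsKleinFour.eq_mul_of_ne_all hx1 hy1 (Ne.symm hyx) c1 c2 c3)))
      rcases hq' with h | h | h | h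
      · have : q = 1 := congrArg Subtype.val h
        rw [this]
        group
      · have : q = (x : G) := congrArg Subtype.val h
        rw [this]
        exact key _ hx2
      · have : q = (y : G) := congrArg Subtype.val h
        rw [this]
        exact key _ hy2
      · have : q = (x : G) * (y : G) := congrArg Subtype.val h
        rw [this]
        apply key
        have e1 : t * t * ((x : G) * (y : G)) * (t * t)⁻¹ =
            (t * t * (x : G) * (t * t)⁻¹) * (t * t * (y : G) * (t * t)⁻¹) := by group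
        rw [e1, hx2, hy2]
    have e1 : t = t ^ 3 * (t * t)⁻¹ := by group
    rw [e1]
    exact Subgroup.mul_mem _ hcube (Subgroup.inv_mem _ hsqC)
  -- transitivity
  have hu1' : (⟨u, hu⟩ : P) ≠ 1 := fun h => hu1 (congrArg Subtype.val h)
  have hv1' : (⟨v, hv⟩ : P) ≠ 1 := fun h => hv1 (congrArg Subtype.val h)
  by_cases huv : (⟨u, hu⟩ : P) = ⟨v, hv⟩
  · refine ⟨1, T.one_mem, ?_⟩
    have : u = v := congrArg Subtype.val huv
    rw [this]
    group
  have hz1 : cj t htN ⟨u, hu⟩ ≠ 1 := by
    intro h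
    rw [← cj_one t htN] at h
    exact hu1' (cj_injective t htN h)
  have hzu := hfix _ hu1'
  by_cases hzv : cj t htN ⟨u, hu⟩ = ⟨v, hv⟩
  · exact ⟨t, htT, congrArg Subtype.val hzv⟩
  have hz := IsKleinFour.eq_mul_of_ne_all hu1' hv1' huv hz1 hzu hzv
  have hw1 : (⟨u, hu⟩ : P) * ⟨v, hv⟩ ≠ 1 := by rw [← hz]; exact hz1
  have hz2w := hfix _ hw1
  have hz21 : cj t htN ((⟨u, hu⟩ : P) * ⟨v, hv⟩) ≠ 1 := by
    intro h
    rw [← cj_one t htN] at h
    exact hw1 (cj_injective t htN h)
  have hz2v : cj t htN ((⟨u, hu⟩ : P) * ⟨v, hv⟩) = ⟨v, hv⟩ := by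
    by_contra hne
    have hz2u : cj t htN ((⟨u, hu⟩ : P) * ⟨v, hv⟩) = ⟨u, hu⟩ := by
      by_contra hne2
      exact hz2w (IsKleinFour.eq_mul_of_ne_all hu1' hv1' huv hz21 hne2 hne)
    apply hfix _ hv1'
    have e1 : (⟨v, hv⟩ : P) = ⟨u, hu⟩ * (⟨u, hu⟩ * ⟨v, hv⟩) := by
      rw [← mul_assoc, hsq, one_mul]
    conv_lhs => rw [e1]
    rw [cj_mul, hz2u, hz, hcomm (⟨u, hu⟩ : P) ⟨v, hv⟩, mul_assoc, hsq, mul_one]
  refine ⟨t * t, T.mul_mem htT htT, ?_⟩
  have h1 : t * (t * u * t⁻¹) * t⁻¹ = v := by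
    have h2 : cj t htN (cj t htN ⟨u, hu⟩) = ⟨v, hv⟩ := by rw [hz, hz2v]
    exact congrArg Subtype.val h2
  rw [← h1]
  group

end Cfsg.Agent.Lib.Helper77.Kf
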