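import Cfsg.Agent.Lib.Helper77.LTransB
import Cfsg.Agent.Lib.Helper77.PPow

/-!
# Abelian maximal Brauer pairs: stabilizer factorization and nilpotency
-/

set_option autoImplicit false

universe u

namespace Cfsg.Agent.Lib.Helper77

open Cfsg
open Cfsg.Agent.Lib.Helper81
open Cfsg.Agent.Lib.Helper80
open Cfsg.Agent.S4681 (centConj)
open scoped Pointwise

variable {G : Type u} [Group G] [Fintype G] {p : ℕ} [Fact p.Prime] {M : Ideal AlgInt}

/-- The stabilizer of `(P, e)` intersected with `N(Q)` stabilizes `f` when `(Q, f) ≤ (P, e)`. -/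
theorem stabilizes_of_stab_of_subpairLE (hpM : IsPModular p M) {P Q : Subgroup G}
    {e : Set (IrrCharacter (Subgroup.centralizer (P : Set G)))}
    {f : Set (IrrCharacter (Subgroup.centralizer (Q : Set G)))}
    (hPe : IsBrauerPair p M P e) (hle : SubpairLE p M Q f P e) {y : G}
    (hyP : y ∈ Subgroup.normalizer (P : Set G))
    (hyst : StabilizesBlock (Subgroup.centralizer (P : Set G)) e y)
    (hyN : y ∈ Subgroup.normalizer (Q : Set G)) :
    StabilizesBlock (Subgroup.centralizer (Q : Set G)) f y := by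
  have hM : M.IsPrime := isPrime_of_isPModular hpM
  have hyK := Cfsg.Agent.S4691.normalizer_le_normalizer_centralizer' Q hyN
  have h1 := subpairLE_conj (p := p) (M := M) y hle
  have h4 : SubpairLE p M Q (cjIrr _ y hyK '' f) P e := by
    show Relation.ReflTransGen _ _ _
    rw [← conj_normalizer_idx f hyN, ← conj_stab_idx hM hPe.2 hyP hyst]
    exact h1
  have h5 := Cfsg.Agent.Lib.Helper52.Subpairs.subpairLE_unique hpM _ P Q e _ f rfl hPe h4 hle
  exact stabilizesBlock_of_image_eq _ hyK h5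

/-- **Stabilizer factorization for abelian maximal pairs.** -/
theorem abelian_stab_factor (hpM : IsPModular p M) {B : Set (IrrCharacter G)}
    {P Q : Subgroup G}
    {e : Set (IrrCharacter (Subgroup.centralizer (P : Set G)))}
    {f : Set (IrrCharacter (Subgroup.centralizer (Q : Set G)))}
    (hmax : IsMaximalBrauerPair p M B P e)
    (hab : ∀ x ∈ P, ∀ y ∈ P, x * y = y * x) (hQP : Q ≤ P) (hle : SubpairLE p M Q f P e)
    (TQ : Subgroup G)
    (hTQ : ∀ y : G, y ∈ TQ ↔ y ∈ Subgroup.normalizer (Q : Set G) ∧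
      StabilizesBlock (Subgroup.centralizer (Q : Set G)) f y)
    (TP : Subgroup G)
    (hTP : ∀ y : G, y ∈ TP ↔ y ∈ Subgroup.normalizer (P : Set G) ∧
      StabilizesBlock (Subgroup.centralizer (P : Set G)) e y) :
    (∀ x ∈ TQ, ∃ y ∈ TP, ∃ c ∈ Subgroup.centralizer (Q : Set G), x = y * c) ∧
      ((Subgroup.centralizer (Q : Set G)).subgroupOf TQ).index =
        ((TP ⊓ Subgroup.centralizer (Q : Set G)).subgroupOf
          (TP ⊓ Subgroup.normalizer (Q : Set G))).index := by
  classical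
  have hM : M.IsPrime := isPrime_of_isPModular hpM
  have := Fintype.ofFinite (Subgroup.centralizer (Q : Set G))
  have hBP := hmax.1
  have hdef := isDefectGroup_of_isMaximalBrauerPair hpM hmax
  have hf : IsPBlock M f := isPBlock_of_subpairLE hBP.1.2 hle
  have part1 : ∀ x ∈ TQ, ∃ y ∈ TP, ∃ c ∈ Subgroup.centralizer (Q : Set G), x = y * c := by
    intro x hx
    have hx' := (hTQ x⁻¹).mp (TQ.inv_mem hx)
    obtain ⟨a, haL, hzN, hzst⟩ := abelian_pair_frattini hpM hBP hdef hab hQP hle hx'.1 hx'.2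
    have hz : a * x⁻¹ ∈ TP := (hTP _).mpr ⟨hzN, hzst⟩
    refine ⟨(a * x⁻¹)⁻¹, TP.inv_mem hz, a, haL, ?_⟩
    group
  refine ⟨part1, ?_⟩
  show (Subgroup.centralizer (Q : Set G)).relIndex TQ =
    (TP ⊓ Subgroup.centralizer (Q : Set G)).relIndex (TP ⊓ Subgroup.normalizer (Q : Set G))
  have hCTQ : Subgroup.centralizer (Q : Set G) ≤ TQ := by
    intro c hc
    rw [hTQ]
    exact ⟨Subgroup.centralizer_le_normalizer _ hc, stabilizesBlock_of_mem _ f hc⟩
  have hA : TP ⊓ Subgroup.normalizer (Q : Set G) ≤ TQ := by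
    intro y hy
    have hy1 := (hTP y).mp hy.1
    rw [hTQ]
    exact ⟨hy.2, stabilizes_of_stab_of_subpairLE hpM hBP.1 hle hy1.1 hy1.2 hy.2⟩
  have hsup : TQ = (TP ⊓ Subgroup.normalizer (Q : Set G)) ⊔ Subgroup.centralizer (Q : Set G) := by
    refine le_antisymm (fun x hx => ?_) (sup_le hA hCTQ)
    obtain ⟨y, hy, c, hc, rfl⟩ := part1 x hx
    have hycN := ((hTQ _).mp hx).1
    have hyN : y ∈ Subgroup.normalizer (Q : Set G) := by
      have h1 := Subgroup.mul_mem _ hycN
        (Subgroup.inv_mem _ (Subgroup.centralizer_le_normalizer _ hc))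
      rwa [mul_inv_cancel_right] at h1
    exact Subgroup.mul_mem _ (Subgroup.mem_sup_left ⟨hy, hyN⟩) (Subgroup.mem_sup_right hc)
  rw [hsup, relIndex_centralizer_sup_eq inf_le_right,
    ← Subgroup.inf_relIndex_right (Subgroup.centralizer (Q : Set G)),
    ← Subgroup.inf_relIndex_right (TP ⊓ Subgroup.centralizer (Q : Set G))]
  congr 1
  ext z
  simp only [Subgroup.mem_inf]
  tauto

/-- **Nilpotency of a block with abelian defect groups.** -/
theorem abelian_nilpotent_iff (hpM : IsPModular p M) {B : Set (IrrCharacter G)}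
    {P : Subgroup G} {e : Set (IrrCharacter (Subgroup.centralizer (P : Set G)))}
    (hmax : IsMaximalBrauerPair p M B P e)
    (hab : ∀ x ∈ P, ∀ y ∈ P, x * y = y * x) :
    IsNilpotentBlock p M B ↔ ∀ x : G, x ∈ Subgroup.normalizer (P : Set G) →
      StabilizesBlock (Subgroup.centralizer (P : Set G)) e x →
        x ∈ Subgroup.centralizer (P : Set G) := by
  classical
  have hM : M.IsPrime := isPrime_of_isPModular hpM
  have hp : p.Prime := Fact.out
  have hBP := hmax.1
  have he : IsPBlock M e := hBP.1.2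
  have hPp : IsPGroup p P := hBP.1.1
  have hdef := isDefectGroup_of_isMaximalBrauerPair hpM hmax
  have hPC : P ≤ Subgroup.centralizer (P : Set G) := le_centralizer_of_abelian hab le_rfl
  constructor
  · intro hnil x hxN hxst
    obtain ⟨K, r, N, hcard, hpr, hrN, hN1⟩ := exists_ppart_exponent G p hp
    obtain ⟨y, hxy, -, ⟨k, hk⟩, hy⟩ := isPPart_pow hp hcard hpr hrN hN1 x
    -- the stabilizer as a subgroup
    obtain ⟨T, hTdef⟩ : ∃ T : Subgroup G, T = Subgroup.normalizer (P : Set G) ⊓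
        stabSub (Subgroup.centralizer (P : Set G)) e := ⟨_, rfl⟩
    have hT : ∀ z : G, z ∈ T ↔ z ∈ Subgroup.normalizer (P : Set G) ∧
        StabilizesBlock (Subgroup.centralizer (P : Set G)) e z := by
      intro z
      rw [hTdef, Subgroup.mem_inf, mem_stabSub_iff hM _ he]
    have hxT : x ∈ T := (hT x).mpr ⟨hxN, hxst⟩
    have hxpT : x ^ N ∈ T := T.pow_mem hxT N
    have hyT : y ∈ T := by
      have h1 : y = (x ^ N)⁻¹ * x := eq_inv_mul_of_mul_eq hxy
      rw [h1]
      exact T.mul_mem (T.inv_mem hxpT) hxT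
    have hy' := (hT y).mp hyT
    have hyC : y ∈ Subgroup.centralizer (P : Set G) := hnil.2 P e hBP y hy'.1 hy'.2 hy
    -- the `p`-part
    have hxp' := (hT _).mp hxpT
    have hZp : IsPGroup p (Subgroup.zpowers (x ^ N)) := by
      apply IsPGroup.of_card (n := k)
      rw [Nat.card_zpowers, hk]
    have hZN : Subgroup.zpowers (x ^ N) ≤ Subgroup.normalizer (P : Set G) := by
      rw [Subgroup.zpowers_le]
      exact hxp'.1
    have hSp : IsPGroup p (Subgroup.zpowers (x ^ N) ⊔ P : Subgroup G) :=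
      IsPGroup.to_sup_of_normal_right' hZp hPp hZN
    have hSN : Subgroup.zpowers (x ^ N) ⊔ P ≤ Subgroup.normalizer (P : Set G) :=
      sup_le hZN Subgroup.le_normalizer
    have hSe : ∀ z ∈ Subgroup.zpowers (x ^ N) ⊔ P,
        StabilizesBlock (Subgroup.centralizer (P : Set G)) e z := by
      have hle : Subgroup.zpowers (x ^ N) ⊔ P ≤ T := by
        refine sup_le ?_ ?_
        · rw [Subgroup.zpowers_le]
          exact hxpT
        · intro z hz
          exact (hT z).mpr ⟨Subgroup.le_normalizer hz, stabilizesBlock_of_mem _ e (hPC hz)⟩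
      intro z hz
      exact ((hT z).mp (hle hz)).2
    obtain ⟨D, g, hDg, hsup, -⟩ := claimX hpM hPp he hSp le_sup_right hSN hSe
    have hDB : IsBrauerPairOf p M B D g := isBrauerPairOf_of_isNormalSubpair hpM hDg hBP
    have hDP : D = P := hmax.2 D g hDB (Relation.ReflTransGen.single hDg)
    have hxpC : x ^ N ∈ Subgroup.centralizer (P : Set G) := by
      have h1 : x ^ N ∈ Subgroup.zpowers (x ^ N) ⊔ P ⊔ Subgroup.centralizer (P : Set G) :=
        Subgroup.mem_sup_left (Subgroup.mem_sup_left (Subgroup.mem_zpowers _))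
      rw [← hsup, hDP, sup_eq_right.mpr hPC] at h1
      exact h1
    rw [← hxy]
    exact Subgroup.mul_mem _ hxpC hyC
  · intro hT
    refine ⟨hBP.2.1, fun Q₀ f₀ hQf₀ x₀ hx₀N hx₀st _ => ?_⟩
    obtain ⟨g, hgle⟩ := exists_conj_subpairLE hpM hmax hQf₀
    have hQP : Q₀.map (MulAut.conj g).toMonoidHom ≤ P :=
      Cfsg.Agent.Lib.Helper52.Subpairs.le_of_reflTransGen hgle
    have hxN : g * x₀ * g⁻¹ ∈ Subgroup.normalizer
        ((Q₀.map (MulAut.conj g).toMonoidHom : Subgroup G) : Set G) := by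
      rw [← Subgroup.map_equiv_normalizer_eq Q₀ (MulAut.conj g)]
      exact ⟨x₀, hx₀N, rfl⟩
    have hxst := (stabilizesBlock_conjBlock_iff Q₀ g x₀ f₀).mpr hx₀st
    obtain ⟨a, haL, hzN, hzst⟩ := abelian_pair_frattini hpM hBP hdef hab hQP hgle hxN hxst
    have hzC := Subgroup.centralizer_le hQP (hT _ hzN hzst)
    have hxC : g * x₀ * g⁻¹ ∈ Subgroup.centralizer
        ((Q₀.map (MulAut.conj g).toMonoidHom : Subgroup G) : Set G) := by
      have h1 := Subgroup.mul_mem _ (Subgroup.inv_mem _ haL) hzC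
      rwa [inv_mul_cancel_left] at h1
    rw [mem_centralizer_map_conj_iff] at hxC
    have e1 : g⁻¹ * (g * x₀ * g⁻¹) * g = x₀ := by group
    rwa [e1] at hxC

end Cfsg.Agent.Lib.Helper77
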