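import Cfsg.Agent.Lib.Helper77.NilA
import Cfsg.Agent.Lib.Helper72.SylowUniq
import Cfsg.Agent.S4662

/-!
# Control of fusion in nilpotent blocks
-/

set_option autoImplicit false

universe u

namespace Cfsg.Agent.Lib.Helper77

open Cfsg
open Cfsg.Agent.Lib.Helper81
open Cfsg.Agent.Lib.Helper80
open Cfsg.Agent.Lib.Helper52.ConjPairs (conjIdx conjSub)
open Cfsg.Agent.Lib.Helper52.PairUp (up)
open scoped Pointwise

variable {G : Type u} [Group G] [Fintype G] {p : ℕ} [Fact p.Prime] {M : Ideal AlgInt}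

/-- An element carrying `(P, e)` below itself stabilizes `(P, e)`. -/
theorem stab_of_conjIdx_le_top (hpM : IsPModular p M) {P : Subgroup G}
    {e : Set (IrrCharacter (Subgroup.centralizer (P : Set G)))} {g : G}
    (h : Relation.ReflTransGen (NormalSubpairRel p M) (conjIdx g ⟨P, e⟩) ⟨P, e⟩) :
    g ∈ Subgroup.normalizer (P : Set G) ∧
      StabilizesBlock (Subgroup.centralizer (P : Set G)) e g := by
  have h1 : conjSub P g ≤ P := Cfsg.Agent.Lib.Helper52.Subpairs.le_of_reflTransGen h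
  have h2 : conjSub P g = P := by
    refine Subgroup.eq_of_le_of_card_ge h1 ?_
    rw [Subgroup.card_map_of_injective (MulAut.conj g).injective]
  have hgN : g ∈ Subgroup.normalizer (P : Set G) := Subgroup.mem_normalizer_iff_map_conj_eq.mpr h2
  have h3 : conjIdx g ⟨P, e⟩ = (⟨P, e⟩ : BrauerPairIdx G) :=
    eq_of_reflTransGen_of_fst_eq hpM h h2
  have h4 := conj_normalizer_idx e hgN
  have h5 : (⟨P, cjIrr _ g
      (Cfsg.Agent.S4691.normalizer_le_normalizer_centralizer' P hgN) '' e⟩ : BrauerPairIdx G) =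
      ⟨P, e⟩ := h4.symm.trans h3
  have h6 := eq_of_heq (Sigma.mk.inj_iff.mp h5).2
  exact ⟨hgN, stabilizesBlock_of_image_eq _ _ h6⟩

/-- In a nilpotent block the stabilizer of a maximal pair `(P, e)` is `P C_G(P)`. -/
theorem mem_mul_of_nilpotent_top (hpM : IsPModular p M) {B : Set (IrrCharacter G)}
    {P : Subgroup G} {e : Set (IrrCharacter (Subgroup.centralizer (P : Set G)))}
    (hmax : IsMaximalBrauerPair p M B P e) (hnil : IsNilpotentBlock p M B) {x : G}
    (hxN : x ∈ Subgroup.normalizer (P : Set G))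
    (hxst : StabilizesBlock (Subgroup.centralizer (P : Set G)) e x) :
    ∃ u ∈ P, ∃ c ∈ Subgroup.centralizer (P : Set G), x = u * c := by
  classical
  have hM : M.IsPrime := isPrime_of_isPModular hpM
  have hp : p.Prime := Fact.out
  have hBP := hmax.1
  have he : IsPBlock M e := hBP.1.2
  have hPp : IsPGroup p P := hBP.1.1
  obtain ⟨K, r, N, hcard, hpr, hrN, hN1⟩ := exists_ppart_exponent G p hp
  obtain ⟨y, hxy, -, ⟨k, hk⟩, hy⟩ := isPPart_pow hp hcard hpr hrN hN1 x
  obtain ⟨T, hTdef⟩ : ∃ T : Subgroup G, T = Subgroup.normalizer (P : Set G) ⊓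
      stabSub (Subgroup.centralizer (P : Set G)) e := ⟨_, rfl⟩
  have hT : ∀ z : G, z ∈ T ↔ z ∈ Subgroup.normalizer (P : Set G) ∧
      StabilizesBlock (Subgroup.centralizer (P : Set G)) e z := by
    intro z
    rw [hTdef, Subgroup.mem_inf, mem_stabSub_iff hM _ he]
  have hxT : x ∈ T := (hT x).mpr ⟨hxN, hxst⟩
  have hxpT : x ^ N ∈ T := T.pow_mem hxT N
  have hyT : y ∈ T := by
    have h1 : y = (x ^ N)⁻¹ * x := eq_inv_mul_of_mul_eq hxy
    rw [h1]
    exact T.mul_mem (T.inv_mem hxpT) hxT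
  have hy' := (hT y).mp hyT
  have hyC : y ∈ Subgroup.centralizer (P : Set G) := hnil.2 P e hBP y hy'.1 hy'.2 hy
  have hxp' := (hT _).mp hxpT
  have hZp : IsPGroup p (Subgroup.zpowers (x ^ N)) := by
    apply IsPGroup.of_card (n := k)
    rw [Nat.card_zpowers, hk]
  have hZN : Subgroup.zpowers (x ^ N) ≤ Subgroup.normalizer (P : Set G) := by
    rw [Subgroup.zpowers_le]
    exact hxp'.1
  have hSp : IsPGroup p (Subgroup.zpowers (x ^ N) ⊔ P : Subgroup G) :=
    IsPGroup.to_sup_of_normal_right' hZp hPp hZN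
  have hSN : Subgroup.zpowers (x ^ N) ⊔ P ≤ Subgroup.normalizer (P : Set G) :=
    sup_le hZN Subgroup.le_normalizer
  have hSe : ∀ z ∈ Subgroup.zpowers (x ^ N) ⊔ P,
      StabilizesBlock (Subgroup.centralizer (P : Set G)) e z := by
    have hle : Subgroup.zpowers (x ^ N) ⊔ P ≤ T := by
      refine sup_le ?_ ?_
      · rw [Subgroup.zpowers_le]
        exact hxpT
      · intro z hz
        exact (hT z).mpr ⟨Subgroup.le_normalizer hz, stabilizesBlock_of_mem_self P e hz⟩
    intro z hz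
    exact ((hT z).mp (hle hz)).2
  obtain ⟨D, g, hDg, hsup, -⟩ := claimX hpM hPp he hSp le_sup_right hSN hSe
  have hDB : IsBrauerPairOf p M B D g := isBrauerPairOf_of_isNormalSubpair hpM hDg hBP
  have hDP : D = P := hmax.2 D g hDB (Relation.ReflTransGen.single hDg)
  have hxpC : x ^ N ∈ P ⊔ Subgroup.centralizer (P : Set G) := by
    have h1 : x ^ N ∈ Subgroup.zpowers (x ^ N) ⊔ P ⊔ Subgroup.centralizer (P : Set G) :=
      Subgroup.mem_sup_left (Subgroup.mem_sup_left (Subgroup.mem_zpowers _))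
    rw [← hsup, hDP] at h1
    exact h1
  have hxPC : x ∈ P ⊔ Subgroup.centralizer (P : Set G) := by
    rw [← hxy]
    exact Subgroup.mul_mem _ hxpC (Subgroup.mem_sup_right hyC)
  have hLE : P ≤ Subgroup.normalizer
      ((Subgroup.centralizer (P : Set G) : Subgroup G) : Set G) := fun q hq =>
    Cfsg.Agent.S4691.normalizer_le_normalizer_centralizer' P (Subgroup.le_normalizer hq)
  have h2 : x ∈ ((P ⊔ Subgroup.centralizer (P : Set G) : Subgroup G) : Set G) := hxPC
  rw [Subgroup.coe_mul_of_left_le_normalizer_right P _ hLE] at h2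
  obtain ⟨u, hu, c, hc, huc⟩ := Set.mem_mul.mp h2
  exact ⟨u, hu, c, hc, huc.symm⟩

/-- In a nilpotent block the stabilizer of a pair `(Q, f)` is `C_G(Q) D` for any defect group `D`
of the block of the stabilizer with the idempotent of `f`. -/
theorem stab_eq_mul_of_nilpotent (hpM : IsPModular p M) {B : Set (IrrCharacter G)}
    (hnil : IsNilpotentBlock p M B) {Q : Subgroup G}
    {f : Set (IrrCharacter (Subgroup.centralizer (Q : Set G)))}
    (hQf : IsBrauerPairOf p M B Q f) {T : Subgroup G}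
    (hT : ∀ y : G, y ∈ T ↔ y ∈ Subgroup.normalizer (Q : Set G) ∧
      StabilizesBlock (Subgroup.centralizer (Q : Set G)) f y)
    {F : Set (IrrCharacter T)} (hF : IsPBlock M F)
    (hFc : ∀ t : T, blockCoeff F t =
      subgroupBlockCoeff (Subgroup.centralizer (Q : Set G)) f (t : G))
    {D' : Subgroup T} (hD' : IsDefectGroup p M F D') :
    ∀ n ∈ T, ∃ c ∈ Subgroup.centralizer (Q : Set G), ∃ r ∈ D'.map T.subtype, n = c * r := by
  classical
  have hM : M.IsPrime := isPrime_of_isPModular hpM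
  have hp : p.Prime := Fact.out
  have := Fintype.ofFinite (Subgroup.centralizer (Q : Set G))
  have := Fintype.ofFinite T
  have hf : IsPBlock M f := hQf.1.2
  have hCT : Subgroup.centralizer (Q : Set G) ≤ T := fun c hc =>
    (hT c).mpr ⟨Subgroup.centralizer_le_normalizer _ hc, stabilizesBlock_of_mem _ f hc⟩
  have hTN : T ≤ Subgroup.normalizer (Q : Set G) := fun t ht => ((hT t).mp ht).1
  have hTe : ∀ x ∈ T, StabilizesBlock (Subgroup.centralizer (Q : Set G)) f x :=
    fun t ht => ((hT t).mp ht).2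
  have hKn : ((Subgroup.centralizer (Q : Set G)).subgroupOf T).Normal := by
    refine ⟨fun n hn l => ?_⟩
    show ((l * n * l⁻¹ : T) : G) ∈ Subgroup.centralizer (Q : Set G)
    push_cast
    exact (conj_mem_centralizer_iff (hTN l.2)).mpr hn
  -- the quotient is a `p`-group
  have hquot : IsPGroup p (T ⧸ (Subgroup.centralizer (Q : Set G)).subgroupOf T) := by
    intro tbar
    obtain ⟨t, rfl⟩ := QuotientGroup.mk_surjective tbar
    obtain ⟨K, r, N, hcard, hpr, hrN, hN1⟩ := exists_ppart_exponent G p hp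
    obtain ⟨y, hxy, -, ⟨k, hk⟩, hy⟩ := isPPart_pow hp hcard hpr hrN hN1 (t : G)
    have hyT : y ∈ T := by
      have h1 : y = ((t : G) ^ N)⁻¹ * (t : G) := eq_inv_mul_of_mul_eq hxy
      rw [h1]
      exact T.mul_mem (T.inv_mem (T.pow_mem t.2 N)) t.2
    have hy' := (hT y).mp hyT
    have hyC : y ∈ Subgroup.centralizer (Q : Set G) := hnil.2 Q f hQf y hy'.1 hy'.2 hy
    have ht : t = t ^ N * ⟨y, hyT⟩ := Subtype.ext hxy.symm
    have e1 : (QuotientGroup.mk t : T ⧸ (Subgroup.centralizer (Q : Set G)).subgroupOf T) =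
        QuotientGroup.mk (t ^ N) := by
      conv_lhs => rw [ht]
      rw [QuotientGroup.mk_mul, (QuotientGroup.eq_one_iff (⟨y, hyT⟩ : T)).mpr hyC, mul_one]
    refine ⟨k, ?_⟩
    rw [e1, ← QuotientGroup.mk_pow]
    have e2 : (t ^ N) ^ p ^ k = 1 := by
      apply Subtype.ext
      push_cast
      rw [← hk]
      exact pow_orderOf_eq_one _
    rw [e2]
    rfl
  have hidx : ∃ k : ℕ, (Subgroup.centralizer (Q : Set G)).relIndex T = p ^ k := by
    obtain ⟨k, hk⟩ := IsPGroup.iff_card.mp hquot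
    exact ⟨k, by rw [← hk]; rfl⟩
  obtain ⟨B₁, hB₁, hB₁c, hB₁D⟩ := claimX_a hpM hCT hTN hf hTe hidx
  have hFB : F = B₁ := eq_of_blockCoeff_eq hM hF hB₁ (fun t => by rw [hFc, hB₁c])
  rw [hFB] at hD'
  obtain ⟨hsup, -⟩ := hB₁D D' hD'
  intro n hn
  have h1 : (⟨n, hn⟩ : T) ∈ (((Subgroup.centralizer (Q : Set G)).subgroupOf T ⊔ D' : Subgroup T) :
      Set T) := by
    rw [hsup]
    exact Subgroup.mem_top _
  rw [Subgroup.normal_mul] at h1
  obtain ⟨c, hc, r, hr, hcr⟩ := Set.mem_mul.mp h1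
  refine ⟨(c : G), hc, (r : G), ⟨r, hr, rfl⟩, ?_⟩
  have := congrArg Subtype.val hcr
  exact this.symm

/-- The pair on `N_P(Q)` below `(P, e)` lies normally above `(Q, f)`. -/
theorem exists_normalizer_pair (hpM : IsPModular p M) {P Q : Subgroup G}
    {e : Set (IrrCharacter (Subgroup.centralizer (P : Set G)))}
    {f : Set (IrrCharacter (Subgroup.centralizer (Q : Set G)))}
    (hPe : IsBrauerPair p M P e)
    (hle : Relation.ReflTransGen (NormalSubpairRel p M) (⟨Q, f⟩ : BrauerPairIdx G) ⟨P, e⟩) :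
    ∃ h : Set (IrrCharacter (Subgroup.centralizer
        ((P ⊓ Subgroup.normalizer (Q : Set G) : Subgroup G) : Set G))),
      Relation.ReflTransGen (NormalSubpairRel p M)
        (⟨P ⊓ Subgroup.normalizer (Q : Set G), h⟩ : BrauerPairIdx G) ⟨P, e⟩ ∧
      NormalSubpairRel p M ⟨Q, f⟩ ⟨P ⊓ Subgroup.normalizer (Q : Set G), h⟩ := by
  have hQP : Q ≤ P := Cfsg.Agent.Lib.Helper52.Subpairs.le_of_reflTransGen hle
  obtain ⟨h, hhb, hhle⟩ := Cfsg.Agent.Lib.Helper52.Subpairs.exists_subpairLE hpM _ P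
    (P ⊓ Subgroup.normalizer (Q : Set G)) e rfl hPe inf_le_left
  have hRh : IsBrauerPair p M (P ⊓ Subgroup.normalizer (Q : Set G)) h :=
    ⟨hPe.1.to_le inf_le_left, hhb⟩
  have hQR : Q ≤ P ⊓ Subgroup.normalizer (Q : Set G) := le_inf hQP Subgroup.le_normalizer
  obtain ⟨f', hf'b, hf'le⟩ := Cfsg.Agent.Lib.Helper52.Subpairs.exists_subpairLE hpM _
    (P ⊓ Subgroup.normalizer (Q : Set G)) Q h rfl hRh hQR
  have hf'P : SubpairLE p M Q f' P e := Relation.ReflTransGen.trans hf'le hhle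
  have hff : f' = f :=
    Cfsg.Agent.Lib.Helper52.Subpairs.subpairLE_unique hpM _ P Q e f' f rfl hPe hf'P hle
  rw [hff] at hf'le
  exact ⟨h, hhle, isNormalSubpair_of_subpairLE hpM hRh hQR inf_le_right hf'le⟩

/-- **Control of fusion in nilpotent blocks.** -/
theorem control_of_fusion (hpM : IsPModular p M) {B : Set (IrrCharacter G)}
    {P : Subgroup G} {e : Set (IrrCharacter (Subgroup.centralizer (P : Set G)))}
    (hmax : IsMaximalBrauerPair p M B P e) (hnil : IsNilpotentBlock p M B) :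
    ∀ (n : ℕ) (a : BrauerPairIdx G), Nat.card P - Nat.card a.1 = n →
      Relation.ReflTransGen (NormalSubpairRel p M) a ⟨P, e⟩ → ∀ g : G,
      Relation.ReflTransGen (NormalSubpairRel p M) (conjIdx g a) ⟨P, e⟩ →
      ∃ u ∈ P, ∀ q ∈ a.1, g * q * g⁻¹ = u * q * u⁻¹ := by
  classical
  have hM : M.IsPrime := isPrime_of_isPModular hpM
  have hBP := hmax.1
  have hPe : IsBrauerPair p M P e := hBP.1
  have hPp : IsPGroup p P := hPe.1
  intro n
  induction n using Nat.strong_induction_on with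
  | _ n ih =>
    intro a hn hle g hgle
    have haP : a.1 ≤ P := Cfsg.Agent.Lib.Helper52.Subpairs.le_of_reflTransGen hle
    by_cases hPa : a.1 = P
    · have ha : a = ⟨P, e⟩ := eq_of_reflTransGen_of_fst_eq hpM hle hPa
      subst ha
      obtain ⟨hgN, hgst⟩ := stab_of_conjIdx_le_top hpM hgle
      obtain ⟨u, hu, c, hc, rfl⟩ := mem_mul_of_nilpotent_top hpM hmax hnil hgN hgst
      refine ⟨u, hu, fun q hq => ?_⟩
      have h1 : q * c = c * q := hc q hq
      have h2 : u * c * q * (u * c)⁻¹ = u * (c * q * c⁻¹) * u⁻¹ := by group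
      rw [h2, ← h1, mul_inv_cancel_right]
    · have hlt : a.1 < P := lt_of_le_of_ne haP hPa
      obtain ⟨Q, f⟩ := a
      have hQP : Q ≤ P := haP
      have hn' : Nat.card P - Nat.card Q = n := hn
      have hf : IsPBlock M f := isPBlock_of_subpairLE hPe.2 hle
      have hcardlt : Nat.card Q < Nat.card P := by
        by_contra hcon
        push Not at hcon
        exact hPa (Subgroup.eq_of_le_of_card_ge hQP hcon)
      -- the stabilizer of `(Q, f)` and a fully normalized conjugate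
      obtain ⟨T, hTdef⟩ : ∃ T : Subgroup G, T = Subgroup.normalizer (Q : Set G) ⊓
          stabSub (Subgroup.centralizer (Q : Set G)) f := ⟨_, rfl⟩
      have hT : ∀ z : G, z ∈ T ↔ z ∈ Subgroup.normalizer (Q : Set G) ∧
          StabilizesBlock (Subgroup.centralizer (Q : Set G)) f z := by
        intro z
        rw [hTdef, Subgroup.mem_inf, mem_stabSub_iff hM _ hf]
      obtain ⟨-, x, hxle, hx⟩ := Cfsg.Agent.S4662.result p M hpM B P Q e f hmax hQP hf hle T hT
      have hfx : IsPBlock M (conjBlock Q x f) := isPBlock_of_subpairLE hPe.2 hxle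
      obtain ⟨Ts, hTsdef⟩ : ∃ Ts : Subgroup G, Ts =
          Subgroup.normalizer ((conjSub Q x : Subgroup G) : Set G) ⊓
            stabSub (Subgroup.centralizer ((conjSub Q x : Subgroup G) : Set G))
              (conjBlock Q x f) := ⟨_, rfl⟩
      have hTs : ∀ z : G, z ∈ Ts ↔ z ∈ Subgroup.normalizer ((conjSub Q x : Subgroup G) : Set G) ∧
          StabilizesBlock (Subgroup.centralizer ((conjSub Q x : Subgroup G) : Set G))
            (conjBlock Q x f) z := by
        intro z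
        rw [hTsdef, Subgroup.mem_inf, mem_stabSub_iff hM _ hfx]
      obtain ⟨Fs, hFs, hFsc, hDs⟩ := hx Ts hTs
      have hxle' : Relation.ReflTransGen (NormalSubpairRel p M)
          (conjIdx x (⟨Q, f⟩ : BrauerPairIdx G)) ⟨P, e⟩ := hxle
      have hQsf : IsBrauerPairOf p M B (conjSub Q x) (conjBlock Q x f) :=
        (Cfsg.Agent.Lib.Helper52.Subpairs.isBrauerPairOf_iff_of_subpairLE hpM hBP.2.1 hxle).mp hBP
      -- the pair on `N_P(Q^x)`
      obtain ⟨hs, hhsle, hNs⟩ := exists_normalizer_pair hpM hPe hxle'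
      have hRsT : P ⊓ Subgroup.normalizer ((conjSub Q x : Subgroup G) : Set G) ≤ Ts := by
        intro z hz
        rw [hTs]
        exact ⟨hz.2, stabilizes_of_mem_of_subpairLE hpM hPe hxle hz.1 hz.2⟩
      have hDsmap : ((P ⊓ Subgroup.normalizer ((conjSub Q x : Subgroup G) : Set G)).subgroupOf
          Ts).map Ts.subtype = P ⊓ Subgroup.normalizer ((conjSub Q x : Subgroup G) : Set G) :=
        Subgroup.map_subgroupOf_eq_of_le hRsT
      -- the sub-claim
      have SC : ∀ (a₁ : BrauerPairIdx G) (y : G),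
          Relation.ReflTransGen (NormalSubpairRel p M) a₁ ⟨P, e⟩ →
          Nat.card a₁.1 = Nat.card Q → conjIdx y a₁ = conjIdx x (⟨Q, f⟩ : BrauerPairIdx G) →
          ∃ u ∈ P, ∀ q ∈ a₁.1, y * q * y⁻¹ = u * q * u⁻¹ := by
        rintro ⟨Q₁, f₁⟩ y hle₁ hcard₁ hy
        have hQ₁P : Q₁ ≤ P := Cfsg.Agent.Lib.Helper52.Subpairs.le_of_reflTransGen hle₁
        have hcard₁' : Nat.card Q₁ = Nat.card Q := hcard₁
        have hQ₁lt : Q₁ < P := by
          refine lt_of_le_of_ne hQ₁P ?_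
          intro hcon
          rw [hcon] at hcard₁'
          omega
        obtain ⟨h₁, hh₁le, hN₁⟩ := exists_normalizer_pair hpM hPe hle₁
        -- `N_P(Q₁)` is bigger than `Q₁`
        obtain ⟨w, hwP, hwN, hwQ⟩ :=
          Cfsg.Agent.Lib.Helper72.exists_mem_normalizer_not_mem hPp hQ₁lt
        have hQ₁R₁ : Q₁ ≤ P ⊓ Subgroup.normalizer (Q₁ : Set G) :=
          le_inf hQ₁P Subgroup.le_normalizer
        have hcardR₁ : Nat.card Q₁ < Nat.card (P ⊓ Subgroup.normalizer (Q₁ : Set G) : Subgroup G) := by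
          by_contra hcon
          push Not at hcon
          have := Subgroup.eq_of_le_of_card_ge hQ₁R₁ hcon
          apply hwQ
          rw [this]
          exact ⟨hwP, hwN⟩
        have hcardR₁P : Nat.card (P ⊓ Subgroup.normalizer (Q₁ : Set G) : Subgroup G) ≤ Nat.card P :=
          Subgroup.card_le_of_le inf_le_left
        -- conjugate by `y`
        have hNy := Cfsg.Agent.Lib.Helper52.ConjPairs.normalSubpairRel_conjIdx (p := p) (M := M) y hN₁
        rw [hy] at hNy
        obtain ⟨n', hn'T, hn'le⟩ := sylow_stab hpM hTs hFs hFsc hDs hNy hNs hDsmap.symm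
        rw [Cfsg.Agent.Lib.Helper52.ConjPairs.conjIdx_conjIdx] at hn'le
        have hn'top := Relation.ReflTransGen.trans hn'le hhsle
        obtain ⟨u, hu, hucong⟩ := ih
          (Nat.card P - Nat.card (P ⊓ Subgroup.normalizer (Q₁ : Set G) : Subgroup G))
          (by omega) ⟨P ⊓ Subgroup.normalizer (Q₁ : Set G), h₁⟩ rfl hh₁le (n' * y) hn'top
        obtain ⟨c, hc, r, hr, hn'cr⟩ := stab_eq_mul_of_nilpotent hpM hnil hQsf hTs hFs hFsc hDs
          n' hn'T
        rw [hDsmap] at hr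
        refine ⟨r⁻¹ * u, P.mul_mem (P.inv_mem hr.1) hu, fun q hq => ?_⟩
        have hyq : y * q * y⁻¹ ∈ conjSub Q x := by
          have h1 : conjSub Q₁ y = conjSub Q x := congrArg Sigma.fst hy
          rw [← h1]
          exact Cfsg.Agent.Lib.Helper52.ConjPairs.conj_mem_conjSub y hq
        have h2 := hucong q (hQ₁R₁ hq)
        have hz : r * (y * q * y⁻¹) * r⁻¹ ∈ conjSub Q x :=
          (Subgroup.mem_normalizer_iff.mp hr.2 _).mp hyq
        have h3 : r * (y * q * y⁻¹) * r⁻¹ * c = c * (r * (y * q * y⁻¹) * r⁻¹) := hc _ hz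
        have h4 : n' * y * q * (n' * y)⁻¹ = c * (r * (y * q * y⁻¹) * r⁻¹) * c⁻¹ := by
          rw [hn'cr]
          group
        rw [h4, ← h3, mul_inv_cancel_right] at h2
        have h5 : y * q * y⁻¹ = r⁻¹ * (r * (y * q * y⁻¹) * r⁻¹) * r := by group
        rw [h5, h2]
        group
      -- apply the sub-claim twice
      obtain ⟨u₁, hu₁, h₁⟩ := SC ⟨Q, f⟩ x hle rfl rfl
      have hcardg : Nat.card (conjIdx g (⟨Q, f⟩ : BrauerPairIdx G)).1 = Nat.card Q :=
        Subgroup.card_map_of_injective (MulAut.conj g).injective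
      have hconj : conjIdx (x * g⁻¹) (conjIdx g (⟨Q, f⟩ : BrauerPairIdx G)) =
          conjIdx x (⟨Q, f⟩ : BrauerPairIdx G) := by
        rw [Cfsg.Agent.Lib.Helper52.ConjPairs.conjIdx_conjIdx, inv_mul_cancel_right]
      obtain ⟨u₂, hu₂, h₂⟩ := SC (conjIdx g ⟨Q, f⟩) (x * g⁻¹) hgle hcardg hconj
      refine ⟨u₂⁻¹ * u₁, P.mul_mem (P.inv_mem hu₂) hu₁, fun q hq => ?_⟩
      have hq' : g * q * g⁻¹ ∈ (conjIdx g (⟨Q, f⟩ : BrauerPairIdx G)).1 :=
        Cfsg.Agent.Lib.Helper52.ConjPairs.conj_mem_conjSub g hq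
      have h3 := h₂ _ hq'
      have h4 : x * g⁻¹ * (g * q * g⁻¹) * (x * g⁻¹)⁻¹ = x * q * x⁻¹ := by group
      rw [h4, h₁ q hq] at h3
      have h5 : g * q * g⁻¹ = u₂⁻¹ * (u₂ * (g * q * g⁻¹) * u₂⁻¹) * u₂ := by group
      rw [h5, ← h3]
      group

end Cfsg.Agent.Lib.Helper77
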