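import Cfsg.Agent.Lib.Helper77.KfF
import Cfsg.Agent.Lib.Helper77.KfE
import Cfsg.Agent.Lib.Helper77.NilB
import Cfsg.Agent.Lib.Helper77.LTransC
import Cfsg.Agent.Lib.Helper77.BPairN

/-!
# Klein four defect groups: inertial index three
-/

set_option autoImplicit false

universe u

namespace Cfsg.Agent.Lib.Helper77.Kf

open Cfsg Cfsg.Agent.Lib.Helper75 Cfsg.Agent.Lib.Helper77
open Cfsg.Agent.Lib.Helper52.ConjPairs (conjIdx conjSub)

variable {G : Type u} [Group G] [Fintype G] {M : Ideal AlgInt}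

/-- Conjugation by an element of `C_G(Q)` fixes `(Q, f)`. -/
theorem conjIdx_of_mem_centralizer (hMp : M.IsPrime) {Q : Subgroup G}
    {f : Set (IrrCharacter (Subgroup.centralizer (Q : Set G)))} (hf : IsPBlock M f) {h : G}
    (hh : h ∈ Subgroup.centralizer (Q : Set G)) :
    conjIdx h (⟨Q, f⟩ : BrauerPairIdx G) = ⟨Q, f⟩ := by
  classical
  have := Fintype.ofFinite (Subgroup.centralizer (Q : Set G))
  exact conj_stab_idx hMp hf (Subgroup.centralizer_le_normalizer _ hh)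
    (stabilizesBlock_of_mem _ f hh)

omit [Fintype G] in
/-- Conjugation by an element of the stabilizer fixes `(P, c)`. -/
theorem conjIdx_of_mem_stab (hMp : M.IsPrime) {P : Subgroup G}
    {c : Set (IrrCharacter (Subgroup.centralizer (P : Set G)))} (hc : IsPBlock M c) {t : G}
    (htN : t ∈ Subgroup.normalizer (P : Set G))
    (hst : StabilizesBlock (Subgroup.centralizer (P : Set G)) c t) :
    conjIdx t (⟨P, c⟩ : BrauerPairIdx G) = ⟨P, c⟩ :=
  conj_stab_idx hMp hc htN hst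

omit [Fintype G] in
theorem mem_centralizer_zpowers_of_conj {x h : G} (hx : h * x * h⁻¹ = x) :
    h ∈ Subgroup.centralizer ((Subgroup.zpowers x : Subgroup G) : Set G) := by
  rw [centralizer_zpowers_eq, Subgroup.mem_centralizer_singleton_iff]
  have := congrArg (fun z => z * h) hx
  simpa using this

/-- Every subsection of `B` at a nontrivial `2`-element is conjugate to the subsection at `u₀`,
when the inertial index is three. -/
theorem exists_conj_to [Fact (Nat.Prime 2)] (hM : IsPModular 2 M) {B : Set (IrrCharacter G)}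
    {P : Subgroup G} {c : Set (IrrCharacter (Subgroup.centralizer (P : Set G)))}
    (hmax : IsMaximalBrauerPair 2 M B P c) [IsKleinFour P] {T : Subgroup G}
    (hT : ∀ g : G, g ∈ T ↔ (g ∈ Subgroup.normalizer (P : Set G) ∧
      StabilizesBlock (Subgroup.centralizer (P : Set G)) c g))
    (h3 : (Subgroup.centralizer (P : Set G)).relIndex T = 3) {u₀ : G} (hu₀ : u₀ ∈ P)
    (hu₀1 : u₀ ≠ 1) {x : G} (hxp : ∃ k : ℕ, orderOf x = 2 ^ k) (hx1 : x ≠ 1)
    {b : Set (IrrCharacter (Subgroup.centralizer ({x} : Set G)))}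
    (hb : IsInducedBlock M (Subgroup.centralizer ({x} : Set G)) b B) :
    ∃ h : G, h * x * h⁻¹ = u₀ ∧ Relation.ReflTransGen (NormalSubpairRel 2 M)
      (conjIdx h (⟨Subgroup.zpowers x, ofSec x b⟩ : BrauerPairIdx G)) ⟨P, c⟩ := by
  have hMp : M.IsPrime := hM.2.1.isPrime
  have hBa := isBrauerPairOf_ofSec hM hxp hb
  obtain ⟨g, hg⟩ := exists_conj_subpairLE hM hmax hBa
  have hg' : Relation.ReflTransGen (NormalSubpairRel 2 M)
      (conjIdx g (⟨Subgroup.zpowers x, ofSec x b⟩ : BrauerPairIdx G)) ⟨P, c⟩ := hg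
  have hle : conjSub (Subgroup.zpowers x) g ≤ P :=
    Cfsg.Agent.Lib.Helper52.Subpairs.le_of_reflTransGen hg'
  have hgxP : g * x * g⁻¹ ∈ P :=
    hle (Cfsg.Agent.Lib.Helper52.ConjPairs.conj_mem_conjSub g (Subgroup.mem_zpowers x))
  have hgx1 : g * x * g⁻¹ ≠ 1 := by
    intro h
    apply hx1
    have := congrArg (fun z => g⁻¹ * z * g) h
    simpa [mul_assoc] using this
  have hTN : T ≤ Subgroup.normalizer (P : Set G) := fun t ht => ((hT t).mp ht).1
  obtain ⟨t, htT, ht⟩ := exists_conj_eq_of_relIndex_three hTN h3 hgxP hu₀ hgx1 hu₀1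
  have htT' := (hT t).mp htT
  refine ⟨t * g, ?_, ?_⟩
  · rw [← ht]
    group
  · rw [← Cfsg.Agent.Lib.Helper52.ConjPairs.conjIdx_conjIdx,
      ← conjIdx_of_mem_stab hMp hmax.1.1.2 htT'.1 htT'.2]
    exact Cfsg.Agent.Lib.Helper52.ConjPairs.reflTransGen_conjIdx t hg'

/-- **Inertial index three: the block has three irreducible Brauer characters.** -/
theorem blockRank_eq_three [Fact (Nat.Prime 2)] (hM : IsPModular 2 M)
    {B : Set (IrrCharacter G)} (hB : IsPBlock M B)
    {P : Subgroup G} {c : Set (IrrCharacter (Subgroup.centralizer (P : Set G)))}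
    (hmax : IsMaximalBrauerPair 2 M B P c) (hPD : IsDefectGroup 2 M B P) [IsKleinFour P]
    {T : Subgroup G}
    (hT : ∀ g : G, g ∈ T ↔ (g ∈ Subgroup.normalizer (P : Set G) ∧
      StabilizesBlock (Subgroup.centralizer (P : Set G)) c g))
    (h3 : (Subgroup.centralizer (P : Set G)).relIndex T = 3) (hk : Nat.card B = 4) :
    blockRank 2 B = 3 := by
  classical
  have hMp : M.IsPrime := hM.2.1.isPrime
  have hBP := hmax.1
  have hcard : Nat.card P = 4 := IsKleinFour.card_four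
  have hab : ∀ x ∈ P, ∀ y ∈ P, x * y = y * x := by
    intro x hx y hy
    have := mul_comm_of_exponent_two (IsKleinFour.exponent_two (G := P)) ⟨x, hx⟩ ⟨y, hy⟩
    exact congrArg Subtype.val this
  -- an involution of `P`
  obtain ⟨u', hu'1, -⟩ := exists_ne_ne (1 : P)
  obtain ⟨u₀, hu₀⟩ := u'
  have hu₀1 : u₀ ≠ 1 := fun h => hu'1 (Subtype.ext h)
  have hu₀p : ∃ k : ℕ, orderOf u₀ = 2 ^ k := by
    obtain ⟨k, hk⟩ := IsPGroup.iff_orderOf.mp hBP.1.1 ⟨u₀, hu₀⟩
    exact ⟨k, by rw [← hk, Subgroup.orderOf_mk]⟩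
  obtain ⟨X, h1X, hu₀X, hX, hXrep⟩ := exists_pElement_reps 2 u₀ hu₀p
  have hcount : Nat.card B = ∑ x' ∈ X, sectionTerm 2 M B x' :=
    Cfsg.Agent.S4511.result 2 M hM B hB X hX hXrep
  -- the subsection at `u₀`
  have hQP : Subgroup.zpowers u₀ ≤ P := by
    rw [Subgroup.zpowers_le]
    exact hu₀
  obtain ⟨f₀, hf₀, hle₀⟩ := Cfsg.Agent.Lib.Helper52.Subpairs.exists_subpairLE hM _ P
    (Subgroup.zpowers u₀) c rfl hBP.1 hQP
  have hf₀B : IsBrauerPairOf 2 M B (Subgroup.zpowers u₀) f₀ :=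
    (Cfsg.Agent.Lib.Helper52.Subpairs.isBrauerPairOf_iff_of_subpairLE hM hB hle₀).mp hBP
  have hb₀ := isInducedBlock_toSec_of_isBrauerPairOf hM hf₀B
  have hrank₀ : blockRank 2 (toSec u₀ f₀) = 1 := by
    rw [blockRank_toSec]
    exact blockRank_local_eq_one hM hBP hPD hab hcard hu₀ hu₀1 hle₀
  -- (i) the other sections carry no subsection
  have hzero : ∀ x ∈ X, x ≠ 1 → x ≠ u₀ → sectionTerm 2 M B x = 0 := by
    intro x hxX hx1 hxu
    apply sectionTerm_eq_zero
    intro b hb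
    obtain ⟨h, hh, -⟩ := exists_conj_to hM hmax hT h3 hu₀ hu₀1 (hX x hxX) hx1 hb
    obtain ⟨y, -, hy⟩ := hXrep x (hX x hxX)
    have e1 := hy x ⟨hxX, IsConj.refl x⟩
    have e2 := hy u₀ ⟨hu₀X, isConj_iff.mpr ⟨h, hh⟩⟩
    exact hxu (e1.trans e2.symm)
  -- (ii) uniqueness at `u₀`
  have huniq : ∀ b : Set (IrrCharacter (Subgroup.centralizer ({u₀} : Set G))),
      IsInducedBlock M (Subgroup.centralizer ({u₀} : Set G)) b B → b = toSec u₀ f₀ := by
    intro b hb
    obtain ⟨h, hh, hle⟩ := exists_conj_to hM hmax hT h3 hu₀ hu₀1 hu₀p hu₀1 hb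
    have hbB := isBrauerPairOf_ofSec hM hu₀p hb
    rw [conjIdx_of_mem_centralizer hMp hbB.1.2 (mem_centralizer_zpowers_of_conj hh)] at hle
    have := Cfsg.Agent.Lib.Helper52.Subpairs.subpairLE_unique hM _ P (Subgroup.zpowers u₀) c
      (ofSec u₀ b) f₀ rfl hBP.1 hle hle₀
    rw [← this, toSec_ofSec]
  have hsec₀ : sectionTerm 2 M B u₀ = 1 := by
    rw [sectionTerm_eq_of_unique 2 M B u₀ _ hb₀ huniq, hrank₀]
  have hsec1 : sectionTerm 2 M B 1 = blockRank 2 B :=
    sectionTerm_central 2 M hM B hB 1 (Subgroup.one_mem _) ⟨0, by rw [orderOf_one, pow_zero]⟩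
  -- the sum
  have hsub : ({1, u₀} : Finset G) ⊆ X := by
    intro g hg
    rw [Finset.mem_insert, Finset.mem_singleton] at hg
    rcases hg with rfl | rfl
    · exact h1X
    · exact hu₀X
  have hsum : ∑ x' ∈ X, sectionTerm 2 M B x' = ∑ x' ∈ ({1, u₀} : Finset G), sectionTerm 2 M B x' := by
    symm
    apply Finset.sum_subset hsub
    intro x hxX hx
    rw [Finset.mem_insert, Finset.mem_singleton, not_or] at hx
    exact hzero x hxX hx.1 hx.2
  rw [hsum, Finset.sum_pair (Ne.symm hu₀1), hsec1, hsec₀, hk] at hcount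
  omega

end Cfsg.Agent.Lib.Helper77.Kf
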