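import Cfsg.Agent.Lib.Helper77.NilFixed
import Cfsg.Agent.Lib.Helper77.Nilpotent

set_option autoImplicit false

universe u

namespace Cfsg.Agent.Lib.Helper77

open Cfsg
open Cfsg.Agent.Lib.Helper81
open Cfsg.Agent.Lib.Helper80

variable {G : Type u} [Group G] [Fintype G]

theorem cf_pow_isClassFunction' (z : MonoidAlgebra ℤ G) (hz : IsClassFunction G (cf z)) (m : ℕ) :
    IsClassFunction G (cf (z ^ m)) := by
  induction m with
  | zero => rw [pow_zero, cf_one]; exact deltaOne_isClassFunction
  | succ m ih =>
    rw [pow_succ, cf_mul]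
    exact conv_isClassFunction ih hz

theorem omega_cf_pow' {χ : G → ℂ} (hχ : IsIrrCharacter G χ) (z : MonoidAlgebra ℤ G)
    (hz : IsClassFunction G (cf z)) (m : ℕ) :
    omega χ (cf (z ^ m)) = omega χ (cf z) ^ m := by
  induction m with
  | zero => rw [pow_zero, cf_one, pow_zero, omega_deltaOne χ (irr_one_ne_zero hχ)]
  | succ m ih =>
    rw [pow_succ, cf_mul, omega_conv hχ (cf_pow_isClassFunction' z hz m) hz, ih, pow_succ]

/-- General lifting lemma: a central element of the integral group algebra whose reduction modulo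
`p` is nilpotent has all its central character values in the local ideal. -/
theorem memLocalIdeal_omega_cf_of_isNilpotent {p : ℕ} [Fact p.Prime]
    {M : Ideal AlgInt} (hpM : IsPModular p M) {χ : G → ℂ} (hχ : IsIrrCharacter G χ)
    (z : MonoidAlgebra ℤ G) (hz : IsClassFunction G (cf z))
    (hnil : IsNilpotent (MonoidAlgebra.mapRingHom G (Int.castRingHom (ZMod p)) z)) :
    MemLocalIdeal M (omega χ (cf z)) := by
  have hM : M.IsPrime := isPrime_of_isPModular hpM
  obtain ⟨m, hm⟩ := hnil
  have hmap : MonoidAlgebra.mapRingHom G (Int.castRingHom (ZMod p)) (z ^ m) = 0 := by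
    rw [map_pow, hm]
  have hdiv : ∀ x, (p : ℤ) ∣ (z ^ m).coeff x := by
    intro x
    have := congrArg (fun a => a.coeff x) hmap
    simp only [MonoidAlgebra.coeff_mapRingHom] at this
    exact (ZMod.intCast_zmod_eq_zero_iff_dvd _ p).mp this
  have hzS : MemLocalRing M (omega χ (cf z)) :=
    memLocalRing_omega hM hχ hz fun x => memLocalRing_intCast hM _
  refine memLocalIdeal_of_pow hM hzS m ?_
  rw [← omega_cf_pow' hχ z hz]
  set d : G → ℂ := fun x => (((z ^ m).coeff x / (p : ℤ) : ℤ) : ℂ) with hd
  have hcf : cf (z ^ m) = fun x => (p : ℂ) * d x := by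
    funext x
    unfold cf
    rw [hd]
    show _ = (p : ℂ) * (((z ^ m).coeff x / (p : ℤ) : ℤ) : ℂ)
    conv_lhs => rw [← Int.mul_ediv_cancel' (hdiv x)]
    push_cast
    rfl
  have hp0 : (p : ℂ) ≠ 0 := by
    exact_mod_cast (Fact.out : p.Prime).ne_zero
  have hdclass : IsClassFunction G d := by
    intro a b
    have := cf_pow_isClassFunction' z hz m a b
    rw [hcf] at this
    exact mul_left_cancel₀ hp0 this
  rw [hcf, omega_smul]
  refine memLocalIdeal_mul_right hM ((memLocalIdeal_natCast_iff hpM p).mpr dvd_rfl) ?_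
  exact memLocalRing_omega hM hχ hdclass fun x => memLocalRing_intCast hM _

/-- The class sum of an element of a normal subgroup `N` acts on `N`-fixed vectors as the class
size. -/
theorem classSum_mul_fixed (R : Type*) [Ring R] (N : Subgroup G) [N.Normal] {x : G}
    (hx : x ∈ N) (w : MonoidAlgebra R G)
    (hw : ∀ n : N, MonoidAlgebra.single (n : G) (1 : R) * w = w) :
    classSum R x * w =
      (((Subgroup.centralizer ({x} : Set G)).index : ℕ) : MonoidAlgebra R G) * w := by
  classical
  unfold classSum
  rw [Finset.sum_mul]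
  have : ∀ y : G, classTerm R x y * w = if IsConj x y then w else 0 := by
    intro y
    by_cases h : IsConj x y
    · rw [classTerm_pos R h, if_pos h]
      obtain ⟨c, hc⟩ := isConj_iff.mp h
      have hy : y ∈ N := hc ▸ ‹N.Normal›.conj_mem x hx c
      exact hw ⟨y, hy⟩
    · rw [classTerm_neg R h, if_neg h, zero_mul]
  rw [Finset.sum_congr rfl (fun y _ => this y), ← Finset.sum_filter, Finset.sum_const,
    index_centralizer_eq_card_conj, Nat.card_eq_fintype_card, Fintype.card_subtype,
    nsmul_eq_mul]

/-- Nilpotency of `K̂ - |K|` for the class `K` of an element of a normal `p`-subgroup, in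
characteristic `p`. -/
theorem isNilpotent_classSum_sub {p : ℕ} [Fact p.Prime] (N : Subgroup G) [N.Normal]
    (hN : IsPGroup p N) {x : G} (hx : x ∈ N) :
    IsNilpotent (classSum (ZMod p) x -
      (((Subgroup.centralizer ({x} : Set G)).index : ℕ) : MonoidAlgebra (ZMod p) G)) := by
  classical
  have : Finite (MonoidAlgebra (ZMod p) G) :=
    Finite.of_equiv _ (MonoidAlgebra.coeffEquiv (R := ZMod p) (M := G)).symm
  refine isNilpotent_of_forall_fixed (N := N) hN
    ((MonoidAlgebra.of (ZMod p) G).comp N.subtype) _ ?_ ?_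
  · intro a
    rw [sub_mul, mul_sub, classSum_central, Nat.cast_comm]
  · intro w hw
    rw [sub_mul, classSum_mul_fixed (ZMod p) N hx w hw, sub_self]

omit [Fintype G] in
theorem cf_sub (a b : MonoidAlgebra ℤ G) : cf (a - b) = cf a - cf b := by
  funext x
  unfold cf
  rw [MonoidAlgebra.coeff_sub]
  simp

omit [Fintype G] in
theorem cf_natCast (n : ℕ) : cf ((n : ℕ) : MonoidAlgebra ℤ G) = fun x => (n : ℂ) * deltaOne x := by
  classical
  funext x
  unfold cf deltaOne
  rw [MonoidAlgebra.natCast_def, MonoidAlgebra.coeff_single, Finsupp.single_apply]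
  by_cases h : x = 1
  · rw [if_pos h, if_pos h.symm]; simp
  · rw [if_neg h, if_neg (fun h' => h h'.symm)]; simp

theorem omega_sub (χ a b : G → ℂ) : omega χ (a - b) = omega χ a - omega χ b := by
  rw [sub_eq_add_neg, omega_add, omega_neg, ← sub_eq_add_neg]

/-- **Lemma N2.** For `x` in a normal `p`-subgroup, every central character at `x` is congruent to
the class size modulo the local ideal. -/
theorem memLocalIdeal_centralChar_sub_index {p : ℕ} [Fact p.Prime]
    {M : Ideal AlgInt} (hpM : IsPModular p M) (N : Subgroup G) [N.Normal]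
    (hN : IsPGroup p N) {x : G} (hx : x ∈ N) {χ : G → ℂ} (hχ : IsIrrCharacter G χ) :
    MemLocalIdeal M (centralChar χ x - ((Subgroup.centralizer ({x} : Set G)).index : ℂ)) := by
  set c : ℕ := (Subgroup.centralizer ({x} : Set G)).index with hc
  have hcf : cf (classSum ℤ x - ((c : ℕ) : MonoidAlgebra ℤ G)) =
      classInd x - fun y => (c : ℂ) * deltaOne y := by
    rw [cf_sub, cf_classSum, cf_natCast]
  have hclass : IsClassFunction G (cf (classSum ℤ x - ((c : ℕ) : MonoidAlgebra ℤ G))) := by
    rw [hcf]
    intro a b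
    show classInd x _ - (c : ℂ) * deltaOne _ = classInd x a - (c : ℂ) * deltaOne a
    rw [classInd_isClassFunction, deltaOne_isClassFunction]
  have key := memLocalIdeal_omega_cf_of_isNilpotent hpM hχ
    (classSum ℤ x - ((c : ℕ) : MonoidAlgebra ℤ G)) hclass (by
      rw [map_sub, map_classSum, map_natCast]
      exact isNilpotent_classSum_sub N hN hx)
  rw [hcf, omega_sub, omega_smul, omega_classInd (isClassFunction_of_isCharacter hχ),
    omega_deltaOne χ (irr_one_ne_zero hχ), mul_one] at key
  exact key

end Cfsg.Agent.Lib.Helper77
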