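import Cfsg.Agent.Lib.Helper77.Osima
import Cfsg.Agent.Lib.Helper77.Nilpotent2

set_option autoImplicit false

universe u

namespace Cfsg.Agent.Lib.Helper77

open Cfsg
open Cfsg.Agent.Lib.Helper81
open Cfsg.Agent.Lib.Helper80

/-! ### Congruences modulo the local ideal -/

theorem cong_trans {M : Ideal AlgInt} (hM : M.IsPrime) {x y z : ℂ}
    (h1 : MemLocalIdeal M (x - y)) (h2 : MemLocalIdeal M (y - z)) : MemLocalIdeal M (x - z) := by
  have := memLocalIdeal_add hM h1 h2
  rwa [sub_add_sub_cancel] at this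

theorem cong_symm {M : Ideal AlgInt} {x y : ℂ}
    (h1 : MemLocalIdeal M (x - y)) : MemLocalIdeal M (y - x) := by
  have := memLocalIdeal_neg h1
  rwa [neg_sub] at this

theorem cong_mul {M : Ideal AlgInt} (hM : M.IsPrime) {x x' y y' : ℂ}
    (hy : MemLocalRing M y) (hx' : MemLocalRing M x')
    (h1 : MemLocalIdeal M (x - x')) (h2 : MemLocalIdeal M (y - y')) :
    MemLocalIdeal M (x * y - x' * y') := by
  have e : x * y - x' * y' = (x - x') * y + x' * (y - y') := by ring
  rw [e]
  exact memLocalIdeal_add hM (memLocalIdeal_mul_right hM h1 hy) (memLocalIdeal_mul_left hM hx' h2)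

theorem memLocalRing_of_cong {M : Ideal AlgInt} (hM : M.IsPrime) {x y : ℂ}
    (hy : MemLocalRing M y) (h : MemLocalIdeal M (x - y)) : MemLocalRing M x := by
  have := memLocalRing_add hM (memLocalRing_of_memLocalIdeal h) hy
  rwa [sub_add_cancel] at this

theorem exists_memLocalIdeal_of_prod {M : Ideal AlgInt} (hM : M.IsPrime) {ι : Type*}
    (T : Finset ι) (f : ι → ℂ) (hf : ∀ i ∈ T, MemLocalRing M (f i))
    (h : MemLocalIdeal M (∏ i ∈ T, f i)) : ∃ i ∈ T, MemLocalIdeal M (f i) := by
  classical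
  induction T using Finset.induction_on with
  | empty =>
    rw [Finset.prod_empty] at h
    exact absurd h (not_memLocalIdeal_one hM)
  | insert j T hj ih =>
    rw [Finset.prod_insert hj] at h
    by_cases hfj : MemLocalIdeal M (f j)
    · exact ⟨j, Finset.mem_insert_self j T, hfj⟩
    · have := memLocalIdeal_of_mul_of_not_memLocalIdeal hM
        (hf j (Finset.mem_insert_self j T)) hfj h
      obtain ⟨i, hi, hfi⟩ := ih (fun i hi => hf i (Finset.mem_insert_of_mem hi)) this
      exact ⟨i, Finset.mem_insert_of_mem hi, hfi⟩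

variable {G : Type u} [Group G]

/-- `S`-valued class functions. -/
def ZS (M : Ideal AlgInt) (a : G → ℂ) : Prop :=
  IsClassFunction G a ∧ ∀ g, MemLocalRing M (a g)

theorem ZS.sub {M : Ideal AlgInt} (hM : M.IsPrime) {a b : G → ℂ} (ha : ZS M a) (hb : ZS M b) :
    ZS M (a - b) := by
  refine ⟨?_, fun g => memLocalRing_sub hM (ha.2 g) (hb.2 g)⟩
  intro g h
  show a _ - b _ = a g - b g
  rw [ha.1, hb.1]

theorem ZS.smul {M : Ideal AlgInt} (hM : M.IsPrime) {s : ℂ} (hs : MemLocalRing M s)
    {a : G → ℂ} (ha : ZS M a) : ZS M (fun g => s * a g) := by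
  refine ⟨?_, fun g => memLocalRing_mul hM hs (ha.2 g)⟩
  intro g h
  show s * a _ = s * a g
  rw [ha.1]

theorem ZS.deltaOne {M : Ideal AlgInt} (hM : M.IsPrime) : ZS M (deltaOne : G → ℂ) := by
  refine ⟨deltaOne_isClassFunction, fun _ => ?_⟩
  unfold Helper77.deltaOne
  split_ifs
  · exact memLocalRing_one hM
  · exact memLocalRing_zero hM

theorem ZS.classInd {M : Ideal AlgInt} (hM : M.IsPrime) (g : G) : ZS M (classInd g) := by
  refine ⟨classInd_isClassFunction g, fun _ => ?_⟩
  unfold Helper77.classInd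
  split_ifs
  · exact memLocalRing_one hM
  · exact memLocalRing_zero hM

variable [Fintype G]

theorem ZS.conv {M : Ideal AlgInt} (hM : M.IsPrime) {a b : G → ℂ} (ha : ZS M a) (hb : ZS M b) :
    ZS M (conv a b) :=
  ⟨conv_isClassFunction ha.1 hb.1, fun _ =>
    memLocalRing_sum hM _ _ fun _ _ => memLocalRing_mul hM (ha.2 _) (hb.2 _)⟩

theorem ZS.blockCoeff {p : ℕ} {M : Ideal AlgInt} (hpM : IsPModular p M) (χ₀ : IrrCharacter G) :
    ZS M (blockCoeff (blockOf M (χ₀ : G → ℂ))) :=
  ⟨blockCoeff_isClassFunction _, memLocalRing_blockCoeff hpM χ₀⟩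

theorem ZS.omega {M : Ideal AlgInt} (hM : M.IsPrime) {a : G → ℂ} (ha : ZS M a)
    (χ : IrrCharacter G) : MemLocalRing M (omega (χ : G → ℂ) a) :=
  memLocalRing_omega hM χ.2 ha.1 ha.2

/-- A functional on the group algebra which is linear and, modulo the local ideal, a ring
homomorphism on the `S`-valued class functions. -/
structure ModHom (M : Ideal AlgInt) (lam : (G → ℂ) → ℂ) : Prop where
  add : ∀ a b, lam (a + b) = lam a + lam b
  smul : ∀ (s : ℂ) (a : G → ℂ), lam (fun g => s * a g) = s * lam a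
  mem : ∀ a, ZS M a → MemLocalRing M (lam a)
  mul : ∀ a b, ZS M a → ZS M b → MemLocalIdeal M (lam (conv a b) - lam a * lam b)
  one : lam deltaOne = 1

namespace ModHom

variable {M : Ideal AlgInt} {lam : (G → ℂ) → ℂ}

theorem zero (h : ModHom M lam) : lam 0 = 0 := by
  have := h.add 0 0
  rw [add_zero] at this
  exact left_eq_add.mp this

theorem sub (h : ModHom M lam) (a b : G → ℂ) : lam (a - b) = lam a - lam b := by
  have h1 := h.add (a - b) b
  rw [sub_add_cancel] at h1
  rw [h1, add_sub_cancel_right]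

theorem sub_smul_deltaOne (h : ModHom M lam) (a : G → ℂ) (s : ℂ) :
    lam (a - fun g => s * deltaOne g) = lam a - s := by
  rw [h.sub, h.smul, h.one, mul_one]

/-- Products: a finite convolution product is sent to the product, modulo the local ideal. -/
theorem exists_prod (h : ModHom M lam) (hM : M.IsPrime) {ι : Type*} (T : Finset ι)
    (d : ι → G → ℂ) (hd : ∀ i ∈ T, ZS M (d i)) :
    ∃ D : G → ℂ, ZS M D ∧
      (∀ φ : IrrCharacter G, omega (φ : G → ℂ) D = ∏ i ∈ T, omega (φ : G → ℂ) (d i)) ∧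
      MemLocalIdeal M (lam D - ∏ i ∈ T, lam (d i)) := by
  classical
  induction T using Finset.induction_on with
  | empty =>
    refine ⟨deltaOne, ZS.deltaOne hM, ?_, ?_⟩
    · intro φ
      rw [Finset.prod_empty, omega_deltaOne _ (irr_one_ne_zero φ.2)]
    · rw [Finset.prod_empty, h.one, sub_self]
      exact memLocalIdeal_zero hM
  | insert j T hj ih =>
    obtain ⟨D, hD, hω, hlam⟩ := ih (fun i hi => hd i (Finset.mem_insert_of_mem hi))
    have hdj := hd j (Finset.mem_insert_self j T)
    refine ⟨conv D (d j), ZS.conv hM hD hdj, ?_, ?_⟩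
    · intro φ
      rw [Finset.prod_insert hj, omega_conv φ.2 hD.1 hdj.1, hω, mul_comm]
    · rw [Finset.prod_insert hj, mul_comm (lam (d j))]
      refine cong_trans hM (h.mul D (d j) hD hdj) ?_
      refine cong_mul hM (h.mem _ hdj) ?_ hlam ?_
      · exact memLocalRing_prod hM _ _ fun i hi => h.mem _ (hd i (Finset.mem_insert_of_mem hi))
      · rw [sub_self]; exact memLocalIdeal_zero hM

/-- Pointwise: the value at any `S`-valued class function agrees with some central character
modulo the local ideal. -/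
theorem exists_cong_omega (h : ModHom M lam) (hM : M.IsPrime) [Fintype (IrrCharacter G)]
    {c : G → ℂ} (hc : ZS M c) :
    ∃ ψ : IrrCharacter G, MemLocalIdeal M (lam c - omega (ψ : G → ℂ) c) := by
  classical
  let d : IrrCharacter G → G → ℂ := fun ψ => c - fun g => omega (ψ : G → ℂ) c * deltaOne g
  have hd : ∀ ψ ∈ (Finset.univ : Finset (IrrCharacter G)), ZS M (d ψ) := fun ψ _ =>
    ZS.sub hM hc (ZS.smul hM (hc.omega hM ψ) (ZS.deltaOne hM))
  obtain ⟨D, hD, hω, hlam⟩ := h.exists_prod hM Finset.univ d hd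
  have hD0 : D = 0 := by
    apply eq_of_omega_eq hD.1 (fun _ _ => rfl)
    intro φ
    rw [hω φ, omega_zero]
    refine Finset.prod_eq_zero (Finset.mem_univ φ) ?_
    show omega (φ : G → ℂ) (c - fun g => omega (φ : G → ℂ) c * deltaOne g) = 0
    rw [omega_sub, omega_smul, omega_deltaOne _ (irr_one_ne_zero φ.2), mul_one, sub_self]
  rw [hD0, h.zero, zero_sub] at hlam
  have hlam' := memLocalIdeal_neg hlam
  rw [neg_neg] at hlam'
  obtain ⟨ψ, -, hψ⟩ := exists_memLocalIdeal_of_prod hM Finset.univ _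
    (fun ψ hψ => h.mem _ (hd ψ hψ)) hlam'
  refine ⟨ψ, ?_⟩
  have : lam (d ψ) = lam c - omega (ψ : G → ℂ) c := h.sub_smul_deltaOne c _
  rwa [this] at hψ

/-- **Lemma Λ.** A functional which is a ring homomorphism modulo the local ideal on the
`S`-valued class functions is congruent to a central character. -/
theorem exists_irr (h : ModHom M lam) {p : ℕ} (hpM : IsPModular p M) :
    ∃ χ : IrrCharacter G, ∀ a, ZS M a → MemLocalIdeal M (lam a - omega (χ : G → ℂ) a) := by
  classical
  have hM : M.IsPrime := isPrime_of_isPModular hpM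
  have := Fintype.ofFinite (IrrCharacter G)
  -- find a block whose idempotent is sent to `1`
  let d : IrrCharacter G → G → ℂ := fun χ₀ => deltaOne - blockCoeff (blockOf M (χ₀ : G → ℂ))
  have hd : ∀ χ₀ ∈ (Finset.univ : Finset (IrrCharacter G)), ZS M (d χ₀) := fun χ₀ _ =>
    ZS.sub hM (ZS.deltaOne hM) (ZS.blockCoeff hpM χ₀)
  obtain ⟨D, hD, hω, hlam⟩ := h.exists_prod hM Finset.univ d hd
  have hD0 : D = 0 := by
    apply eq_of_omega_eq hD.1 (fun _ _ => rfl)
    intro φ
    rw [hω φ, omega_zero]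
    refine Finset.prod_eq_zero (Finset.mem_univ φ) ?_
    show omega (φ : G → ℂ) (deltaOne - blockCoeff (blockOf M (φ : G → ℂ))) = 0
    rw [omega_sub, omega_deltaOne _ (irr_one_ne_zero φ.2), omega_blockCoeff,
      if_pos (show φ ∈ blockOf M (φ : G → ℂ) from sameBlock_refl hM _), sub_self]
  rw [hD0, h.zero, zero_sub] at hlam
  have hlam' := memLocalIdeal_neg hlam
  rw [neg_neg] at hlam'
  obtain ⟨χ₀, -, hχ₀⟩ := exists_memLocalIdeal_of_prod hM Finset.univ _
    (fun ψ hψ => h.mem _ (hd ψ hψ)) hlam'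
  have he1 : MemLocalIdeal M (1 - lam (blockCoeff (blockOf M (χ₀ : G → ℂ)))) := by
    have : lam (d χ₀) = 1 - lam (blockCoeff (blockOf M (χ₀ : G → ℂ))) := by
      show lam (deltaOne - _) = _
      rw [h.sub, h.one]
    rwa [this] at hχ₀
  refine ⟨χ₀, ?_⟩
  intro a ha
  set e := blockCoeff (blockOf M (χ₀ : G → ℂ)) with he
  have heZ : ZS M e := ZS.blockCoeff hpM χ₀
  set a' : G → ℂ := a - fun g => omega (χ₀ : G → ℂ) a * deltaOne g with ha'
  have ha'Z : ZS M a' := ZS.sub hM ha (ZS.smul hM (ha.omega hM χ₀) (ZS.deltaOne hM))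
  have hla' : lam a' = lam a - omega (χ₀ : G → ℂ) a := h.sub_smul_deltaOne a _
  have hcZ : ZS M (conv a' e) := ZS.conv hM ha'Z heZ
  -- `lam (conv a' e)` lies in the local ideal
  have hc : MemLocalIdeal M (lam (conv a' e)) := by
    obtain ⟨ψ, hψ⟩ := h.exists_cong_omega hM hcZ
    have hω : MemLocalIdeal M (omega (ψ : G → ℂ) (conv a' e)) := by
      rw [omega_conv ψ.2 ha'Z.1 heZ.1, he, omega_blockCoeff, ha', omega_sub, omega_smul,
        omega_deltaOne _ (irr_one_ne_zero ψ.2), mul_one]
      by_cases hψB : ψ ∈ blockOf M (χ₀ : G → ℂ)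
      · rw [if_pos hψB, mul_one]
        exact memLocalIdeal_omega_sub hM (isClassFunction_of_isCharacter ψ.2)
          (isClassFunction_of_isCharacter χ₀.2) (sameBlock_symm hψB) ha.1 ha.2
      · rw [if_neg hψB, mul_zero]
        exact memLocalIdeal_zero hM
    have := memLocalIdeal_add hM hψ hω
    rwa [sub_add_cancel] at this
  -- hence `lam a' * lam e` lies in the local ideal
  have h2 : MemLocalIdeal M (lam a' * lam e) := by
    have := memLocalIdeal_sub hM hc (h.mul a' e ha'Z heZ)
    rwa [sub_sub_cancel] at this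
  have h3 : MemLocalIdeal M (lam a' * (1 - lam e)) :=
    memLocalIdeal_mul_left hM (h.mem _ ha'Z) he1
  have h4 := memLocalIdeal_add hM h2 h3
  have e4 : lam a' * lam e + lam a' * (1 - lam e) = lam a' := by ring
  rw [e4, hla'] at h4
  exact h4

end ModHom

end Cfsg.Agent.Lib.Helper77
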