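import Mathlib

/-!
# Sums of roots of unity of 2-power order over the units, and a parity lemma (helper77)
-/

set_option autoImplicit false

namespace Cfsg.Agent.Lib.Helper77.Ctb

/-- sums over the units of `ZMod N` as sums over coprime residues -/
theorem sum_units_val {N : ℕ} [NeZero N] (F : ℕ → ℂ) :
    ∑ u : (ZMod N)ˣ, F (u : ZMod N).val =
      ∑ m ∈ (Finset.range N).filter (fun m => Nat.Coprime m N), F m := by
  refine Finset.sum_bij (fun u _ => (u : ZMod N).val) ?_ ?_ ?_ ?_
  · intro u _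
    rw [Finset.mem_filter, Finset.mem_range]
    exact ⟨ZMod.val_lt _, ZMod.val_coe_unit_coprime u⟩
  · intro u _ v _ h
    exact Units.ext (ZMod.val_injective N h)
  · intro m hm
    rw [Finset.mem_filter, Finset.mem_range] at hm
    refine ⟨ZMod.unitOfCoprime m hm.2, Finset.mem_univ _, ?_⟩
    rw [ZMod.coe_unitOfCoprime, ZMod.val_natCast_of_lt hm.1]
  · intro u _
    rfl

theorem filter_coprime_two_pow (k : ℕ) :
    (Finset.range (2 ^ (k + 1))).filter (fun m => Nat.Coprime m (2 ^ (k + 1))) =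
      (Finset.range (2 ^ k)).image (fun j => 2 * j + 1) := by
  ext m
  simp only [Finset.mem_filter, Finset.mem_range, Finset.mem_image]
  constructor
  · rintro ⟨hm, hc⟩
    have hc2 : Nat.Coprime m 2 := (Nat.coprime_pow_right_iff (Nat.succ_pos k) m 2).mp hc
    have hodd : Odd m := Nat.coprime_two_right.mp hc2
    obtain ⟨j, rfl⟩ := hodd
    refine ⟨j, ?_, rfl⟩
    rw [pow_succ] at hm
    omega
  · rintro ⟨j, hj, rfl⟩
    refine ⟨?_, ?_⟩
    · rw [pow_succ]
      omega
    · apply Nat.Coprime.pow_right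
      rw [Nat.coprime_two_right]
      exact odd_two_mul_add_one j

/-- the sum of the powers of a root of unity of `2`-power order over the units -/
theorem sum_units_pow_two_pow (n : ℕ) (w : ℂ) (hw : w ^ (2 ^ n) = 1) :
    ∑ u : (ZMod (2 ^ n))ˣ, w ^ (u : ZMod (2 ^ n)).val =
      if w = 1 then ((2 ^ n).totient : ℂ) else
        if w = -1 then -((2 ^ n).totient : ℂ) else 0 := by
  cases n with
  | zero =>
    have hw1 : w = 1 := by simpa using hw
    rw [if_pos hw1, hw1]
    simp only [one_pow, Finset.sum_const, Finset.card_univ, ZMod.card_units_eq_totient,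
      nsmul_eq_mul, mul_one]
  | succ k =>
    rw [sum_units_val (fun m => w ^ m), filter_coprime_two_pow,
      Finset.sum_image (by intro a _ b _ h; simpa using h)]
    have h1 : ∀ j : ℕ, w ^ (2 * j + 1) = w * (w ^ 2) ^ j := by
      intro j
      rw [pow_succ, pow_mul]
      ring
    simp only [h1]
    rw [← Finset.mul_sum]
    have htot : (2 ^ (k + 1)).totient = 2 ^ k := by
      rw [Nat.totient_prime_pow_succ Nat.prime_two]
      simp
    rw [htot]
    by_cases h2 : w ^ 2 = 1
    · have h3 : w = 1 ∨ w = -1 := by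
        have : (w - 1) * (w + 1) = 0 := by ring_nf; rw [h2]; ring
        rcases mul_eq_zero.mp this with h | h
        · left; exact sub_eq_zero.mp h
        · right; exact eq_neg_of_add_eq_zero_left h
      rw [h2]
      simp only [one_pow, Finset.sum_const, Finset.card_range, nsmul_eq_mul, mul_one]
      rcases h3 with rfl | rfl
      · rw [if_pos rfl]
        push_cast
        ring
      · rw [if_neg (by norm_num), if_pos rfl]
        push_cast
        ring
    · have hne1 : w ≠ 1 := fun h => h2 (by rw [h]; ring)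
      have hne2 : w ≠ -1 := fun h => h2 (by rw [h]; ring)
      rw [if_neg hne1, if_neg hne2, geom_sum_eq h2, ← pow_mul, ← pow_succ', hw]
      simp

open Classical in
/-- the parity lemma -/
theorem parity_core {ι : Type*} (n : ℕ) (s : Finset ι) (w : ι → ι → ℂ)
    (hw : ∀ i ∈ s, ∀ j ∈ s, w i j ^ (2 ^ n) = 1)
    (hinv : ∀ i ∈ s, ∀ j ∈ s, w i j * w j i = 1)
    (a : ι → ι → ℤ) (ha : ∀ i ∈ s, ∀ j ∈ s, a i j = a j i) :
    ∃ r : ℤ, ∑ u : (ZMod (2 ^ n))ˣ, ∑ i ∈ s, ∑ j ∈ s,
        w i j ^ (u : ZMod (2 ^ n)).val * (a i j : ℂ) = ((2 ^ n).totient : ℂ) * (r : ℂ) ∧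
      Even (r - ∑ i ∈ s, ∑ j ∈ s, a i j) := by
  set ε : ℂ → ℤ := fun x => if x = 1 then 1 else if x = -1 then -1 else 0 with hε
  have hεinv : ∀ x : ℂ, x ≠ 0 → ε x⁻¹ = ε x := by
    intro x _
    simp only [hε]
    have e1 : x⁻¹ = 1 ↔ x = 1 := inv_eq_one
    have e2 : x⁻¹ = -1 ↔ x = -1 := by
      rw [inv_eq_iff_eq_inv, inv_neg, inv_one]
    simp only [e1, e2]
  have hR : ∀ x : ℂ, x ^ (2 ^ n) = 1 →
      ∑ u : (ZMod (2 ^ n))ˣ, x ^ (u : ZMod (2 ^ n)).val = ((2 ^ n).totient : ℂ) * (ε x : ℂ) := by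
    intro x hx
    rw [sum_units_pow_two_pow n x hx]
    simp only [hε]
    split_ifs <;> simp
  refine ⟨∑ i ∈ s, ∑ j ∈ s, ε (w i j) * a i j, ?_, ?_⟩
  · rw [Finset.sum_comm]
    push_cast
    rw [Finset.mul_sum]
    refine Finset.sum_congr rfl fun i hi => ?_
    rw [Finset.sum_comm, Finset.mul_sum]
    refine Finset.sum_congr rfl fun j hj => ?_
    rw [← Finset.sum_mul, hR _ (hw i hi j hj)]
    ring
  · have hsub : (∑ i ∈ s, ∑ j ∈ s, ε (w i j) * a i j) - ∑ i ∈ s, ∑ j ∈ s, a i j =
        ∑ q ∈ s ×ˢ s, (ε (w q.1 q.2) - 1) * a q.1 q.2 := by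
      rw [Finset.sum_product, ← Finset.sum_sub_distrib]
      refine Finset.sum_congr rfl fun i _ => ?_
      rw [← Finset.sum_sub_distrib]
      refine Finset.sum_congr rfl fun j _ => ?_
      ring
    rw [hsub]
    have hz : ((∑ q ∈ s ×ˢ s, (ε (w q.1 q.2) - 1) * a q.1 q.2 : ℤ) : ZMod 2) = 0 := by
      rw [Int.cast_sum]
      refine Finset.sum_involution (fun q _ => (q.2, q.1)) ?_ ?_ ?_ ?_
      · intro q hq
        rw [Finset.mem_product] at hq
        have hne : w q.1 q.2 ≠ 0 := by
          intro h0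
          have := hinv q.1 hq.1 q.2 hq.2
          rw [h0, zero_mul] at this
          exact zero_ne_one this
        have hwinv : w q.2 q.1 = (w q.1 q.2)⁻¹ :=
          eq_inv_of_mul_eq_one_right (hinv q.1 hq.1 q.2 hq.2)
        show (((ε (w q.1 q.2) - 1) * a q.1 q.2 : ℤ) : ZMod 2) +
          (((ε (w q.2 q.1) - 1) * a q.2 q.1 : ℤ) : ZMod 2) = 0
        rw [hwinv, hεinv _ hne, ha q.2 hq.2 q.1 hq.1]
        exact CharTwo.add_self_eq_zero _
      · intro q hq hne heq
        rw [Finset.mem_product] at hq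
        apply hne
        have hq12 : q.2 = q.1 := congrArg Prod.fst heq
        have hsq : w q.1 q.1 * w q.1 q.1 = 1 := hinv q.1 hq.1 q.1 hq.1
        have h3 : w q.1 q.1 = 1 ∨ w q.1 q.1 = -1 := by
          have : (w q.1 q.1 - 1) * (w q.1 q.1 + 1) = 0 := by ring_nf; rw [← pow_two] at hsq; rw [hsq]; ring
          rcases mul_eq_zero.mp this with h | h
          · left; exact sub_eq_zero.mp h
          · right; exact eq_neg_of_add_eq_zero_left h
        rw [hq12]
        rcases h3 with h | h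
        · rw [h]
          simp [hε]
        · rw [h]
          have : ε (-1) = -1 := by
            simp only [hε]
            rw [if_neg (by norm_num)]
            simp
          rw [this]
          have h2 : ((-1 - 1 : ℤ) : ZMod 2) = 0 := by decide
          push_cast at h2 ⊢
          rw [h2, zero_mul]
      · intro q hq
        rw [Finset.mem_product] at hq ⊢
        exact ⟨hq.2, hq.1⟩
      · intro q _
        rfl
    have hdvd := (ZMod.intCast_zmod_eq_zero_iff_dvd _ 2).mp hz
    exact even_iff_two_dvd.mpr (by exact_mod_cast hdvd)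

end Cfsg.Agent.Lib.Helper77.Ctb
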