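import Cfsg.Agent.Lib.Helper77.CtbG
import Cfsg.Agent.Lib.Helper77.CtbH

/-!
# Height zero characters and subsections of `2`-blocks (helper77)

`k₀(B) ≤ s 2^q` (`s = ⌊√l(b)⌋` odd), `(s+1) k₀(B) ≤ l(b) 2^q` (`s` even).
-/

set_option autoImplicit false

universe u

namespace Cfsg.Agent.Lib.Helper77.Ctb

open Cfsg Cfsg.Agent.Lib.Helper81 Cfsg.Agent.Lib.Helper74 Cfsg.Agent.Lib.Helper76
open scoped ComplexConjugate

/-- the combinatorial core -/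
theorem comb_core {ι : Type*} (K : Finset ι) (r : ι → ℤ) (l d : ℕ)
    (hodd : ∀ χ ∈ K, Odd (r χ))
    (hk : ∀ χ ∈ K, (K.card : ℤ) ≤ 2 ^ d * r χ)
    (hsum : ∑ χ ∈ K, r χ ≤ 2 ^ d * (l : ℤ)) :
    (Odd (Nat.sqrt l) → K.card ≤ Nat.sqrt l * 2 ^ d) ∧
    (¬ Odd (Nat.sqrt l) → (Nat.sqrt l + 1) * K.card ≤ l * 2 ^ d) := by
  set s := Nat.sqrt l with hs
  have hs1 : s * s ≤ l := Nat.sqrt_le l
  have hs2 : l < (s + 1) * (s + 1) := Nat.lt_succ_sqrt l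
  have hP : (0 : ℤ) < 2 ^ d := by positivity
  have hc0 : (0 : ℤ) ≤ (K.card : ℤ) := Int.natCast_nonneg _
  have hs1' : (s : ℤ) * s ≤ l := by exact_mod_cast hs1
  have hs2' : (l : ℤ) < ((s : ℤ) + 1) * ((s : ℤ) + 1) := by exact_mod_cast hs2
  have hS0 : (0 : ℤ) ≤ (s : ℤ) := Int.natCast_nonneg _
  constructor
  · intro hso
    by_contra hcon
    push Not at hcon
    have hcon' : (s : ℤ) * 2 ^ d < (K.card : ℤ) := by exact_mod_cast hcon
    have hr : ∀ χ ∈ K, (s : ℤ) + 2 ≤ r χ := by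
      intro χ hχ
      have h1 := hk χ hχ
      have h2 : (s : ℤ) < r χ := by
        by_contra h
        push Not at h
        have : 2 ^ d * r χ ≤ 2 ^ d * (s : ℤ) := mul_le_mul_of_nonneg_left h hP.le
        linarith
      obtain ⟨a, ha⟩ := hodd χ hχ
      obtain ⟨b, hb⟩ := hso
      have hb' : (s : ℤ) = 2 * (b : ℤ) + 1 := by exact_mod_cast hb
      omega
    have hsum2 : (K.card : ℤ) * ((s : ℤ) + 2) ≤ ∑ χ ∈ K, r χ := by
      calc (K.card : ℤ) * ((s : ℤ) + 2) = ∑ _χ ∈ K, ((s : ℤ) + 2) := by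
            rw [Finset.sum_const, nsmul_eq_mul]
        _ ≤ _ := Finset.sum_le_sum hr
    have h3 : (l : ℤ) ≤ (s : ℤ) * ((s : ℤ) + 2) := by nlinarith
    have h4 : (K.card : ℤ) * ((s : ℤ) + 2) ≤ 2 ^ d * ((s : ℤ) * ((s : ℤ) + 2)) :=
      le_trans (le_trans hsum2 hsum) (mul_le_mul_of_nonneg_left h3 hP.le)
    have h5 : (K.card : ℤ) ≤ 2 ^ d * (s : ℤ) := by
      have hpos : (0 : ℤ) < (s : ℤ) + 2 := by linarith
      have : (K.card : ℤ) * ((s : ℤ) + 2) ≤ (2 ^ d * (s : ℤ)) * ((s : ℤ) + 2) := by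
        calc _ ≤ _ := h4
          _ = _ := by ring
      exact le_of_mul_le_mul_right this hpos
    linarith
  · intro hse
    have hse' : Even s := Nat.not_odd_iff_even.mp hse
    have goal : ((s : ℤ) + 1) * (K.card : ℤ) ≤ (l : ℤ) * 2 ^ d := by
      by_cases hex : ∃ χ ∈ K, r χ ≤ (s : ℤ)
      · obtain ⟨χ, hχ, hle⟩ := hex
        obtain ⟨a, ha⟩ := hodd χ hχ
        obtain ⟨b, hb⟩ := hse'
        have hb' : (s : ℤ) = (b : ℤ) + (b : ℤ) := by exact_mod_cast hb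
        have hle' : r χ ≤ (s : ℤ) - 1 := by omega
        have h1 : (K.card : ℤ) ≤ 2 ^ d * ((s : ℤ) - 1) :=
          le_trans (hk χ hχ) (mul_le_mul_of_nonneg_left hle' hP.le)
        have h2 : ((s : ℤ) + 1) * (K.card : ℤ) ≤ ((s : ℤ) + 1) * (2 ^ d * ((s : ℤ) - 1)) :=
          mul_le_mul_of_nonneg_left h1 (by linarith)
        have h3 : ((s : ℤ) + 1) * (2 ^ d * ((s : ℤ) - 1)) = 2 ^ d * ((s : ℤ) * s - 1) := by ring
        have h4 : (2 : ℤ) ^ d * ((s : ℤ) * s - 1) ≤ 2 ^ d * (l : ℤ) :=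
          mul_le_mul_of_nonneg_left (by linarith) hP.le
        calc _ ≤ _ := h2
          _ = _ := h3
          _ ≤ _ := h4
          _ = _ := by ring
      · push Not at hex
        have hsum2 : (K.card : ℤ) * ((s : ℤ) + 1) ≤ ∑ χ ∈ K, r χ := by
          calc (K.card : ℤ) * ((s : ℤ) + 1) = ∑ _χ ∈ K, ((s : ℤ) + 1) := by
                rw [Finset.sum_const, nsmul_eq_mul]
            _ ≤ _ := Finset.sum_le_sum fun χ hχ => by have := hex χ hχ; omega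
        calc ((s : ℤ) + 1) * (K.card : ℤ) = (K.card : ℤ) * ((s : ℤ) + 1) := by ring
          _ ≤ _ := hsum2
          _ ≤ _ := hsum
          _ = _ := by ring
    exact_mod_cast goal

section sym
variable {H : Type u} [Group H] [Fintype H]

theorem classInner_pRegularPart_conj (p : ℕ) (f g : H → ℂ) :
    conj (classInner (pRegularPart p g) f) = classInner (pRegularPart p f) g := by
  classical
  unfold classInner
  rw [map_mul, map_inv₀, Complex.conj_natCast, map_sum]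
  congr 1
  refine Finset.sum_congr rfl fun x _ => ?_
  by_cases hx : p ∣ orderOf x
  · simp [Cfsg.Agent.Lib.Helper77.pRegularPart_apply, hx]
  · simp [Cfsg.Agent.Lib.Helper77.pRegularPart_apply, hx, mul_comm]

end sym

variable {G : Type u} [Group G] [Fintype G] [Fintype (IrrCharacter G)] {M : Ideal AlgInt}

open Classical in
theorem k0_core (hM : IsPModular 2 M) {B : Set (IrrCharacter G)}
    (y : G) (hy : ∃ k : ℕ, orderOf y = 2 ^ k)
    (H : Subgroup G) (hH : H = Subgroup.centralizer ({y} : Set G)) [Fintype H]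
    [Fintype (IrrCharacter H)] (ξ₀ : IrrCharacter H)
    (hind : IsInducedBlock M H (blockOf M (ξ₀ : H → ℂ)) B) :
    ∃ r : IrrCharacter G → ℤ,
      (∀ χ ∈ Finset.univ.filter (fun χ : IrrCharacter G =>
          χ ∈ B ∧ blockHeight 2 B (χ : G → ℂ) = 0), Odd (r χ)) ∧
      (∀ χ ∈ Finset.univ.filter (fun χ : IrrCharacter G =>
          χ ∈ B ∧ blockHeight 2 B (χ : G → ℂ) = 0),
        (((Finset.univ.filter (fun χ : IrrCharacter G =>
          χ ∈ B ∧ blockHeight 2 B (χ : G → ℂ) = 0)).card : ℕ) : ℤ) ≤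
          2 ^ blockDefect 2 (blockOf M (ξ₀ : H → ℂ)) * r χ) ∧
      ∑ χ ∈ Finset.univ.filter (fun χ : IrrCharacter G =>
          χ ∈ B ∧ blockHeight 2 B (χ : G → ℂ) = 0), r χ ≤
        2 ^ blockDefect 2 (blockOf M (ξ₀ : H → ℂ)) *
          ((blockRank 2 (blockOf M (ξ₀ : H → ℂ)) : ℕ) : ℤ) := by
  have hp : (2 : ℕ).Prime := Nat.prime_two
  have hMp : M.IsPrime := isPrime_of_isPModular hM
  set b := blockOf M (ξ₀ : H → ℂ) with hb
  set d := blockDefect 2 b with hd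
  set l := blockRank 2 b with hl
  set Bf := Finset.univ.filter (fun χ : IrrCharacter G => χ ∈ B) with hBf
  set K₀ := Finset.univ.filter (fun χ : IrrCharacter G =>
    χ ∈ B ∧ blockHeight 2 B (χ : G → ℂ) = 0) with hK₀
  set bf := Finset.univ.filter (fun ξ : IrrCharacter H => ξ ∈ b) with hbf
  obtain ⟨k, hk⟩ := hy
  have hK₀B : ∀ χ ∈ K₀, χ ∈ B ∧ blockHeight 2 B (χ : G → ℂ) = 0 := by
    intro χ hχ
    rw [hK₀, Finset.mem_filter] at hχ
    exact hχ.2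
  have hK₀sub : K₀ ⊆ Bf := by
    intro χ hχ
    rw [hBf, Finset.mem_filter]
    exact ⟨Finset.mem_univ _, (hK₀B χ hχ).1⟩
  have hyH : y ∈ H := by
    rw [hH, Subgroup.mem_centralizer_singleton_iff]
  set zH : H := ⟨y, hyH⟩ with hzH
  have hzc : zH ∈ Subgroup.center H := by
    rw [Subgroup.mem_center_iff]
    intro c
    apply Subtype.ext
    have hc : (c : G) ∈ Subgroup.centralizer ({y} : Set G) := hH ▸ c.2
    have := Subgroup.mem_centralizer_singleton_iff.mp hc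
    simp only [Subgroup.coe_mul, hzH]
    exact this
  have hzN : zH ^ (2 ^ k) = 1 := by
    apply Subtype.ext
    simp only [Subgroup.coe_pow, Subgroup.coe_one, hzH]
    rw [← hk]
    exact pow_orderOf_eq_one y
  have hzinvN : zH⁻¹ ^ (2 ^ k) = 1 := by rw [inv_pow, hzN, inv_one]
  have hres : ∀ χ : IrrCharacter G, IsCharacter H (fun c : H => (χ : G → ℂ) (c : G)) := fun χ =>
    Cfsg.Agent.Lib.Helper3.IsCharacter.restrict
      (Cfsg.Agent.Lib.Helper3.IsIrrCharacter.isCharacter χ.2) _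
  -- the family
  set x : IrrCharacter G → IrrCharacter G → (ZMod (2 ^ k))ˣ → ℂ := fun χ ψ u =>
    ((2 ^ d : ℕ) : ℂ) * ctb 2 (y ^ (u : ZMod (2 ^ k)).val) H b (χ : G → ℂ) (ψ : G → ℂ) with hx
  have hxc : ∀ χ ψ u, x χ ψ u = ((2 ^ d : ℕ) : ℂ) *
      cval 2 b (fun c : H => (χ : G → ℂ) (c : G)) (fun c : H => (ψ : G → ℂ) (c : G))
        (zH ^ (u : ZMod (2 ^ k)).val) := by
    intro χ ψ u
    rw [hx]
    simp only
    rw [ctb_eq_cval y H hyH b]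
  -- units
  have hU : ∀ χ ∈ K₀, ∀ ξ₁ ∈ b, ¬ MemLocalIdeal M
      (classInner (pTilde 2 (fun c : H => (χ : G → ℂ) (c : G))) (ξ₁ : H → ℂ) /
        (ξ₁ : H → ℂ) 1) := by
    intro χ hχ ξ₁ hξ₁
    exact (Cfsg.Agent.S4431.result 2 M hM H b B hind χ ξ₁ hξ₁).2 (hK₀B χ hχ).1 (hK₀B χ hχ).2
  have hunit : ∀ χ ∈ K₀, ∀ ψ ∈ K₀, ∀ u, ¬ MemLocalIdeal M (x χ ψ u) := by
    intro χ hχ ψ hψ u
    have hzu : (zH ^ (u : ZMod (2 ^ k)).val) ^ (2 ^ k) = 1 := by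
      rw [← pow_mul, mul_comm, pow_mul, hzN, one_pow]
    have := (cval_unit hM ξ₀ (zH ^ (u : ZMod (2 ^ k)).val) (Subgroup.pow_mem _ hzc _) k hzu
      _ _ (hres χ) (hres ψ) (hU χ hχ) (hU ψ hψ)).2
    rw [← hd, ← hxc χ ψ u] at this
    exact this
  have hne : ∀ χ ∈ K₀, ∀ ψ ∈ K₀, ∀ u, x χ ψ u ≠ 0 := by
    intro χ hχ ψ hψ u h0
    have := hunit χ hχ ψ hψ u
    rw [h0] at this
    exact this (memLocalIdeal_zero hMp)
  have hint : ∀ χ ψ u, IsIntegral ℤ (x χ ψ u) := by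
    intro χ ψ u
    rw [hxc]
    exact cval_integral b _ _ (hres χ) (hres ψ) _ (Subgroup.pow_mem _ hzc _)
  have hgal : ∀ χ ψ (τ : ℂ ≃+* ℂ) (j : (ZMod (2 ^ k))ˣ),
      (∀ ω : ℂ, ω ^ (2 ^ k) = 1 → τ ω = ω ^ (j : ZMod (2 ^ k)).val) →
        ∀ u, τ (x χ ψ u) = x χ ψ (u * j) := by
    intro χ ψ τ j hτ u
    rw [hxc, hxc]
    have hzu : (zH ^ (u : ZMod (2 ^ k)).val) ^ (2 ^ k) = 1 := by
      rw [← pow_mul, mul_comm, pow_mul, hzN, one_pow]
    rw [cval_galois b _ _ (hres χ) (hres ψ) _ (Subgroup.pow_mem _ hzc _) (2 ^ k) hzu τ _ hτ]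
    congr 2
    rw [← pow_mul, Units.val_mul, ZMod.val_mul]
    exact pow_eq_pow_mod _ hzN
  -- lower bound for each pair
  have hlow : ∀ χ ∈ K₀, ∀ ψ ∈ K₀,
      (Nat.totient (2 ^ k) : ℝ) ≤ ∑ u : (ZMod (2 ^ k))ˣ, ‖x χ ψ u‖ ^ 2 :=
    fun χ hχ ψ hψ => totient_le_sum_norm_sq (2 ^ k) (x χ ψ) (hint χ ψ) (hgal χ ψ)
      (hne χ hχ ψ hψ)
  -- the section data of the powers of `y`
  have hsec : ∀ u : (ZMod (2 ^ k))ˣ,
      (∃ k' : ℕ, orderOf (y ^ (u : ZMod (2 ^ k)).val) = 2 ^ k') ∧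
      H = Subgroup.centralizer ({y ^ (u : ZMod (2 ^ k)).val} : Set G) := by
    intro u
    have hcop : Nat.Coprime (u : ZMod (2 ^ k)).val (orderOf y) := by
      rw [hk]
      exact ZMod.val_coe_unit_coprime u
    refine ⟨exists_orderOf_pow hp ⟨k, hk⟩ _, ?_⟩
    rw [hH]
    exact centralizer_pow_eq hcop
  -- rows
  have hrow : ∀ (χ : IrrCharacter G) (u : (ZMod (2 ^ k))ˣ),
      ∑ ψ ∈ Bf, x χ ψ u * conj (x χ ψ u) = ((2 ^ d : ℕ) : ℂ) * x χ χ u := by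
    intro χ u
    have h1 := sum_ctb_mul_conj hM (hsec u).1 H (hsec u).2 ξ₀ hind (χ : G → ℂ)
    rw [hx]
    simp only
    rw [← h1, Finset.mul_sum, Finset.mul_sum]
    refine Finset.sum_congr rfl fun ψ _ => ?_
    rw [map_mul, Complex.conj_natCast]
    ring
  have hnorm : ∀ (χ : IrrCharacter G) (u : (ZMod (2 ^ k))ˣ),
      ((∑ ψ ∈ Bf, ‖x χ ψ u‖ ^ 2 : ℝ) : ℂ) = ((2 ^ d : ℕ) : ℂ) * x χ χ u := by
    intro χ u
    rw [Complex.ofReal_sum]
    refine (Finset.sum_congr rfl fun ψ _ => ?_).trans (hrow χ u)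
    rw [Complex.mul_conj, Complex.normSq_eq_norm_sq]
  -- trace
  have htr : ∀ u : (ZMod (2 ^ k))ˣ, ∑ χ ∈ Bf, x χ χ u = ((2 ^ d : ℕ) : ℂ) * (l : ℂ) := by
    intro u
    have h1 := sum_ctb_self hM (hsec u).1 H (hsec u).2 ξ₀ hind
    rw [hx]
    simp only
    rw [← Finset.mul_sum, h1]
  -- the totals
  set t : IrrCharacter G → ℝ := fun χ => ∑ u : (ZMod (2 ^ k))ˣ, ∑ ψ ∈ Bf, ‖x χ ψ u‖ ^ 2 with ht
  have ht0 : ∀ χ, 0 ≤ t χ := fun χ =>
    Finset.sum_nonneg fun u _ => Finset.sum_nonneg fun ψ _ => by positivity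
  have htC : ∀ χ, ((t χ : ℝ) : ℂ) = ((2 ^ d : ℕ) : ℂ) * ∑ u : (ZMod (2 ^ k))ˣ, x χ χ u := by
    intro χ
    rw [ht]
    simp only
    rw [Complex.ofReal_sum, Finset.mul_sum]
    exact Finset.sum_congr rfl fun u _ => hnorm χ u
  have hφ : (0 : ℝ) < (Nat.totient (2 ^ k) : ℝ) := by
    exact_mod_cast Nat.totient_pos.mpr (by positivity)
  -- the parity statement
  have hpar : ∀ χ : IrrCharacter G, ∃ r : ℤ, χ ∈ K₀ →
      (Odd r ∧ ∑ u : (ZMod (2 ^ k))ˣ, x χ χ u = (Nat.totient (2 ^ k) : ℂ) * (r : ℂ)) := by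
    intro χ
    by_cases hχ : χ ∈ K₀
    swap
    · exact ⟨0, fun h => absurd h hχ⟩
    obtain ⟨mχ, hmχ, -⟩ := Cfsg.Agent.Lib.Helper15.exists_nat_decomp (hres χ)
    obtain ⟨c, hc⟩ := exists_int_coeff (p := 2) b
    have hcsymm : ∀ ξ ∈ bf, ∀ ξ' ∈ bf, c ξ ξ' = c ξ' ξ := by
      intro ξ hξ ξ' hξ'
      have hξb : ξ ∈ b := (Finset.mem_filter.mp hξ).2
      have hξ'b : ξ' ∈ b := (Finset.mem_filter.mp hξ').2
      have h1 := hc ξ hξb ξ'
      have h2 := hc ξ' hξ'b ξ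
      have h3 : conj ((c ξ' ξ : ℂ)) = (c ξ ξ' : ℂ) := by
        rw [← h2, ← h1, map_mul, map_pow, Complex.conj_natCast, classInner_pRegularPart_conj]
      rw [map_intCast] at h3
      exact_mod_cast h3.symm
    set w : IrrCharacter H → IrrCharacter H → ℂ := fun ξ ξ' => om ξ zH * om ξ' zH⁻¹ with hw
    set a : IrrCharacter H → IrrCharacter H → ℤ := fun ξ ξ' =>
      (mχ ξ : ℤ) * (mχ ξ' : ℤ) * c ξ ξ' with ha
    have hexp : ∀ u : (ZMod (2 ^ k))ˣ, x χ χ u =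
        ∑ ξ ∈ bf, ∑ ξ' ∈ bf, w ξ ξ' ^ (u : ZMod (2 ^ k)).val * (a ξ ξ' : ℂ) := by
      intro u
      rw [hxc, pow_mul_cval_eq_sum b _ _ _ (Subgroup.pow_mem _ hzc _) mχ mχ hmχ hmχ c hc]
      refine Finset.sum_congr rfl fun ξ _ => ?_
      refine Finset.sum_congr rfl fun ξ' _ => ?_
      rw [om_pow ξ zH hzc, ← inv_pow, om_pow ξ' zH⁻¹ (Subgroup.inv_mem _ hzc), hw, ha]
      simp only
      rw [mul_pow]
      push_cast
      ring
    have hwN : ∀ ξ ∈ bf, ∀ ξ' ∈ bf, w ξ ξ' ^ (2 ^ k) = 1 := by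
      intro ξ _ ξ' _
      rw [hw]
      simp only
      rw [mul_pow, om_pow_eq_one ξ zH hzc _ hzN,
        om_pow_eq_one ξ' zH⁻¹ (Subgroup.inv_mem _ hzc) _ hzinvN, one_mul]
    have hwinv : ∀ ξ ∈ bf, ∀ ξ' ∈ bf, w ξ ξ' * w ξ' ξ = 1 := by
      intro ξ _ ξ' _
      rw [hw]
      simp only
      calc om ξ zH * om ξ' zH⁻¹ * (om ξ' zH * om ξ zH⁻¹)
          = (om ξ zH * om ξ zH⁻¹) * (om ξ' zH * om ξ' zH⁻¹) := by ring
        _ = 1 := by rw [om_mul_inv ξ zH hzc, om_mul_inv ξ' zH hzc, one_mul]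
    have hasymm : ∀ ξ ∈ bf, ∀ ξ' ∈ bf, a ξ ξ' = a ξ' ξ := by
      intro ξ hξ ξ' hξ'
      rw [ha]
      simp only
      rw [hcsymm ξ hξ ξ' hξ']
      ring
    obtain ⟨r, hr1, hr2⟩ := parity_core k bf w hwN hwinv a hasymm
    refine ⟨r, fun _ => ⟨?_, ?_⟩⟩
    · -- parity
      have hodd : Odd (∑ ξ ∈ bf, ∑ ξ' ∈ bf, a ξ ξ') := by
        rcases Int.even_or_odd (∑ ξ ∈ bf, ∑ ξ' ∈ bf, a ξ ξ') with he | ho
        · exfalso
          have h2 : ((2 : ℕ) : ℤ) ∣ ∑ ξ ∈ bf, ∑ ξ' ∈ bf, a ξ ξ' := by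
            exact_mod_cast even_iff_two_dvd.mp he
          have h3 : MemLocalIdeal M ((∑ ξ ∈ bf, ∑ ξ' ∈ bf, a ξ ξ' : ℤ) : ℂ) :=
            (memLocalIdeal_intCast_iff hM _).mpr h2
          have h4 : MemLocalIdeal M (x χ χ 1 - ((∑ ξ ∈ bf, ∑ ξ' ∈ bf, a ξ ξ' : ℤ) : ℂ)) := by
            rw [hexp 1]
            push_cast
            rw [← Finset.sum_sub_distrib]
            refine memLocalIdeal_sum hMp _ _ fun ξ hξ => ?_
            rw [← Finset.sum_sub_distrib]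
            refine memLocalIdeal_sum hMp _ _ fun ξ' hξ' => ?_
            have e : ∀ n : ℕ, w ξ ξ' ^ n * (a ξ ξ' : ℂ) - (a ξ ξ' : ℂ) =
                (w ξ ξ' ^ n - 1) * (a ξ ξ' : ℂ) := fun n => by ring
            rw [e]
            refine memLocalIdeal_mul_right hMp ?_ (memLocalRing_intCast hMp _)
            apply memLocalIdeal_sub_one_of_pow_prime_pow_eq_one hM k
            rw [← pow_mul, mul_comm, pow_mul, hwN ξ hξ ξ' hξ', one_pow]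
          have h5 := memLocalIdeal_add hMp h4 h3
          rw [sub_add_cancel] at h5
          exact hunit χ hχ χ hχ 1 h5
        · exact ho
      have : r = (r - ∑ ξ ∈ bf, ∑ ξ' ∈ bf, a ξ ξ') + ∑ ξ ∈ bf, ∑ ξ' ∈ bf, a ξ ξ' := by ring
      rw [this]
      exact hr2.add_odd hodd
    · rw [← hr1]
      exact Finset.sum_congr rfl fun u _ => hexp u
  choose r hr using hpar
  refine ⟨r, fun χ hχ => (hr χ hχ).1, ?_, ?_⟩
  · intro χ hχ
    -- card K₀ * φ ≤ t χ = 2^d φ r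
    have h1 : (K₀.card : ℝ) * (Nat.totient (2 ^ k) : ℝ) ≤ t χ := by
      calc (K₀.card : ℝ) * (Nat.totient (2 ^ k) : ℝ)
          = ∑ _ψ ∈ K₀, (Nat.totient (2 ^ k) : ℝ) := by
            rw [Finset.sum_const, nsmul_eq_mul]
        _ ≤ ∑ ψ ∈ K₀, ∑ u : (ZMod (2 ^ k))ˣ, ‖x χ ψ u‖ ^ 2 :=
            Finset.sum_le_sum fun ψ hψ => hlow χ hχ ψ hψ
        _ ≤ ∑ ψ ∈ Bf, ∑ u : (ZMod (2 ^ k))ˣ, ‖x χ ψ u‖ ^ 2 :=
            Finset.sum_le_sum_of_subset_of_nonneg hK₀sub fun ψ _ _ =>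
              Finset.sum_nonneg fun u _ => by positivity
        _ = t χ := by
            rw [ht]
            simp only
            rw [Finset.sum_comm]
    have h2 : (t χ : ℝ) = ((2 : ℝ) ^ d) * ((Nat.totient (2 ^ k) : ℝ) * (r χ : ℝ)) := by
      have := htC χ
      rw [(hr χ hχ).2] at this
      have h3 : ((t χ : ℝ) : ℂ) =
          ((((2 : ℝ) ^ d) * ((Nat.totient (2 ^ k) : ℝ) * (r χ : ℝ)) : ℝ) : ℂ) := by
        rw [this]
        push_cast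
        ring
      exact_mod_cast h3
    rw [h2] at h1
    have h4 : (K₀.card : ℝ) * (Nat.totient (2 ^ k) : ℝ) ≤
        (((2 : ℝ) ^ d) * (r χ : ℝ)) * (Nat.totient (2 ^ k) : ℝ) := by
      calc _ ≤ _ := h1
        _ = _ := by ring
    have h5 : (K₀.card : ℝ) ≤ ((2 : ℝ) ^ d) * (r χ : ℝ) := le_of_mul_le_mul_right h4 hφ
    exact_mod_cast h5
  · -- the sum
    have h1 : ∑ χ ∈ K₀, t χ ≤ ∑ χ ∈ Bf, t χ :=
      Finset.sum_le_sum_of_subset_of_nonneg hK₀sub fun χ _ _ => ht0 χ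
    have h2 : ∑ χ ∈ Bf, t χ =
        ((2 : ℝ) ^ d) * ((Nat.totient (2 ^ k) : ℝ) * (((2 : ℝ) ^ d) * (l : ℝ))) := by
      have h3 : ((∑ χ ∈ Bf, t χ : ℝ) : ℂ) =
          ((((2 : ℝ) ^ d) * ((Nat.totient (2 ^ k) : ℝ) * (((2 : ℝ) ^ d) * (l : ℝ))) : ℝ) : ℂ) := by
        rw [Complex.ofReal_sum, Finset.sum_congr rfl fun χ _ => htC χ, ← Finset.mul_sum,
          Finset.sum_comm, Finset.sum_congr rfl fun u _ => htr u, Finset.sum_const,
          Finset.card_univ, ZMod.card_units_eq_totient, nsmul_eq_mul]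
        push_cast
        ring
      exact_mod_cast h3
    have h4 : ∑ χ ∈ K₀, t χ =
        ((2 : ℝ) ^ d) * ((Nat.totient (2 ^ k) : ℝ) * ((∑ χ ∈ K₀, r χ : ℤ) : ℝ)) := by
      have h3 : ((∑ χ ∈ K₀, t χ : ℝ) : ℂ) =
          ((((2 : ℝ) ^ d) * ((Nat.totient (2 ^ k) : ℝ) * ((∑ χ ∈ K₀, r χ : ℤ) : ℝ)) : ℝ) : ℂ) := by
        rw [Complex.ofReal_sum, Finset.sum_congr rfl fun χ _ => htC χ, ← Finset.mul_sum,
          Finset.sum_congr rfl fun χ hχ => (hr χ hχ).2, ← Finset.mul_sum]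
        push_cast
        ring
      exact_mod_cast h3
    rw [h2, h4] at h1
    have h2d : (0 : ℝ) < (2 : ℝ) ^ d := by positivity
    have h5 : (Nat.totient (2 ^ k) : ℝ) * ((∑ χ ∈ K₀, r χ : ℤ) : ℝ) ≤
        (Nat.totient (2 ^ k) : ℝ) * (((2 : ℝ) ^ d) * (l : ℝ)) :=
      le_of_mul_le_mul_left h1 h2d
    have h6 : ((∑ χ ∈ K₀, r χ : ℤ) : ℝ) ≤ ((2 : ℝ) ^ d) * (l : ℝ) :=
      le_of_mul_le_mul_left h5 hφ
    exact_mod_cast h6

end Cfsg.Agent.Lib.Helper77.Ctb
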