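import Cfsg.Agent.Lib.Helper77.CtbG
import Cfsg.Agent.Lib.Helper77.CtbI
import Cfsg.Agent.Lib.Helper74.FR1

/-!
# Rows of the matrix of contributions never vanish; `k(B) ≤ p^d l(b)` for a major subsection
(helper77)

For a major subsection `(z, b)` of the block `B` (the defects of `b` and `B` agree), a character
`ψ₀ ∈ B` of height zero and any `χ ∈ B`, the contribution `m_{ψ₀ χ}` is non-zero: the central
characters of `χ` and `ψ₀` agree modulo the local ideal on the class function induced from the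
complex conjugate of the `p`-regular section part of `ψ₀`.  Hence every diagonal contribution is
positive, and the arithmetic-geometric mean inequality on the Galois orbit of `p^d m_{χχ}` gives
`k(B) ≤ p^d l(b)`.
-/

set_option autoImplicit false

universe u

namespace Cfsg.Agent.Lib.Helper77.Ctb

open Cfsg Cfsg.Agent.Lib.Helper81 Cfsg.Agent.Lib.Helper74 Cfsg.Agent.Lib.Helper76
  Cfsg.Agent.Lib.Helper16 Cfsg.Agent.Lib.Helper25
open scoped ComplexConjugate

/-- the variant of `totient_le_sum_norm_sq` without squares -/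
theorem totient_le_sum_norm (N : ℕ) [NeZero N] (x : (ZMod N)ˣ → ℂ)
    (hint : ∀ u, IsIntegral ℤ (x u))
    (hτ : ∀ (τ : ℂ ≃+* ℂ) (j : (ZMod N)ˣ),
      (∀ ω : ℂ, ω ^ N = 1 → τ ω = ω ^ (j : ZMod N).val) → ∀ u, τ (x u) = x (u * j))
    (hne : ∀ u, x u ≠ 0) :
    (Nat.totient N : ℝ) ≤ ∑ u : (ZMod N)ˣ, ‖x u‖ := by
  have hN : 0 < N := Nat.pos_of_ne_zero (NeZero.ne N)
  set Q : ℂ := ∏ u : (ZMod N)ˣ, x u with hQ
  have hQint : IsIntegral ℤ Q := IsIntegral.prod _ (fun u _ => hint u)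
  have hQfix : ∀ τ : ℂ ≃+* ℂ, τ Q = Q := by
    intro τ
    obtain ⟨j, hcop, hj⟩ := Cfsg.Agent.Lib.Helper75.exists_pow_of_ringEquiv τ N hN
    set ju : (ZMod N)ˣ := ZMod.unitOfCoprime j hcop with hju
    have hval : ((ju : (ZMod N)ˣ) : ZMod N).val = j % N := by
      rw [hju, ZMod.coe_unitOfCoprime, ZMod.val_natCast]
    have hj' : ∀ ω : ℂ, ω ^ N = 1 → τ ω = ω ^ ((ju : (ZMod N)ˣ) : ZMod N).val := by
      intro ω hω
      rw [hval, hj ω hω]
      exact pow_eq_pow_mod j hω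
    rw [hQ, map_prod]
    rw [Finset.prod_congr rfl (fun u _ => hτ τ ju hj' u)]
    exact Fintype.prod_equiv (Equiv.mulRight ju) _ _ (fun u => rfl)
  obtain ⟨n, hn⟩ := Cfsg.Agent.Lib.Helper75.exists_int_eq_of_forall_ringEquiv_eq Q hQint hQfix
  have hQne : Q ≠ 0 := Finset.prod_ne_zero_iff.mpr (fun u _ => hne u)
  have hn0 : n ≠ 0 := by
    rintro rfl
    apply hQne
    rw [← hn]
    simp
  have hnorm : (1 : ℝ) ≤ ‖Q‖ := by
    rw [← hn, Complex.norm_intCast]
    have : (1 : ℤ) ≤ |n| := Int.one_le_abs hn0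
    exact_mod_cast this
  have hprod : (1 : ℝ) ≤ ∏ u : (ZMod N)ˣ, ‖x u‖ := by
    rw [← norm_prod, ← hQ]
    exact hnorm
  have key := Cfsg.Agent.Lib.Helper75.card_le_sum_of_one_le_prod (Finset.univ : Finset (ZMod N)ˣ)
    (fun u => ‖x u‖) (fun u _ => norm_nonneg _) hprod
  rw [Finset.card_univ, ZMod.card_units_eq_totient] at key
  exact key

section values
variable {H : Type u} [Group H] [Fintype H] [Fintype (IrrCharacter H)]

/-- the values of the block part of a twisted character are algebraic integers -/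
theorem isIntegral_blockPart_twist (b : Set (IrrCharacter H)) (χ' : H → ℂ)
    (hχ' : IsCharacter H χ') (z : H) (hz : z ∈ Subgroup.center H) (y : H) :
    IsIntegral ℤ (blockPart b (fun c : H => χ' (z * c)) y) := by
  classical
  obtain ⟨m, hm, -⟩ := Cfsg.Agent.Lib.Helper15.exists_nat_decomp hχ'
  rw [blockPart_twist_eq b χ' z hz m hm, Finset.sum_apply]
  refine IsIntegral.sum _ fun ξ _ => ?_
  rw [Pi.smul_apply, smul_eq_mul]
  exact IsIntegral.mul (IsIntegral.mul (isIntegral_om ξ z hz) (isIntegral_natCast _))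
    (Cfsg.Agent.Lib.Helper80.irr_isIntegral ξ y)

end values

section rows
variable {G : Type u} [Group G] [Fintype G] [Fintype (IrrCharacter G)] {p : ℕ} [Fact p.Prime]
  {M : Ideal AlgInt}

omit [Fintype (IrrCharacter G)] [Fact p.Prime] in
/-- a diagonal contribution is real -/
theorem ctb_self_conj (z : G) (H : Subgroup G) [Fintype H] (b : Set (IrrCharacter H))
    (χ : G → ℂ) : conj (ctb p z H b χ χ) = ctb p z H b χ χ := by
  unfold ctb
  exact classInner_pRegularPart_conj p _ _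

omit [Fintype (IrrCharacter G)] [Fact p.Prime] in
/-- the matrix of contributions is Hermitian -/
theorem ctb_conj_symm (z : G) (H : Subgroup G) [Fintype H] (b : Set (IrrCharacter H))
    (χ ψ : G → ℂ) : conj (ctb p z H b ψ χ) = ctb p z H b χ ψ := by
  unfold ctb
  exact classInner_pRegularPart_conj p _ _

open Classical in
/-- **Row non-vanishing**: for a major subsection, the contribution of a character of height zero
and an arbitrary character of the block is non-zero. -/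
theorem ctb_ne_zero (hM : IsPModular p M) {B : Set (IrrCharacter G)} {z : G}
    (hz : ∃ k : ℕ, orderOf z = p ^ k)
    (H : Subgroup G) (hH : H = Subgroup.centralizer ({z} : Set G)) [Fintype H]
    [Fintype (IrrCharacter H)] (ξ₀ : IrrCharacter H)
    (hind : IsInducedBlock M H (blockOf M (ξ₀ : H → ℂ)) B)
    (hdef : blockDefect p (blockOf M (ξ₀ : H → ℂ)) = blockDefect p B)
    (ψ₀ : IrrCharacter G) (hψ₀ : ψ₀ ∈ B) (hh : blockHeight p B (ψ₀ : G → ℂ) = 0)
    (χ : IrrCharacter G) (hχ : χ ∈ B) :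
    ctb p z H (blockOf M (ξ₀ : H → ℂ)) (ψ₀ : G → ℂ) (χ : G → ℂ) ≠ 0 := by
  have hp : p.Prime := Fact.out
  have hMp : M.IsPrime := isPrime_of_isPModular hM
  set b := blockOf M (ξ₀ : H → ℂ) with hb
  obtain ⟨k, hk⟩ := hz
  have hzH : z ∈ H := by
    rw [hH, Subgroup.mem_centralizer_singleton_iff]
  set zH : H := ⟨z, hzH⟩ with hzHdef
  have hzc : zH ∈ Subgroup.center H := by
    rw [Subgroup.mem_center_iff]
    intro c
    apply Subtype.ext
    have hc : (c : G) ∈ Subgroup.centralizer ({z} : Set G) := hH ▸ c.2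
    have := Subgroup.mem_centralizer_singleton_iff.mp hc
    simp only [Subgroup.coe_mul, hzHdef]
    exact this
  have hzk : zH ^ (p ^ k) = 1 := by
    apply Subtype.ext
    simp only [Subgroup.coe_pow, Subgroup.coe_one, hzHdef]
    rw [← hk]
    exact pow_orderOf_eq_one z
  have hres : ∀ χ : IrrCharacter G, IsCharacter H (fun c : H => (χ : G → ℂ) (c : G)) := fun χ =>
    Cfsg.Agent.Lib.Helper3.IsCharacter.restrict
      (Cfsg.Agent.Lib.Helper3.IsIrrCharacter.isCharacter χ.2) _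
  -- the `p`-regular section part of `ψ₀`
  set v : H → ℂ := pRegularPart p (secPart z H b (ψ₀ : G → ℂ)) with hv
  have hvcl : IsClassFunction H v :=
    pRegularPart_isClassFunction p (isClassFunction_secPart z H _ _)
  have hvint : ∀ c : H, IsIntegral ℤ (v c) := by
    intro c
    rw [hv, Cfsg.Agent.Lib.Helper77.pRegularPart_apply]
    by_cases hc : p ∣ orderOf c
    · rw [if_neg (fun h => h hc)]
      exact isIntegral_zero
    · rw [if_pos hc]
      exact isIntegral_blockPart_twist b _ (hres ψ₀) zH hzc c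
  -- the class function of `H` to be induced
  set θ : H → ℂ := fun h => conj (v (zH⁻¹ * h)) with hθ
  have hθcl : IsClassFunction H θ := by
    intro g h
    simp only [hθ]
    congr 1
    have hzi : zH⁻¹ ∈ Subgroup.center H := Subgroup.inv_mem _ hzc
    have e : zH⁻¹ * (h * g * h⁻¹) = h * (zH⁻¹ * g) * h⁻¹ := by
      have h1 : zH⁻¹ * h = h * zH⁻¹ := ((Subgroup.mem_center_iff.mp hzi) h).symm
      calc zH⁻¹ * (h * g * h⁻¹) = (zH⁻¹ * h) * g * h⁻¹ := by group
        _ = (h * zH⁻¹) * g * h⁻¹ := by rw [h1]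
        _ = h * (zH⁻¹ * g) * h⁻¹ := by group
    rw [e, hvcl]
  have hθR : ∀ t, MemLocalRing M (θ t) := fun t =>
    memLocalRing_algInt hMp ⟨_, map_isIntegral_int (starRingEnd ℂ) (hvint _)⟩
  set a : G → ℂ := indFun H θ with ha
  have hacl : IsClassFunction G a := indFun_isClassFunction H θ
  have haS : ∀ g, MemLocalRing M (a g) := fun g => memLocalRing_indFun H hMp hθcl hθR g
  have hnH : (Nat.card H : ℂ) ≠ 0 := Nat.cast_ne_zero.mpr Nat.card_pos.ne'
  -- the sums against the characters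
  have hsum : ∀ φ : IrrCharacter G, ∑ g : G, a g * (φ : G → ℂ) g =
      (Nat.card G : ℂ) * conj (ctb p z H b (ψ₀ : G → ℂ) (φ : G → ℂ)) := by
    intro φ
    have hφcl : IsClassFunction G (φ : G → ℂ) := isClassFunction_of_isCharacter φ.2
    have h1 := sum_mul_indFun H θ hφcl
    have h2 : ∑ t : H, (φ : G → ℂ) t * θ t =
        ∑ c : H, (φ : G → ℂ) (z * (c : G)) * conj (v c) := by
      refine Fintype.sum_equiv (Equiv.mulLeft zH⁻¹) _ _ ?_
      intro t
      simp only [Equiv.coe_mulLeft, hθ]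
      congr 2
      simp [hzHdef]
    rw [ctb_eq_conj hM H hH ξ₀ _ φ, Complex.conj_conj]
    unfold classInner
    rw [← h2]
    calc ∑ g : G, a g * (φ : G → ℂ) g = ∑ g : G, (φ : G → ℂ) g * indFun H θ g :=
          Finset.sum_congr rfl fun g _ => mul_comm _ _
      _ = _ := by
          rw [h1]
          ring
  have homega : ∀ φ : IrrCharacter G, omega (φ : G → ℂ) a =
      (Nat.card G : ℂ) * conj (ctb p z H b (ψ₀ : G → ℂ) (φ : G → ℂ)) / (φ : G → ℂ) 1 := by
    intro φ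
    unfold omega
    rw [hsum φ]
  intro h0
  have hsame : SameBlock M (χ : G → ℂ) (ψ₀ : G → ℂ) := by
    obtain ⟨χ₁, hχ₁⟩ := hind.2.1
    rw [hχ₁] at hχ hψ₀
    exact sameBlock_trans hMp (sameBlock_symm hχ) hψ₀
  have key := memLocalIdeal_omega_sub hMp (isClassFunction_of_isCharacter χ.2)
    (isClassFunction_of_isCharacter ψ₀.2) hsame hacl haS
  rw [homega χ, homega ψ₀, h0, map_zero, mul_zero, zero_div, zero_sub, ctb_self_conj] at key
  have key2 := memLocalIdeal_neg key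
  rw [neg_neg] at key2
  -- the degree of `ψ₀`
  obtain ⟨f, hf0, hf1, hf2, hf3⟩ := irr_degree_spec ψ₀
  have hval : f.factorization p = minDegVal p B := by
    rw [← hf2]
    exact val_eq_of_height_zero p hψ₀ hh
  have hdB : blockDefect p B = (Nat.card G).factorization p - minDegVal p B := blockDefect_eq p B
  have hle : minDegVal p B ≤ (Nat.card G).factorization p := minDegVal_le_card p ⟨ψ₀, hψ₀⟩
  set dB := blockDefect p B with hdBdef
  have hn : Nat.card G = p ^ (f.factorization p + dB) * (Nat.card G / p ^ (Nat.card G).factorization p) := by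
    have e : f.factorization p + dB = (Nat.card G).factorization p := by omega
    rw [e]
    exact (Nat.ordProj_mul_ordCompl_eq_self (Nat.card G) p).symm
  have hf : f = p ^ f.factorization p * (f / p ^ f.factorization p) :=
    (Nat.ordProj_mul_ordCompl_eq_self f p).symm
  have hn' : ¬ p ∣ Nat.card G / p ^ (Nat.card G).factorization p :=
    Nat.not_dvd_ordCompl hp Nat.card_pos.ne'
  set n' := Nat.card G / p ^ (Nat.card G).factorization p with hn'def
  set f' := f / p ^ f.factorization p with hf'def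
  have hf'0 : (f' : ℂ) ≠ 0 := by
    intro h
    have : f' = 0 := by exact_mod_cast h
    rw [this, mul_zero] at hf
    omega
  have hp0 : (p : ℂ) ≠ 0 := by exact_mod_cast hp.ne_zero
  have e1 : (f' : ℂ) * ((Nat.card G : ℂ) * ctb p z H b (ψ₀ : G → ℂ) (ψ₀ : G → ℂ) /
      (ψ₀ : G → ℂ) 1) = (n' : ℂ) * (((p ^ dB : ℕ) : ℂ) *
        ctb p z H b (ψ₀ : G → ℂ) (ψ₀ : G → ℂ)) := by
    rw [hf1]
    have hfC : (f : ℂ) = (p : ℂ) ^ f.factorization p * (f' : ℂ) := by
      conv_lhs => rw [hf]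
      push_cast
      ring
    have hnC : (Nat.card G : ℂ) = (p : ℂ) ^ (f.factorization p + dB) * (n' : ℂ) := by
      conv_lhs => rw [hn]
      push_cast
      ring
    rw [hfC, hnC, pow_add]
    push_cast
    field_simp
  have key3 := memLocalIdeal_mul_left hMp (memLocalRing_natCast hMp f') key2
  rw [e1] at key3
  have key4 := memLocalIdeal_of_mul_of_not_memLocalIdeal hMp (memLocalRing_natCast hMp n')
    (fun h => hn' ((memLocalIdeal_natCast_iff hM n').1 h)) key3
  -- the unit property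
  have hU : ∀ ξ₁ ∈ b, ¬ MemLocalIdeal M
      (classInner (pTilde p (fun c : H => (ψ₀ : G → ℂ) (c : G))) (ξ₁ : H → ℂ) /
        (ξ₁ : H → ℂ) 1) := by
    intro ξ₁ hξ₁
    exact (Cfsg.Agent.S4431.result p M hM H b B hind ψ₀ ξ₁ hξ₁).2 hψ₀ hh
  have hunit := (cval_unit hM ξ₀ zH hzc k hzk _ _ (hres ψ₀) (hres ψ₀) hU hU).2
  have hc := ctb_eq_cval (p := p) z H hzH b (ψ₀ : G → ℂ) (ψ₀ : G → ℂ) 1
  rw [pow_one, pow_one] at hc
  rw [← hb, hdef, ← hc] at hunit
  exact hunit key4

open Classical in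
/-- `k(B) ≤ p^d l(b)` for a major subsection `(y, b)` of `B` -/
theorem card_le_mul_rank (hM : IsPModular p M) {B : Set (IrrCharacter G)}
    (y : G) (hy : ∃ k : ℕ, orderOf y = p ^ k)
    (H : Subgroup G) (hH : H = Subgroup.centralizer ({y} : Set G)) [Fintype H]
    [Fintype (IrrCharacter H)] (ξ₀ : IrrCharacter H)
    (hind : IsInducedBlock M H (blockOf M (ξ₀ : H → ℂ)) B)
    (hdef : blockDefect p (blockOf M (ξ₀ : H → ℂ)) = blockDefect p B) :
    (Finset.univ.filter (fun χ : IrrCharacter G => χ ∈ B)).card ≤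
      p ^ blockDefect p (blockOf M (ξ₀ : H → ℂ)) * blockRank p (blockOf M (ξ₀ : H → ℂ)) := by
  have hp : p.Prime := Fact.out
  have hMp : M.IsPrime := isPrime_of_isPModular hM
  set b := blockOf M (ξ₀ : H → ℂ) with hb
  set d := blockDefect p b with hd
  set Bf := Finset.univ.filter (fun χ : IrrCharacter G => χ ∈ B) with hBf
  set N := orderOf y with hN
  have hNpos : 0 < N := orderOf_pos y
  have : NeZero N := ⟨hNpos.ne'⟩
  obtain ⟨k, hk⟩ := hy
  have hyH : y ∈ H := by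
    rw [hH, Subgroup.mem_centralizer_singleton_iff]
  set zH : H := ⟨y, hyH⟩ with hzH
  have hzc : zH ∈ Subgroup.center H := by
    rw [Subgroup.mem_center_iff]
    intro c
    apply Subtype.ext
    have hc : (c : G) ∈ Subgroup.centralizer ({y} : Set G) := hH ▸ c.2
    have := Subgroup.mem_centralizer_singleton_iff.mp hc
    simp only [Subgroup.coe_mul, hzH]
    exact this
  have hzN : zH ^ N = 1 := by
    apply Subtype.ext
    simp only [Subgroup.coe_pow, Subgroup.coe_one, hzH]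
    exact pow_orderOf_eq_one y
  have hres : ∀ χ : IrrCharacter G, IsCharacter H (fun c : H => (χ : G → ℂ) (c : G)) := fun χ =>
    Cfsg.Agent.Lib.Helper3.IsCharacter.restrict
      (Cfsg.Agent.Lib.Helper3.IsIrrCharacter.isCharacter χ.2) _
  have hmem : ∀ χ : IrrCharacter G, χ ∈ Bf ↔ χ ∈ B := by
    intro χ
    rw [hBf, Finset.mem_filter]
    exact ⟨fun h => h.2, fun h => ⟨Finset.mem_univ _, h⟩⟩
  -- a character of height zero
  have hBne : B.Nonempty := by
    obtain ⟨χ₁, hχ₁⟩ := hind.2.1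
    exact ⟨χ₁, hχ₁ ▸ sameBlock_refl hMp _⟩
  obtain ⟨ψ₀, hψ₀, hψ₀v⟩ := exists_minDegVal p hBne
  have hh0 : blockHeight p B (ψ₀ : G → ℂ) = 0 := by
    rw [blockHeight_eq, hψ₀v, Nat.sub_self]
  -- the family
  set x : IrrCharacter G → IrrCharacter G → (ZMod N)ˣ → ℂ := fun χ ψ u =>
    ((p ^ d : ℕ) : ℂ) * ctb p (y ^ (u : ZMod N).val) H b (χ : G → ℂ) (ψ : G → ℂ) with hx
  have hxc : ∀ χ ψ u, x χ ψ u = ((p ^ d : ℕ) : ℂ) *
      cval p b (fun c : H => (χ : G → ℂ) (c : G)) (fun c : H => (ψ : G → ℂ) (c : G))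
        (zH ^ (u : ZMod N).val) := by
    intro χ ψ u
    rw [hx]
    simp only
    rw [ctb_eq_cval y H hyH b]
  have hint : ∀ χ ψ u, IsIntegral ℤ (x χ ψ u) := by
    intro χ ψ u
    rw [hxc]
    exact cval_integral b _ _ (hres χ) (hres ψ) _ (Subgroup.pow_mem _ hzc _)
  have hgal : ∀ χ ψ (τ : ℂ ≃+* ℂ) (j : (ZMod N)ˣ),
      (∀ ω : ℂ, ω ^ N = 1 → τ ω = ω ^ (j : ZMod N).val) → ∀ u, τ (x χ ψ u) = x χ ψ (u * j) := by
    intro χ ψ τ j hτ u
    rw [hxc, hxc]
    have hzu : (zH ^ (u : ZMod N).val) ^ N = 1 := by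
      rw [← pow_mul, mul_comm, pow_mul, hzN, one_pow]
    rw [cval_galois b _ _ (hres χ) (hres ψ) _ (Subgroup.pow_mem _ hzc _) N hzu τ _ hτ]
    congr 2
    rw [← pow_mul, Units.val_mul, ZMod.val_mul]
    exact pow_eq_pow_mod _ hzN
  -- the section data at `y ^ u`
  have hsec : ∀ u : (ZMod N)ˣ, (∃ k' : ℕ, orderOf (y ^ (u : ZMod N).val) = p ^ k') ∧
      H = Subgroup.centralizer ({y ^ (u : ZMod N).val} : Set G) := by
    intro u
    have hcop : Nat.Coprime (u : ZMod N).val (orderOf y) := ZMod.val_coe_unit_coprime u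
    refine ⟨exists_orderOf_pow hp ⟨k, hk⟩ (u : ZMod N).val, ?_⟩
    rw [hH]
    exact centralizer_pow_eq hcop
  -- the diagonal entries as non-negative reals
  have hdiag : ∀ (χ : IrrCharacter G) (u : (ZMod N)ˣ), x χ χ u =
      (((p ^ d : ℕ) : ℝ) * ∑ ψ ∈ Bf,
        ‖ctb p (y ^ (u : ZMod N).val) H b (χ : G → ℂ) (ψ : G → ℂ)‖ ^ 2 : ℝ) := by
    intro χ u
    rw [hx]
    simp only
    rw [← sum_ctb_mul_conj hM (hsec u).1 H (hsec u).2 ξ₀ hind (χ : G → ℂ)]
    push_cast
    congr 1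
    refine Finset.sum_congr rfl fun ψ _ => ?_
    rw [Complex.mul_conj, Complex.normSq_eq_norm_sq]
    push_cast
    rfl
  have hnonneg : ∀ (χ : IrrCharacter G) (u : (ZMod N)ˣ), (0 : ℝ) ≤ ((p ^ d : ℕ) : ℝ) * ∑ ψ ∈ Bf,
        ‖ctb p (y ^ (u : ZMod N).val) H b (χ : G → ℂ) (ψ : G → ℂ)‖ ^ 2 := by
    intro χ u
    positivity
  have hnormx : ∀ (χ : IrrCharacter G) (u : (ZMod N)ˣ), ((‖x χ χ u‖ : ℝ) : ℂ) = x χ χ u := by
    intro χ u
    rw [hdiag χ u, Complex.norm_real, Real.norm_of_nonneg (hnonneg χ u)]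
  have hne : ∀ χ ∈ B, ∀ u, x χ χ u ≠ 0 := by
    intro χ hχ u h0
    rw [hdiag χ u] at h0
    have h1 : ((p ^ d : ℕ) : ℝ) * ∑ ψ ∈ Bf,
        ‖ctb p (y ^ (u : ZMod N).val) H b (χ : G → ℂ) (ψ : G → ℂ)‖ ^ 2 = 0 := by
      exact_mod_cast h0
    have hpd : ((p ^ d : ℕ) : ℝ) ≠ 0 := by
      have : 0 < p ^ d := pow_pos hp.pos d
      exact_mod_cast this.ne'
    have h2 := (mul_eq_zero.mp h1).resolve_left hpd
    have h3 := (Finset.sum_eq_zero_iff_of_nonneg (fun ψ _ => by positivity)).mp h2 ψ₀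
      ((hmem ψ₀).2 hψ₀)
    have h4 : ctb p (y ^ (u : ZMod N).val) H b (χ : G → ℂ) (ψ₀ : G → ℂ) = 0 := by
      have := pow_eq_zero_iff (two_ne_zero) |>.mp h3
      exact norm_eq_zero.mp this
    have h5 := ctb_ne_zero hM (hsec u).1 H (hsec u).2 ξ₀ hind hdef ψ₀ hψ₀ hh0 χ hχ
    apply h5
    rw [← ctb_conj_symm, h4, map_zero]
  -- lower bound for each character
  have hlow : ∀ χ ∈ B, (Nat.totient N : ℝ) ≤ ∑ u : (ZMod N)ˣ, ‖x χ χ u‖ :=
    fun χ hχ => totient_le_sum_norm N (x χ χ) (hint χ χ) (hgal χ χ) (hne χ hχ)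
  -- the trace
  have htot : ∀ u : (ZMod N)ˣ, ∑ χ ∈ Bf, ‖x χ χ u‖ =
      ((p ^ d : ℕ) : ℝ) * (blockRank p b : ℝ) := by
    intro u
    have h1 := sum_ctb_self hM (hsec u).1 H (hsec u).2 ξ₀ hind
    have h3 : ((∑ χ ∈ Bf, ‖x χ χ u‖ : ℝ) : ℂ) =
        ((((p ^ d : ℕ) : ℝ) * (blockRank p b : ℝ) : ℝ) : ℂ) := by
      push_cast
      rw [← h1, Finset.mul_sum]
      refine Finset.sum_congr rfl fun χ _ => ?_
      rw [hnormx χ u, hx]
      simp only
      push_cast
      rfl
    exact_mod_cast h3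
  have hA : (Bf.card : ℝ) * (Nat.totient N : ℝ) ≤ ∑ χ ∈ Bf, ∑ u : (ZMod N)ˣ, ‖x χ χ u‖ := by
    calc (Bf.card : ℝ) * (Nat.totient N : ℝ) = ∑ _χ ∈ Bf, (Nat.totient N : ℝ) := by
          rw [Finset.sum_const, nsmul_eq_mul]
      _ ≤ _ := Finset.sum_le_sum fun χ hχ => hlow χ ((hmem χ).1 hχ)
  have hB' : ∑ χ ∈ Bf, ∑ u : (ZMod N)ˣ, ‖x χ χ u‖ =
      (Nat.totient N : ℝ) * (((p ^ d : ℕ) : ℝ) * (blockRank p b : ℝ)) := by
    rw [Finset.sum_comm, Finset.sum_congr rfl fun u _ => htot u, Finset.sum_const,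
      Finset.card_univ, ZMod.card_units_eq_totient, nsmul_eq_mul]
  have hφ : (0 : ℝ) < (Nat.totient N : ℝ) := by exact_mod_cast Nat.totient_pos.mpr hNpos
  have hfin : (Bf.card : ℝ) ≤ ((p ^ d : ℕ) : ℝ) * (blockRank p b : ℝ) := by
    rw [hB'] at hA
    have h5 : (Bf.card : ℝ) * (Nat.totient N : ℝ) ≤
        (((p ^ d : ℕ) : ℝ) * (blockRank p b : ℝ)) * (Nat.totient N : ℝ) := by
      rw [mul_comm (((p ^ d : ℕ) : ℝ) * (blockRank p b : ℝ))]
      exact hA
    exact le_of_mul_le_mul_right h5 hφ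
  exact_mod_cast hfin

end rows

section final

/-- **Major subsections of rank one**: `k(B) ≤ p^d`. -/
theorem card_le_of_rank_one {G : Type*} [Group G] [Finite G] (p : ℕ) [Fact p.Prime]
    (M : Ideal Cfsg.AlgInt) (hM : Cfsg.IsPModular p M) (B : Set (Cfsg.IrrCharacter G))
    (hB : Cfsg.IsPBlock M B) (d : ℕ) (hd : Cfsg.blockDefect p B = d) (y : G)
    (hy : ∃ k : ℕ, orderOf y = p ^ k)
    (b : Set (Cfsg.IrrCharacter ↥(Subgroup.centralizer ({y} : Set G))))
    (hind : Cfsg.IsInducedBlock M (Subgroup.centralizer ({y} : Set G)) b B)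
    (hbd : Cfsg.blockDefect p b = d) (hl : Cfsg.blockRank p b = 1) :
    Nat.card B ≤ p ^ d := by
  classical
  have := Fintype.ofFinite G
  have := Fintype.ofFinite (Cfsg.IrrCharacter G)
  have := Fintype.ofFinite (Subgroup.centralizer ({y} : Set G))
  have := Fintype.ofFinite (Cfsg.IrrCharacter (Subgroup.centralizer ({y} : Set G)))
  obtain ⟨ξ₀, hξ₀⟩ := hind.1
  subst hξ₀
  have h := card_le_mul_rank hM y hy (Subgroup.centralizer ({y} : Set G)) rfl ξ₀ hind
    (hbd.trans hd.symm)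
  rw [hbd, hl, mul_one] at h
  have hc : Nat.card B =
      (Finset.univ.filter (fun ψ : Cfsg.IrrCharacter G => ψ ∈ B)).card := by
    rw [Nat.card_eq_fintype_card, ← Fintype.card_subtype]
  rw [hc]
  exact h

/-- the general form: `k(B) ≤ p^d l(b)` for a major subsection -/
theorem card_le_defect_pow_mul_rank {G : Type*} [Group G] [Finite G] (p : ℕ) [Fact p.Prime]
    (M : Ideal Cfsg.AlgInt) (hM : Cfsg.IsPModular p M) (B : Set (Cfsg.IrrCharacter G))
    (d : ℕ) (hd : Cfsg.blockDefect p B = d) (y : G)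
    (hy : ∃ k : ℕ, orderOf y = p ^ k)
    (b : Set (Cfsg.IrrCharacter ↥(Subgroup.centralizer ({y} : Set G))))
    (hind : Cfsg.IsInducedBlock M (Subgroup.centralizer ({y} : Set G)) b B)
    (hbd : Cfsg.blockDefect p b = d) :
    Nat.card B ≤ p ^ d * Cfsg.blockRank p b := by
  classical
  have := Fintype.ofFinite G
  have := Fintype.ofFinite (Cfsg.IrrCharacter G)
  have := Fintype.ofFinite (Subgroup.centralizer ({y} : Set G))
  have := Fintype.ofFinite (Cfsg.IrrCharacter (Subgroup.centralizer ({y} : Set G)))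
  obtain ⟨ξ₀, hξ₀⟩ := hind.1
  subst hξ₀
  have h := card_le_mul_rank hM y hy (Subgroup.centralizer ({y} : Set G)) rfl ξ₀ hind
    (hbd.trans hd.symm)
  rw [hbd] at h
  have hc : Nat.card B =
      (Finset.univ.filter (fun ψ : Cfsg.IrrCharacter G => ψ ∈ B)).card := by
    rw [Nat.card_eq_fintype_card, ← Fintype.card_subtype]
  rw [hc]
  exact h

end final

end Cfsg.Agent.Lib.Helper77.Ctb
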