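import Cfsg.Agent.Lib.Helper77.FusA

/-!
# Fully normalized subgroups in the fusion system of a block

Conditional on the statement `Concl62` (normalizers in a maximal Brauer pair and defect groups of
the blocks of the stabilizers).
-/

set_option autoImplicit false

universe u

namespace Cfsg.Agent.Lib.Helper77

open Cfsg
open Cfsg.Agent.Lib.Helper81
open Cfsg.Agent.Lib.Helper80
open Cfsg.Agent.S4681 (centConj)

variable {G : Type u} [Group G]

/-- The conclusion of the statement on normalizers inside a maximal Brauer pair. -/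
def Concl62 (p : ℕ) (M : Ideal AlgInt) (P Q : Subgroup G)
    (e : Set (IrrCharacter (Subgroup.centralizer (P : Set G))))
    (f : Set (IrrCharacter (Subgroup.centralizer (Q : Set G)))) (T : Subgroup G) : Prop :=
  (∃ F : Set (IrrCharacter T), IsPBlock M F ∧
      (∀ t : T, blockCoeff F t =
        subgroupBlockCoeff (Subgroup.centralizer (Q : Set G)) f (t : G)) ∧
      ∃ D : Subgroup T, IsDefectGroup p M F D ∧
        (P ⊓ Subgroup.normalizer (Q : Set G)).subgroupOf T ≤ D) ∧
    ∃ x : G, SubpairLE p M (Q.map (MulAut.conj x).toMonoidHom) (conjBlock Q x f) P e ∧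
      ∀ (T' : Subgroup G),
        (∀ y : G, y ∈ T' ↔
          y ∈ Subgroup.normalizer ((Q.map (MulAut.conj x).toMonoidHom) : Set G) ∧
            StabilizesBlock (Subgroup.centralizer ((Q.map (MulAut.conj x).toMonoidHom) : Set G))
              (conjBlock Q x f) y) →
        ∃ F' : Set (IrrCharacter T'), IsPBlock M F' ∧
          (∀ t : T', blockCoeff F' t =
            subgroupBlockCoeff
              (Subgroup.centralizer ((Q.map (MulAut.conj x).toMonoidHom) : Set G))
              (conjBlock Q x f) (t : G)) ∧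
          IsDefectGroup p M F'
            ((P ⊓ Subgroup.normalizer ((Q.map (MulAut.conj x).toMonoidHom) : Set G)).subgroupOf T')

/-- Conjugation by an element of `P` fixes the pair `(P, e)`. -/
theorem conj_self_idx {P : Subgroup G}
    (e : Set (IrrCharacter (Subgroup.centralizer (P : Set G)))) {y : G} (hy : y ∈ P) :
    (⟨P.map (MulAut.conj y).toMonoidHom, conjBlock P y e⟩ : BrauerPairIdx G) = ⟨P, e⟩ := by
  refine brauerPairIdx_ext (map_conj_eq_of_mem_normalizer (Subgroup.le_normalizer hy)) _ _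
    fun ξ' => ?_
  have key : ∀ c : Subgroup.centralizer (P : Set G), y * (c : G) * y⁻¹ = (c : G) := by
    intro c
    have := c.2 y hy
    rw [this, mul_inv_cancel_right]
  constructor
  · rintro ⟨ξ, hξ, hrel⟩
    exact ⟨ξ, hξ, fun c' c hc => hrel c c' (by rw [hc, key])⟩
  · rintro ⟨ξ, hξ, hrel⟩
    exact ⟨ξ, hξ, fun c c' hc => hrel c' c (by rw [hc, key])⟩

theorem mem_centralizer_of_eq {Q' Q : Subgroup G} (h : Q' = Q) {g : G}
    (hg : g ∈ Subgroup.centralizer (Q' : Set G)) : g ∈ Subgroup.centralizer (Q : Set G) := by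
  subst h
  exact hg

/-- Conjugation by an element of `N(Q)` turns `(Q, f)` into `(Q, y·f)`. -/
theorem conj_normalizer_idx {Q : Subgroup G}
    (f : Set (IrrCharacter (Subgroup.centralizer (Q : Set G)))) {y : G}
    (hyN : y ∈ Subgroup.normalizer (Q : Set G)) :
    (⟨Q.map (MulAut.conj y).toMonoidHom, conjBlock Q y f⟩ : BrauerPairIdx G) =
      ⟨Q, cjIrr _ y (Cfsg.Agent.S4691.normalizer_le_normalizer_centralizer' Q hyN) '' f⟩ := by
  refine brauerPairIdx_ext (map_conj_eq_of_mem_normalizer hyN) _ _ fun ξ' => ?_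
  constructor
  · rintro ⟨ξ, hξ, hrel⟩
    refine ⟨cjIrr _ y _ ξ, Set.mem_image_of_mem _ hξ, fun c' c hc => ?_⟩
    rw [cjIrr_apply]
    apply hrel
    rw [coe_conjAut, hc]
    group
  · rintro ⟨_, ⟨ξ, hξ, rfl⟩, hrel⟩
    refine ⟨ξ, hξ, fun c c' hc => ?_⟩
    have hc'mem : (c' : G) ∈ Subgroup.centralizer (Q : Set G) :=
      mem_centralizer_of_eq (map_conj_eq_of_mem_normalizer hyN) c'.2
    rw [hrel c' ⟨c', hc'mem⟩ rfl, cjIrr_apply]
    refine congrArg _ (Subtype.ext ?_)
    rw [coe_conjAut]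
    show y⁻¹ * (c' : G) * y = (c : G)
    rw [hc]
    group

/-- `N_P(Q)` stabilizes the block `f` when `(Q, f) ≤ (P, e)`. -/
theorem stabilizes_of_mem_of_subpairLE [Fintype G] {p : ℕ} [Fact p.Prime] {M : Ideal AlgInt}
    (hpM : IsPModular p M) {P Q : Subgroup G}
    {e : Set (IrrCharacter (Subgroup.centralizer (P : Set G)))}
    {f : Set (IrrCharacter (Subgroup.centralizer (Q : Set G)))}
    (hPe : IsBrauerPair p M P e) (hle : SubpairLE p M Q f P e) {y : G} (hyP : y ∈ P)
    (hyN : y ∈ Subgroup.normalizer (Q : Set G)) :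
    StabilizesBlock (Subgroup.centralizer (Q : Set G)) f y := by
  have hyK := Cfsg.Agent.S4691.normalizer_le_normalizer_centralizer' Q hyN
  have h1 := subpairLE_conj (p := p) (M := M) y hle
  have h4 : SubpairLE p M Q (cjIrr _ y hyK '' f) P e := by
    show Relation.ReflTransGen _ _ _
    rw [← conj_normalizer_idx f hyN, ← conj_self_idx e hyP]
    exact h1
  have h5 := Cfsg.Agent.Lib.Helper52.Subpairs.subpairLE_unique hpM _ P Q e _ f rfl hPe h4 hle
  exact stabilizesBlock_of_image_eq _ hyK h5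

/-- Stabilizers of conjugate pairs are conjugate. -/
theorem stabilizesBlock_conjBlock_iff (Q : Subgroup G) (x g : G)
    (f : Set (IrrCharacter (Subgroup.centralizer (Q : Set G)))) :
    StabilizesBlock (Subgroup.centralizer ((Q.map (MulAut.conj x).toMonoidHom : Subgroup G) : Set G))
        (conjBlock Q x f) (x * g * x⁻¹) ↔
      StabilizesBlock (Subgroup.centralizer (Q : Set G)) f g := by
  have hmem : ∀ k : G, x * k * x⁻¹ ∈ Subgroup.centralizer
      ((Q.map (MulAut.conj x).toMonoidHom : Subgroup G) : Set G) ↔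
      k ∈ Subgroup.centralizer (Q : Set G) := by
    intro k
    rw [mem_centralizer_map_conj_iff]
    have : x⁻¹ * (x * k * x⁻¹) * x = k := by group
    rw [this]
  rw [conjBlock_eq_image]
  constructor
  · rintro ⟨hN, h⟩
    refine ⟨?_, fun χ hχ => ?_⟩
    · rw [Subgroup.mem_normalizer_iff] at hN ⊢
      intro k
      rw [← hmem k, hN (x * k * x⁻¹), ← hmem (g * k * g⁻¹)]
      have : x * g * x⁻¹ * (x * k * x⁻¹) * (x * g * x⁻¹)⁻¹ = x * (g * k * g⁻¹) * x⁻¹ := by group
      rw [this]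
    · obtain ⟨_, ⟨χ₂, hχ₂, rfl⟩, hrel⟩ := h _ (Set.mem_image_of_mem (irrMap (centConj Q x)) hχ)
      refine ⟨χ₂, hχ₂, fun k k' hk => ?_⟩
      have h1 := hrel ((centConj Q x).symm k) ((centConj Q x).symm k') (by
        show x * (k' : G) * x⁻¹ = x * g * x⁻¹ * (x * (k : G) * x⁻¹) * (x * g * x⁻¹)⁻¹
        rw [hk]
        group)
      rw [irrMap_apply, irrMap_apply, MulEquiv.apply_symm_apply, MulEquiv.apply_symm_apply] at h1
      exact h1
  · rintro ⟨hN, h⟩
    refine ⟨?_, ?_⟩
    · rw [Subgroup.mem_normalizer_iff] at hN ⊢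
      intro k'
      have e1 : k' = x * (x⁻¹ * k' * x) * x⁻¹ := by group
      have e2 : x * g * x⁻¹ * k' * (x * g * x⁻¹)⁻¹ = x * (g * (x⁻¹ * k' * x) * g⁻¹) * x⁻¹ := by
        group
      rw [e2, hmem]
      conv_lhs => rw [e1]
      rw [hmem]
      exact hN _
    · rintro _ ⟨χ, hχ, rfl⟩
      obtain ⟨χ₂, hχ₂, hrel⟩ := h χ hχ
      refine ⟨irrMap (centConj Q x) χ₂, Set.mem_image_of_mem _ hχ₂, fun k k' hk => ?_⟩
      rw [irrMap_apply, irrMap_apply]
      apply hrel
      rw [coe_centConj, coe_centConj, hk]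
      group

/-- The conjugation isomorphism between conjugate subgroups. -/
def stabConj {T T' : Subgroup G} (x : G) (h : ∀ y, y ∈ T' ↔ x⁻¹ * y * x ∈ T) : T' ≃* T where
  toFun t := ⟨x⁻¹ * (t : G) * x, (h t).mp t.2⟩
  invFun t := ⟨x * (t : G) * x⁻¹, (h _).mpr (by
    have : x⁻¹ * (x * (t : G) * x⁻¹) * x = (t : G) := by group
    rw [this]
    exact t.2)⟩
  left_inv t := Subtype.ext (by
    show x * (x⁻¹ * (t : G) * x) * x⁻¹ = (t : G)
    group)
  right_inv t := Subtype.ext (by
    show x⁻¹ * (x * (t : G) * x⁻¹) * x = (t : G)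
    group)
  map_mul' a b := Subtype.ext (by
    show x⁻¹ * ((a : G) * (b : G)) * x = x⁻¹ * (a : G) * x * (x⁻¹ * (b : G) * x)
    group)

theorem coe_stabConj {T T' : Subgroup G} (x : G) (h : ∀ y, y ∈ T' ↔ x⁻¹ * y * x ∈ T) (t : T') :
    ((stabConj x h t : T) : G) = x⁻¹ * (t : G) * x := rfl

/-- The stabilizers of `(Q, f)` and of its conjugate by `x` are conjugate by `x`. -/
theorem mem_stab_conj_iff (Q : Subgroup G) (x : G)
    (f : Set (IrrCharacter (Subgroup.centralizer (Q : Set G)))) {T T' : Subgroup G}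
    (hT : ∀ y : G, y ∈ T ↔ y ∈ Subgroup.normalizer (Q : Set G) ∧
      StabilizesBlock (Subgroup.centralizer (Q : Set G)) f y)
    (hT' : ∀ y : G, y ∈ T' ↔
      y ∈ Subgroup.normalizer ((Q.map (MulAut.conj x).toMonoidHom) : Set G) ∧
        StabilizesBlock (Subgroup.centralizer ((Q.map (MulAut.conj x).toMonoidHom) : Set G))
          (conjBlock Q x f) y) (y : G) :
    y ∈ T' ↔ x⁻¹ * y * x ∈ T := by
  rw [hT, hT']
  have e1 : y = x * (x⁻¹ * y * x) * x⁻¹ := by group
  have hN : y ∈ Subgroup.normalizer ((Q.map (MulAut.conj x).toMonoidHom : Subgroup G) : Set G) ↔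
      x⁻¹ * y * x ∈ Subgroup.normalizer (Q : Set G) := by
    rw [← Subgroup.map_equiv_normalizer_eq Q (MulAut.conj x)]
    constructor
    · rintro ⟨n, hn, rfl⟩
      have : x⁻¹ * (MulAut.conj x).toMonoidHom n * x = n := by
        show x⁻¹ * (x * n * x⁻¹) * x = n
        group
      rw [this]
      exact hn
    · intro hn
      exact ⟨x⁻¹ * y * x, hn, e1.symm⟩
  have h3 := stabilizesBlock_conjBlock_iff Q x (x⁻¹ * y * x) f
  rw [← e1] at h3
  rw [hN, h3]

/-- Blocks with the same idempotent coincide. -/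
theorem eq_of_blockCoeff_eq {H : Type u} [Group H] [Finite H] {M : Ideal AlgInt} (hM : M.IsPrime)
    {F₁ F₂ : Set (IrrCharacter H)} (h1 : IsPBlock M F₁) (h2 : IsPBlock M F₂)
    (h : ∀ t, blockCoeff F₁ t = blockCoeff F₂ t) : F₁ = F₂ := by
  classical
  have := Fintype.ofFinite H
  obtain ⟨χ, hχ⟩ := Cfsg.Agent.Lib.Helper52.Subpairs.exists_mem_of_isPBlock hM h1
  have e1 := omega_blockCoeff F₁ χ
  have e2 := omega_blockCoeff F₂ χ
  have hfun : blockCoeff F₁ = blockCoeff F₂ := funext h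
  rw [hfun, e2, if_pos hχ] at e1
  have hχ2 : χ ∈ F₂ := by
    by_contra hcon
    rw [if_neg hcon] at e1
    exact zero_ne_one e1
  exact eq_of_isPBlock_of_mem hM h1 h2 hχ hχ2

section Fusion

variable [Fintype G] {p : ℕ} [Fact p.Prime] {M : Ideal AlgInt} {B : Set (IrrCharacter G)}
  {P : Subgroup G} {e : Set (IrrCharacter (Subgroup.centralizer (P : Set G)))} {F : FusionSystem P}

/-- Defect groups of the stabilizer blocks of conjugate pairs have the same order. -/
theorem card_defect_stab_conj (hpM : IsPModular p M) (Q : Subgroup G) (x : G)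
    (f : Set (IrrCharacter (Subgroup.centralizer (Q : Set G)))) {T T' : Subgroup G}
    (hT : ∀ y : G, y ∈ T ↔ y ∈ Subgroup.normalizer (Q : Set G) ∧
      StabilizesBlock (Subgroup.centralizer (Q : Set G)) f y)
    (hT' : ∀ y : G, y ∈ T' ↔
      y ∈ Subgroup.normalizer ((Q.map (MulAut.conj x).toMonoidHom) : Set G) ∧
        StabilizesBlock (Subgroup.centralizer ((Q.map (MulAut.conj x).toMonoidHom) : Set G))
          (conjBlock Q x f) y)
    {F₁ : Set (IrrCharacter T)} (hF₁ : IsPBlock M F₁)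
    (hF₁c : ∀ t : T, blockCoeff F₁ t =
      subgroupBlockCoeff (Subgroup.centralizer (Q : Set G)) f (t : G))
    {F₂ : Set (IrrCharacter T')} (hF₂ : IsPBlock M F₂)
    (hF₂c : ∀ t : T', blockCoeff F₂ t =
      subgroupBlockCoeff (Subgroup.centralizer ((Q.map (MulAut.conj x).toMonoidHom) : Set G))
        (conjBlock Q x f) (t : G))
    {D₁ : Subgroup T} (hD₁ : IsDefectGroup p M F₁ D₁)
    {D₂ : Subgroup T'} (hD₂ : IsDefectGroup p M F₂ D₂) : Nat.card D₁ = Nat.card D₂ := by
  classical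
  have hM : M.IsPrime := isPrime_of_isPModular hpM
  have := Fintype.ofFinite T
  have := Fintype.ofFinite T'
  obtain ⟨ψ, hψ⟩ : ∃ ψ : T' ≃* T, ψ = stabConj x (mem_stab_conj_iff Q x f hT hT') := ⟨_, rfl⟩
  have hb : IsPBlock M (irrMap ψ '' F₁) := isPBlock_irrMap_image ψ hF₁
  have heq : irrMap ψ '' F₁ = F₂ := by
    refine eq_of_blockCoeff_eq hM hb hF₂ fun t => ?_
    rw [blockCoeff_irrMap_image, hF₁c, hF₂c, subgroupBlockCoeff_conjBlock, hψ, coe_stabConj]
  have h1 := isDefectGroup_irrMap_image ψ hD₁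
  rw [heq] at h1
  obtain ⟨χ₀, hχ₀⟩ := hF₂
  rw [hχ₀] at h1 hD₂
  have h2 := card_eq_of_isDefectGroup hpM χ₀ h1 hD₂
  rw [← h2]
  exact (Nat.card_congr (ψ.toEquiv.subtypeEquiv (fun y => Iff.rfl))).symm

/-- **Fully normalized subgroups.** -/
theorem fullyNormalized_iff (hpM : IsPModular p M) (hF : IsBlockFusionSystemOn p M B P e F)
    (h62 : ∀ (Q : Subgroup G) (f : Set (IrrCharacter (Subgroup.centralizer (Q : Set G)))),
      Q ≤ P → IsPBlock M f → SubpairLE p M Q f P e → ∀ T : Subgroup G,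
        (∀ y : G, y ∈ T ↔ y ∈ Subgroup.normalizer (Q : Set G) ∧
          StabilizesBlock (Subgroup.centralizer (Q : Set G)) f y) → Concl62 p M P Q e f T)
    {Q : Subgroup G} {f : Set (IrrCharacter (Subgroup.centralizer (Q : Set G)))} (hQP : Q ≤ P)
    (hf : IsPBlock M f) (hle : SubpairLE p M Q f P e) (T : Subgroup G)
    (hT : ∀ y : G, y ∈ T ↔ y ∈ Subgroup.normalizer (Q : Set G) ∧
      StabilizesBlock (Subgroup.centralizer (Q : Set G)) f y) :
    F.IsFullyNormalized Q ↔ ∃ F' : Set (IrrCharacter T), IsPBlock M F' ∧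
      (∀ t : T, blockCoeff F' t =
        subgroupBlockCoeff (Subgroup.centralizer (Q : Set G)) f (t : G)) ∧
      IsDefectGroup p M F' ((P ⊓ Subgroup.normalizer (Q : Set G)).subgroupOf T) := by
  classical
  have hM : M.IsPrime := isPrime_of_isPModular hpM
  have hPe : IsBrauerPair p M P e := hF.1.1.1
  -- `N_P(R) ≤ T_R` and the cardinality of `N_P(R)`
  have hcardN : ∀ (R : Subgroup G) (fR : Set (IrrCharacter (Subgroup.centralizer (R : Set G))))
      (TR : Subgroup G), SubpairLE p M R fR P e →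
      (∀ y : G, y ∈ TR ↔ y ∈ Subgroup.normalizer (R : Set G) ∧
        StabilizesBlock (Subgroup.centralizer (R : Set G)) fR y) →
      Nat.card (FusionSystem.normalizerIn P R) =
        Nat.card ((P ⊓ Subgroup.normalizer (R : Set G)).subgroupOf TR) := by
    intro R fR TR hRle hTR
    have hle' : P ⊓ Subgroup.normalizer (R : Set G) ≤ TR := by
      intro y hy
      rw [hTR]
      exact ⟨hy.2, stabilizes_of_mem_of_subpairLE hpM hPe hRle hy.1 hy.2⟩
    exact (Nat.card_congr (Subgroup.subgroupOfEquivOfLe hle').toEquiv).symm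
  constructor
  · rintro ⟨-, hfn⟩
    obtain ⟨⟨F₁, hF₁, hF₁c, D, hD, hND⟩, x, hxle, hx⟩ := h62 Q f hQP hf hle T hT
    have hfx : IsPBlock M (conjBlock Q x f) := by
      rw [conjBlock_eq_image]
      exact isPBlock_irrMap_image _ hf
    obtain ⟨T', hT'def⟩ : ∃ T' : Subgroup G, T' =
        Subgroup.normalizer ((Q.map (MulAut.conj x).toMonoidHom : Subgroup G) : Set G) ⊓
          stabSub (Subgroup.centralizer ((Q.map (MulAut.conj x).toMonoidHom : Subgroup G) : Set G))
            (conjBlock Q x f) := ⟨_, rfl⟩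
    have hT' : ∀ y : G, y ∈ T' ↔
        y ∈ Subgroup.normalizer ((Q.map (MulAut.conj x).toMonoidHom) : Set G) ∧
          StabilizesBlock (Subgroup.centralizer ((Q.map (MulAut.conj x).toMonoidHom) : Set G))
            (conjBlock Q x f) y := by
      intro y
      rw [hT'def, Subgroup.mem_inf, mem_stabSub_iff hM _ hfx]
    obtain ⟨F₂, hF₂, hF₂c, hD₂⟩ := hx T' hT'
    have hconj := isConj_of_subpairLE_conj hF hQP hle hxle
    have h1 := hfn _ hconj
    rw [hcardN _ _ T' hxle hT', hcardN _ _ T hle hT] at h1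
    have h2 := card_defect_stab_conj hpM Q x f hT hT' hF₁ hF₁c hF₂ hF₂c hD hD₂
    have h3 : Nat.card D ≤ Nat.card ((P ⊓ Subgroup.normalizer (Q : Set G)).subgroupOf T) := by
      rw [h2]
      exact h1
    have h4 := Subgroup.eq_of_le_of_card_ge hND h3
    refine ⟨F₁, hF₁, hF₁c, ?_⟩
    rw [h4]
    exact hD
  · rintro ⟨F', hF', hF'c, hdef⟩
    refine ⟨hQP, fun R hR => ?_⟩
    obtain ⟨g, rfl, hgle⟩ := exists_of_isConj hpM hF hle hR
    have hfg : IsPBlock M (conjBlock Q g f) := by
      rw [conjBlock_eq_image]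
      exact isPBlock_irrMap_image _ hf
    have hQg : Q.map (MulAut.conj g).toMonoidHom ≤ P :=
      Cfsg.Agent.Lib.Helper52.Subpairs.le_of_reflTransGen hgle
    obtain ⟨T', hT'def⟩ : ∃ T' : Subgroup G, T' =
        Subgroup.normalizer ((Q.map (MulAut.conj g).toMonoidHom : Subgroup G) : Set G) ⊓
          stabSub (Subgroup.centralizer ((Q.map (MulAut.conj g).toMonoidHom : Subgroup G) : Set G))
            (conjBlock Q g f) := ⟨_, rfl⟩
    have hT' : ∀ y : G, y ∈ T' ↔
        y ∈ Subgroup.normalizer ((Q.map (MulAut.conj g).toMonoidHom) : Set G) ∧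
          StabilizesBlock (Subgroup.centralizer ((Q.map (MulAut.conj g).toMonoidHom) : Set G))
            (conjBlock Q g f) y := by
      intro y
      rw [hT'def, Subgroup.mem_inf, mem_stabSub_iff hM _ hfg]
    obtain ⟨⟨F₂, hF₂, hF₂c, D₂, hD₂, hND₂⟩, -⟩ := h62 _ _ hQg hfg hgle T' hT'
    rw [hcardN _ _ T' hgle hT', hcardN _ _ T hle hT]
    have h2 := card_defect_stab_conj hpM Q g f hT hT' hF' hF'c hF₂ hF₂c hdef hD₂
    rw [h2]
    exact Subgroup.card_le_of_le hND₂

end Fusion

end Cfsg.Agent.Lib.Helper77
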