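import Cfsg.Agent.Lib.Helper77.KfG

/-!
# Klein four defect groups: inertial index one
-/

set_option autoImplicit false

universe u

namespace Cfsg.Agent.Lib.Helper77.Kf

open Cfsg Cfsg.Agent.Lib.Helper75 Cfsg.Agent.Lib.Helper77
open Cfsg.Agent.Lib.Helper52.ConjPairs (conjIdx conjSub)

variable {G : Type u} [Group G]

theorem exists_idx_eq {a : BrauerPairIdx G} {Q : Subgroup G} (h : a.1 = Q) :
    ∃ f : Set (IrrCharacter (Subgroup.centralizer (Q : Set G))), a = ⟨Q, f⟩ := by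
  obtain ⟨Q', f'⟩ := a
  have h' : Q' = Q := h
  subst h'
  exact ⟨f', rfl⟩

theorem conjSub_zpowers (u g : G) :
    conjSub (Subgroup.zpowers u) g = Subgroup.zpowers (g * u * g⁻¹) := by
  show (Subgroup.zpowers u).map (MulAut.conj g).toMonoidHom = _
  rw [MonoidHom.map_zpowers]
  rfl

variable [Fintype G] {M : Ideal AlgInt}

/-- The property tying an involution `u` of `P` to a subsection `s` with `s.1` in a set of
representatives. -/
def Tied (M : Ideal AlgInt) (P : Subgroup G)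
    (c : Set (IrrCharacter (Subgroup.centralizer (P : Set G)))) (u : G)
    (s : Σ x : G, Set (IrrCharacter (Subgroup.centralizer ({x} : Set G)))) : Prop :=
  ∃ (g : G) (f : Set (IrrCharacter (Subgroup.centralizer
      ((Subgroup.zpowers u : Subgroup G) : Set G)))),
    Relation.ReflTransGen (NormalSubpairRel 2 M)
      (⟨Subgroup.zpowers u, f⟩ : BrauerPairIdx G) ⟨P, c⟩ ∧ g * u * g⁻¹ = s.1 ∧
      conjIdx g (⟨Subgroup.zpowers u, f⟩ : BrauerPairIdx G) =
        ⟨Subgroup.zpowers s.1, ofSec s.1 s.2⟩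

theorem exists_tied [Fact (Nat.Prime 2)] (hM : IsPModular 2 M) {B : Set (IrrCharacter G)}
    (hB : IsPBlock M B) {P : Subgroup G}
    {c : Set (IrrCharacter (Subgroup.centralizer (P : Set G)))}
    (hBP : IsBrauerPairOf 2 M B P c) {X : Finset G}
    (hXrep : ∀ g : G, (∃ k : ℕ, orderOf g = 2 ^ k) → ∃! x, x ∈ X ∧ IsConj g x)
    {u : G} (hu : u ∈ P) (hu1 : u ≠ 1) :
    ∃ s : Σ x : G, Set (IrrCharacter (Subgroup.centralizer ({x} : Set G))),
      s.1 ∈ X ∧ s.1 ≠ 1 ∧ IsInducedBlock M (Subgroup.centralizer ({s.1} : Set G)) s.2 B ∧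
        Tied M P c u s := by
  have hQP : Subgroup.zpowers u ≤ P := by
    rw [Subgroup.zpowers_le]
    exact hu
  obtain ⟨f, -, hle⟩ := Cfsg.Agent.Lib.Helper52.Subpairs.exists_subpairLE hM _ P
    (Subgroup.zpowers u) c rfl hBP.1 hQP
  have hfB : IsBrauerPairOf 2 M B (Subgroup.zpowers u) f :=
    (Cfsg.Agent.Lib.Helper52.Subpairs.isBrauerPairOf_iff_of_subpairLE hM hB hle).mp hBP
  have hup : ∃ k : ℕ, orderOf u = 2 ^ k := by
    obtain ⟨k, hk⟩ := IsPGroup.iff_orderOf.mp hBP.1.1 ⟨u, hu⟩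
    exact ⟨k, by rw [← hk, Subgroup.orderOf_mk]⟩
  obtain ⟨x, ⟨hxX, hconj⟩, -⟩ := hXrep u hup
  obtain ⟨g, hg⟩ := isConj_iff.mp hconj
  have hfst : (conjIdx g (⟨Subgroup.zpowers u, f⟩ : BrauerPairIdx G)).1 = Subgroup.zpowers x := by
    show conjSub (Subgroup.zpowers u) g = _
    rw [conjSub_zpowers, hg]
  obtain ⟨f', hf'⟩ := exists_idx_eq hfst
  have hB' : IsBrauerPairOf 2 M B (Subgroup.zpowers x) f' := by
    have h1 := Cfsg.Agent.Lib.Helper52.ConjPairs.isBrauerPairOf_conjIdx (p := 2) (M := M) (B := B)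
      g (a := (⟨Subgroup.zpowers u, f⟩ : BrauerPairIdx G)) hfB
    rw [hf'] at h1
    exact h1
  refine ⟨⟨x, toSec x f'⟩, hxX, ?_, isInducedBlock_toSec_of_isBrauerPairOf hM hB', g, f, hle, hg, ?_⟩
  · intro hx1
    apply hu1
    have hx1' : x = 1 := hx1
    rw [hx1'] at hg
    have := congrArg (fun z => g⁻¹ * z * g) hg
    simpa [mul_assoc] using this
  · show conjIdx g (⟨Subgroup.zpowers u, f⟩ : BrauerPairIdx G) =
      ⟨Subgroup.zpowers x, ofSec x (toSec x f')⟩
    rw [ofSec_toSec]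
    exact hf'

theorem eq_of_tied [Fact (Nat.Prime 2)] (hM : IsPModular 2 M) {B : Set (IrrCharacter G)}
    {P : Subgroup G} {c : Set (IrrCharacter (Subgroup.centralizer (P : Set G)))}
    (hmax : IsMaximalBrauerPair 2 M B P c) (hnil : IsNilpotentBlock 2 M B)
    (hab : ∀ x ∈ P, ∀ y ∈ P, x * y = y * x) {u v : G} (hu : u ∈ P)
    {s : Σ x : G, Set (IrrCharacter (Subgroup.centralizer ({x} : Set G)))}
    (hsu : Tied M P c u s) (hsv : Tied M P c v s) : u = v := by
  obtain ⟨g, f, hle, hg, hidx⟩ := hsu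
  obtain ⟨g', f', hle', hg', hidx'⟩ := hsv
  have h1 : conjIdx (g'⁻¹ * g) (⟨Subgroup.zpowers u, f⟩ : BrauerPairIdx G) =
      ⟨Subgroup.zpowers v, f'⟩ := by
    rw [← Cfsg.Agent.Lib.Helper52.ConjPairs.conjIdx_conjIdx, hidx, ← hidx',
      Cfsg.Agent.Lib.Helper52.ConjPairs.conjIdx_inv_conjIdx]
  obtain ⟨q, hq, hcf⟩ := control_of_fusion hM hmax hnil _
    (⟨Subgroup.zpowers u, f⟩ : BrauerPairIdx G) rfl hle (g'⁻¹ * g) (by rw [h1]; exact hle')
  have h2 := hcf u (Subgroup.mem_zpowers u)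
  have h3 : q * u * q⁻¹ = u := by
    rw [hab q hq u hu, mul_inv_cancel_right]
  rw [h3] at h2
  have h4 : g'⁻¹ * g * u * (g'⁻¹ * g)⁻¹ = g'⁻¹ * (g * u * g⁻¹) * g' := by group
  rw [h4, hg, ← hg'] at h2
  rw [← h2]
  group

/-- **Inertial index one: the block has exactly one irreducible Brauer character.** -/
theorem blockRank_eq_one [Fact (Nat.Prime 2)] (hM : IsPModular 2 M)
    {B : Set (IrrCharacter G)} (hB : IsPBlock M B)
    {P : Subgroup G} {c : Set (IrrCharacter (Subgroup.centralizer (P : Set G)))}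
    (hmax : IsMaximalBrauerPair 2 M B P c) [IsKleinFour P]
    {T : Subgroup G}
    (hT : ∀ g : G, g ∈ T ↔ (g ∈ Subgroup.normalizer (P : Set G) ∧
      StabilizesBlock (Subgroup.centralizer (P : Set G)) c g))
    (h1 : (Subgroup.centralizer (P : Set G)).relIndex T = 1) (hk : Nat.card B = 4) :
    blockRank 2 B = 1 := by
  classical
  have hMp : M.IsPrime := hM.2.1.isPrime
  have hBP := hmax.1
  have hab : ∀ x ∈ P, ∀ y ∈ P, x * y = y * x := by
    intro x hx y hy
    have := mul_comm_of_exponent_two (IsKleinFour.exponent_two (G := P)) ⟨x, hx⟩ ⟨y, hy⟩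
    exact congrArg Subtype.val this
  have hTC : T ≤ Subgroup.centralizer (P : Set G) := Subgroup.relIndex_eq_one.mp h1
  have hnil : IsNilpotentBlock 2 M B :=
    (abelian_nilpotent_iff hM hmax hab).mpr
      (fun x hxN hxst => hTC ((hT x).mpr ⟨hxN, hxst⟩))
  obtain ⟨X, h1X, -, hX, hXrep⟩ := exists_pElement_reps 2 (1 : G)
    ⟨0, by rw [orderOf_one, pow_zero]⟩
  have hcount : Nat.card B = ∑ x' ∈ X, sectionTerm 2 M B x' :=
    Cfsg.Agent.S4511.result 2 M hM B hB X hX hXrep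
  -- three involutions
  obtain ⟨u', hu'1, -⟩ := exists_ne_ne (1 : P)
  obtain ⟨v', hv'1, hv'u⟩ := exists_ne_ne u'
  have hw'1 : u' * v' ≠ 1 := by
    intro h
    apply hv'u
    have h2 : u' * v' = u' * u' := by rw [h, IsKleinFour.mul_self]
    exact (mul_left_cancel h2)
  have hw'u : u' * v' ≠ u' := by
    intro h
    apply hv'1
    have h2 : u' * v' = u' * 1 := by rw [h, mul_one]
    exact mul_left_cancel h2
  have hw'v : u' * v' ≠ v' := by
    intro h
    apply hu'1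
    have h2 : u' * v' = 1 * v' := by rw [h, one_mul]
    exact mul_right_cancel h2
  have hne : ∀ {a b : P}, a ≠ b → (a : G) ≠ (b : G) := fun h h' => h (Subtype.ext h')
  obtain ⟨su, hsuX, hsu1, hsuB, hsuT⟩ := exists_tied hM hB hBP hXrep u'.2
    (fun h => hu'1 (Subtype.ext h))
  obtain ⟨sv, hsvX, hsv1, hsvB, hsvT⟩ := exists_tied hM hB hBP hXrep v'.2
    (fun h => hv'1 (Subtype.ext h))
  obtain ⟨sw, hswX, hsw1, hswB, hswT⟩ := exists_tied hM hB hBP hXrep (u' * v').2
    (fun h => hw'1 (Subtype.ext h))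
  have huv : su ≠ sv := by
    intro h
    rw [h] at hsuT
    exact hne (Ne.symm hv'u) (eq_of_tied hM hmax hnil hab u'.2 hsuT hsvT)
  have huw : su ≠ sw := by
    intro h
    rw [h] at hsuT
    exact hne (Ne.symm hw'u) (eq_of_tied hM hmax hnil hab u'.2 hsuT hswT)
  have hvw : sv ≠ sw := by
    intro h
    rw [h] at hsvT
    exact hne (Ne.symm hw'v) (eq_of_tied hM hmax hnil hab v'.2 hsvT hswT)
  -- the lower bound
  have hlb := sum_blockRank_le 2 M B (X.erase 1) ({su, sv, sw} : Finset _) (by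
    intro s hs
    simp only [Finset.mem_insert, Finset.mem_singleton] at hs
    rcases hs with rfl | rfl | rfl
    · exact ⟨Finset.mem_erase.mpr ⟨hsu1, hsuX⟩, hsuB⟩
    · exact ⟨Finset.mem_erase.mpr ⟨hsv1, hsvX⟩, hsvB⟩
    · exact ⟨Finset.mem_erase.mpr ⟨hsw1, hswX⟩, hswB⟩)
  rw [Finset.sum_insert (by
      simp only [Finset.mem_insert, Finset.mem_singleton, not_or]
      exact ⟨huv, huw⟩), Finset.sum_insert (by
      simp only [Finset.mem_singleton]
      exact hvw), Finset.sum_singleton] at hlb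
  have hpos : ∀ s : Σ x : G, Set (IrrCharacter (Subgroup.centralizer ({x} : Set G))),
      IsInducedBlock M (Subgroup.centralizer ({s.1} : Set G)) s.2 B → 1 ≤ blockRank 2 s.2 := by
    intro s hs
    obtain ⟨ψ, hψ⟩ := hs.1
    have hψs : ψ ∈ s.2 := by rw [hψ]; exact self_mem_blockOf hMp ψ
    exact one_le_blockRank 2 Nat.prime_two hψs
  have hpu := hpos su hsuB
  have hpv := hpos sv hsvB
  have hpw := hpos sw hswB
  have hsec1 : sectionTerm 2 M B 1 = blockRank 2 B :=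
    sectionTerm_central 2 M hM B hB 1 (Subgroup.one_mem _) ⟨0, by rw [orderOf_one, pow_zero]⟩
  rw [← Finset.add_sum_erase X _ h1X, hsec1, hk] at hcount
  obtain ⟨χ, hBχ⟩ := hB
  have hχB : χ ∈ B := by rw [hBχ]; exact self_mem_blockOf hMp χ
  have hB1 := one_le_blockRank 2 Nat.prime_two hχB
  omega

end Cfsg.Agent.Lib.Helper77.Kf
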