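import Cfsg.Agent.Lib.Helper77.BPairA

/-!
# Brauer pairs: the Brauer map on a subgroup `K ≥ C_G(P)` normalized by `P`
-/

set_option autoImplicit false

universe u

namespace Cfsg.Agent.Lib.Helper77

open Cfsg
open Cfsg.Agent.Lib.Helper81
open Cfsg.Agent.Lib.Helper80

variable {G : Type u} [Group G]

open Classical in
/-- Extension by zero of a function on the subgroup `K`. -/
noncomputable def extK (K : Subgroup G) (c : K → ℂ) : G → ℂ :=
  fun g => if h : g ∈ K then c ⟨g, h⟩ else 0

theorem extK_mem {K : Subgroup G} (c : K → ℂ) {g : G} (h : g ∈ K) : extK K c g = c ⟨g, h⟩ :=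
  dif_pos h

theorem extK_coe {K : Subgroup G} (c : K → ℂ) (k : K) : extK K c (k : G) = c k :=
  dif_pos k.2

theorem extK_not_mem {K : Subgroup G} (c : K → ℂ) {g : G} (h : g ∉ K) : extK K c g = 0 :=
  dif_neg h

theorem subgroupBlockCoeff_eq_extK (K : Subgroup G) (f : Set (IrrCharacter K)) :
    subgroupBlockCoeff K f = extK K (blockCoeff f) := by
  funext g
  by_cases h : g ∈ K
  · rw [subgroupBlockCoeff_of_mem _ h, extK_mem _ h]
  · rw [subgroupBlockCoeff_of_not_mem _ h, extK_not_mem _ h]

theorem extK_conv (K : Subgroup G) [Fintype G] [Fintype K] (a b : K → ℂ) :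
    conv (extK K a) (extK K b) = extK K (conv a b) := by
  classical
  funext g
  unfold conv
  rw [← sum_subgroup_eq (H := K) (fun h => extK K a h * extK K b (h⁻¹ * g))
    (fun x hx => by rw [extK_not_mem _ hx, zero_mul])]
  by_cases hg : g ∈ K
  · rw [extK_mem _ hg]
    refine Finset.sum_congr rfl fun k _ => ?_
    rw [extK_coe]
    have : ((k : G))⁻¹ * g = ((k⁻¹ * ⟨g, hg⟩ : K) : G) := by push_cast; rfl
    rw [this, extK_coe]
  · rw [extK_not_mem _ hg]
    refine Finset.sum_eq_zero fun k _ => ?_
    have : ((k : G))⁻¹ * g ∉ K := by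
      intro h'
      apply hg
      have := K.mul_mem k.2 h'
      rwa [mul_inv_cancel_left] at this
    rw [extK_not_mem _ this, mul_zero]

theorem extK_deltaOne (K : Subgroup G) : extK K (deltaOne : K → ℂ) = deltaOne := by
  classical
  funext g
  unfold deltaOne
  by_cases hg : g ∈ K
  · rw [extK_mem _ hg]
    by_cases h1 : g = 1
    · subst h1
      rw [if_pos rfl, if_pos]
      rfl
    · rw [if_neg h1, if_neg]
      intro h'
      exact h1 (congrArg Subtype.val h')
  · rw [extK_not_mem _ hg, if_neg]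
    rintro rfl
    exact hg K.one_mem

/-- Stability of a function on `K` under conjugation by `P`. -/
def KStable (P K : Subgroup G) (c : K → ℂ) : Prop :=
  ∀ q ∈ P, ∀ k k' : K, (k' : G) = q * (k : G) * q⁻¹ → c k' = c k

theorem PS_extK {M : Ideal AlgInt} {P K : Subgroup G}
    (hPK : P ≤ Subgroup.normalizer (K : Set G))
    (hCK : Subgroup.centralizer (P : Set G) ≤ K) {c : K → ℂ} (hc : ZS M c)
    (hM : M.IsPrime) (hst : KStable P K c) : PS M P (extK K c) := by
  refine ⟨fun q hq x => ?_, fun c' hc' x => ?_, fun x => ?_⟩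
  · have hiff := Subgroup.mem_normalizer_iff.mp (hPK hq) x
    by_cases hx : x ∈ K
    · rw [extK_mem _ hx, extK_mem _ (hiff.mp hx)]
      exact hst q hq ⟨x, hx⟩ ⟨q * x * q⁻¹, hiff.mp hx⟩ rfl
    · rw [extK_not_mem _ hx, extK_not_mem _ (fun h' => hx (hiff.mpr h'))]
  · have hcK : c' ∈ K := hCK hc'
    by_cases hx : x ∈ K
    · have hx' : c' * x * c'⁻¹ ∈ K := K.mul_mem (K.mul_mem hcK hx) (K.inv_mem hcK)
      rw [extK_mem _ hx, extK_mem _ hx']
      exact hc.1 ⟨x, hx⟩ ⟨c', hcK⟩
    · have hx' : c' * x * c'⁻¹ ∉ K := by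
        intro h'
        apply hx
        have := K.mul_mem (K.mul_mem (K.inv_mem hcK) h') hcK
        have e : c'⁻¹ * (c' * x * c'⁻¹) * c' = x := by group
        rwa [e] at this
      rw [extK_not_mem _ hx, extK_not_mem _ hx']
  · by_cases hx : x ∈ K
    · rw [extK_mem _ hx]; exact hc.2 _
    · rw [extK_not_mem _ hx]; exact memLocalRing_zero hM

theorem KStable_of_PS_extK {M : Ideal AlgInt} {P K : Subgroup G} {c : K → ℂ}
    (h : PS M P (extK K c)) : KStable P K c := by
  intro q hq k k' hk
  have := h.stable q hq (k : G)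
  rw [← hk, extK_coe, extK_coe] at this
  exact this

/-- Restriction to `C_G(P)` of a function on `K ≥ C_G(P)`. -/
def resC {P K : Subgroup G} (hCK : Subgroup.centralizer (P : Set G) ≤ K) (c : K → ℂ) :
    Subgroup.centralizer (P : Set G) → ℂ :=
  fun x => c (Subgroup.inclusion hCK x)

theorem brRes_extK {P K : Subgroup G} (hCK : Subgroup.centralizer (P : Set G) ≤ K)
    (c : K → ℂ) : brRes P (Subgroup.centralizer (P : Set G)) (extK K c) = resC hCK c := by
  funext x
  rw [brRes_pos _ x.2, extK_mem _ (hCK x.2)]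
  rfl

theorem resC_ZS {M : Ideal AlgInt} {P K : Subgroup G}
    (hCK : Subgroup.centralizer (P : Set G) ≤ K) {c : K → ℂ} (hc : ZS M c) :
    ZS M (resC hCK c) := by
  refine ⟨fun h k => ?_, fun h => hc.2 _⟩
  unfold resC
  rw [map_mul, map_mul, map_inv]
  exact hc.1 _ _

section

variable [Fintype G] {p : ℕ} [Fact p.Prime] {M : Ideal AlgInt}

theorem KStable.conv {P K : Subgroup G} [Fintype K] (hM : M.IsPrime)
    (hPK : P ≤ Subgroup.normalizer (K : Set G))
    (hCK : Subgroup.centralizer (P : Set G) ≤ K) {c c' : K → ℂ} (hc : ZS M c) (hc' : ZS M c')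
    (hst : KStable P K c) (hst' : KStable P K c') : KStable P K (Helper77.conv c c') := by
  have h1 := PS.convPS hM (PS_extK hPK hCK hc hM hst) (PS_extK hPK hCK hc' hM hst')
  rw [extK_conv] at h1
  exact KStable_of_PS_extK h1

omit [Fintype G] in
theorem KStable.deltaOne (P K : Subgroup G) : KStable P K (deltaOne : K → ℂ) := by
  classical
  intro q _ k k' hk
  unfold Helper77.deltaOne
  by_cases h1 : k = 1
  · subst h1
    have : k' = 1 := by
      apply Subtype.ext
      rw [hk]
      simp
    rw [this]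
  · rw [if_neg h1, if_neg]
    rintro rfl
    apply h1
    apply Subtype.ext
    have h2 : (1 : G) = q * (k : G) * q⁻¹ := hk
    have h3 : (k : G) = q⁻¹ * (q * (k : G) * q⁻¹) * q := by group
    rw [h3, ← h2]
    simp

theorem KStable.convPow {P K : Subgroup G} [Fintype K] (hM : M.IsPrime)
    (hPK : P ≤ Subgroup.normalizer (K : Set G))
    (hCK : Subgroup.centralizer (P : Set G) ≤ K) {c : K → ℂ} (hc : ZS M c)
    (hst : KStable P K c) (n : ℕ) : KStable P K (Helper77.convPow c n) := by
  induction n with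
  | zero => exact KStable.deltaOne P K
  | succ n ih => exact KStable.conv hM hPK hCK (ZS.convPow hM hc n) hc ih hst

/-- Multiplicativity of the Brauer central character on `P`-stable class functions of `K`. -/
theorem lam_mul (hpM : IsPModular p M) {P K : Subgroup G} [Fintype K]
    [Fintype (Subgroup.centralizer (P : Set G))] (hP : IsPGroup p P)
    (hPK : P ≤ Subgroup.normalizer (K : Set G))
    (hCK : Subgroup.centralizer (P : Set G) ≤ K) {c c' : K → ℂ} (hc : ZS M c) (hc' : ZS M c')
    (hst : KStable P K c) (hst' : KStable P K c')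
    {ξ : Subgroup.centralizer (P : Set G) → ℂ}
    (hξ : IsIrrCharacter (Subgroup.centralizer (P : Set G)) ξ) :
    MemLocalIdeal M (omega ξ (resC hCK (Helper77.conv c c')) -
      omega ξ (resC hCK c) * omega ξ (resC hCK c')) := by
  have hM : M.IsPrime := isPrime_of_isPModular hpM
  have h1 := PS.omega_brRes_conv hpM hP (PS_extK hPK hCK hc hM hst)
    (PS_extK hPK hCK hc' hM hst') hξ
  rw [extK_conv, brRes_extK hCK, brRes_extK hCK, brRes_extK hCK] at h1
  exact h1

theorem lam_convPow (hpM : IsPModular p M) {P K : Subgroup G} [Fintype K]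
    [Fintype (Subgroup.centralizer (P : Set G))] (hP : IsPGroup p P)
    (hPK : P ≤ Subgroup.normalizer (K : Set G))
    (hCK : Subgroup.centralizer (P : Set G) ≤ K) {c : K → ℂ} (hc : ZS M c)
    (hst : KStable P K c)
    {ξ : Subgroup.centralizer (P : Set G) → ℂ}
    (hξ : IsIrrCharacter (Subgroup.centralizer (P : Set G)) ξ) (n : ℕ) :
    MemLocalIdeal M (omega ξ (resC hCK (Helper77.convPow c n)) - omega ξ (resC hCK c) ^ n) := by
  have hM : M.IsPrime := isPrime_of_isPModular hpM
  induction n with
  | zero =>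
    rw [convPow_zero, pow_zero]
    have : resC hCK (deltaOne : K → ℂ) = deltaOne := by
      rw [← brRes_extK hCK, extK_deltaOne, brRes_deltaOne]
    rw [this, omega_deltaOne _ (irr_one_ne_zero hξ), sub_self]
    exact memLocalIdeal_zero hM
  | succ n ih =>
    rw [convPow_succ, pow_succ]
    have h1 := lam_mul hpM hP hPK hCK (ZS.convPow hM hc n) hc
      (KStable.convPow hM hPK hCK hc hst n) hst hξ
    refine cong_trans hM h1 ?_
    have hr1 := memLocalRing_omega hM hξ (resC_ZS hCK hc).1 (resC_ZS hCK hc).2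
    refine cong_mul hM hr1 ?_ ih ?_
    · exact memLocalRing_pow hM hr1 n
    · rw [sub_self]; exact memLocalIdeal_zero hM

end

end Cfsg.Agent.Lib.Helper77
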