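import Cfsg.Agent.Lib.Helper77.GroupMat
import Cfsg.Agent.Lib.Helper16.LocalS
import Cfsg.Agent.Lib.Helper81.PSection

/-!
# The vanishing of the trace of a two-sided translation on `e RG e'` over the local ring at `M`
-/

set_option autoImplicit false
set_option linter.unusedSectionVars false

universe u

namespace Cfsg.Agent.Lib.Helper77.IdemTrace

open Matrix Cfsg Cfsg.Agent.Lib.Helper77 Cfsg.Agent.Lib.Helper81 Cfsg.Agent.Lib.Helper16

variable {M : Ideal AlgInt}

instance instIsLocalRingLocalSubring (hM : M.IsPrime) : IsLocalRing (localSubring M hM) :=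
  isLocalRing_localSubring hM

theorem mem_maximalIdeal_iff (hM : M.IsPrime) (a : localSubring M hM) :
    a ∈ IsLocalRing.maximalIdeal (localSubring M hM) ↔ MemLocalIdeal M (a : ℂ) := by
  rw [IsLocalRing.mem_maximalIdeal, mem_nonunits_iff]
  constructor
  · intro h
    by_contra h'
    exact h (isUnit_of_not_memLocalIdeal hM a h')
  · intro h
    exact not_isUnit_of_memLocalIdeal hM a h

/-- A primitive `p`-th root of unity in the local ring, congruent to one. -/
theorem exists_root {p : ℕ} (hpM : IsPModular p M) :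
    ∃ ω ω' : localSubring M (isPrime_of_isPModular hpM), ω ≠ 1 ∧ ω ^ p = 1 ∧ ω * ω' = 1 ∧
      ω - 1 ∈ IsLocalRing.maximalIdeal (localSubring M (isPrime_of_isPModular hpM)) ∧
      ω' - 1 ∈ IsLocalRing.maximalIdeal (localSubring M (isPrime_of_isPModular hpM)) := by
  have hM := isPrime_of_isPModular hpM
  have hp : p.Prime := hpM.1
  set ζ₀ : ℂ := Complex.exp (2 * Real.pi * Complex.I / p) with hζ₀
  have hprim : IsPrimitiveRoot ζ₀ p := Complex.isPrimitiveRoot_exp p hp.pos.ne'
  have hprim' : IsPrimitiveRoot ζ₀⁻¹ p := hprim.inv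
  have hint : IsIntegral ℤ ζ₀ :=
    IsIntegral.of_pow hp.pos (by rw [hprim.pow_eq_one]; exact isIntegral_one)
  have hint' : IsIntegral ℤ ζ₀⁻¹ :=
    IsIntegral.of_pow hp.pos (by rw [hprim'.pow_eq_one]; exact isIntegral_one)
  have hζ0 : ζ₀ ≠ 0 := hprim.ne_zero hp.pos.ne'
  refine ⟨⟨ζ₀, memLocalRing_algInt hM ⟨ζ₀, hint⟩⟩, ⟨ζ₀⁻¹, memLocalRing_algInt hM ⟨ζ₀⁻¹, hint'⟩⟩,
    ?_, ?_, ?_, ?_, ?_⟩
  · intro h
    have h1 : ζ₀ = 1 := congrArg Subtype.val h
    exact hprim.ne_one hp.one_lt h1
  · apply Subtype.ext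
    simp [hprim.pow_eq_one]
  · apply Subtype.ext
    simp [mul_inv_cancel₀ hζ0]
  · rw [mem_maximalIdeal_iff]
    have := memLocalIdeal_sub_one_of_pow_pow_eq_one hpM ζ₀ 1 (by rw [pow_one, hprim.pow_eq_one])
    simpa using this
  · rw [mem_maximalIdeal_iff]
    have := memLocalIdeal_sub_one_of_pow_pow_eq_one hpM ζ₀⁻¹ 1
      (by rw [pow_one, hprim'.pow_eq_one])
    simpa using this

variable {G : Type u} [Group G] [Fintype G] [DecidableEq G]

/-- The core vanishing statement for two-sided translations. -/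
theorem sum_twoSided_eq_zero {p : ℕ} [Fact p.Prime] (hpM : IsPModular p M)
    (f f' : G → localSubring M (isPrime_of_isPModular hpM))
    (hf : cv f f = f) (hf' : cv f' f' = f') (h g : G)
    (hfh : ∀ t, f (h * t * h⁻¹) = f t) (hf'g : ∀ t, f' (g⁻¹ * t * g) = f' t)
    {K r N : ℕ} (hcard : Nat.card G = p ^ K * r) (hrN : r ∣ N) (n : ℕ)
    (hcorner : Small ((cornerMat (fun a => (twoSided h g ^ N) a = a) * (lam f * rho f') *
      cornerMat (fun a => (twoSided h g ^ N) a = a)) ^ n)) :
    ∑ a, (lam f * rho f') (twoSided h g a) a = 0 := by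
  have hM := isPrime_of_isPModular hpM
  have hp : p.Prime := Fact.out
  set w := twoSided h g with hw
  have hn : w ^ (p ^ K * r) = 1 := twoSided_pow_card h g (hcard ▸ dvd_rfl)
  obtain ⟨d, hd⟩ := exists_degree_of_pow w hp hn hrN
  obtain ⟨ω, ω', hω1, hωp, hωω', hωm, hω'm⟩ := exists_root hpM
  have hwc : ∀ a, (w ^ N) (w a) = w a ↔ (w ^ N) a = a := by
    intro a
    have : (w ^ N) (w a) = w ((w ^ N) a) := by
      rw [← Equiv.Perm.mul_apply, ← Equiv.Perm.mul_apply, ← pow_succ, ← pow_succ']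
    rw [this]
    exact w.injective.eq_iff
  have hP : lam f * rho f' * (lam f * rho f') = lam f * rho f' := by
    calc lam f * rho f' * (lam f * rho f') = lam f * (rho f' * lam f) * rho f' := by
          simp only [mul_assoc]
      _ = lam f * lam f * (rho f' * rho f') := by
          rw [← lam_rho_comm]; simp only [mul_assoc]
      _ = lam f * rho f' := by rw [lam_mul, rho_mul, hf, hf']
  have hWL : permMat w * lam f = lam f * permMat w :=
    permMat_comm (fun i j => lam_equivariant hfh g i j)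
  have hWR : permMat w * rho f' = rho f' * permMat w :=
    permMat_comm (fun i j => rho_equivariant hf'g h i j)
  have hWP : permMat w * (lam f * rho f') = lam f * rho f' * permMat w := by
    rw [← mul_assoc, hWL, mul_assoc, hWR, mul_assoc]
  have hsm : ∀ m : ℕ, ω ^ m - 1 ∈
      IsLocalRing.maximalIdeal (localSubring M (isPrime_of_isPModular hpM)) := by
    intro m
    obtain ⟨c, hc⟩ := sub_one_dvd_pow_sub_one ω m
    rw [hc]
    exact Ideal.mul_mem_right _ _ hωm
  have hsm' : ∀ m : ℕ, ω' ^ m - 1 ∈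
      IsLocalRing.maximalIdeal (localSubring M (isPrime_of_isPModular hpM)) := by
    intro m
    obtain ⟨c, hc⟩ := sub_one_dvd_pow_sub_one ω' m
    rw [hc]
    exact Ideal.mul_mem_right _ _ hω'm
  refine trace_permMat_mul_idem_eq_zero hω1 w (fun a => (w ^ N) a = a) hwc
    (fun a => ω ^ d a) (fun a => ω' ^ d a) ?_ ?_ ?_ hP (apply_of_permMat_comm hWP) n hcorner
  · intro a
    rw [← mul_pow, hωω', one_pow]
  · intro a a'
    have : ω ^ d a * ω' ^ d a' - 1 = ω ^ d a * (ω' ^ d a' - 1) + (ω ^ d a - 1) := by ring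
    rw [this]
    exact Ideal.add_mem _ (Ideal.mul_mem_left _ _ (hsm' _)) (hsm _)
  · intro a ha
    show ω ^ d (w a) = ω * ω ^ d a
    rw [pow_eq_pow_of_modEq (hd a ha) hωp, pow_succ']

end Cfsg.Agent.Lib.Helper77.IdemTrace
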