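import Cfsg.Agent.Lib.Helper77.NilB
import Cfsg.Agent.S4661

/-!
# Local blocks of nilpotent blocks
-/

set_option autoImplicit false

universe u

namespace Cfsg.Agent.Lib.Helper77

open Cfsg
open Cfsg.Agent.Lib.Helper81
open Cfsg.Agent.Lib.Helper80
open Cfsg.Agent.Lib.Helper52.ConjPairs (conjIdx conjSub)
open scoped Pointwise

variable {G : Type u} [Group G]

theorem mem_centralizer_sup_iff {A C : Subgroup G} {y : G} :
    y ∈ Subgroup.centralizer ((A ⊔ C : Subgroup G) : Set G) ↔
      y ∈ Subgroup.centralizer (A : Set G) ∧ y ∈ Subgroup.centralizer (C : Set G) := by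
  constructor
  · intro h
    exact ⟨Subgroup.centralizer_le (show (A : Set G) ⊆ ((A ⊔ C : Subgroup G) : Set G) from
        fun _ hz => Subgroup.mem_sup_left hz) h,
      Subgroup.centralizer_le (show (C : Set G) ⊆ ((A ⊔ C : Subgroup G) : Set G) from
        fun _ hz => Subgroup.mem_sup_right hz) h⟩
  · rintro ⟨hA, hC⟩
    have hle : A ⊔ C ≤ Subgroup.centralizer ({y} : Set G) := by
      refine sup_le ?_ ?_
      · intro a ha
        rw [Subgroup.mem_centralizer_iff]
        intro z hz
        rw [Set.mem_singleton_iff] at hz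
        rw [hz]
        exact (hA a ha).symm
      · intro a ha
        rw [Subgroup.mem_centralizer_iff]
        intro z hz
        rw [Set.mem_singleton_iff] at hz
        rw [hz]
        exact (hC a ha).symm
    intro d hd
    have := (Subgroup.mem_centralizer_iff.mp (hle hd)) y (Set.mem_singleton y)
    exact this.symm

/-- The centralizer of `R'` in `C_G(Q)` is `C_G(Q R')`. -/
def cSup (Q : Subgroup G) (R' : Subgroup (Subgroup.centralizer (Q : Set G))) :
    Subgroup.centralizer (R' : Set (Subgroup.centralizer (Q : Set G))) ≃*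
      Subgroup.centralizer
        ((Q ⊔ R'.map (Subgroup.centralizer (Q : Set G)).subtype : Subgroup G) : Set G) where
  toFun y := ⟨((y : Subgroup.centralizer (Q : Set G)) : G), by
    rw [mem_centralizer_sup_iff]
    refine ⟨(y : Subgroup.centralizer (Q : Set G)).2, ?_⟩
    rintro _ ⟨r, hr, rfl⟩
    have := (Subgroup.mem_centralizer_iff.mp y.2) r hr
    exact congrArg Subtype.val this⟩
  invFun x := ⟨⟨(x : G), (mem_centralizer_sup_iff.mp x.2).1⟩, by
    rw [Subgroup.mem_centralizer_iff]
    intro r hr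
    apply Subtype.ext
    exact (mem_centralizer_sup_iff.mp x.2).2 (r : G) ⟨r, hr, rfl⟩⟩
  left_inv y := rfl
  right_inv x := rfl
  map_mul' a b := rfl

theorem coe_cSup (Q : Subgroup G) (R' : Subgroup (Subgroup.centralizer (Q : Set G)))
    (y : Subgroup.centralizer (R' : Set (Subgroup.centralizer (Q : Set G)))) :
    ((cSup Q R' y : Subgroup.centralizer
        ((Q ⊔ R'.map (Subgroup.centralizer (Q : Set G)).subtype : Subgroup G) : Set G)) : G) =
      ((y : Subgroup.centralizer (Q : Set G)) : G) := rfl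

theorem coe_cSup_symm (Q : Subgroup G) (R' : Subgroup (Subgroup.centralizer (Q : Set G)))
    (x : Subgroup.centralizer
        ((Q ⊔ R'.map (Subgroup.centralizer (Q : Set G)).subtype : Subgroup G) : Set G)) :
    ((((cSup Q R').symm x : Subgroup.centralizer (R' : Set (Subgroup.centralizer (Q : Set G)))) :
      Subgroup.centralizer (Q : Set G)) : G) = (x : G) := rfl

variable [Fintype G] {p : ℕ} [Fact p.Prime] {M : Ideal AlgInt}

/-- A Brauer pair `(R', h)` of the block `f` of `C_G(Q)` gives a normal subpair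
`(Q, f) ⊴ (Q R', h)` of `G`. -/
theorem isNormalSubpair_sup_of_isBrauerPairOf (hpM : IsPModular p M) {Q : Subgroup G}
    {f : Set (IrrCharacter (Subgroup.centralizer (Q : Set G)))} (hQf : IsBrauerPair p M Q f)
    {R' : Subgroup (Subgroup.centralizer (Q : Set G))}
    {h : Set (IrrCharacter (Subgroup.centralizer (R' : Set (Subgroup.centralizer (Q : Set G)))))}
    (hR : IsBrauerPairOf p M f R' h) :
    IsNormalSubpair p M Q f (Q ⊔ R'.map (Subgroup.centralizer (Q : Set G)).subtype)
      (irrMap (cSup Q R').symm '' h) := by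
  classical
  have hM : M.IsPrime := isPrime_of_isPModular hpM
  have := Fintype.ofFinite (Subgroup.centralizer (Q : Set G))
  have hRC : R'.map (Subgroup.centralizer (Q : Set G)).subtype ≤
      Subgroup.centralizer (Q : Set G) := by
    rintro _ ⟨r, -, rfl⟩
    exact r.2
  have hRN : R'.map (Subgroup.centralizer (Q : Set G)).subtype ≤
      Subgroup.normalizer (Q : Set G) :=
    hRC.trans (Subgroup.centralizer_le_normalizer _)
  have hRp : IsPGroup p (R'.map (Subgroup.centralizer (Q : Set G)).subtype) := hR.1.1.map _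
  have hDp : IsPGroup p
      (Q ⊔ R'.map (Subgroup.centralizer (Q : Set G)).subtype : Subgroup G) := by
    have h1 : IsPGroup p
        (R'.map (Subgroup.centralizer (Q : Set G)).subtype ⊔ Q : Subgroup G) :=
      IsPGroup.to_sup_of_normal_right' hRp hQf.1 hRN
    rwa [sup_comm] at h1
  refine ⟨hQf, ⟨hDp, isPBlock_irrMap_image _ hR.1.2⟩, le_sup_left,
    sup_le Subgroup.le_normalizer hRN, ?_, ?_⟩
  · have hle : Q ⊔ R'.map (Subgroup.centralizer (Q : Set G)).subtype ≤
        stabSub (Subgroup.centralizer (Q : Set G)) f := by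
      refine sup_le ?_ ?_
      · intro z hz
        rw [mem_stabSub_iff hM _ hQf.2]
        exact stabilizesBlock_of_mem_self Q f hz
      · intro z hz
        rw [mem_stabSub_iff hM _ hQf.2]
        exact stabilizesBlock_of_mem _ f (hRC hz)
    intro x hx
    exact (mem_stabSub_iff hM _ hQf.2).mp (hle hx)
  · rintro _ ⟨ξ, hξ, rfl⟩
    have h1 := hR.2.2 ξ hξ
    have e1 : brauerOmega (Q ⊔ R'.map (Subgroup.centralizer (Q : Set G)).subtype)
        (subgroupBlockCoeff (Subgroup.centralizer (Q : Set G)) f)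
        (irrMap (cSup Q R').symm ξ : _ → ℂ) =
        brauerOmega R' (blockCoeff f)
          (ξ : Subgroup.centralizer (R' : Set (Subgroup.centralizer (Q : Set G))) → ℂ) := by
      unfold brauerOmega
      symm
      refine finsum_eq_of_bijective (cSup Q R') (cSup Q R').bijective fun y => ?_
      rw [irrMap_apply, irrMap_apply, map_one, MulEquiv.symm_apply_apply, coe_cSup,
        subgroupBlockCoeff_of_mem _ (y : Subgroup.centralizer (Q : Set G)).2]
    rw [e1]
    exact h1

/-- Transport of the stabilizing condition along `cSup`. -/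
theorem stabilizesBlock_cSup {Q : Subgroup G}
    {R' : Subgroup (Subgroup.centralizer (Q : Set G))}
    {h : Set (IrrCharacter (Subgroup.centralizer (R' : Set (Subgroup.centralizer (Q : Set G)))))}
    {x : Subgroup.centralizer (Q : Set G)}
    (hxN : (x : G) ∈ Subgroup.normalizer ((Subgroup.centralizer
      ((Q ⊔ R'.map (Subgroup.centralizer (Q : Set G)).subtype : Subgroup G) : Set G) :
        Subgroup G) : Set G))
    (hst : StabilizesBlock
      (Subgroup.centralizer (R' : Set (Subgroup.centralizer (Q : Set G)))) h x) :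
    StabilizesBlock (Subgroup.centralizer
        ((Q ⊔ R'.map (Subgroup.centralizer (Q : Set G)).subtype : Subgroup G) : Set G))
      (irrMap (cSup Q R').symm '' h) (x : G) := by
  refine ⟨hxN, ?_⟩
  rintro _ ⟨χ₀, hχ₀, rfl⟩
  obtain ⟨χ₀', hχ₀', hconj⟩ := hst.2 χ₀ hχ₀
  refine ⟨irrMap (cSup Q R').symm χ₀', ⟨χ₀', hχ₀', rfl⟩, ?_⟩
  intro k k' hk
  rw [irrMap_apply, irrMap_apply]
  apply hconj
  apply Subtype.ext
  push_cast
  rw [coe_cSup_symm, coe_cSup_symm]
  exact hk

/-- **Local blocks of a nilpotent block are nilpotent.** -/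
theorem nilpotent_local (hpM : IsPModular p M) {B : Set (IrrCharacter G)}
    (hnil : IsNilpotentBlock p M B) {Q : Subgroup G}
    {f : Set (IrrCharacter (Subgroup.centralizer (Q : Set G)))}
    (hQf : IsBrauerPairOf p M B Q f) : IsNilpotentBlock p M f := by
  classical
  refine ⟨hQf.1.2, fun R' h hR x hxN hxst hreg => ?_⟩
  have hNS := isNormalSubpair_sup_of_isBrauerPairOf hpM hQf.1 hR
  have hDB := isBrauerPairOf_of_isNormalSubpair hpM hNS hQf
  have hxND : (x : G) ∈ Subgroup.normalizer
      ((Q ⊔ R'.map (Subgroup.centralizer (Q : Set G)).subtype : Subgroup G) : Set G) := by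
    rw [Subgroup.mem_normalizer_iff_map_conj_eq, Subgroup.map_sup]
    congr 1
    · exact Subgroup.mem_normalizer_iff_map_conj_eq.mp
        (Subgroup.centralizer_le_normalizer _ x.2)
    · ext z
      constructor
      · rintro ⟨_, ⟨r, hr, rfl⟩, rfl⟩
        refine ⟨x * r * x⁻¹, (Subgroup.mem_normalizer_iff.mp hxN r).mp hr, ?_⟩
        simp [MulAut.conj_apply]
      · rintro ⟨r, hr, rfl⟩
        refine ⟨((x⁻¹ * r * x : Subgroup.centralizer (Q : Set G)) : G),
          ⟨x⁻¹ * r * x, ?_, rfl⟩, ?_⟩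
        · have := (Subgroup.mem_normalizer_iff.mp (Subgroup.inv_mem _ hxN) r).mp hr
          simpa using this
        · simp [MulAut.conj_apply, mul_assoc]
  have hxNC := Cfsg.Agent.S4691.normalizer_le_normalizer_centralizer' _ hxND
  have hst' := stabilizesBlock_cSup hxNC hxst
  have hreg' : IsPRegular p (x : G) := by
    unfold IsPRegular at hreg ⊢
    rwa [Subgroup.orderOf_coe]
  have hxC := hnil.2 _ _ hDB (x : G) hxND hst' hreg'
  rw [Subgroup.mem_centralizer_iff]
  intro r hr
  apply Subtype.ext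
  exact (mem_centralizer_sup_iff.mp hxC).2 (r : G) ⟨r, hr, rfl⟩

/-- **In a nilpotent block, `C_P(Q)` is a defect group of `f` for every `(Q, f) ≤ (P, e)`.** -/
theorem defect_local (hpM : IsPModular p M) {B : Set (IrrCharacter G)}
    {P : Subgroup G} {e : Set (IrrCharacter (Subgroup.centralizer (P : Set G)))}
    (hmax : IsMaximalBrauerPair p M B P e) (hnil : IsNilpotentBlock p M B) {Q : Subgroup G}
    {f : Set (IrrCharacter (Subgroup.centralizer (Q : Set G)))}
    (hle : SubpairLE p M Q f P e) :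
    IsDefectGroup p M f ((P ⊓ Subgroup.centralizer (Q : Set G)).subgroupOf
      (Subgroup.centralizer (Q : Set G))) := by
  classical
  have := Fintype.ofFinite (Subgroup.centralizer (Q : Set G))
  have hPe : IsBrauerPair p M P e := hmax.1.1
  have hf : IsPBlock M f := isPBlock_of_subpairLE hPe.2 hle
  have hQP : Q ≤ P := Cfsg.Agent.Lib.Helper52.Subpairs.le_of_reflTransGen hle
  obtain ⟨x, hxle, hxD⟩ := Cfsg.Agent.S4661.part2 hpM hmax hQP hf hle
  obtain ⟨u, hu, hcong⟩ := control_of_fusion hpM hmax hnil _ ⟨Q, f⟩ rfl hle x hxle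
  have hPR : (conjSub P x⁻¹).map (MulAut.conj x).toMonoidHom = P := by
    ext z
    rw [Cfsg.Agent.Lib.Helper52.ConjPairs.mem_conjSub,
      Cfsg.Agent.Lib.Helper52.ConjPairs.mem_conjSub, inv_inv]
    have e1 : x * (x⁻¹ * z * x) * x⁻¹ = z := by group
    rw [e1]
  rw [← hPR] at hxD
  have hD := isDefectGroup_of_conjBlock x hxD
  have hcC : u⁻¹ * x ∈ Subgroup.centralizer (Q : Set G) := by
    intro q hq
    have h1 := hcong q hq
    have h2 : u⁻¹ * x * q = u⁻¹ * (x * q * x⁻¹) * x := by group
    rw [h2, h1]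
    group
  have hD' := isDefectGroup_conj hD (⟨u⁻¹ * x, hcC⟩ : Subgroup.centralizer (Q : Set G))
  have heq : MulAut.conj (⟨u⁻¹ * x, hcC⟩ : Subgroup.centralizer (Q : Set G)) •
      ((conjSub P x⁻¹ ⊓ Subgroup.centralizer (Q : Set G)).subgroupOf
        (Subgroup.centralizer (Q : Set G))) =
      (P ⊓ Subgroup.centralizer (Q : Set G)).subgroupOf (Subgroup.centralizer (Q : Set G)) := by
    ext z
    rw [Subgroup.mem_pointwise_smul_iff_inv_smul_mem, Subgroup.mem_subgroupOf,
      Subgroup.mem_subgroupOf, Subgroup.mem_inf, Subgroup.mem_inf,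
      Cfsg.Agent.Lib.Helper52.ConjPairs.mem_conjSub, inv_inv]
    have e1 : (((MulAut.conj (⟨u⁻¹ * x, hcC⟩ : Subgroup.centralizer (Q : Set G)))⁻¹ • z :
        Subgroup.centralizer (Q : Set G)) : G) = (u⁻¹ * x)⁻¹ * (z : G) * (u⁻¹ * x) := by
      rw [MulAut.smul_def, MulAut.conj_inv_apply]
      rfl
    rw [e1]
    have e2 : x * ((u⁻¹ * x)⁻¹ * (z : G) * (u⁻¹ * x)) * x⁻¹ = u * (z : G) * u⁻¹ := by group
    rw [e2]
    constructor
    · rintro ⟨h1, -⟩
      refine ⟨?_, z.2⟩
      have h2 := P.mul_mem (P.mul_mem (P.inv_mem hu) h1) hu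
      have e3 : u⁻¹ * (u * (z : G) * u⁻¹) * u = (z : G) := by group
      rwa [e3] at h2
    · rintro ⟨h1, -⟩
      refine ⟨P.mul_mem (P.mul_mem hu h1) (P.inv_mem hu), ?_⟩
      exact Subgroup.mul_mem _ (Subgroup.mul_mem _ (Subgroup.inv_mem _ hcC) z.2) hcC
  rw [heq] at hD'
  exact hD'

end Cfsg.Agent.Lib.Helper77
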