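import Cfsg.Agent.Lib.Helper77.Brauer
import Cfsg.Agent.Lib.Helper77.Lambda

set_option autoImplicit false

universe u

namespace Cfsg.Agent.Lib.Helper77

open Cfsg
open Cfsg.Agent.Lib.Helper81
open Cfsg.Agent.Lib.Helper80

variable {G : Type u} [Group G]

open Classical in
/-- The Brauer map on coefficient functions: restrict to the centralizer of `P` (as a function on
`H`, extended by zero). -/
noncomputable def brRes (P H : Subgroup G) (a : G → ℂ) : H → ℂ :=
  fun h => if (h : G) ∈ Subgroup.centralizer (P : Set G) then a h else 0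

theorem brRes_pos {P H : Subgroup G} (a : G → ℂ) {h : H}
    (hc : (h : G) ∈ Subgroup.centralizer (P : Set G)) : brRes P H a h = a h := if_pos hc

theorem brRes_neg {P H : Subgroup G} (a : G → ℂ) {h : H}
    (hc : (h : G) ∉ Subgroup.centralizer (P : Set G)) : brRes P H a h = 0 := if_neg hc

theorem brRes_add (P H : Subgroup G) (a b : G → ℂ) :
    brRes P H (a + b) = brRes P H a + brRes P H b := by
  funext h
  by_cases hc : (h : G) ∈ Subgroup.centralizer (P : Set G)
  · rw [Pi.add_apply, brRes_pos _ hc, brRes_pos _ hc, brRes_pos _ hc, Pi.add_apply]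
  · rw [Pi.add_apply, brRes_neg _ hc, brRes_neg _ hc, brRes_neg _ hc, add_zero]

theorem brRes_smul (P H : Subgroup G) (s : ℂ) (a : G → ℂ) :
    brRes P H (fun g => s * a g) = fun h => s * brRes P H a h := by
  funext h
  by_cases hc : (h : G) ∈ Subgroup.centralizer (P : Set G)
  · rw [brRes_pos _ hc, brRes_pos _ hc]
  · rw [brRes_neg _ hc, brRes_neg _ hc, mul_zero]

theorem brRes_deltaOne (P H : Subgroup G) : brRes P H deltaOne = deltaOne := by
  classical
  funext h
  unfold deltaOne
  by_cases h1 : h = 1
  · subst h1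
    rw [brRes_pos _ (by simp), if_pos rfl, if_pos (by simp)]
  · rw [if_neg h1]
    by_cases hc : (h : G) ∈ Subgroup.centralizer (P : Set G)
    · rw [brRes_pos _ hc, if_neg]
      intro h'
      exact h1 (Subtype.ext h')
    · rw [brRes_neg _ hc]

theorem brRes_classInd (P H : Subgroup G) (g : G) :
    brRes P H (classInd g) = brauerClassFn P H g := by
  classical
  funext h
  unfold brauerClassFn
  by_cases hc : (h : G) ∈ Subgroup.centralizer (P : Set G)
  · rw [brRes_pos _ hc]
    unfold classInd
    by_cases hg : IsConj g (h : G)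
    · rw [if_pos hg, if_pos ⟨hg, hc⟩]
    · rw [if_neg hg, if_neg (fun h' => hg h'.1)]
  · rw [brRes_neg _ hc, if_neg (fun h' => hc h'.2)]

theorem brRes_isClassFunction (P H : Subgroup G) (hHN : H ≤ Subgroup.normalizer (P : Set G))
    {a : G → ℂ} (ha : IsClassFunction G a) : IsClassFunction H (brRes P H a) := by
  intro h k
  have h2 : ((k * h * k⁻¹ : H) : G) ∈ Subgroup.centralizer (P : Set G) ↔
      (h : G) ∈ Subgroup.centralizer (P : Set G) := by
    push_cast
    exact conj_mem_centralizer_iff (hHN k.2)
  by_cases hc : (h : G) ∈ Subgroup.centralizer (P : Set G)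
  · rw [brRes_pos _ hc, brRes_pos _ (h2.mpr hc)]
    push_cast
    exact ha _ _
  · rw [brRes_neg _ hc, brRes_neg _ (fun h' => hc (h2.mp h'))]

theorem brRes_ZS {M : Ideal AlgInt} (hM : M.IsPrime) (P H : Subgroup G)
    (hHN : H ≤ Subgroup.normalizer (P : Set G)) {a : G → ℂ} (ha : ZS M a) :
    ZS M (brRes P H a) := by
  refine ⟨brRes_isClassFunction P H hHN ha.1, fun h => ?_⟩
  by_cases hc : (h : G) ∈ Subgroup.centralizer (P : Set G)
  · rw [brRes_pos _ hc]; exact ha.2 _
  · rw [brRes_neg _ hc]; exact memLocalRing_zero hM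

theorem sum_subgroup_eq {H : Subgroup G} [Fintype G] [Fintype H] (F : G → ℂ)
    (hF : ∀ x, x ∉ H → F x = 0) : ∑ k : H, F (k : G) = ∑ x : G, F x := by
  classical
  rw [← Finset.sum_subtype (Finset.univ.filter (fun x : G => x ∈ H)) (by simp) F]
  refine Finset.sum_filter_of_ne ?_
  intro x _ hx
  by_contra hxH
  exact hx (hF x hxH)

/-- The Brauer map is multiplicative modulo the local ideal. -/
theorem memLocalIdeal_brRes_conv {p : ℕ} [Fact p.Prime] {M : Ideal AlgInt}
    (hpM : IsPModular p M) (P H : Subgroup G) [Fintype G] [Fintype H] (hP : IsPGroup p P)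
    (hCH : Subgroup.centralizer (P : Set G) ≤ H) {a b : G → ℂ} (ha : ZS M a) (hb : ZS M b)
    (h : H) :
    MemLocalIdeal M (brRes P H (conv a b) h - conv (brRes P H a) (brRes P H b) h) := by
  classical
  have hM : M.IsPrime := isPrime_of_isPModular hpM
  by_cases hc : (h : G) ∈ Subgroup.centralizer (P : Set G)
  · rw [brRes_pos _ hc]
    have h1 : conv (brRes P H a) (brRes P H b) h =
        ∑ x : G, if x ∈ Subgroup.centralizer (P : Set G) then a x * b (x⁻¹ * h) else 0 := by
      unfold conv
      rw [← sum_subgroup_eq (H := H)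
        (fun x => if x ∈ Subgroup.centralizer (P : Set G) then a x * b (x⁻¹ * h) else 0)
        (fun x hx => if_neg (fun hx' => hx (hCH hx')))]
      refine Finset.sum_congr rfl fun k _ => ?_
      by_cases hk : (k : G) ∈ Subgroup.centralizer (P : Set G)
      · have hk' : ((k⁻¹ * h : H) : G) ∈ Subgroup.centralizer (P : Set G) := by
          push_cast
          exact Subgroup.mul_mem _ (Subgroup.inv_mem _ hk) hc
        rw [brRes_pos _ hk, brRes_pos _ hk', if_pos hk]
        push_cast
        rfl
      · rw [brRes_neg _ hk, if_neg hk, zero_mul]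
    have h2 : conv a b (h : G) - conv (brRes P H a) (brRes P H b) h =
        ∑ x : G, if x ∈ Subgroup.centralizer (P : Set G) then 0 else a x * b (x⁻¹ * h) := by
      rw [h1]
      unfold conv
      rw [← Finset.sum_sub_distrib]
      refine Finset.sum_congr rfl fun x _ => ?_
      by_cases hx : x ∈ Subgroup.centralizer (P : Set G)
      · rw [if_pos hx, if_pos hx, sub_self]
      · rw [if_neg hx, if_neg hx, sub_zero]
    rw [h2]
    let := conjActionOf P
    refine pgroup_sum_mem (Q := P) (X := G) hP hpM _ ?_ ?_ ?_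
    · intro q x
      show (if (q : G) * x * (q : G)⁻¹ ∈ Subgroup.centralizer (P : Set G) then 0
        else a ((q : G) * x * (q : G)⁻¹) * b (((q : G) * x * (q : G)⁻¹)⁻¹ * h)) =
        if x ∈ Subgroup.centralizer (P : Set G) then 0 else a x * b (x⁻¹ * h)
      have hqN : (q : G) ∈ Subgroup.normalizer (P : Set G) := Subgroup.le_normalizer q.2
      have hiff := conj_mem_centralizer_iff (h := x) hqN
      have hqh : (q : G) * h = h * q := (Subgroup.mem_centralizer_iff.mp hc) q q.2
      have e1 : ((q : G) * x * (q : G)⁻¹)⁻¹ * (h : G) = (q : G) * (x⁻¹ * h) * (q : G)⁻¹ := by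
        have : (h : G) = (q : G) * h * (q : G)⁻¹ := by rw [hqh]; group
        conv_lhs => rw [this]
        group
      by_cases hx : x ∈ Subgroup.centralizer (P : Set G)
      · rw [if_pos hx, if_pos (hiff.mpr hx)]
      · rw [if_neg hx, if_neg (fun h' => hx (hiff.mp h')), e1, ha.1, hb.1]
    · intro x
      split_ifs
      · exact memLocalRing_zero hM
      · exact memLocalRing_mul hM (ha.2 _) (hb.2 _)
    · intro x hx
      have hxc : x ∈ Subgroup.centralizer (P : Set G) := by
        rw [Subgroup.mem_centralizer_iff]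
        intro q hq
        have h3 : q * x * q⁻¹ = x := hx ⟨q, hq⟩
        calc q * x = q * x * q⁻¹ * q := by group
          _ = x * q := by rw [h3]
      rw [if_pos hxc]
      exact memLocalIdeal_zero hM
  · rw [brRes_neg _ hc]
    have h1 : conv (brRes P H a) (brRes P H b) h = 0 := by
      unfold conv
      refine Finset.sum_eq_zero fun k _ => ?_
      by_cases hk : (k : G) ∈ Subgroup.centralizer (P : Set G)
      · have hk' : ((k⁻¹ * h : H) : G) ∉ Subgroup.centralizer (P : Set G) := by
          push_cast
          intro h'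
          apply hc
          have := Subgroup.mul_mem _ hk h'
          rwa [mul_inv_cancel_left] at this
        rw [brRes_neg _ hk', mul_zero]
      · rw [brRes_neg _ hk, zero_mul]
    rw [h1, sub_self]
    exact memLocalIdeal_zero hM

end Cfsg.Agent.Lib.Helper77
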