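import Cfsg.Agent.Lib.Helper77.Radical2
import Cfsg.Agent.Lib.Helper77.InducedOmega
import Cfsg.Agent.Lib.Helper77.InducedBlock2
import Cfsg.Agent.Lib.Helper77.ExtFirstMain

set_option autoImplicit false

universe u

namespace Cfsg.Agent.Lib.Helper77

open Cfsg
open Cfsg.Agent.Lib.Helper81
open Cfsg.Agent.Lib.Helper80

variable {G : Type u} [Group G] [Fintype G]

omit [Fintype G] in
/-- Restriction and Brauer truncation have congruent central character values on
`P C_G(P) ≤ H ≤ N_G(P)`. -/
theorem memLocalIdeal_omega_restrict_sub_brRes {p : ℕ} [Fact p.Prime] {M : Ideal AlgInt}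
    (hpM : IsPModular p M) (P H : Subgroup G) [Fintype H] (hP : IsPGroup p P) (hPH : P ≤ H)
    (hHN : H ≤ Subgroup.normalizer (P : Set G)) {ξ : H → ℂ} (hξ : IsIrrCharacter H ξ)
    {a : G → ℂ} (ha : ZS M a) :
    MemLocalIdeal M (omega ξ (fun h : H => a h) - omega ξ (brRes P H a)) := by
  classical
  have hM : M.IsPrime := isPrime_of_isPModular hpM
  rw [← omega_sub]
  have hN : (P.subgroupOf H).Normal := Subgroup.normal_subgroupOf_of_le_normalizer hHN
  have hNp : IsPGroup p (P.subgroupOf H) := hP.comap_subtype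
  have hres : ZS M (fun h : H => a h) := by
    refine ⟨fun h k => ?_, fun h => ha.2 _⟩
    show a ((k * h * k⁻¹ : H) : G) = a h
    push_cast
    exact ha.1 _ _
  have hZ := ZS.sub hM hres (brRes_ZS hM P H hHN ha)
  refine memLocalIdeal_omega_of_forall hM hξ hZ.1 hZ.2 ?_
  intro h
  by_cases hc : (h : G) ∈ Subgroup.centralizer (P : Set G)
  · left
    show MemLocalIdeal M (a h - brRes P H a h)
    rw [brRes_pos _ hc, sub_self]
    exact memLocalIdeal_zero hM
  · right
    refine memLocalIdeal_centralChar_of_not_mem_centralizer hpM (P.subgroupOf H) hNp ?_ hξ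
    intro hcon
    apply hc
    rw [Subgroup.mem_centralizer_iff] at hcon ⊢
    intro x hx
    have := hcon ⟨x, hPH hx⟩ (show (⟨x, hPH hx⟩ : H) ∈ P.subgroupOf H from hx)
    exact congrArg Subtype.val this

/-- If `b` induces `B` then the central character of `ξ ∈ b` composed with the Brauer truncation
agrees with the central character of `χ ∈ B`, modulo the local ideal. -/
theorem memLocalIdeal_omega_brRes_sub {p : ℕ} [Fact p.Prime] {M : Ideal AlgInt}
    (hpM : IsPModular p M) (P H : Subgroup G) [Fintype H] (hP : IsPGroup p P) (hPH : P ≤ H)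
    (hHN : H ≤ Subgroup.normalizer (P : Set G)) {b : Set (IrrCharacter H)}
    {B : Set (IrrCharacter G)} (hind : IsInducedBlock M H b B) {ξ : IrrCharacter H} (hξ : ξ ∈ b)
    {χ : IrrCharacter G} (hχ : χ ∈ B) {a : G → ℂ} (ha : ZS M a) :
    MemLocalIdeal M (omega (ξ : H → ℂ) (brRes P H a) - omega (χ : G → ℂ) a) := by
  have hM : M.IsPrime := isPrime_of_isPModular hpM
  have h1 := memLocalIdeal_omega_restrict_sub_brRes hpM P H hP hPH hHN ξ.2 ha
  have h2 := memLocalIdeal_omega_restrict_sub hM H hind hξ hχ ha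
  exact cong_trans hM (cong_symm h1) h2

/-- **Brauer image of a block idempotent.** If `β` is the only block of `H` inducing `B`
(`P C_G(P) ≤ H ≤ N_G(P)`), then the Brauer truncation of the idempotent of `B` is congruent to
the idempotent of `β`. -/
theorem memLocalIdeal_brRes_blockCoeff_sub {p : ℕ} [Fact p.Prime] {M : Ideal AlgInt}
    (hpM : IsPModular p M) (P H : Subgroup G) [Fintype H] (hP : IsPGroup p P) (hPH : P ≤ H)
    (hCH : Subgroup.centralizer (P : Set G) ≤ H)
    (hHN : H ≤ Subgroup.normalizer (P : Set G)) {β : Set (IrrCharacter H)}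
    {B : Set (IrrCharacter G)} (hind : IsInducedBlock M H β B)
    (huniq : ∀ ψ : IrrCharacter H, IsInducedBlock M H (blockOf M (ψ : H → ℂ)) B → ψ ∈ β)
    (k : H) : MemLocalIdeal M (brRes P H (blockCoeff B) k - blockCoeff β k) := by
  classical
  have hM : M.IsPrime := isPrime_of_isPModular hpM
  obtain ⟨ψ₀, hβ⟩ := hind.1
  obtain ⟨χ₀, hB⟩ := hind.2.1
  have heB : ZS M (blockCoeff B) := by rw [hB]; exact ZS.blockCoeff hpM χ₀
  have ha : ZS M (brRes P H (blockCoeff B)) := brRes_ZS hM P H hHN heB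
  have hf : ZS M (blockCoeff β) := by rw [hβ]; exact ZS.blockCoeff hpM ψ₀
  refine memLocalIdeal_sub_of_idempotent_of_omega hpM ha hf ?_ ?_ ?_ k
  · intro g
    have h1 := memLocalIdeal_brRes_conv hpM P H hP hCH heB heB g
    rw [conv_blockCoeff_self] at h1
    have := memLocalIdeal_neg h1
    rwa [neg_sub] at this
  · intro g
    rw [conv_blockCoeff_self, sub_self]
    exact memLocalIdeal_zero hM
  · intro ψ
    obtain ⟨χψ, hχψ⟩ := exists_isInducedBlock hpM P H hP hPH hCH hHN ψ
    have hψmem : ψ ∈ blockOf M (ψ : H → ℂ) := sameBlock_refl hM _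
    have hχmem : χψ ∈ blockOf M (χψ : G → ℂ) := sameBlock_refl hM _
    have h1 := memLocalIdeal_omega_brRes_sub hpM P H hP hPH hHN hχψ hψmem hχmem heB
    rw [omega_blockCoeff]
    rw [omega_blockCoeff] at h1
    by_cases hc : χψ ∈ B
    · rw [if_pos hc] at h1
      have hBeq : blockOf M (χψ : G → ℂ) = B := by
        rw [hB] at hc ⊢
        exact blockOf_eq_of_mem hM hc
      rw [hBeq] at hχψ
      rw [if_pos (huniq ψ hχψ)]
      exact h1
    · rw [if_neg hc] at h1
      have hψβ : ψ ∉ β := by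
        intro hψ
        apply hc
        have hβeq : blockOf M (ψ : H → ℂ) = β := by
          rw [hβ] at hψ ⊢
          exact blockOf_eq_of_mem hM hψ
        rw [hβeq] at hχψ
        rw [isInducedBlock_unique hM hind hχψ]
        exact hχmem
      rw [if_neg hψβ]
      exact h1

/-- A block whose idempotent agrees on `C_G(P)`, modulo the local ideal, with that of a block `B`
induced from `H` (`P C_G(P) ≤ H ≤ N_G(P)`) equals `B`. -/
theorem eq_of_blockCoeff_cong {p : ℕ} [Fact p.Prime] {M : Ideal AlgInt}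
    (hpM : IsPModular p M) (P H : Subgroup G) [Fintype H] (hP : IsPGroup p P) (hPH : P ≤ H)
    (hHN : H ≤ Subgroup.normalizer (P : Set G)) {β : Set (IrrCharacter H)}
    {B B' : Set (IrrCharacter G)} (hind : IsInducedBlock M H β B) (hB' : IsPBlock M B')
    (hcong : ∀ x : G, x ∈ Subgroup.centralizer (P : Set G) →
      MemLocalIdeal M (blockCoeff B' x - blockCoeff B x)) : B' = B := by
  classical
  have hM : M.IsPrime := isPrime_of_isPModular hpM
  obtain ⟨ψ₀, hβ⟩ := hind.1
  obtain ⟨χ₀, hB⟩ := hind.2.1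
  obtain ⟨χ₀', hB'eq⟩ := hB'
  have hψ₀ : ψ₀ ∈ β := by rw [hβ]; exact sameBlock_refl hM _
  have hχ₀ : χ₀ ∈ B := by rw [hB]; exact sameBlock_refl hM _
  have heB : ZS M (blockCoeff B) := by rw [hB]; exact ZS.blockCoeff hpM χ₀
  have heB' : ZS M (blockCoeff B') := by rw [hB'eq]; exact ZS.blockCoeff hpM χ₀'
  have hE1 := memLocalIdeal_omega_brRes_sub hpM P H hP hPH hHN hind hψ₀ hχ₀ heB'
  have hE2 := memLocalIdeal_omega_brRes_sub hpM P H hP hPH hHN hind hψ₀ hχ₀ heB
  have hd : MemLocalIdeal M (omega (ψ₀ : H → ℂ) (brRes P H (blockCoeff B')) -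
      omega (ψ₀ : H → ℂ) (brRes P H (blockCoeff B))) := by
    rw [← omega_sub]
    have hZ := ZS.sub hM (brRes_ZS hM P H hHN heB') (brRes_ZS hM P H hHN heB)
    refine memLocalIdeal_omega_of_forall hM ψ₀.2 hZ.1 hZ.2 (fun h => Or.inl ?_)
    show MemLocalIdeal M (brRes P H (blockCoeff B') h - brRes P H (blockCoeff B) h)
    by_cases hc : (h : G) ∈ Subgroup.centralizer (P : Set G)
    · rw [brRes_pos _ hc, brRes_pos _ hc]
      exact hcong _ hc
    · rw [brRes_neg _ hc, brRes_neg _ hc, sub_self]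
      exact memLocalIdeal_zero hM
  rw [omega_blockCoeff] at hE1 hE2
  rw [if_pos hχ₀] at hE2
  by_cases hc : χ₀ ∈ B'
  · rw [hB'eq] at hc ⊢
    rw [hB]
    exact (blockOf_eq_of_mem hM hc).symm
  · exfalso
    rw [if_neg hc, sub_zero] at hE1
    have h1 := memLocalIdeal_sub hM hE1 hd
    rw [sub_sub_cancel] at h1
    have h2 := memLocalIdeal_sub hM h1 hE2
    rw [sub_sub_cancel] at h2
    exact not_memLocalIdeal_one hM h2

end Cfsg.Agent.Lib.Helper77
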