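import Cfsg.Agent.Lib.Helper16.OsimaExact

/-!
# Characters of projective modules vanish on `p`-singular elements (idempotent form)

For ANY (not necessarily central) idempotent `ε` of the group ring `S[G]`, `S` the local ring at a
`p`-modular ideal `M`, given by its coefficient function `ε : G → S`, and any `p`-singular `y`:
`∑ g, ε (g * y * g⁻¹) = 0`.  (This sum is the trace of `y` on the projective module `S[G] ε`.)

Variant of `Cfsg.Agent.Lib.Helper16.sum_eq_zero_of_isLocalRing` / `sum_blockCoeff_eq_zero`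
with `x = 1`, where centrality of the idempotent is not needed.
-/

set_option autoImplicit false
set_option linter.unusedSectionVars false

namespace Cfsg.Agent.Lib.Helper77.Pim

open Cfsg Cfsg.Agent.Lib.Helper77 Cfsg.Agent.Lib.Helper81 Cfsg.Agent.Lib.Helper16
open MonoidAlgebra
open scoped IsMulCommutative

section Generic

variable {S : Type*} [CommRing S] {G : Type*} [Group G] [Fintype G] [DecidableEq G]
  {Q : Type*} [CommGroup Q] [Fintype Q] [DecidableEq Q] {T : Type*} [Fintype T] [DecidableEq T]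

/-- right translation commutes with left multiplication by any group ring element -/
theorem pim_opW_one_comm_opE (e : G → S) (y : G) : Commute (opW S (1 : G) y) (opE e) := by
  refine LinearMap.ext fun φ => funext fun g => ?_
  simp only [Module.End.mul_apply, opE_apply, opW_apply]
  refine Finset.sum_congr rfl fun h _ => ?_
  congr 2
  group

variable (j : Q →* G) (τ : G ≃ T × Q)

/-- The core vanishing statement, non-central idempotent, `x = 1`. -/
theorem pim_sum_eq_zero_of_isLocalRing [IsLocalRing (MonoidAlgebra S Q)]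
    (hτ : ∀ g c, τ (g * j c) = ((τ g).1, (τ g).2 * c))
    {e : G → S}
    (he2 : ∀ g : G, ∑ h : G, e h * e (h⁻¹ * g) = e g)
    {y : G} {r : ℕ} (hr : 0 < r) (hy : y ^ r = 1)
    (hyQ : ∀ c : Q, y * (j c)⁻¹ = (j c)⁻¹ * y)
    {ζ θ ρ : S} (hζθ : ζ * θ = 1) (hρ : (r : S) * ρ = 1) (hθ : θ ^ r = 1)
    (horth : ∀ i, 0 < i → i < r → ∑ k ∈ Finset.range r, (θ ^ i) ^ k = 0)
    {c : Q} (hc : c ≠ 1) :
    ∑ g : G, e ((1 : G)⁻¹ * (g * (j c)⁻¹) * y * g⁻¹) = 0 := by
  rw [← trace_opR_opW_opE]
  set E' := liftEnd j τ hτ (opE e) (fun c => opE_comm_opR e _) with hE'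
  set W' := liftEnd j τ hτ (opW S (1 : G) y) (fun c => opW_comm_opR (hyQ c)) with hW'
  have hE'idem : IsIdempotentElem E' := by
    refine LinearMap.ext fun v => ?_
    rw [Module.End.mul_apply, hE', liftEnd_apply, liftEnd_apply, LinearEquiv.apply_symm_apply]
    have := congrArg (fun F : Module.End S (G → S) => F (thetaEquiv S τ v)) (opE_idem he2).eq
    simp only [Module.End.mul_apply] at this
    rw [this]
  have hWE : Commute W' E' := by
    refine LinearMap.ext fun v => ?_
    rw [Module.End.mul_apply, Module.End.mul_apply, hE', hW', liftEnd_apply, liftEnd_apply,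
      liftEnd_apply, liftEnd_apply, LinearEquiv.apply_symm_apply, LinearEquiv.apply_symm_apply]
    have := congrArg (fun F : Module.End S (G → S) => F (thetaEquiv S τ v))
      (pim_opW_one_comm_opE e y).eq
    simp only [Module.End.mul_apply] at this
    rw [this]
  have hW'r : W' ^ r = 1 := by
    refine LinearMap.ext fun v => ?_
    rw [hW', liftEnd_pow_apply, opW_pow_eq_one (one_pow r) hy]
    simp
  have key := trace_smul_mul_idem_eq_zero hE'idem hWE hr hW'r hζθ hρ hθ horth hc
  have hconj : ((LinearMap.lsmul (MonoidAlgebra S Q) (T → MonoidAlgebra S Q)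
      (MonoidAlgebra.of S Q c)).comp (W' * E')).restrictScalars S =
      (thetaEquiv S τ).symm.conj (opR S (j c)⁻¹ * opW S (1 : G) y * opE e) := by
    refine LinearMap.ext fun v => ?_
    rw [LinearEquiv.conj_apply]
    simp only [LinearMap.coe_restrictScalars, LinearMap.coe_comp, Function.comp_apply,
      LinearMap.lsmul_apply, Module.End.mul_apply, LinearEquiv.coe_coe, LinearEquiv.symm_symm]
    rw [hE', hW', liftEnd_apply, liftEnd_apply, LinearEquiv.apply_symm_apply]
    apply (thetaEquiv S τ).injective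
    rw [thetaEquiv_of_smul j τ hτ, LinearEquiv.apply_symm_apply, LinearEquiv.apply_symm_apply]
  rw [hconj, LinearMap.trace_conj'] at key
  exact key

end Generic

universe u

variable {G : Type u} [Group G] [Fintype G]

/-- **Projective characters vanish on `p`-singular elements.**  For any idempotent `ε` of the
group ring of `G` over the local ring at `M` (coefficient function `ε`, idempotent for
convolution) and any `p`-singular `y`: `∑ g, ε (g * y * g⁻¹) = 0`. -/
theorem pim_vanish {p : ℕ} [Fact p.Prime] {M : Ideal AlgInt} (hpM : IsPModular p M)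
    (hM : M.IsPrime) (ε : G → localSubring M hM)
    (hidem : ∀ g : G, ∑ h : G, ε h * ε (h⁻¹ * g) = ε g)
    {y : G} (hy : p ∣ orderOf y) :
    ∑ g : G, ((ε (g * y * g⁻¹) : localSubring M hM) : ℂ) = 0 := by
  classical
  have hp : p.Prime := Fact.out
  obtain ⟨u, y', a, m, huy, hu, hy', hu1, hua, hy'm, hpm, hm0⟩ :=
    exists_p_decomp y (orderOf_pos y).ne' hy
  -- the local ring
  let S := localSubring M hM
  have hloc : IsLocalRing S := isLocalRing_localSubring hM
  -- the cyclic p-group
  let Q := Subgroup.zpowers u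
  have hQfin : Fintype Q := Fintype.ofFinite Q
  have hQp : IsPGroup p Q := by
    rintro ⟨c, hc⟩
    obtain ⟨k, rfl⟩ := Subgroup.mem_zpowers_iff.mp hc
    refine ⟨a, Subtype.ext ?_⟩
    simp only [SubmonoidClass.mk_pow, OneMemClass.coe_one]
    rw [← zpow_natCast, ← zpow_mul, mul_comm, zpow_mul, zpow_natCast, hua, one_zpow]
  have hlocR : IsLocalRing (MonoidAlgebra S Q) :=
    isLocalRing_monoidAlgebra p (natCast_mem_maximalIdeal hpM) hQp
  -- the transversal
  obtain ⟨T₀, hT₀, -⟩ := Subgroup.exists_isComplement_left Q (1 : G)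
  let σ : T₀ × Q ≃ G := Equiv.ofBijective _ hT₀
  have hσ : ∀ t c, σ (t, c) = (t : G) * (c : G) := fun t c => rfl
  let τ : G ≃ T₀ × Q := σ.symm
  have hT₀fin : Fintype T₀ := Fintype.ofFinite T₀
  have hτ : ∀ (g : G) (c : Q), τ (g * Q.subtype c) = ((τ g).1, (τ g).2 * c) := by
    intro g c
    apply σ.injective
    rw [Equiv.apply_symm_apply, hσ]
    have : g = ((τ g).1 : G) * ((τ g).2 : G) := by
      rw [← hσ, Prod.mk.eta, Equiv.apply_symm_apply]
    conv_lhs => rw [this]
    simp [mul_assoc]
  -- the order of the p'-part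
  have hyr : y' ^ m = 1 := hy'm
  have hcomm : ∀ c : Q, y' * (Q.subtype c)⁻¹ = (Q.subtype c)⁻¹ * y' := by
    rintro ⟨c, hc⟩
    obtain ⟨k, rfl⟩ := Subgroup.mem_zpowers_iff.mp hc
    obtain ⟨k1, rfl⟩ := Subgroup.mem_zpowers_iff.mp hu
    obtain ⟨k2, rfl⟩ := Subgroup.mem_zpowers_iff.mp hy'
    simp only [Subgroup.subtype_apply]
    rw [← zpow_mul, ← zpow_neg, ← zpow_add, ← zpow_add, add_comm]
  obtain ⟨ζ, θ, ρ, h1, h2, h3, h4⟩ := exists_roots hpM hm0 hpm
  let c₀ : Q := ⟨u, Subgroup.mem_zpowers u⟩
  have hc₀ : c₀⁻¹ ≠ 1 := by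
    intro h
    apply hu1
    have := inv_eq_one.mp h
    exact congrArg Subtype.val this
  have key := pim_sum_eq_zero_of_isLocalRing (S := S) Q.subtype τ hτ (e := ε) hidem hm0 hyr hcomm h1
    (by simpa using h2) h3 h4 hc₀
  have key2 := congrArg (Subtype.val) key
  simp only [AddSubmonoidClass.coe_finsetSum, ZeroMemClass.coe_zero] at key2
  rw [← key2]
  refine Finset.sum_congr rfl fun g _ => ?_
  congr 2
  simp only [map_inv, inv_inv, Subgroup.subtype_apply, c₀]
  rw [← huy]
  group

/-- `MonoidAlgebra` form of `pim_vanish`. -/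
theorem pim_vanish_monoidAlgebra {p : ℕ} [Fact p.Prime] {M : Ideal AlgInt} (hpM : IsPModular p M)
    (hM : M.IsPrime) (ε : MonoidAlgebra (localSubring M hM) G) (hε : ε * ε = ε)
    {y : G} (hy : p ∣ orderOf y) :
    ∑ g : G, ((ε.coeff (g * y * g⁻¹) : localSubring M hM) : ℂ) = 0 := by
  classical
  apply pim_vanish hpM hM (fun g => ε.coeff g) _ hy
  intro g
  have h1 : (ε * ε).coeff g = ε.coeff g := by rw [hε]
  rw [MonoidAlgebra.coeff_mul_apply_left] at h1
  rw [← h1, Finsupp.sum_fintype]
  intro i
  simp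

end Cfsg.Agent.Lib.Helper77.Pim
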