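import Cfsg.Agent.Lib.Helper77.AbLocal
import Cfsg.Agent.Lib.Helper77.LTransC
import Cfsg.Agent.Lib.Helper77.ExtFirstMain

/-!
# Free inertial action and nilpotent local blocks (abelian defect groups)
-/

set_option autoImplicit false

universe u

namespace Cfsg.Agent.Lib.Helper77

open Cfsg
open Cfsg.Agent.Lib.Helper81
open Cfsg.Agent.Lib.Helper80
open scoped Pointwise

variable {G : Type u} [Group G]

/-- An element of `N_{C(Q)}(R')` normalizes `Q R'`. -/
theorem coe_mem_normalizer_sup {Q : Subgroup G} {R' : Subgroup (Subgroup.centralizer (Q : Set G))}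
    {x : Subgroup.centralizer (Q : Set G)}
    (hxN : x ∈ Subgroup.normalizer (R' : Set (Subgroup.centralizer (Q : Set G)))) :
    (x : G) ∈ Subgroup.normalizer
      ((Q ⊔ R'.map (Subgroup.centralizer (Q : Set G)).subtype : Subgroup G) : Set G) := by
  rw [Subgroup.mem_normalizer_iff_map_conj_eq, Subgroup.map_sup]
  congr 1
  · exact Subgroup.mem_normalizer_iff_map_conj_eq.mp
      (Subgroup.centralizer_le_normalizer _ x.2)
  · ext z
    constructor
    · rintro ⟨_, ⟨r, hr, rfl⟩, rfl⟩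
      refine ⟨x * r * x⁻¹, (Subgroup.mem_normalizer_iff.mp hxN r).mp hr, ?_⟩
      simp [MulAut.conj_apply]
    · rintro ⟨r, hr, rfl⟩
      refine ⟨((x⁻¹ * r * x : Subgroup.centralizer (Q : Set G)) : G),
        ⟨x⁻¹ * r * x, ?_, rfl⟩, ?_⟩
      · have := (Subgroup.mem_normalizer_iff.mp (Subgroup.inv_mem _ hxN) r).mp hr
        simpa using this
      · simp [MulAut.conj_apply, mul_assoc]

variable [Fintype G] {p : ℕ} [Fact p.Prime] {M : Ideal AlgInt}

/-- Over an abelian maximal pair `(P, c)`, the block of `C_G(Q)` induced by `c` is the member of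
the Brauer pair on `Q` below `(P, c)`. -/
theorem subpairLE_of_isInducedBlockIn (hpM : IsPModular p M) {B : Set (IrrCharacter G)}
    {P Q : Subgroup G} {c : Set (IrrCharacter (Subgroup.centralizer (P : Set G)))}
    (hBP : IsBrauerPairOf p M B P c) (hPD : IsDefectGroup p M B P)
    (hab : ∀ x ∈ P, ∀ y ∈ P, x * y = y * x) (hQP : Q ≤ P)
    {f : Set (IrrCharacter (Subgroup.centralizer (Q : Set G)))}
    (hf : IsInducedBlockIn M (Subgroup.centralizer (Q : Set G))
      (Subgroup.centralizer (P : Set G)) c f) : SubpairLE p M Q f P c := by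
  classical
  have hM : M.IsPrime := isPrime_of_isPModular hpM
  have := Fintype.ofFinite (Subgroup.centralizer (Q : Set G))
  have hPL : P ≤ Subgroup.centralizer (Q : Set G) := le_centralizer_of_abelian hab hQP
  obtain ⟨f', -, hle⟩ := Cfsg.Agent.Lib.Helper52.Subpairs.exists_subpairLE hpM _ P Q c rfl
    hBP.1 hQP
  obtain ⟨-, hind⟩ := abelian_pair_local hpM hBP hPD hab hQP hle hPL
  have h2 := isInducedBlock_of_In (cEq hPL (Subgroup.centralizer_le hQP))
    (coe_cEq hPL (Subgroup.centralizer_le hQP)) hf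
  have h3 : f' = f := isInducedBlock_unique hM hind h2
  rw [← h3]
  exact hle

/-- Existence of the induced local block. -/
theorem exists_isInducedBlockIn (hpM : IsPModular p M) {B : Set (IrrCharacter G)}
    {P Q : Subgroup G} {c : Set (IrrCharacter (Subgroup.centralizer (P : Set G)))}
    (hBP : IsBrauerPairOf p M B P c) (hPD : IsDefectGroup p M B P)
    (hab : ∀ x ∈ P, ∀ y ∈ P, x * y = y * x) (hQP : Q ≤ P) :
    ∃ f : Set (IrrCharacter (Subgroup.centralizer (Q : Set G))),
      SubpairLE p M Q f P c ∧ IsInducedBlockIn M (Subgroup.centralizer (Q : Set G))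
        (Subgroup.centralizer (P : Set G)) c f := by
  classical
  have hPL : P ≤ Subgroup.centralizer (Q : Set G) := le_centralizer_of_abelian hab hQP
  obtain ⟨f', -, hle⟩ := Cfsg.Agent.Lib.Helper52.Subpairs.exists_subpairLE hpM _ P Q c rfl
    hBP.1 hQP
  obtain ⟨-, hind⟩ := abelian_pair_local hpM hBP hPD hab hQP hle hPL
  exact ⟨f', hle, isInducedBlockIn_of_isInducedBlock (cEq hPL (Subgroup.centralizer_le hQP))
    (coe_cEq hPL (Subgroup.centralizer_le hQP)) hBP.1.2 hind⟩

/-- Free inertial action makes the local blocks nilpotent. -/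
theorem local_nilpotent_of_free (hpM : IsPModular p M) {B : Set (IrrCharacter G)}
    {P Q : Subgroup G} {c : Set (IrrCharacter (Subgroup.centralizer (P : Set G)))}
    (hmax : IsMaximalBrauerPair p M B P c)
    (hab : ∀ x ∈ P, ∀ y ∈ P, x * y = y * x) (hQ1 : Q ≠ ⊥)
    {f : Set (IrrCharacter (Subgroup.centralizer (Q : Set G)))}
    (hle : SubpairLE p M Q f P c) {T : Subgroup G}
    (hT : ∀ g : G, g ∈ T ↔ (g ∈ Subgroup.normalizer (P : Set G) ∧
      StabilizesBlock (Subgroup.centralizer (P : Set G)) c g))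
    (hfree : ∀ g ∈ T, ∀ x ∈ P, x ≠ 1 → g * x * g⁻¹ = x →
      g ∈ Subgroup.centralizer (P : Set G)) : IsNilpotentBlock p M f := by
  classical
  have hM : M.IsPrime := isPrime_of_isPModular hpM
  have hBP := hmax.1
  have hQf : IsBrauerPairOf p M B Q f :=
    (Cfsg.Agent.Lib.Helper52.Subpairs.isBrauerPairOf_iff_of_subpairLE hpM hBP.2.1 hle).mp hBP
  refine ⟨hQf.1.2, fun R' h hR y hyN hyst _ => ?_⟩
  have hNS := isNormalSubpair_sup_of_isBrauerPairOf hpM hQf.1 hR
  have hDB := isBrauerPairOf_of_isNormalSubpair hpM hNS hQf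
  have hyND := coe_mem_normalizer_sup hyN
  have hyNC := Cfsg.Agent.S4691.normalizer_le_normalizer_centralizer' _ hyND
  have hst' := stabilizesBlock_cSup hyNC hyst
  obtain ⟨g, hgle⟩ := exists_conj_subpairLE hpM hmax hDB
  obtain ⟨D, hDdef⟩ : ∃ D : Subgroup G,
      D = Q ⊔ R'.map (Subgroup.centralizer (Q : Set G)).subtype := ⟨_, rfl⟩
  have hDgP : (Q ⊔ R'.map (Subgroup.centralizer (Q : Set G)).subtype).map
      (MulAut.conj g).toMonoidHom ≤ P :=
    Cfsg.Agent.Lib.Helper52.Subpairs.le_of_reflTransGen hgle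
  have hy₁N : g * (y : G) * g⁻¹ ∈ Subgroup.normalizer
      (((Q ⊔ R'.map (Subgroup.centralizer (Q : Set G)).subtype).map
        (MulAut.conj g).toMonoidHom : Subgroup G) : Set G) := by
    rw [← Subgroup.map_equiv_normalizer_eq _ (MulAut.conj g)]
    exact ⟨(y : G), hyND, rfl⟩
  have hy₁st := (stabilizesBlock_conjBlock_iff _ g (y : G) _).mpr hst'
  have hfg : IsPBlock M (conjBlock _ g (irrMap (cSup Q R').symm '' h)) :=
    isPBlock_of_subpairLE hBP.1.2 hgle
  obtain ⟨TQ, hTQdef⟩ : ∃ TQ : Subgroup G, TQ = Subgroup.normalizer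
      (((Q ⊔ R'.map (Subgroup.centralizer (Q : Set G)).subtype).map
        (MulAut.conj g).toMonoidHom : Subgroup G) : Set G) ⊓
      stabSub (Subgroup.centralizer
        (((Q ⊔ R'.map (Subgroup.centralizer (Q : Set G)).subtype).map
          (MulAut.conj g).toMonoidHom : Subgroup G) : Set G))
        (conjBlock _ g (irrMap (cSup Q R').symm '' h)) := ⟨_, rfl⟩
  have hTQ : ∀ z : G, z ∈ TQ ↔ z ∈ Subgroup.normalizer
      (((Q ⊔ R'.map (Subgroup.centralizer (Q : Set G)).subtype).map
        (MulAut.conj g).toMonoidHom : Subgroup G) : Set G) ∧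
      StabilizesBlock (Subgroup.centralizer
        (((Q ⊔ R'.map (Subgroup.centralizer (Q : Set G)).subtype).map
          (MulAut.conj g).toMonoidHom : Subgroup G) : Set G))
        (conjBlock _ g (irrMap (cSup Q R').symm '' h)) z := by
    intro z
    rw [hTQdef, Subgroup.mem_inf, mem_stabSub_iff hM _ hfg]
  obtain ⟨t, ht, c', hc', hy₁⟩ := (abelian_stab_factor hpM hmax hab hDgP hgle TQ hTQ T hT).1 _
    ((hTQ _).mpr ⟨hy₁N, hy₁st⟩)
  -- a non-identity element of `Q`
  obtain ⟨q, hq, hq1⟩ : ∃ q ∈ Q, q ≠ 1 := by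
    by_contra hcon
    push Not at hcon
    apply hQ1
    rw [Subgroup.eq_bot_iff_forall]
    exact hcon
  have hxD : g * q * g⁻¹ ∈ (Q ⊔ R'.map (Subgroup.centralizer (Q : Set G)).subtype).map
      (MulAut.conj g).toMonoidHom := ⟨q, Subgroup.mem_sup_left hq, rfl⟩
  have hxP : g * q * g⁻¹ ∈ P := hDgP hxD
  have hx1 : g * q * g⁻¹ ≠ 1 := by
    intro h1
    apply hq1
    have := congrArg (fun z => g⁻¹ * z * g) h1
    simpa [mul_assoc] using this
  have hyq : (y : G) * q * (y : G)⁻¹ = q := by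
    have := (y : Subgroup.centralizer (Q : Set G)).2 q hq
    rw [← this, mul_inv_cancel_right]
  have hteq : t = g * (y : G) * g⁻¹ * c'⁻¹ := by rw [hy₁, mul_inv_cancel_right]
  have hfix : t * (g * q * g⁻¹) * t⁻¹ = g * q * g⁻¹ := by
    have hcq : c'⁻¹ * (g * q * g⁻¹) * c' = g * q * g⁻¹ := by
      have := hc' _ hxD
      rw [mul_assoc, this, inv_mul_cancel_left]
    rw [hteq]
    have e1 : g * (y : G) * g⁻¹ * c'⁻¹ * (g * q * g⁻¹) * (g * (y : G) * g⁻¹ * c'⁻¹)⁻¹ =
        g * (y : G) * g⁻¹ * (c'⁻¹ * (g * q * g⁻¹) * c') * (g * (y : G) * g⁻¹)⁻¹ := by group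
    rw [e1, hcq]
    have e2 : g * (y : G) * g⁻¹ * (g * q * g⁻¹) * (g * (y : G) * g⁻¹)⁻¹ =
        g * ((y : G) * q * (y : G)⁻¹) * g⁻¹ := by group
    rw [e2, hyq]
  have htC : t ∈ Subgroup.centralizer (P : Set G) := hfree t ht _ hxP hx1 hfix
  have htCD := Subgroup.centralizer_le hDgP htC
  have hy₁C : g * (y : G) * g⁻¹ ∈ Subgroup.centralizer
      (((Q ⊔ R'.map (Subgroup.centralizer (Q : Set G)).subtype).map
        (MulAut.conj g).toMonoidHom : Subgroup G) : Set G) := by
    rw [hy₁]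
    exact Subgroup.mul_mem _ htCD hc'
  rw [mem_centralizer_map_conj_iff] at hy₁C
  have e3 : g⁻¹ * (g * (y : G) * g⁻¹) * g = (y : G) := by group
  rw [e3] at hy₁C
  rw [Subgroup.mem_centralizer_iff]
  intro r hr
  apply Subtype.ext
  exact (mem_centralizer_sup_iff.mp hy₁C).2 (r : G) ⟨r, hr, rfl⟩

/-- Nilpotent local blocks make the inertial action free. -/
theorem free_of_local_nilpotent (hpM : IsPModular p M) {B : Set (IrrCharacter G)}
    {P : Subgroup G} {c : Set (IrrCharacter (Subgroup.centralizer (P : Set G)))}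
    (hmax : IsMaximalBrauerPair p M B P c)
    (hab : ∀ x ∈ P, ∀ y ∈ P, x * y = y * x) {x : G} (hxP : x ∈ P)
    {f : Set (IrrCharacter (Subgroup.centralizer ((Subgroup.zpowers x : Subgroup G) : Set G)))}
    (hle : SubpairLE p M (Subgroup.zpowers x) f P c) (hnil : IsNilpotentBlock p M f)
    {g : G} (hgN : g ∈ Subgroup.normalizer (P : Set G))
    (hgst : StabilizesBlock (Subgroup.centralizer (P : Set G)) c g)
    (hfix : g * x * g⁻¹ = x) : g ∈ Subgroup.centralizer (P : Set G) := by
  classical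
  have hM : M.IsPrime := isPrime_of_isPModular hpM
  have hp : p.Prime := Fact.out
  have hBP := hmax.1
  have hc : IsPBlock M c := hBP.1.2
  have hQP : Subgroup.zpowers x ≤ P := by
    rw [Subgroup.zpowers_le]
    exact hxP
  have hPL : P ≤ Subgroup.centralizer ((Subgroup.zpowers x : Subgroup G) : Set G) :=
    le_centralizer_of_abelian hab hQP
  have hCL := Subgroup.centralizer_le (show ((Subgroup.zpowers x : Subgroup G) : Set G) ⊆ P
    from hQP)
  have hPN : P ≤ Subgroup.normalizer ((Subgroup.zpowers x : Subgroup G) : Set G) :=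
    hPL.trans (Subgroup.centralizer_le_normalizer _)
  -- the stabilizer as a subgroup
  obtain ⟨T, hTdef⟩ : ∃ T : Subgroup G, T = Subgroup.normalizer (P : Set G) ⊓
      stabSub (Subgroup.centralizer (P : Set G)) c := ⟨_, rfl⟩
  have hT : ∀ z : G, z ∈ T ↔ z ∈ Subgroup.normalizer (P : Set G) ∧
      StabilizesBlock (Subgroup.centralizer (P : Set G)) c z := by
    intro z
    rw [hTdef, Subgroup.mem_inf, mem_stabSub_iff hM _ hc]
  obtain ⟨K, r, N, hcard, hpr, hrN, hN1⟩ := exists_ppart_exponent G p hp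
  obtain ⟨y, hxy, -, ⟨k, hk⟩, hy⟩ := isPPart_pow hp hcard hpr hrN hN1 g
  have hgT : g ∈ T := (hT g).mpr ⟨hgN, hgst⟩
  have hgpT : g ^ N ∈ T := T.pow_mem hgT N
  have hyeq : y = (g ^ N)⁻¹ * g := eq_inv_mul_of_mul_eq hxy
  have hyT : y ∈ T := by
    rw [hyeq]
    exact T.mul_mem (T.inv_mem hgpT) hgT
  have hgp' := (hT _).mp hgpT
  have hy' := (hT _).mp hyT
  have hgpC : g ^ N ∈ Subgroup.centralizer (P : Set G) :=
    ppow_mem_centralizer_of_abelian hpM hmax hab hgp'.1 hgp'.2 hk
  -- `g` centralizes `⟨x⟩`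
  have hgL : g ∈ Subgroup.centralizer ((Subgroup.zpowers x : Subgroup G) : Set G) := by
    have h1 : Subgroup.zpowers x ≤ Subgroup.centralizer ({g} : Set G) := by
      rw [Subgroup.zpowers_le, Subgroup.mem_centralizer_iff]
      intro z hz
      rw [Set.mem_singleton_iff] at hz
      rw [hz]
      have := congrArg (fun w => w * g) hfix
      simpa using this
    intro q hq
    have := (Subgroup.mem_centralizer_iff.mp (h1 hq)) g (Set.mem_singleton g)
    exact this.symm
  have hyL : y ∈ Subgroup.centralizer ((Subgroup.zpowers x : Subgroup G) : Set G) := by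
    rw [hyeq]
    exact Subgroup.mul_mem _ (Subgroup.inv_mem _ (Subgroup.pow_mem _ hgL N)) hgL
  -- the pair `(P, c)` inside `C_G(x)`
  have hNSub : IsNormalSubpair p M (Subgroup.zpowers x) f P c :=
    isNormalSubpair_of_subpairLE hpM hBP.1 hQP hPN hle
  have hpairL := isBrauerPairOf_sub_of_isNormalSubpair hPL hQP hNSub
  have hy'N : (⟨y, hyL⟩ : Subgroup.centralizer ((Subgroup.zpowers x : Subgroup G) : Set G)) ∈
      Subgroup.normalizer ((P.subgroupOf
        (Subgroup.centralizer ((Subgroup.zpowers x : Subgroup G) : Set G)) : Subgroup _) :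
          Set (Subgroup.centralizer ((Subgroup.zpowers x : Subgroup G) : Set G))) := by
    rw [Subgroup.mem_normalizer_iff]
    intro z
    rw [Subgroup.mem_subgroupOf, Subgroup.mem_subgroupOf]
    exact Subgroup.mem_normalizer_iff.mp hy'.1 (z : G)
  have hmL := Cfsg.Agent.S4691.normalizer_le_normalizer_centralizer' _ hy'N
  have hmG := Cfsg.Agent.S4691.normalizer_le_normalizer_centralizer' P hy'.1
  have hy'st : StabilizesBlock (Subgroup.centralizer ((P.subgroupOf
      (Subgroup.centralizer ((Subgroup.zpowers x : Subgroup G) : Set G)) : Subgroup _) :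
        Set (Subgroup.centralizer ((Subgroup.zpowers x : Subgroup G) : Set G))))
      (irrMap (cEq hPL hCL) '' c) (⟨y, hyL⟩ :
        Subgroup.centralizer ((Subgroup.zpowers x : Subgroup G) : Set G)) := by
    apply stabilizesBlock_of_image_eq _ hmL
    rw [← image_cEq_cjIrr hPL hCL ⟨y, hyL⟩ hmL hmG c,
      cjIrr_image_eq_of_stabilizes hM _ hc hmG hy'.2]
  have hy'reg : IsPRegular p (⟨y, hyL⟩ :
      Subgroup.centralizer ((Subgroup.zpowers x : Subgroup G) : Set G)) := by
    unfold IsPRegular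
    rw [← Subgroup.orderOf_coe]
    exact hy
  have hy'C := hnil.2 _ _ hpairL _ hy'N hy'st hy'reg
  have hyC : y ∈ Subgroup.centralizer (P : Set G) :=
    (Cfsg.Agent.Lib.Helper52.StabBlock.mem_centralizer_subgroupOf_iff hPL _).mp hy'C
  rw [← hxy]
  exact Subgroup.mul_mem _ hgpC hyC

end Cfsg.Agent.Lib.Helper77
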