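import Cfsg.Agent.Lib.Helper77.BrauerPair
import Cfsg.Agent.Lib.Helper77.BrauerCorr2
import Cfsg.Agent.Lib.Helper77.StableBlock
import Cfsg.Agent.Lib.Helper77.Radical3
import Cfsg.Agent.S4691

/-!
# Brauer pairs: the Brauer map on elements stable under a `p`-group
-/

set_option autoImplicit false

universe u

namespace Cfsg.Agent.Lib.Helper77

open Cfsg
open Cfsg.Agent.Lib.Helper81
open Cfsg.Agent.Lib.Helper80

variable {G : Type u} [Group G]

/-- `a` is stable under conjugation by `P` and by `C_G(P)`, with local-integral values. -/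
structure PS (M : Ideal AlgInt) (P : Subgroup G) (a : G → ℂ) : Prop where
  stable : ∀ q ∈ P, ∀ x, a (q * x * q⁻¹) = a x
  cls : ∀ c ∈ Subgroup.centralizer (P : Set G), ∀ x, a (c * x * c⁻¹) = a x
  int : ∀ x, MemLocalRing M (a x)

theorem brRes_ZS_of_cls {M : Ideal AlgInt} (P : Subgroup G) {a : G → ℂ}
    (hcls : ∀ c ∈ Subgroup.centralizer (P : Set G), ∀ x, a (c * x * c⁻¹) = a x)
    (hint : ∀ x, MemLocalRing M (a x)) :
    ZS M (brRes P (Subgroup.centralizer (P : Set G)) a) := by
  refine ⟨fun h k => ?_, fun h => ?_⟩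
  · rw [brRes_pos _ (k * h * k⁻¹).2, brRes_pos _ h.2]
    push_cast
    exact hcls k k.2 h
  · rw [brRes_pos _ h.2]
    exact hint _

theorem PS.brRes_ZS {M : Ideal AlgInt} {P : Subgroup G} {a : G → ℂ} (ha : PS M P a) :
    ZS M (brRes P (Subgroup.centralizer (P : Set G)) a) :=
  brRes_ZS_of_cls P ha.cls ha.int

theorem conv_conj_invariant [Fintype G] {a b : G → ℂ} (g : G)
    (ha : ∀ x, a (g * x * g⁻¹) = a x) (hb : ∀ x, b (g * x * g⁻¹) = b x) (x : G) :
    conv a b (g * x * g⁻¹) = conv a b x := by
  unfold conv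
  refine (Fintype.sum_equiv (MulAut.conj g).toEquiv _ _ ?_).symm
  intro h
  show a h * b (h⁻¹ * x) = a (g * h * g⁻¹) * b ((g * h * g⁻¹)⁻¹ * (g * x * g⁻¹))
  rw [ha]
  have e1 : (g * h * g⁻¹)⁻¹ * (g * x * g⁻¹) = g * (h⁻¹ * x) * g⁻¹ := by group
  rw [e1, hb]

theorem PS.convPS [Fintype G] {M : Ideal AlgInt} (hM : M.IsPrime) {P : Subgroup G} {a b : G → ℂ}
    (ha : PS M P a) (hb : PS M P b) : PS M P (conv a b) := by
  refine ⟨fun q hq x => conv_conj_invariant q (ha.stable q hq) (hb.stable q hq) x,
    fun c hc x => conv_conj_invariant c (ha.cls c hc) (hb.cls c hc) x, fun x => ?_⟩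
  unfold Helper77.conv
  exact memLocalRing_sum hM _ _ fun h _ => memLocalRing_mul hM (ha.int _) (hb.int _)

/-- The Brauer map is multiplicative modulo the local ideal on `P`-stable elements. -/
theorem memLocalIdeal_brRes_conv' {p : ℕ} [Fact p.Prime] {M : Ideal AlgInt}
    (hpM : IsPModular p M) (P H : Subgroup G) [Fintype G] [Fintype H] (hP : IsPGroup p P)
    (hCH : Subgroup.centralizer (P : Set G) ≤ H) {a b : G → ℂ} (ha : PS M P a) (hb : PS M P b)
    (h : H) :
    MemLocalIdeal M (brRes P H (conv a b) h - conv (brRes P H a) (brRes P H b) h) := by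
  classical
  have hM : M.IsPrime := isPrime_of_isPModular hpM
  by_cases hc : (h : G) ∈ Subgroup.centralizer (P : Set G)
  · rw [brRes_pos _ hc]
    have h1 : conv (brRes P H a) (brRes P H b) h =
        ∑ x : G, if x ∈ Subgroup.centralizer (P : Set G) then a x * b (x⁻¹ * h) else 0 := by
      unfold conv
      rw [← sum_subgroup_eq (H := H)
        (fun x => if x ∈ Subgroup.centralizer (P : Set G) then a x * b (x⁻¹ * h) else 0)
        (fun x hx => if_neg (fun hx' => hx (hCH hx')))]
      refine Finset.sum_congr rfl fun k _ => ?_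
      by_cases hk : (k : G) ∈ Subgroup.centralizer (P : Set G)
      · have hk' : ((k⁻¹ * h : H) : G) ∈ Subgroup.centralizer (P : Set G) := by
          push_cast
          exact Subgroup.mul_mem _ (Subgroup.inv_mem _ hk) hc
        rw [brRes_pos _ hk, brRes_pos _ hk', if_pos hk]
        push_cast
        rfl
      · rw [brRes_neg _ hk, if_neg hk, zero_mul]
    have h2 : conv a b (h : G) - conv (brRes P H a) (brRes P H b) h =
        ∑ x : G, if x ∈ Subgroup.centralizer (P : Set G) then 0 else a x * b (x⁻¹ * h) := by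
      rw [h1]
      unfold conv
      rw [← Finset.sum_sub_distrib]
      refine Finset.sum_congr rfl fun x _ => ?_
      by_cases hx : x ∈ Subgroup.centralizer (P : Set G)
      · rw [if_pos hx, if_pos hx, sub_self]
      · rw [if_neg hx, if_neg hx, sub_zero]
    rw [h2]
    let := conjActionOf P
    refine pgroup_sum_mem (Q := P) (X := G) hP hpM _ ?_ ?_ ?_
    · intro q x
      show (if (q : G) * x * (q : G)⁻¹ ∈ Subgroup.centralizer (P : Set G) then 0
        else a ((q : G) * x * (q : G)⁻¹) * b (((q : G) * x * (q : G)⁻¹)⁻¹ * h)) =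
        if x ∈ Subgroup.centralizer (P : Set G) then 0 else a x * b (x⁻¹ * h)
      have hqN : (q : G) ∈ Subgroup.normalizer (P : Set G) := Subgroup.le_normalizer q.2
      have hiff := conj_mem_centralizer_iff (h := x) hqN
      have hqh : (q : G) * h = h * q := (Subgroup.mem_centralizer_iff.mp hc) q q.2
      have e1 : ((q : G) * x * (q : G)⁻¹)⁻¹ * (h : G) = (q : G) * (x⁻¹ * h) * (q : G)⁻¹ := by
        have : (h : G) = (q : G) * h * (q : G)⁻¹ := by rw [hqh]; group
        conv_lhs => rw [this]
        group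
      by_cases hx : x ∈ Subgroup.centralizer (P : Set G)
      · rw [if_pos hx, if_pos (hiff.mpr hx)]
      · rw [if_neg hx, if_neg (fun h' => hx (hiff.mp h')), e1, ha.stable q q.2, hb.stable q q.2]
    · intro x
      split_ifs
      · exact memLocalRing_zero hM
      · exact memLocalRing_mul hM (ha.int _) (hb.int _)
    · intro x hx
      have hxc : x ∈ Subgroup.centralizer (P : Set G) := by
        rw [Subgroup.mem_centralizer_iff]
        intro q hq
        have h3 : q * x * q⁻¹ = x := hx ⟨q, hq⟩
        calc q * x = q * x * q⁻¹ * q := by group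
          _ = x * q := by rw [h3]
      rw [if_pos hxc]
      exact memLocalIdeal_zero hM
  · rw [brRes_neg _ hc]
    have h1 : conv (brRes P H a) (brRes P H b) h = 0 := by
      unfold conv
      refine Finset.sum_eq_zero fun k _ => ?_
      by_cases hk : (k : G) ∈ Subgroup.centralizer (P : Set G)
      · have hk' : ((k⁻¹ * h : H) : G) ∉ Subgroup.centralizer (P : Set G) := by
          push_cast
          intro h'
          apply hc
          have := Subgroup.mul_mem _ hk h'
          rwa [mul_inv_cancel_left] at this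
        rw [brRes_neg _ hk', mul_zero]
      · rw [brRes_neg _ hk, zero_mul]
    rw [h1, sub_self]
    exact memLocalIdeal_zero hM

/-- The central character composed with the Brauer map is multiplicative modulo the local ideal
on `P`-stable elements. -/
theorem PS.omega_brRes_conv {p : ℕ} [Fact p.Prime] {M : Ideal AlgInt}
    (hpM : IsPModular p M) {P : Subgroup G} [Fintype G]
    [Fintype (Subgroup.centralizer (P : Set G))] (hP : IsPGroup p P) {a b : G → ℂ}
    (ha : PS M P a) (hb : PS M P b) {ξ : Subgroup.centralizer (P : Set G) → ℂ}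
    (hξ : IsIrrCharacter (Subgroup.centralizer (P : Set G)) ξ) :
    MemLocalIdeal M (omega ξ (brRes P (Subgroup.centralizer (P : Set G)) (conv a b)) -
      omega ξ (brRes P (Subgroup.centralizer (P : Set G)) a) *
        omega ξ (brRes P (Subgroup.centralizer (P : Set G)) b)) := by
  have hM : M.IsPrime := isPrime_of_isPModular hpM
  have hza := ha.brRes_ZS
  have hzb := hb.brRes_ZS
  have hzab := (PS.convPS hM ha hb).brRes_ZS
  rw [← omega_conv hξ hza.1 hzb.1, ← omega_sub]
  have hZ := ZS.sub hM hzab (ZS.conv hM hza hzb)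
  refine memLocalIdeal_omega_of_forall hM hξ hZ.1 hZ.2 fun h => Or.inl ?_
  exact memLocalIdeal_brRes_conv' hpM P _ hP le_rfl ha hb h

end Cfsg.Agent.Lib.Helper77
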