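import Cfsg.Agent.Lib.Helper77.BPairB

/-!
# Brauer pairs: compatibility of central characters along a normal inclusion
-/

set_option autoImplicit false

universe u

namespace Cfsg.Agent.Lib.Helper77

open Cfsg
open Cfsg.Agent.Lib.Helper81
open Cfsg.Agent.Lib.Helper80

variable {G : Type u} [Group G] [Fintype G] {p : ℕ} [Fact p.Prime] {M : Ideal AlgInt}

omit [Fintype G] [Fact p.Prime] in
theorem resC_deltaOne {P K : Subgroup G} (hCK : Subgroup.centralizer (P : Set G) ≤ K) :
    resC hCK (deltaOne : K → ℂ) = deltaOne := by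
  rw [← brRes_extK hCK, extK_deltaOne, brRes_deltaOne]

/-- **Lemma N.** Let `f` be a `P`-stable block of `K` (`C_G(P) ≤ K`, `P ≤ N_G(K)`) on whose
idempotent the Brauer central character `ξ` is `1`.  Then on `P`-stable class functions of `K`
the Brauer central character `ξ` agrees with the central character of any `θ ∈ f`. -/
theorem lemmaN (hpM : IsPModular p M) {P K : Subgroup G} [Fintype K]
    [Fintype (Subgroup.centralizer (P : Set G))] (hP : IsPGroup p P)
    (hPK : P ≤ Subgroup.normalizer (K : Set G))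
    (hCK : Subgroup.centralizer (P : Set G) ≤ K)
    {ξ : Subgroup.centralizer (P : Set G) → ℂ}
    (hξ : IsIrrCharacter (Subgroup.centralizer (P : Set G)) ξ)
    {f : Set (IrrCharacter K)} (hf : IsPBlock M f) (hfst : KStable P K (blockCoeff f))
    (hf1 : MemLocalIdeal M (omega ξ (resC hCK (blockCoeff f)) - 1))
    {c : K → ℂ} (hc : ZS M c) (hcst : KStable P K c) {θ : IrrCharacter K} (hθ : θ ∈ f) :
    MemLocalIdeal M (omega ξ (resC hCK c) - omega (θ : K → ℂ) c) := by
  classical
  have hM : M.IsPrime := isPrime_of_isPModular hpM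
  obtain ⟨θ₀, rfl⟩ := hf
  have hef : ZS M (blockCoeff (blockOf M (θ₀ : K → ℂ))) := ZS.blockCoeff hpM θ₀
  have hs : MemLocalRing M (omega (θ : K → ℂ) c) := hc.omega hM θ
  -- the element `d = c - s`
  have hsd : ZS M (fun k : K => omega (θ : K → ℂ) c * deltaOne k) :=
    ZS.smul hM hs (ZS.deltaOne hM)
  have hd : ZS M (c - fun k : K => omega (θ : K → ℂ) c * deltaOne k) := ZS.sub hM hc hsd
  have hdst : KStable P K (c - fun k : K => omega (θ : K → ℂ) c * deltaOne k) := by
    intro q hq k k' hk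
    show c k' - omega (θ : K → ℂ) c * deltaOne k' = c k - omega (θ : K → ℂ) c * deltaOne k
    rw [hcst q hq k k' hk, KStable.deltaOne P K q hq k k' hk]
  have hr : ZS M (conv (c - fun k : K => omega (θ : K → ℂ) c * deltaOne k)
      (blockCoeff (blockOf M (θ₀ : K → ℂ)))) := ZS.conv hM hd hef
  have hrst := KStable.conv hM hPK hCK hd hef hdst hfst
  -- all central characters of `r` vanish modulo the ideal
  have hω : ∀ θ' : IrrCharacter K, MemLocalIdeal M (omega (θ' : K → ℂ)
      (conv (c - fun k : K => omega (θ : K → ℂ) c * deltaOne k)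
        (blockCoeff (blockOf M (θ₀ : K → ℂ))))) := by
    intro θ'
    rw [omega_conv θ'.2 hd.1 hef.1, omega_blockCoeff, omega_sub, omega_smul,
      omega_deltaOne _ (irr_one_ne_zero θ'.2), mul_one]
    by_cases hθ' : θ' ∈ blockOf M (θ₀ : K → ℂ)
    · rw [if_pos hθ', mul_one]
      have hsame : SameBlock M (θ' : K → ℂ) (θ : K → ℂ) :=
        sameBlock_trans hM (sameBlock_symm hθ') hθ
      exact memLocalIdeal_omega_sub hM (isClassFunction_of_isCharacter θ'.2)
        (isClassFunction_of_isCharacter θ.2) hsame hc.1 hc.2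
    · rw [if_neg hθ', mul_zero]
      exact memLocalIdeal_zero hM
  obtain ⟨n, hn⟩ := exists_convPow_memLocalIdeal hpM hr hω
  have hpowZ := resC_ZS hCK (ZS.convPow hM hr (n + 1))
  have h1 : MemLocalIdeal M (omega ξ (resC hCK (convPow
      (conv (c - fun k : K => omega (θ : K → ℂ) c * deltaOne k)
        (blockCoeff (blockOf M (θ₀ : K → ℂ)))) (n + 1)))) :=
    memLocalIdeal_omega_of_forall hM hξ hpowZ.1 hpowZ.2 fun h => Or.inl (hn _)
  have h2 := lam_convPow hpM hP hPK hCK hr hrst hξ (n + 1)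
  have hlr : MemLocalRing M (omega ξ (resC hCK
      (conv (c - fun k : K => omega (θ : K → ℂ) c * deltaOne k)
        (blockCoeff (blockOf M (θ₀ : K → ℂ)))))) :=
    memLocalRing_omega hM hξ (resC_ZS hCK hr).1 (resC_ZS hCK hr).2
  have h3 : MemLocalIdeal M (omega ξ (resC hCK
      (conv (c - fun k : K => omega (θ : K → ℂ) c * deltaOne k)
        (blockCoeff (blockOf M (θ₀ : K → ℂ))))) ^ (n + 1)) := by
    have := memLocalIdeal_sub hM h1 h2
    rwa [sub_sub_cancel] at this
  have h4 := memLocalIdeal_of_pow hM hlr (n + 1) h3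
  -- multiplicativity
  have h5 := lam_mul hpM hP hPK hCK hd hef hdst hfst hξ
  have h6 : MemLocalIdeal M (omega ξ (resC hCK
      (c - fun k : K => omega (θ : K → ℂ) c * deltaOne k)) *
      omega ξ (resC hCK (blockCoeff (blockOf M (θ₀ : K → ℂ))))) := by
    have := memLocalIdeal_sub hM h4 h5
    rwa [sub_sub_cancel] at this
  have h7 : omega ξ (resC hCK (c - fun k : K => omega (θ : K → ℂ) c * deltaOne k)) =
      omega ξ (resC hCK c) - omega (θ : K → ℂ) c := by
    have e : resC hCK (c - fun k : K => omega (θ : K → ℂ) c * deltaOne k) =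
        resC hCK c - fun x => omega (θ : K → ℂ) c * resC hCK (deltaOne : K → ℂ) x := rfl
    rw [e, omega_sub, omega_smul, resC_deltaOne, omega_deltaOne _ (irr_one_ne_zero hξ), mul_one]
  rw [h7] at h6
  have hlr2 : MemLocalRing M (omega ξ (resC hCK c) - omega (θ : K → ℂ) c) :=
    memLocalRing_sub hM (memLocalRing_omega hM hξ (resC_ZS hCK hc).1 (resC_ZS hCK hc).2) hs
  -- `x * y ∈ I`, `y ≡ 1` gives `x ∈ I`
  have h8 := memLocalIdeal_mul_left hM hlr2 hf1
  have h9 := memLocalIdeal_sub hM h6 h8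
  have e9 : (omega ξ (resC hCK c) - omega (θ : K → ℂ) c) *
      omega ξ (resC hCK (blockCoeff (blockOf M (θ₀ : K → ℂ)))) -
      (omega ξ (resC hCK c) - omega (θ : K → ℂ) c) *
        (omega ξ (resC hCK (blockCoeff (blockOf M (θ₀ : K → ℂ)))) - 1) =
      omega ξ (resC hCK c) - omega (θ : K → ℂ) c := by ring
  rwa [e9] at h9

end Cfsg.Agent.Lib.Helper77
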