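import Cfsg.Agent.Lib.Helper77.BPairD

/-!
# Brauer pairs: existence and uniqueness of the stable block below a Brauer character
-/

set_option autoImplicit false

universe u

namespace Cfsg.Agent.Lib.Helper77

open Cfsg
open Cfsg.Agent.Lib.Helper81
open Cfsg.Agent.Lib.Helper80
open scoped Pointwise

variable {G : Type u} [Group G] [Fintype G] {p : ℕ} [Fact p.Prime] {M : Ideal AlgInt}

omit [Fintype G] [Fact p.Prime] in
theorem resC_blockCoeff_cjIrr {P K : Subgroup G}
    (hPK : P ≤ Subgroup.normalizer (K : Set G))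
    (hCK : Subgroup.centralizer (P : Set G) ≤ K) (S : Set (IrrCharacter K)) (q : P) :
    resC hCK (blockCoeff (cjIrr K q (hPK q.2) '' S)) = resC hCK (blockCoeff S) := by
  funext x
  unfold resC
  rw [blockCoeff_cjIrr_image]
  refine congrArg _ (Subtype.ext ?_)
  rw [coe_conjAut]
  show (q : G)⁻¹ * (x : G) * (q : G) = (x : G)
  have := (Subgroup.mem_centralizer_iff.mp x.2) q q.2
  rw [mul_assoc, ← this, inv_mul_cancel_left]

omit [Fintype G] [Fact p.Prime] in
theorem u_idem_cases (hM : M.IsPrime) {u : ℂ} (hu : MemLocalRing M u)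
    (hid : MemLocalIdeal M (u * u - u)) (h1 : ¬ MemLocalIdeal M (u - 1)) : MemLocalIdeal M u := by
  have e : u * u - u = (u - 1) * u := by ring
  rw [e] at hid
  exact memLocalIdeal_of_mul_of_not_memLocalIdeal hM
    (memLocalRing_sub hM hu (memLocalRing_one hM)) h1 hid

/-- The Brauer central character of the idempotent of a stable block is idempotent modulo the
local ideal. -/
theorem u_idem (hpM : IsPModular p M) {P K : Subgroup G} [Fintype K]
    [Fintype (Subgroup.centralizer (P : Set G))] (hP : IsPGroup p P)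
    (hPK : P ≤ Subgroup.normalizer (K : Set G))
    (hCK : Subgroup.centralizer (P : Set G) ≤ K)
    {ξ : Subgroup.centralizer (P : Set G) → ℂ}
    (hξ : IsIrrCharacter (Subgroup.centralizer (P : Set G)) ξ)
    {f : Set (IrrCharacter K)} (hf : IsPBlock M f) (hst : ∀ q ∈ P, StabilizesBlock K f q) :
    MemLocalIdeal M (omega ξ (resC hCK (blockCoeff f)) * omega ξ (resC hCK (blockCoeff f)) -
      omega ξ (resC hCK (blockCoeff f))) := by
  have hM : M.IsPrime := isPrime_of_isPModular hpM
  have hks := kStable_blockCoeff hM hPK hf hst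
  obtain ⟨θ₀, rfl⟩ := hf
  have hz := ZS.blockCoeff hpM θ₀
  have h1 := lam_mul hpM hP hPK hCK hz hz hks hks hξ
  rw [conv_blockCoeff_self] at h1
  have := memLocalIdeal_neg h1
  rwa [neg_sub] at this

/-- **Existence.** There is a `P`-stable block of `K` on whose idempotent the Brauer central
character `ξ` takes the value `1`. -/
theorem exists_stable_block (hpM : IsPModular p M) {P K : Subgroup G} [Fintype K]
    [Fintype (Subgroup.centralizer (P : Set G))] (hP : IsPGroup p P)
    (hPK : P ≤ Subgroup.normalizer (K : Set G))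
    (hCK : Subgroup.centralizer (P : Set G) ≤ K)
    {ξ : Subgroup.centralizer (P : Set G) → ℂ}
    (hξ : IsIrrCharacter (Subgroup.centralizer (P : Set G)) ξ) :
    ∃ f : Set (IrrCharacter K), IsPBlock M f ∧ (∀ q ∈ P, StabilizesBlock K f q) ∧
      MemLocalIdeal M (omega ξ (resC hCK (blockCoeff f)) - 1) := by
  classical
  have hM : M.IsPrime := isPrime_of_isPModular hpM
  have := Fintype.ofFinite (IrrCharacter K)
  by_contra hcon
  push Not at hcon
  letI := irrAct P K hPK
  have hsum := pgroup_sum_mem (Q := P) (X := Set (IrrCharacter K)) hP hpM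
    (fun S => if IsPBlock M S then omega ξ (resC hCK (blockCoeff S)) else 0) ?_ ?_ ?_
  · -- the sum is `1`
    have e1 : ∑ S : Set (IrrCharacter K),
        (if IsPBlock M S then omega ξ (resC hCK (blockCoeff S)) else 0) =
        omega ξ (fun x => ∑ S : Set (IrrCharacter K),
          (fun S x => if IsPBlock M S then resC hCK (blockCoeff S) x else 0) S x) := by
      rw [omega_finset_sum]
      refine Finset.sum_congr rfl fun S _ => ?_
      split_ifs with hS
      · rfl
      · exact (omega_zero ξ).symm
    have e2 : (fun x => ∑ S : Set (IrrCharacter K),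
          (fun S x => if IsPBlock M S then resC hCK (blockCoeff S) x else 0) S x) =
        (deltaOne : Subgroup.centralizer (P : Set G) → ℂ) := by
      funext x
      rw [← resC_deltaOne hCK]
      exact sum_blocks_blockCoeff hM (Subgroup.inclusion hCK x)
    rw [e1, e2, omega_deltaOne _ (irr_one_ne_zero hξ)] at hsum
    exact not_memLocalIdeal_one hM hsum
  · -- invariance
    intro q S
    show (if IsPBlock M (q • S) then omega ξ (resC hCK (blockCoeff (q • S))) else 0) =
      if IsPBlock M S then omega ξ (resC hCK (blockCoeff S)) else 0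
    have hiff : IsPBlock M (q • S) ↔ IsPBlock M S := by
      constructor
      · intro h
        have h2 : IsPBlock M (q⁻¹ • (q • S)) := isPBlock_irrMap_image _ h
        rwa [inv_smul_smul] at h2
      · intro h
        exact isPBlock_irrMap_image _ h
    have hres : resC hCK (blockCoeff (q • S)) = resC hCK (blockCoeff S) :=
      resC_blockCoeff_cjIrr hPK hCK S q
    by_cases hS : IsPBlock M S
    · rw [if_pos hS, if_pos (hiff.mpr hS), hres]
    · rw [if_neg hS, if_neg (fun h => hS (hiff.mp h))]
  · -- local ring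
    intro S
    split_ifs with hS
    · obtain ⟨θ₀, rfl⟩ := hS
      have hz := resC_ZS hCK (ZS.blockCoeff hpM θ₀)
      exact memLocalRing_omega hM hξ hz.1 hz.2
    · exact memLocalRing_zero hM
  · -- fixed points
    intro S hS
    show MemLocalIdeal M (if IsPBlock M S then omega ξ (resC hCK (blockCoeff S)) else 0)
    split_ifs with hB
    · have hst : ∀ q ∈ P, StabilizesBlock K S q := by
        intro q hq
        exact stabilizesBlock_of_image_eq K (hPK hq) (hS ⟨q, hq⟩)
      have h1 := hcon S hB hst
      obtain ⟨θ₀, hθ₀⟩ := hB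
      have hz := resC_ZS hCK (ZS.blockCoeff hpM θ₀)
      rw [← hθ₀] at hz
      exact u_idem_cases hM (memLocalRing_omega hM hξ hz.1 hz.2)
        (u_idem hpM hP hPK hCK hξ ⟨θ₀, hθ₀⟩ hst) h1
    · exact memLocalIdeal_zero hM

/-- **Uniqueness.** -/
theorem stable_block_unique (hpM : IsPModular p M) {P K : Subgroup G} [Fintype K]
    [Fintype (Subgroup.centralizer (P : Set G))] (hP : IsPGroup p P)
    (hPK : P ≤ Subgroup.normalizer (K : Set G))
    (hCK : Subgroup.centralizer (P : Set G) ≤ K)
    {ξ : Subgroup.centralizer (P : Set G) → ℂ}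
    (hξ : IsIrrCharacter (Subgroup.centralizer (P : Set G)) ξ)
    {f f' : Set (IrrCharacter K)} (hf : IsPBlock M f) (hf' : IsPBlock M f')
    (hst : ∀ q ∈ P, StabilizesBlock K f q) (hst' : ∀ q ∈ P, StabilizesBlock K f' q)
    (h1 : MemLocalIdeal M (omega ξ (resC hCK (blockCoeff f)) - 1))
    (h1' : MemLocalIdeal M (omega ξ (resC hCK (blockCoeff f')) - 1)) : f = f' := by
  classical
  have hM : M.IsPrime := isPrime_of_isPModular hpM
  by_contra hne
  have hks := kStable_blockCoeff hM hPK hf hst
  have hks' := kStable_blockCoeff hM hPK hf' hst'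
  have hz : ZS M (blockCoeff f) := by obtain ⟨θ₀, rfl⟩ := hf; exact ZS.blockCoeff hpM θ₀
  have hz' : ZS M (blockCoeff f') := by obtain ⟨θ₀, rfl⟩ := hf'; exact ZS.blockCoeff hpM θ₀
  have hconv : conv (blockCoeff f) (blockCoeff f') = 0 := by
    apply eq_of_omega_eq (conv_isClassFunction hz.1 hz'.1) (fun _ _ => rfl)
    intro θ
    rw [omega_conv θ.2 hz.1 hz'.1, omega_blockCoeff, omega_blockCoeff, omega_zero]
    by_cases hθ : θ ∈ f
    · by_cases hθ' : θ ∈ f'
      · exact absurd (eq_of_isPBlock_of_mem hM hf hf' hθ hθ') hne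
      · rw [if_neg hθ', mul_zero]
    · rw [if_neg hθ, zero_mul]
  have h2 := lam_mul hpM hP hPK hCK hz hz' hks hks' hξ
  rw [hconv] at h2
  have e0 : resC hCK (0 : K → ℂ) = 0 := rfl
  rw [e0, omega_zero, zero_sub] at h2
  have h3 := memLocalIdeal_neg h2
  rw [neg_neg] at h3
  have hr := resC_ZS hCK hz
  have h4 := cong_mul hM (memLocalRing_omega hM hξ (resC_ZS hCK hz').1 (resC_ZS hCK hz').2)
    (memLocalRing_one hM) h1 h1'
  rw [mul_one] at h4
  have h5 := memLocalIdeal_sub hM h3 h4
  rw [sub_sub_cancel] at h5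
  exact not_memLocalIdeal_one hM h5

end Cfsg.Agent.Lib.Helper77
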