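import Cfsg.Agent.Lib.Helper77.BPairE

/-!
# Brauer pairs: normal inclusion, basic theorems
-/

set_option autoImplicit false

universe u

namespace Cfsg.Agent.Lib.Helper77

open Cfsg
open Cfsg.Agent.Lib.Helper81
open Cfsg.Agent.Lib.Helper80

variable {G : Type u} [Group G]

theorem brauerOmega_sbc {P K : Subgroup G} [Fintype (Subgroup.centralizer (P : Set G))]
    (hCK : Subgroup.centralizer (P : Set G) ≤ K) (f : Set (IrrCharacter K))
    (ξ : Subgroup.centralizer (P : Set G) → ℂ) :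
    brauerOmega P (subgroupBlockCoeff K f) ξ = omega ξ (resC hCK (blockCoeff f)) := by
  rw [brauerOmega_eq_omega, subgroupBlockCoeff_eq_extK, brRes_extK hCK]

theorem normalizer_le_normalizer_centralizer_of_le {P Q : Subgroup G}
    (hPN : P ≤ Subgroup.normalizer (Q : Set G)) :
    P ≤ Subgroup.normalizer ((Subgroup.centralizer (Q : Set G) : Subgroup G) : Set G) :=
  fun _ hx => Cfsg.Agent.S4691.normalizer_le_normalizer_centralizer' Q (hPN hx)

theorem isNormalSubpair_iff {p : ℕ} {M : Ideal AlgInt} {P Q : Subgroup G}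
    [Fintype (Subgroup.centralizer (P : Set G))]
    {e : Set (IrrCharacter (Subgroup.centralizer (P : Set G)))}
    (hPe : IsBrauerPair p M P e) (hQP : Q ≤ P) (hPN : P ≤ Subgroup.normalizer (Q : Set G))
    (f : Set (IrrCharacter (Subgroup.centralizer (Q : Set G)))) :
    IsNormalSubpair p M Q f P e ↔ IsPBlock M f ∧
      (∀ x ∈ P, StabilizesBlock (Subgroup.centralizer (Q : Set G)) f x) ∧
      ∀ ξ ∈ e, MemLocalIdeal M (omega (ξ : Subgroup.centralizer (P : Set G) → ℂ)
        (resC (Subgroup.centralizer_le hQP) (blockCoeff f)) - 1) := by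
  constructor
  · rintro ⟨h1, -, -, -, h5, h6⟩
    refine ⟨h1.2, h5, fun ξ hξ => ?_⟩
    have := h6 ξ hξ
    rwa [brauerOmega_sbc (Subgroup.centralizer_le hQP)] at this
  · rintro ⟨h1, h2, h3⟩
    refine ⟨⟨hPe.1.to_le hQP, h1⟩, hPe, hQP, hPN, h2, fun ξ hξ => ?_⟩
    rw [brauerOmega_sbc (Subgroup.centralizer_le hQP)]
    exact h3 ξ hξ

/-- **Unique normal subpair.** -/
theorem existsUnique_isNormalSubpair [Fintype G] {p : ℕ} [Fact p.Prime] {M : Ideal AlgInt}
    (hpM : IsPModular p M) {P Q : Subgroup G}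
    {e : Set (IrrCharacter (Subgroup.centralizer (P : Set G)))}
    (hPe : IsBrauerPair p M P e) (hQP : Q ≤ P) (hPN : P ≤ Subgroup.normalizer (Q : Set G)) :
    ∃! f : Set (IrrCharacter (Subgroup.centralizer (Q : Set G))),
      IsNormalSubpair p M Q f P e := by
  classical
  have hM : M.IsPrime := isPrime_of_isPModular hpM
  have := Fintype.ofFinite (Subgroup.centralizer (P : Set G))
  have := Fintype.ofFinite (Subgroup.centralizer (Q : Set G))
  have hPK := normalizer_le_normalizer_centralizer_of_le hPN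
  have hCK : Subgroup.centralizer (P : Set G) ≤ Subgroup.centralizer (Q : Set G) :=
    Subgroup.centralizer_le hQP
  obtain ⟨ξ₀, he⟩ := hPe.2
  have hξ₀ : ξ₀ ∈ e := by rw [he]; exact sameBlock_refl hM _
  obtain ⟨f, hf, hst, h1⟩ := exists_stable_block hpM hPe.1 hPK hCK ξ₀.2
  refine ⟨f, (isNormalSubpair_iff hPe hQP hPN f).mpr ⟨hf, hst, fun ξ hξ => ?_⟩, ?_⟩
  · have hz : ZS M (blockCoeff f) := by obtain ⟨θ₀, rfl⟩ := hf; exact ZS.blockCoeff hpM θ₀
    have hr := resC_ZS hCK hz
    rw [he] at hξ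
    have h2 := memLocalIdeal_omega_sub hM (isClassFunction_of_isCharacter ξ.2)
      (isClassFunction_of_isCharacter ξ₀.2) (sameBlock_symm hξ) hr.1 hr.2
    exact cong_trans hM h2 h1
  · intro f' hf'
    obtain ⟨hf'1, hf'2, hf'3⟩ := (isNormalSubpair_iff hPe hQP hPN f').mp hf'
    exact stable_block_unique hpM hPe.1 hPK hCK ξ₀.2 hf'1 hf hf'2 hst (hf'3 ξ₀ hξ₀) h1

end Cfsg.Agent.Lib.Helper77
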