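import Cfsg.Agent.Lib.Helper77.ExtThird
import Cfsg.Agent.Lib.Helper77.BPairG

/-!
# Brauer pairs: a numerical criterion for a normal `p`-subgroup to be a defect group
-/

set_option autoImplicit false

universe u

namespace Cfsg.Agent.Lib.Helper77

open Cfsg
open Cfsg.Agent.Lib.Helper81
open Cfsg.Agent.Lib.Helper80
open Cfsg.Agent.Lib.Helper16
open scoped Pointwise

variable {G : Type u} [Group G]

/-- Normal case, backward direction: if the stabilizer of `b` has index prime to `p` over `H`,
the induced block has defect group `P`. -/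
theorem isDefectGroup_of_card_le [Fintype G] {p : ℕ} [Fact p.Prime] {M : Ideal AlgInt}
    (hpM : IsPModular p M) (P : Subgroup G) [hPn : P.Normal] (hP : IsPGroup p P)
    (H : Subgroup G) [hH : H.Normal] [Fintype H]
    (hCH : Subgroup.centralizer (P : Set G) ≤ H) {b : Set (IrrCharacter H)}
    {B : Set (IrrCharacter G)}
    (hind : IsInducedBlock M H b B) (T : Subgroup G)
    (hT : ∀ g : G, (∀ θ ∈ b, conjIrr H g θ ∈ b) → (∀ θ ∈ b, conjIrr H g⁻¹ θ ∈ b) → g ∈ T)
    (hnum : (Nat.card T).factorization p + blockDefect p b ≤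
      (Nat.card H).factorization p + (Nat.card P).factorization p) :
    IsDefectGroup p M B P := by
  classical
  have hM : M.IsPrime := isPrime_of_isPModular hpM
  have hp : p.Prime := Fact.out
  obtain ⟨θ₀, hbθ₀⟩ := hind.1
  obtain ⟨χ₀, hBχ₀⟩ := hind.2.1
  have hχ₀B : χ₀ ∈ B := by rw [hBχ₀]; exact sameBlock_refl hM _
  -- the order of `P`
  have hPcard : Nat.card P = p ^ (Nat.card P).factorization p := by
    obtain ⟨n, hn⟩ := IsPGroup.iff_card.mp hP
    rw [hn, hp.factorization_pow, Finsupp.single_eq_same]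
  -- every member of `B` has degree divisible by `p ^ (a - d)`
  have hdeg : ∀ χ ∈ B, (Nat.card G).factorization p ≤
      (charDegree (χ : G → ℂ)).factorization p + (Nat.card P).factorization p := by
    intro χ hχ
    obtain ⟨ψ, hψ⟩ := Cfsg.Agent.Lib.Helper16.exists_constituent H χ
    have hcov := isInducedBlock_of_cover hpM P hP H hCH ψ χ₀ (by rw [← hBχ₀]; exact hχ)
      (sameBlock_refl hM _) hψ
    rw [← hBχ₀] at hcov
    obtain ⟨n, hn⟩ := exists_conj_of_isInducedBlock hpM H hcov hind
    have hθ'b : conjIrr H n ψ ∈ b := hn ψ (sameBlock_refl hM _)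
    have hχcl : IsClassFunction G (χ : G → ℂ) := isClassFunction_of_isCharacter χ.2
    have hne : classInner (fun h : H => (χ : G → ℂ) h) (conjIrr H n ψ : H → ℂ) ≠ 0 := by
      rw [coe_conjIrr_eq_conjFun, ← Cfsg.Agent.Lib.Helper75.conjFun_restrict H n hχcl,
        Cfsg.Agent.Lib.Helper75.classInner_conjFun]
      exact hψ
    have hdegf := Cfsg.Agent.Lib.Helper79.clifford_degree H χ.2 (conjIrr H n ψ).2 hne
    obtain ⟨e, he⟩ := Cfsg.Agent.Lib.Helper79.classInner_character_eq_natCast
      (Cfsg.Agent.Lib.Helper79.isCharacter_restrict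
        (Cfsg.Agent.Lib.Helper3.IsIrrCharacter.isCharacter χ.2) H)
      (Cfsg.Agent.Lib.Helper3.IsIrrCharacter.isCharacter (conjIrr H n ψ).2)
    rw [he, irr_apply_one_eq_charDegree χ, irr_apply_one_eq_charDegree (conjIrr H n ψ)] at hdegf
    have hdegN : charDegree (χ : G → ℂ) =
        e * (Cfsg.Agent.Lib.Helper79.inertia H (conjIrr H n ψ : H → ℂ)).index *
          charDegree (conjIrr H n ψ : H → ℂ) := by exact_mod_cast hdegf
    -- the inertia group lies in `T`
    have hIT : Cfsg.Agent.Lib.Helper79.inertia H (conjIrr H n ψ : H → ℂ) ≤ T := by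
      have key : ∀ g ∈ Cfsg.Agent.Lib.Helper79.inertia H (conjIrr H n ψ : H → ℂ),
          ∀ θ ∈ b, conjIrr H g θ ∈ b := by
        intro g hg θ hθ
        rw [Cfsg.Agent.Lib.Helper79.mem_inertia, ← coe_conjIrr_eq_conjFun] at hg
        have h1 : conjIrr H g (conjIrr H n ψ) = conjIrr H n ψ := Subtype.ext hg
        rw [hbθ₀] at hθ hθ'b ⊢
        have h2 : SameBlock M (conjIrr H g (conjIrr H n ψ) : H → ℂ) (conjIrr H g θ : H → ℂ) :=
          sameBlock_conjIrr H g (sameBlock_trans hM (sameBlock_symm hθ'b) hθ)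
        rw [h1] at h2
        exact sameBlock_trans hM hθ'b h2
      intro g hg
      exact hT g (key g hg) (key g⁻¹ (Subgroup.inv_mem _ hg))
    have hχ0 : charDegree (χ : G → ℂ) ≠ 0 := (irr_charDegree_pos χ).ne'
    have hθ0 : charDegree (conjIrr H n ψ : H → ℂ) ≠ 0 := (irr_charDegree_pos _).ne'
    have he0 : e ≠ 0 := by
      intro h
      rw [h, zero_mul, zero_mul] at hdegN
      exact hχ0 hdegN
    have hI0 : (Cfsg.Agent.Lib.Helper79.inertia H (conjIrr H n ψ : H → ℂ)).index ≠ 0 :=
      Subgroup.index_ne_zero_of_finite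
    have h1 : (charDegree (χ : G → ℂ)).factorization p =
        e.factorization p +
          (Cfsg.Agent.Lib.Helper79.inertia H (conjIrr H n ψ : H → ℂ)).index.factorization p +
          (charDegree (conjIrr H n ψ : H → ℂ)).factorization p := by
      rw [hdegN, Nat.factorization_mul (mul_ne_zero he0 hI0) hθ0,
        Nat.factorization_mul he0 hI0, Finsupp.add_apply, Finsupp.add_apply]
    -- index computations
    have hTi0 : T.index ≠ 0 := Subgroup.index_ne_zero_of_finite
    have h2 : T.index.factorization p ≤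
        (Cfsg.Agent.Lib.Helper79.inertia H (conjIrr H n ψ : H → ℂ)).index.factorization p := by
      have hd : T.index ∣ (Cfsg.Agent.Lib.Helper79.inertia H (conjIrr H n ψ : H → ℂ)).index :=
        Subgroup.index_dvd_of_le hIT
      exact (Nat.factorization_le_iff_dvd hTi0 hI0).mpr hd p
    have h3 : (Nat.card G).factorization p =
        (Nat.card T).factorization p + T.index.factorization p := by
      rw [← Subgroup.card_mul_index T, Nat.factorization_mul Nat.card_pos.ne' hTi0,
        Finsupp.add_apply]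
    have h6 : minDegVal p b ≤ (charDegree (conjIrr H n ψ : H → ℂ)).factorization p :=
      minDegVal_le p hθ'b
    have h7 : minDegVal p b ≤ (Nat.card H).factorization p :=
      minDegVal_le_card p ⟨_, hθ'b⟩
    rw [blockDefect_eq] at hnum
    omega
  -- the defect of `B`
  obtain ⟨χ₁, hχ₁B, hχ₁⟩ := exists_minDegVal p (B := B) ⟨χ₀, hχ₀B⟩
  have hdB : blockDefect p B ≤ (Nat.card P).factorization p := by
    have h1 := hdeg χ₁ hχ₁B
    rw [hχ₁] at h1
    rw [blockDefect_eq p B]
    omega
  -- a defect group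
  rw [hBχ₀]
  obtain ⟨E, hE⟩ := exists_isDefectGroup hpM χ₀
  rw [← hBχ₀] at hE ⊢
  have hEcard := Cfsg.Agent.S0908.result p M hpM B hind.2.1 E hE
  have hPE : P ≤ E :=
    (Cfsg.Agent.Lib.Helper84.le_pCore hPn hP).trans
      (Cfsg.Agent.S0912.result p M hpM B hind.2.1 E hE)
  have hle : Nat.card E ≤ Nat.card P := by
    rw [hEcard, hPcard]
    exact Nat.pow_le_pow_right hp.pos hdB
  have : P = E := by
    apply SetLike.coe_injective
    exact Set.eq_of_subset_of_ncard_le hPE hle (Set.toFinite _)
  rw [this]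
  exact hE


end Cfsg.Agent.Lib.Helper77
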