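import Cfsg.Agent.Lib.Helper77.BPairH

/-!
# Brauer pairs: the block of `S C_G(P)` covering a stable block of `C_G(P)`
-/

set_option autoImplicit false

universe u

namespace Cfsg.Agent.Lib.Helper77

open Cfsg
open Cfsg.Agent.Lib.Helper81
open Cfsg.Agent.Lib.Helper80
open Cfsg.Agent.Lib.Helper16
open scoped Pointwise

variable {G : Type u} [Group G]

/-- The stabilizer of a set of characters of `K` in the normalizer of `K`, as a subgroup. -/
noncomputable def stabSub (K : Subgroup G) (e : Set (IrrCharacter K)) : Subgroup G :=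
  (letI := irrAct (Subgroup.normalizer (K : Set G)) K le_rfl
   MulAction.stabilizer (Subgroup.normalizer (K : Set G)) e).map
    (Subgroup.normalizer (K : Set G)).subtype

theorem mem_stabSub_iff {M : Ideal AlgInt} (hM : M.IsPrime) (K : Subgroup G)
    {e : Set (IrrCharacter K)} (he : IsPBlock M e) {x : G} :
    x ∈ stabSub K e ↔ StabilizesBlock K e x := by
  constructor
  · rintro ⟨y, hy, rfl⟩
    exact stabilizesBlock_of_image_eq K y.2 hy
  · intro h
    exact ⟨⟨x, h.1⟩, cjIrr_image_eq_of_stabilizes hM K he h.1 h, rfl⟩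

theorem stabilizesBlock_of_mem (K : Subgroup G) [Fintype K] (e : Set (IrrCharacter K)) {x : G}
    (hx : x ∈ K) : StabilizesBlock K e x := by
  refine ⟨Subgroup.le_normalizer hx, fun θ hθ => ⟨θ, hθ, fun k k' hk => ?_⟩⟩
  have h1 : k' = ⟨x, hx⟩ * k * ⟨x, hx⟩⁻¹ := Subtype.ext (by rw [hk]; rfl)
  rw [h1]
  exact isClassFunction_of_isCharacter θ.2 k ⟨x, hx⟩

section

variable [Fintype G] {p : ℕ} [Fact p.Prime] {M : Ideal AlgInt}

/-- **Claim X, part (a).** -/
theorem claimX_a (hpM : IsPModular p M) {P L : Subgroup G}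
    (hCL : Subgroup.centralizer (P : Set G) ≤ L) (hLN : L ≤ Subgroup.normalizer (P : Set G))
    {e : Set (IrrCharacter (Subgroup.centralizer (P : Set G)))} (he : IsPBlock M e)
    (hLe : ∀ x ∈ L, StabilizesBlock (Subgroup.centralizer (P : Set G)) e x)
    (hidx : ∃ k : ℕ, (Subgroup.centralizer (P : Set G)).relIndex L = p ^ k) :
    ∃ B₁ : Set (IrrCharacter L), IsPBlock M B₁ ∧
      (∀ l : L, blockCoeff B₁ l =
        subgroupBlockCoeff (Subgroup.centralizer (P : Set G)) e (l : G)) ∧
      ∀ D' : Subgroup L, IsDefectGroup p M B₁ D' →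
        ((Subgroup.centralizer (P : Set G)).subgroupOf L ⊔ D' = ⊤ ∧
          IsDefectGroup p M e ((D'.map L.subtype ⊓ Subgroup.centralizer (P : Set G)).subgroupOf
            (Subgroup.centralizer (P : Set G)))) := by
  classical
  have hM : M.IsPrime := isPrime_of_isPModular hpM
  have := Fintype.ofFinite L
  have := Fintype.ofFinite ((Subgroup.centralizer (P : Set G)).subgroupOf L)
  have hN₁ : ((Subgroup.centralizer (P : Set G)).subgroupOf L).Normal := by
    refine ⟨fun n hn l => ?_⟩
    show ((l * n * l⁻¹ : L) : G) ∈ Subgroup.centralizer (P : Set G)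
    push_cast
    exact (conj_mem_centralizer_iff (hLN l.2)).mpr hn
  have hc : IsPBlock M (irrMap (Subgroup.subgroupOfEquivOfLe hCL) '' e) :=
    isPBlock_irrMap_image _ he
  have hst : ∀ g : L, ∀ θ ∈ irrMap (Subgroup.subgroupOfEquivOfLe hCL) '' e,
      conjIrr ((Subgroup.centralizer (P : Set G)).subgroupOf L) g θ ∈
        irrMap (Subgroup.subgroupOfEquivOfLe hCL) '' e := by
    rintro g _ ⟨θ₀, hθ₀, rfl⟩
    have hg' : ((g : G))⁻¹ ∈ L := L.inv_mem g.2
    have hstab := hLe _ hg'
    have hx := hstab.1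
    have himg := cjIrr_image_eq_of_stabilizes hM _ he hx hstab
    refine ⟨cjIrr _ ((g : G))⁻¹ hx θ₀, ?_, ?_⟩
    · have h0 : cjIrr _ ((g : G))⁻¹ hx θ₀ ∈ cjIrr _ ((g : G))⁻¹ hx '' e :=
        Set.mem_image_of_mem _ hθ₀
      rwa [himg] at h0
    · apply Subtype.ext
      funext n
      rw [conjIrr_apply, irrMap_apply, irrMap_apply, cjIrr_apply]
      refine congrArg _ (Subtype.ext ?_)
      rw [coe_conjAut, inv_inv]
      rfl
  obtain ⟨B₁, hB₁, hBc⟩ := exists_block_blockCoeff_eq hpM
    ((Subgroup.centralizer (P : Set G)).subgroupOf L) hidx hc hst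
  refine ⟨B₁, hB₁, fun l => ?_, fun D' hD' => ?_⟩
  · rw [hBc l]
    by_cases hl : (l : G) ∈ Subgroup.centralizer (P : Set G)
    · have hl' : l ∈ (Subgroup.centralizer (P : Set G)).subgroupOf L := hl
      rw [subgroupBlockCoeff_of_mem _ hl', subgroupBlockCoeff_of_mem _ hl,
        blockCoeff_irrMap_image]
      rfl
    · have hl' : l ∉ (Subgroup.centralizer (P : Set G)).subgroupOf L := hl
      rw [subgroupBlockCoeff_of_not_mem _ hl', subgroupBlockCoeff_of_not_mem _ hl]
  · obtain ⟨h1, h2⟩ := stable_block_defect hpM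
      ((Subgroup.centralizer (P : Set G)).subgroupOf L) hidx hc hst hB₁ hBc hD'
    refine ⟨h1, ?_⟩
    have h3 := isDefectGroup_irrMap_image (Subgroup.subgroupOfEquivOfLe hCL).symm h2
    have e1 : irrMap (Subgroup.subgroupOfEquivOfLe hCL).symm ''
        (irrMap (Subgroup.subgroupOfEquivOfLe hCL) '' e) = e := by
      rw [Set.image_image]
      simp_rw [irrMap_symm_irrMap]
      exact Set.image_id' e
    rw [e1] at h3
    have e2 : ((D' ⊓ (Subgroup.centralizer (P : Set G)).subgroupOf L).subgroupOf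
        ((Subgroup.centralizer (P : Set G)).subgroupOf L)).comap
        (Subgroup.subgroupOfEquivOfLe hCL).symm.toMonoidHom =
        (D'.map L.subtype ⊓ Subgroup.centralizer (P : Set G)).subgroupOf
          (Subgroup.centralizer (P : Set G)) := by
      ext x
      rw [Subgroup.mem_comap, Subgroup.mem_subgroupOf, Subgroup.mem_subgroupOf,
        Subgroup.mem_inf, Subgroup.mem_inf]
      constructor
      · rintro ⟨h4, -⟩
        exact ⟨⟨_, h4, rfl⟩, x.2⟩
      · rintro ⟨⟨l, hl, hlx⟩, -⟩
        refine ⟨?_, ((Subgroup.subgroupOfEquivOfLe hCL).symm x).2⟩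
        have : (((Subgroup.subgroupOfEquivOfLe hCL).symm x :
            (Subgroup.centralizer (P : Set G)).subgroupOf L) : L) = l := by
          apply Subtype.ext
          show ((x : Subgroup.centralizer (P : Set G)) : G) = L.subtype l
          exact hlx.symm
        rw [MulEquiv.coe_toMonoidHom, this]
        exact hl
    rw [e2] at h3
    exact h3

end

end Cfsg.Agent.Lib.Helper77
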