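import Cfsg.Agent.Lib.Helper77.BPairK
import Cfsg.Agent.S4681

/-!
# Brauer pairs: transport under conjugation
-/

set_option autoImplicit false

universe u

namespace Cfsg.Agent.Lib.Helper77

open Cfsg
open Cfsg.Agent.Lib.Helper81
open Cfsg.Agent.Lib.Helper80
open Cfsg.Agent.S4681 (centConj)

variable {G : Type u} [Group G]

theorem coe_centConj (Q : Subgroup G) (x : G)
    (c : Subgroup.centralizer ((Q.map (MulAut.conj x).toMonoidHom : Subgroup G) : Set G)) :
    ((centConj Q x c : Subgroup.centralizer (Q : Set G)) : G) = x⁻¹ * (c : G) * x := rfl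

/-- The conjugate block is the image under the conjugation isomorphism. -/
theorem conjBlock_eq_image (Q : Subgroup G) (x : G)
    (f : Set (IrrCharacter (Subgroup.centralizer (Q : Set G)))) :
    conjBlock Q x f = irrMap (centConj Q x) '' f := by
  ext ξ'
  constructor
  · rintro ⟨ξ, hξ, hrel⟩
    refine ⟨ξ, hξ, ?_⟩
    apply Subtype.ext
    funext c'
    rw [irrMap_apply]
    symm
    apply hrel
    show (c' : G) = x * (x⁻¹ * (c' : G) * x) * x⁻¹
    group
  · rintro ⟨ξ, hξ, rfl⟩
    refine ⟨ξ, hξ, ?_⟩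
    intro c c' hcc
    rw [irrMap_apply]
    have hcc' : centConj Q x c' = c := by
      apply Subtype.ext
      show x⁻¹ * (c' : G) * x = (c : G)
      rw [hcc]
      group
    rw [hcc']

theorem mem_centralizer_map_conj_iff (Q : Subgroup G) (x y : G) :
    y ∈ Subgroup.centralizer ((Q.map (MulAut.conj x).toMonoidHom : Subgroup G) : Set G) ↔
      x⁻¹ * y * x ∈ Subgroup.centralizer (Q : Set G) := by
  constructor
  · intro hy
    exact (centConj Q x ⟨y, hy⟩).2
  · intro hy
    have := ((centConj Q x).symm ⟨x⁻¹ * y * x, hy⟩).2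
    have e : (((centConj Q x).symm ⟨x⁻¹ * y * x, hy⟩ :
        Subgroup.centralizer ((Q.map (MulAut.conj x).toMonoidHom : Subgroup G) : Set G)) : G) =
        y := by
      show x * (x⁻¹ * y * x) * x⁻¹ = y
      group
    rwa [e] at this

theorem subgroupBlockCoeff_conjBlock (Q : Subgroup G) (x : G)
    (f : Set (IrrCharacter (Subgroup.centralizer (Q : Set G)))) (y : G) :
    subgroupBlockCoeff
      (Subgroup.centralizer ((Q.map (MulAut.conj x).toMonoidHom : Subgroup G) : Set G))
      (conjBlock Q x f) y =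
    subgroupBlockCoeff (Subgroup.centralizer (Q : Set G)) f (x⁻¹ * y * x) := by
  by_cases hy : y ∈ Subgroup.centralizer
      ((Q.map (MulAut.conj x).toMonoidHom : Subgroup G) : Set G)
  · have hy' := (mem_centralizer_map_conj_iff Q x y).mp hy
    rw [subgroupBlockCoeff_of_mem _ hy, subgroupBlockCoeff_of_mem _ hy', conjBlock_eq_image,
      blockCoeff_irrMap_image]
    rfl
  · have hy' : x⁻¹ * y * x ∉ Subgroup.centralizer (Q : Set G) :=
      fun h => hy ((mem_centralizer_map_conj_iff Q x y).mpr h)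
    rw [subgroupBlockCoeff_of_not_mem _ hy, subgroupBlockCoeff_of_not_mem _ hy']

theorem isBrauerPair_conj {p : ℕ} {M : Ideal AlgInt} {Q : Subgroup G}
    {f : Set (IrrCharacter (Subgroup.centralizer (Q : Set G)))} (h : IsBrauerPair p M Q f)
    (x : G) :
    IsBrauerPair p M (Q.map (MulAut.conj x).toMonoidHom) (conjBlock Q x f) := by
  refine ⟨h.1.map _, ?_⟩
  rw [conjBlock_eq_image]
  exact isPBlock_irrMap_image _ h.2

/-- Conjugation preserves the block of a Brauer pair. -/
theorem isBrauerPairOf_conj [Fintype G] {p : ℕ} {M : Ideal AlgInt} {B : Set (IrrCharacter G)}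
    {Q : Subgroup G} {f : Set (IrrCharacter (Subgroup.centralizer (Q : Set G)))}
    (h : IsBrauerPairOf p M B Q f) (x : G) :
    IsBrauerPairOf p M B (Q.map (MulAut.conj x).toMonoidHom) (conjBlock Q x f) := by
  refine ⟨isBrauerPair_conj h.1 x, h.2.1, ?_⟩
  rw [conjBlock_eq_image]
  rintro _ ⟨ξ, hξ, rfl⟩
  have h1 := h.2.2 ξ hξ
  have e1 : brauerOmega (Q.map (MulAut.conj x).toMonoidHom) (blockCoeff B)
      (irrMap (centConj Q x) ξ : _ → ℂ) =
      brauerOmega Q (blockCoeff B) (ξ : Subgroup.centralizer (Q : Set G) → ℂ) := by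
    unfold brauerOmega
    refine finsum_eq_of_bijective (centConj Q x) (centConj Q x).bijective fun c => ?_
    rw [irrMap_apply, irrMap_apply, map_one, coe_centConj]
    congr 2
    have := blockCoeff_isClassFunction B (c : G) x⁻¹
    rw [inv_inv] at this
    exact this.symm
  rw [e1]
  exact h1

/-- Conjugation preserves normal inclusion of Brauer pairs. -/
theorem isNormalSubpair_conj {p : ℕ} {M : Ideal AlgInt} {Q R : Subgroup G}
    {f : Set (IrrCharacter (Subgroup.centralizer (Q : Set G)))}
    {g : Set (IrrCharacter (Subgroup.centralizer (R : Set G)))}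
    (h : IsNormalSubpair p M Q f R g) (x : G) :
    IsNormalSubpair p M (Q.map (MulAut.conj x).toMonoidHom) (conjBlock Q x f)
      (R.map (MulAut.conj x).toMonoidHom) (conjBlock R x g) := by
  obtain ⟨hQf, hRg, hQR, hRN, hst, h1⟩ := h
  refine ⟨isBrauerPair_conj hQf x, isBrauerPair_conj hRg x, Subgroup.map_mono hQR, ?_, ?_, ?_⟩
  · rw [← Subgroup.map_equiv_normalizer_eq Q (MulAut.conj x)]
    exact Subgroup.map_mono hRN
  · rintro _ ⟨r, hr, rfl⟩
    have hr' := hst r hr
    have hyN : (MulAut.conj x).toMonoidHom r ∈ Subgroup.normalizer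
        ((Q.map (MulAut.conj x).toMonoidHom : Subgroup G) : Set G) := by
      rw [← Subgroup.map_equiv_normalizer_eq Q (MulAut.conj x)]
      exact ⟨r, hRN hr, rfl⟩
    refine ⟨Cfsg.Agent.S4691.normalizer_le_normalizer_centralizer' _ hyN, ?_⟩
    rw [conjBlock_eq_image]
    rintro _ ⟨ξ, hξ, rfl⟩
    obtain ⟨ξ₂, hξ₂, hrel⟩ := hr'.2 ξ hξ
    refine ⟨irrMap (centConj Q x) ξ₂, Set.mem_image_of_mem _ hξ₂, fun k k' hk => ?_⟩
    rw [irrMap_apply, irrMap_apply]
    apply hrel
    rw [coe_centConj, coe_centConj, hk]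
    show x⁻¹ * (x * r * x⁻¹ * (k : G) * (x * r * x⁻¹)⁻¹) * x = r * (x⁻¹ * (k : G) * x) * r⁻¹
    group
  · rw [conjBlock_eq_image R x g]
    rintro _ ⟨ξ, hξ, rfl⟩
    have h2 := h1 ξ hξ
    have e1 : brauerOmega (R.map (MulAut.conj x).toMonoidHom)
        (subgroupBlockCoeff
          (Subgroup.centralizer ((Q.map (MulAut.conj x).toMonoidHom : Subgroup G) : Set G))
          (conjBlock Q x f))
        (irrMap (centConj R x) ξ : _ → ℂ) =
        brauerOmega R (subgroupBlockCoeff (Subgroup.centralizer (Q : Set G)) f)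
          (ξ : Subgroup.centralizer (R : Set G) → ℂ) := by
      unfold brauerOmega
      refine finsum_eq_of_bijective (centConj R x) (centConj R x).bijective fun c => ?_
      rw [irrMap_apply, irrMap_apply, map_one, coe_centConj, subgroupBlockCoeff_conjBlock]
    rw [e1]
    exact h2

/-- Conjugation preserves inclusion of Brauer pairs. -/
theorem subpairLE_conj {p : ℕ} {M : Ideal AlgInt} (x : G) {a b : BrauerPairIdx G}
    (h : Relation.ReflTransGen (NormalSubpairRel p M) a b) :
    Relation.ReflTransGen (NormalSubpairRel p M)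
      ⟨a.1.map (MulAut.conj x).toMonoidHom, conjBlock a.1 x a.2⟩
      ⟨b.1.map (MulAut.conj x).toMonoidHom, conjBlock b.1 x b.2⟩ := by
  induction h with
  | refl => exact Relation.ReflTransGen.refl
  | tail _ hbc ih => exact Relation.ReflTransGen.tail ih (isNormalSubpair_conj hbc x)

end Cfsg.Agent.Lib.Helper77
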