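import Cfsg.Agent.Lib.Helper77.AbLocal

/-!
# Brauer pairs of `B` at `P` are the blocks of `C_G(P)` inducing `B` (helper77)

The two directions are `isInducedBlock_of_isBrauerPairOf` (`BPairG`) and
`isBrauerPairOf_of_isInducedBlock` (`AbLocal`).
-/

set_option autoImplicit false

universe u

namespace Cfsg.Agent.Lib.Helper77

open Cfsg Cfsg.Agent.Lib.Helper81

variable {G : Type u} [Group G] [Fintype G] {p : ℕ} [Fact p.Prime] {M : Ideal AlgInt}

/-- `(P, e)` is a Brauer pair of `B` if and only if `P` is a `p`-group and `e` induces `B`. -/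
theorem isBrauerPairOf_iff_isInducedBlock (hpM : IsPModular p M) {B : Set (IrrCharacter G)}
    {P : Subgroup G} {e : Set (IrrCharacter (Subgroup.centralizer (P : Set G)))} :
    IsBrauerPairOf p M B P e ↔
      IsPGroup p P ∧ IsInducedBlock M (Subgroup.centralizer (P : Set G)) e B :=
  ⟨fun h => ⟨h.1.1, isInducedBlock_of_isBrauerPairOf hpM h⟩,
    fun h => isBrauerPairOf_of_isInducedBlock hpM h.1 h.2⟩

end Cfsg.Agent.Lib.Helper77
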