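import Cfsg.Agent.Lib.Helper77.BPairG
import Cfsg.Agent.Lib.Helper52.Subpairs2

/-!
# Brauer pairs at the subgroups of a defect group (helper77)

Every subgroup `R` of a defect group of the block `B` carries a Brauer pair of `B`; equivalently
some block of `C_G(R)` induces `B`.
-/

set_option autoImplicit false

universe u

namespace Cfsg.Agent.Lib.Helper77

open Cfsg Cfsg.Agent.Lib.Helper81

variable {G : Type u} [Group G] [Fintype G] {p : ℕ} [Fact p.Prime] {M : Ideal AlgInt}

/-- a Brauer pair of `B` at every subgroup of a defect group -/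
theorem exists_isBrauerPairOf_of_le_defect (hpM : IsPModular p M) {B : Set (IrrCharacter G)}
    (hB : IsPBlock M B) {D : Subgroup G} (hD : IsDefectGroup p M B D) {R : Subgroup G}
    (hRD : R ≤ D) :
    ∃ f : Set (IrrCharacter (Subgroup.centralizer (R : Set G))), IsBrauerPairOf p M B R f := by
  obtain ⟨e, he⟩ := exists_isBrauerPairOf_of_isDefectGroup hpM hB hD
  obtain ⟨f, -, hf⟩ := Cfsg.Agent.Lib.Helper52.Subpairs.exists_subpairLE hpM _ D R e rfl he.1 hRD
  exact ⟨f, (Cfsg.Agent.Lib.Helper52.Subpairs.isBrauerPairOf_iff_of_subpairLE hpM hB hf).1 he⟩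

/-- a block of `C_G(R)` inducing `B`, for every subgroup `R` of a defect group -/
theorem exists_isInducedBlock_of_le_defect (hpM : IsPModular p M) {B : Set (IrrCharacter G)}
    (hB : IsPBlock M B) {D : Subgroup G} (hD : IsDefectGroup p M B D) {R : Subgroup G}
    (hRD : R ≤ D) :
    ∃ f : Set (IrrCharacter (Subgroup.centralizer (R : Set G))),
      IsInducedBlock M (Subgroup.centralizer (R : Set G)) f B := by
  obtain ⟨f, hf⟩ := exists_isBrauerPairOf_of_le_defect hpM hB hD hRD
  exact ⟨f, isInducedBlock_of_isBrauerPairOf hpM hf⟩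

/-- if every Sylow `p`-subgroup is a defect group of `B`, every `p`-subgroup carries a block of
its centralizer inducing `B` -/
theorem exists_isInducedBlock_of_sylow_defect (hpM : IsPModular p M) {B : Set (IrrCharacter G)}
    (hB : IsPBlock M B) (hS : ∀ S : Sylow p G, IsDefectGroup p M B (S : Subgroup G))
    {R : Subgroup G} (hR : IsPGroup p R) :
    ∃ f : Set (IrrCharacter (Subgroup.centralizer (R : Set G))),
      IsInducedBlock M (Subgroup.centralizer (R : Set G)) f B := by
  obtain ⟨S, hRS⟩ := hR.exists_le_sylow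
  exact exists_isInducedBlock_of_le_defect hpM hB (hS S) hRS

end Cfsg.Agent.Lib.Helper77
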