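import Cfsg.Agent.Lib.Helper77.LTransC
import Cfsg.Agent.S4654
import Cfsg.Agent.S4661

/-!
# A centric Brauer pair stabilized by the whole group
-/

set_option autoImplicit false

universe u

namespace Cfsg.Agent.Lib.Helper77

open Cfsg
open Cfsg.Agent.Lib.Helper81
open Cfsg.Agent.Lib.Helper80
open scoped Pointwise

/-- A `p`-regular element lies in every normal subgroup of `p`-power index. -/
theorem mem_of_isPRegular_of_index {H : Type u} [Group H] [Finite H] {p : ℕ} [Fact p.Prime]
    (K : Subgroup H) [K.Normal] (hk : ∃ k : ℕ, K.index = p ^ k) {x : H}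
    (hx : IsPRegular p x) : x ∈ K := by
  have hp : p.Prime := Fact.out
  obtain ⟨k, hk⟩ := hk
  have h1 : orderOf (QuotientGroup.mk' K x) ∣ orderOf x := orderOf_map_dvd _ x
  have h2 : orderOf (QuotientGroup.mk' K x) ∣ p ^ k := by
    rw [← hk, Subgroup.index_eq_card]
    exact orderOf_dvd_natCard _
  obtain ⟨j, -, hj⟩ := (Nat.dvd_prime_pow hp).mp h2
  have hj0 : j = 0 := by
    by_contra hne
    apply hx
    refine dvd_trans ?_ h1
    rw [hj]
    exact dvd_pow_self p hne
  rw [hj0, pow_zero, orderOf_eq_one_iff] at hj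
  exact (QuotientGroup.eq_one_iff x).mp hj

variable {G : Type u} [Group G] [Fintype G] {p : ℕ} [Fact p.Prime] {M : Ideal AlgInt}

omit [Fintype G] [Fact p.Prime] in
/-- The idempotent of a stable block of `C_G(Q)` is invariant under conjugation. -/
theorem subgroupBlockCoeff_conj_of_stabilizes (hM : M.IsPrime) {Q : Subgroup G}
    {f : Set (IrrCharacter (Subgroup.centralizer (Q : Set G)))} (hf : IsPBlock M f) {x : G}
    (hst : StabilizesBlock (Subgroup.centralizer (Q : Set G)) f x) (g : G) :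
    subgroupBlockCoeff (Subgroup.centralizer (Q : Set G)) f (x⁻¹ * g * x) =
      subgroupBlockCoeff (Subgroup.centralizer (Q : Set G)) f g := by
  classical
  have hxK := hst.1
  have hxK' : x⁻¹ ∈ Subgroup.normalizer
      ((Subgroup.centralizer (Q : Set G) : Subgroup G) : Set G) := Subgroup.inv_mem _ hxK
  have hiff : x⁻¹ * g * x ∈ Subgroup.centralizer (Q : Set G) ↔
      g ∈ Subgroup.centralizer (Q : Set G) := by
    have := (Subgroup.mem_normalizer_iff.mp hxK' g)
    rw [inv_inv] at this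
    exact this.symm
  by_cases hg : g ∈ Subgroup.centralizer (Q : Set G)
  · rw [subgroupBlockCoeff_of_mem _ hg, subgroupBlockCoeff_of_mem _ (hiff.mpr hg)]
    have h1 := blockCoeff_cjIrr_image _ f x hxK ⟨g, hg⟩
    rw [cjIrr_image_eq_of_stabilizes hM _ hf hxK hst] at h1
    rw [h1]
    rfl
  · rw [subgroupBlockCoeff_of_not_mem _ hg,
      subgroupBlockCoeff_of_not_mem _ (fun h => hg (hiff.mp h))]

/-- **A centric pair stabilized by `G`.** -/
theorem centric_stable_pair (hpM : IsPModular p M) {B : Set (IrrCharacter G)} {P : Subgroup G}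
    {e : Set (IrrCharacter (Subgroup.centralizer (P : Set G)))}
    (hmax : IsMaximalBrauerPair p M B P e) {F : FusionSystem P}
    (hF : IsBlockFusionSystemOn p M B P e F) {Q : Subgroup G}
    {f : Set (IrrCharacter (Subgroup.centralizer (Q : Set G)))} (hQP : Q ≤ P)
    (hf : IsPBlock M f) (hle : SubpairLE p M Q f P e) (hcen : F.IsCentric Q)
    (hG : ∀ x : G, x ∈ Subgroup.normalizer (Q : Set G) ∧
      StabilizesBlock (Subgroup.centralizer (Q : Set G)) f x) :
    (∀ g : G, MemLocalIdeal M (blockCoeff B g -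
        subgroupBlockCoeff (Subgroup.centralizer (Q : Set G)) f g)) ∧
      ∃ F' : Set (IrrCharacter ↥(Q ⊔ Subgroup.centralizer (Q : Set G))), IsPBlock M F' ∧
        (∀ t : ↥(Q ⊔ Subgroup.centralizer (Q : Set G)), blockCoeff F' t =
          subgroupBlockCoeff (Subgroup.centralizer (Q : Set G)) f (t : G)) ∧
        IsNilpotentBlock p M F' := by
  classical
  have hM : M.IsPrime := isPrime_of_isPModular hpM
  have hp : p.Prime := Fact.out
  have hBP := hmax.1
  have hQf : IsBrauerPairOf p M B Q f :=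
    (Cfsg.Agent.Lib.Helper52.Subpairs.isBrauerPairOf_iff_of_subpairLE hpM hBP.2.1 hle).mp hBP
  have hQp : IsPGroup p Q := hQf.1.1
  have hQn : Q.Normal := ⟨fun n hn g => (Subgroup.mem_normalizer_iff.mp (hG g).1 n).mp hn⟩
  constructor
  · intro g
    have h1 := (Cfsg.Agent.S4654.result p M hpM Q hQp B f hQf ⊤
      (fun x => ⟨fun _ => (hG x).2, fun _ => Subgroup.mem_top x⟩)).2 g
    have h2 : ∑ x : G, subgroupBlockCoeff (Subgroup.centralizer (Q : Set G)) f (x⁻¹ * g * x) =
        (Nat.card G : ℂ) * subgroupBlockCoeff (Subgroup.centralizer (Q : Set G)) f g := by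
      rw [Finset.sum_congr rfl (fun x _ =>
        subgroupBlockCoeff_conj_of_stabilizes hM hf (hG x).2 g), Finset.sum_const,
        Finset.card_univ, nsmul_eq_mul, Nat.card_eq_fintype_card]
    have h3 : (Nat.card G : ℂ) ≠ 0 := by
      exact_mod_cast Nat.card_pos.ne'
    rw [h2, Subgroup.card_top, ← mul_assoc, inv_mul_cancel₀ h3, one_mul] at h1
    rw [h1, sub_self]
    exact memLocalIdeal_zero hM
  · -- the block of `Q C_G(Q)` covering `f`
    have hCL : Subgroup.centralizer (Q : Set G) ≤ Q ⊔ Subgroup.centralizer (Q : Set G) :=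
      le_sup_right
    have hLN : Q ⊔ Subgroup.centralizer (Q : Set G) ≤ Subgroup.normalizer (Q : Set G) :=
      fun x _ => (hG x).1
    have hidx := relIndex_centralizer_sup (P := Q) hQp (Subgroup.le_normalizer (H := Q))
    obtain ⟨B₁, hB₁, hB₁c, hB₁D⟩ := claimX_a hpM hCL hLN hf (fun x _ => (hG x).2) hidx
    refine ⟨B₁, hB₁, hB₁c, hB₁, ?_⟩
    have := Fintype.ofFinite ↥(Q ⊔ Subgroup.centralizer (Q : Set G))
    have h61 : ∀ (Q' : Subgroup G)
        (f' : Set (IrrCharacter (Subgroup.centralizer (Q' : Set G)))),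
        Q' ≤ P → IsPBlock M f' → SubpairLE p M Q' f' P e → Concl61 p M P Q' e f' :=
      fun Q' f' hQ' hf' hle' => Cfsg.Agent.S4661.result p M hpM B P Q' e f' hmax hQ' hf' hle'
    have hZ := (centric_iff hpM hF h61 hQP hf hle).mp hcen
    -- every defect group of `B₁` is `Q`
    have hQH : Q ≤ Q ⊔ Subgroup.centralizer (Q : Set G) := le_sup_left
    have hQHn : (Q.subgroupOf (Q ⊔ Subgroup.centralizer (Q : Set G))).Normal :=
      Subgroup.normal_subgroupOf
    have hdefQ : ∀ D' : Subgroup ↥(Q ⊔ Subgroup.centralizer (Q : Set G)),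
        IsDefectGroup p M B₁ D' → D' = Q.subgroupOf (Q ⊔ Subgroup.centralizer (Q : Set G)) := by
      intro D' hD'
      obtain ⟨-, hdf⟩ := hB₁D D' hD'
      have hQD : Q.subgroupOf (Q ⊔ Subgroup.centralizer (Q : Set G)) ≤ D' :=
        (Cfsg.Agent.Lib.Helper84.le_pCore hQHn hQp.comap_subtype).trans
          (Cfsg.Agent.S0912.result p M hpM B₁ hB₁ D' hD')
      obtain ⟨ξ₀, hξ₀⟩ := hf
      rw [hξ₀] at hZ hdf
      have hcard := card_eq_of_isDefectGroup hpM ξ₀ hZ hdf
      have hle1 : (Q ⊓ Subgroup.centralizer (Q : Set G)).subgroupOf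
          (Subgroup.centralizer (Q : Set G)) ≤
          ((D'.map (Q ⊔ Subgroup.centralizer (Q : Set G)).subtype) ⊓
            Subgroup.centralizer (Q : Set G)).subgroupOf (Subgroup.centralizer (Q : Set G)) := by
        intro c hc
        rw [Subgroup.mem_subgroupOf] at hc ⊢
        refine ⟨⟨⟨(c : G), hQH hc.1⟩, hQD ?_, rfl⟩, hc.2⟩
        rw [Subgroup.mem_subgroupOf]
        exact hc.1
      have heq := Subgroup.eq_of_le_of_card_ge hle1 hcard.symm.le
      apply le_antisymm _ hQD
      intro d hd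
      rw [Subgroup.mem_subgroupOf]
      have hdH : (d : G) ∈ ((Q ⊔ Subgroup.centralizer (Q : Set G) : Subgroup G) : Set G) := d.2
      rw [Subgroup.normal_mul] at hdH
      obtain ⟨q, hq, c, hc, hqc⟩ := Set.mem_mul.mp hdH
      have hcD : c ∈ D'.map (Q ⊔ Subgroup.centralizer (Q : Set G)).subtype := by
        have h1 : q⁻¹ * (d : G) = c := by rw [← hqc]; group
        rw [← h1]
        refine Subgroup.mul_mem _ (Subgroup.inv_mem _ ?_) ⟨d, hd, rfl⟩
        exact ⟨⟨q, hQH hq⟩, hQD (show (⟨q, hQH hq⟩ : ↥(Q ⊔ Subgroup.centralizer (Q : Set G))) ∈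
          Q.subgroupOf _ from hq), rfl⟩
      have hcZ : (⟨c, hc⟩ : Subgroup.centralizer (Q : Set G)) ∈
          (Q ⊓ Subgroup.centralizer (Q : Set G)).subgroupOf
            (Subgroup.centralizer (Q : Set G)) := by
        rw [heq, Subgroup.mem_subgroupOf]
        exact ⟨hcD, hc⟩
      rw [Subgroup.mem_subgroupOf] at hcZ
      rw [← hqc]
      exact Q.mul_mem hq hcZ.1
    intro R g hRg x hxN hxst hxreg
    -- `R ≤ Q`
    obtain ⟨R', g', hmax', hle'⟩ := exists_isMaximalBrauerPair_ge _ R g rfl hRg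
    have hR'def := isDefectGroup_of_isMaximalBrauerPair hpM hmax'
    have hRR' : R ≤ R' := Cfsg.Agent.Lib.Helper52.Subpairs.le_of_reflTransGen hle'
    rw [hdefQ R' hR'def] at hRR'
    -- `x ∈ C_G(Q)`
    have hKn : ((Subgroup.centralizer (Q : Set G)).subgroupOf
        (Q ⊔ Subgroup.centralizer (Q : Set G))).Normal := by
      refine ⟨fun n hn l => ?_⟩
      show ((l * n * l⁻¹ : ↥(Q ⊔ Subgroup.centralizer (Q : Set G))) : G) ∈
        Subgroup.centralizer (Q : Set G)
      push_cast
      exact (conj_mem_centralizer_iff (hLN l.2)).mpr hn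
    have hxC : x ∈ (Subgroup.centralizer (Q : Set G)).subgroupOf
        (Q ⊔ Subgroup.centralizer (Q : Set G)) :=
      mem_of_isPRegular_of_index _ hidx hxreg
    rw [Subgroup.mem_subgroupOf] at hxC
    rw [Subgroup.mem_centralizer_iff]
    intro r hr
    apply Subtype.ext
    have hrQ : (r : G) ∈ Q := hRR' hr
    exact (Subgroup.mem_centralizer_iff.mp hxC) (r : G) hrQ

end Cfsg.Agent.Lib.Helper77
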