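import Cfsg.Agent.Lib.Helper77.NilC
import Cfsg.Agent.Lib.Helper77.StableBlock
import Cfsg.Agent.Lib.Helper77.Centric93
import Cfsg.Agent.S0964
import Cfsg.Agent.S0966

/-!
# Extensions of blocks by `p`-groups: transfer of Brauer pairs

`N` is a normal subgroup of `G`, `R` a subgroup of `N`.  We compare the centralizer of `R` in `N`
with the centralizer `C_G(R)`, in which it is a normal subgroup.
-/

set_option autoImplicit false

universe u

namespace Cfsg.Agent.Lib.Helper77

namespace Cab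

open Cfsg
open Cfsg.Agent.Lib.Helper81
open Cfsg.Agent.Lib.Helper80
open scoped ComplexConjugate

variable {G : Type u} [Group G] (N : Subgroup G) (R : Subgroup N)

/-- `C_G(R)`. -/
abbrev CG : Subgroup G := Subgroup.centralizer ((R.map N.subtype : Subgroup G) : Set G)

/-- `C_N(R)`, a subgroup of the group `N`. -/
abbrev CN : Subgroup N := Subgroup.centralizer (R : Set N)

/-- `C_N(R)` as a subgroup of the group `C_G(R)`. -/
abbrev KC : Subgroup (CG N R) := N.subgroupOf (CG N R)

theorem coe_mem_CG {y : N} (hy : y ∈ CN N R) : (y : G) ∈ CG N R := by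
  rintro _ ⟨r, hr, rfl⟩
  have := hy r hr
  exact congrArg Subtype.val this

theorem mem_CN_of_mem_CG {y : N} (hy : (y : G) ∈ CG N R) : y ∈ CN N R := by
  intro r hr
  apply Subtype.ext
  exact hy (r : G) ⟨r, hr, rfl⟩

/-- The identification of `C_N(R)` with the normal subgroup `N ∩ C_G(R)` of `C_G(R)`. -/
def phi : CN N R ≃* KC N R where
  toFun y := ⟨⟨((y : N) : G), coe_mem_CG N R y.2⟩, (y : N).2⟩
  invFun k := ⟨⟨((k : CG N R) : G), k.2⟩, mem_CN_of_mem_CG N R (k : CG N R).2⟩
  left_inv y := rfl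
  right_inv k := rfl
  map_mul' a b := rfl

theorem coe_phi (y : CN N R) : (((phi N R y : KC N R) : CG N R) : G) = ((y : N) : G) := rfl

theorem coe_phi_symm (k : KC N R) :
    ((((phi N R).symm k : CN N R) : N) : G) = ((k : CG N R) : G) := rfl

theorem index_KC [N.Normal] {p : ℕ} [Fact p.Prime] (hidx : ∃ k : ℕ, N.index = p ^ k) :
    ∃ k : ℕ, (KC N R).index = p ^ k := by
  have hp : p.Prime := Fact.out
  obtain ⟨k, hk⟩ := hidx
  have h1 : (KC N R).index ∣ p ^ k := by
    rw [← hk]
    exact Subgroup.relIndex_dvd_index_of_normal N (CG N R)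
  obtain ⟨j, -, hj⟩ := (Nat.dvd_prime_pow hp).mp h1
  exact ⟨j, hj⟩

variable {N R} [Fintype G]

/-- `ξ` (a character of `C_G(R)`) lies over `θ'` (a character of `C_N(R)`). -/
def Over [Fintype (KC N R)] (ξ : IrrCharacter (CG N R)) (θ' : IrrCharacter (CN N R)) : Prop :=
  classInner (fun n : KC N R => (ξ : CG N R → ℂ) n)
    (irrMap (phi N R).symm θ' : KC N R → ℂ) ≠ 0

theorem exists_over [Fintype (CG N R)] [Fintype (KC N R)] (θ' : IrrCharacter (CN N R)) :
    ∃ ξ : IrrCharacter (CG N R), Over ξ θ' :=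
  Cfsg.Agent.S0966.exists_over (KC N R) (irrMap (phi N R).symm θ')

theorem exists_under [Fintype (CG N R)] [Fintype (KC N R)] (ξ : IrrCharacter (CG N R)) :
    ∃ θ' : IrrCharacter (CN N R), Over ξ θ' := by
  obtain ⟨ψ, hψ⟩ := Cfsg.Agent.Lib.Helper16.exists_constituent (KC N R) ξ
  refine ⟨irrMap (phi N R) ψ, ?_⟩
  unfold Over
  rw [irrMap_symm_irrMap]
  exact hψ

/-- The Brauer central characters agree along `Over`. -/
theorem brauerOmega_eq [Fintype (CG N R)] [Fintype (KC N R)]
    {B : Set (IrrCharacter G)} {c : Set (IrrCharacter N)}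
    (hBc : ∀ g : G, blockCoeff B g = subgroupBlockCoeff N c g)
    {ξ : IrrCharacter (CG N R)} {θ' : IrrCharacter (CN N R)} (hne : Over ξ θ') :
    brauerOmega (R.map N.subtype) (blockCoeff B) (ξ : CG N R → ℂ) =
      brauerOmega R (blockCoeff c) (θ' : CN N R → ℂ) := by
  classical
  have := Fintype.ofFinite (CN N R)
  rw [brauerOmega_eq_omega]
  have ha : IsClassFunction (CG N R) (brRes (R.map N.subtype) (CG N R) (blockCoeff B)) :=
    brRes_isClassFunction _ _ (Subgroup.centralizer_le_normalizer _) (blockCoeff_isClassFunction B)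
  have haH : ∀ g : CG N R, g ∉ KC N R →
      brRes (R.map N.subtype) (CG N R) (blockCoeff B) g = 0 := by
    intro g hg
    rw [brRes_pos _ g.2, hBc]
    exact subgroupBlockCoeff_of_not_mem c hg
  rw [omega_eq_of_classInner_ne_zero (KC N R) ξ.2 (irrMap (phi N R).symm θ').2 hne ha haH]
  unfold omega brauerOmega
  rw [finsum_eq_sum_of_fintype, Finset.sum_div, irrMap_apply, map_one]
  symm
  refine Fintype.sum_equiv (phi N R).toEquiv _ _ fun y => ?_
  show _ = brRes (R.map N.subtype) (CG N R) (blockCoeff B) ((phi N R y : KC N R) : CG N R) *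
    (irrMap (phi N R).symm θ' : KC N R → ℂ) (phi N R y) / _
  rw [irrMap_apply, MulEquiv.symm_apply_apply, brRes_pos _ ((phi N R y : KC N R) : CG N R).2, hBc,
    coe_phi, subgroupBlockCoeff_of_mem c (y : N).2]

variable {p : ℕ} [Fact p.Prime] {M : Ideal AlgInt}

/-- A `c`-pair of `N` gives a `B`-pair of `G`. -/
theorem isBrauerPairOf_up (hpM : IsPModular p M) [Fintype (CG N R)] [Fintype (KC N R)]
    {B : Set (IrrCharacter G)} {c : Set (IrrCharacter N)} (hB : IsPBlock M B)
    (hBc : ∀ g : G, blockCoeff B g = subgroupBlockCoeff N c g)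
    {h : Set (IrrCharacter (CN N R))} (hR : IsBrauerPairOf p M c R h)
    {ξ : IrrCharacter (CG N R)} {θ' : IrrCharacter (CN N R)} (hθ' : θ' ∈ h) (hne : Over ξ θ') :
    IsBrauerPairOf p M B (R.map N.subtype) (blockOf M (ξ : CG N R → ℂ)) := by
  classical
  have hM : M.IsPrime := isPrime_of_isPModular hpM
  refine ⟨⟨hR.1.1.map _, ξ, rfl⟩, hB, fun ξ' hξ' => ?_⟩
  obtain ⟨χ₀, rfl⟩ := hB
  have hZ := brRes_ZS hM (R.map N.subtype) (CG N R) (Subgroup.centralizer_le_normalizer _)
    (ZS.blockCoeff hpM χ₀)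
  have h1 := memLocalIdeal_omega_sub hM (isClassFunction_of_isCharacter ξ'.2)
    (isClassFunction_of_isCharacter ξ.2) (sameBlock_symm hξ') hZ.1 hZ.2
  rw [← brauerOmega_eq_omega, ← brauerOmega_eq_omega, brauerOmega_eq hBc hne] at h1
  exact cong_trans hM h1 (hR.2.2 θ' hθ')

/-- A `B`-pair of `G` on a subgroup of `N` gives a `c`-pair of `N`. -/
theorem isBrauerPairOf_down (hpM : IsPModular p M) [Fintype (CG N R)] [Fintype (KC N R)]
    {B : Set (IrrCharacter G)} {c : Set (IrrCharacter N)} (hc : IsPBlock M c)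
    (hBc : ∀ g : G, blockCoeff B g = subgroupBlockCoeff N c g)
    {f₁ : Set (IrrCharacter (CG N R))} (hf : IsBrauerPairOf p M B (R.map N.subtype) f₁)
    {ξ : IrrCharacter (CG N R)} {θ' : IrrCharacter (CN N R)} (hξ : ξ ∈ f₁) (hne : Over ξ θ') :
    IsBrauerPairOf p M c R (blockOf M (θ' : CN N R → ℂ)) := by
  classical
  have hM : M.IsPrime := isPrime_of_isPModular hpM
  have := Fintype.ofFinite N
  have := Fintype.ofFinite (CN N R)
  have hRp : IsPGroup p R :=
    hf.1.1.of_equiv (Subgroup.equivMapOfInjective R N.subtype N.subtype_injective).symm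
  refine ⟨⟨hRp, θ', rfl⟩, hc, fun θ'' hθ'' => ?_⟩
  obtain ⟨θ₀, rfl⟩ := hc
  have hZ := brRes_ZS hM R (CN N R) (Subgroup.centralizer_le_normalizer _)
    (ZS.blockCoeff hpM θ₀)
  have h1 := memLocalIdeal_omega_sub hM (isClassFunction_of_isCharacter θ''.2)
    (isClassFunction_of_isCharacter θ'.2) (sameBlock_symm hθ'') hZ.1 hZ.2
  rw [← brauerOmega_eq_omega, ← brauerOmega_eq_omega, ← brauerOmega_eq hBc hne] at h1
  exact cong_trans hM h1 (hf.2.2 ξ hξ)

omit [Fintype G] [Fact p.Prime] in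
theorem coe_mem_normalizer_map {x' : N} (hx' : x' ∈ Subgroup.normalizer (R : Set N)) :
    (x' : G) ∈ Subgroup.normalizer ((R.map N.subtype : Subgroup G) : Set G) := by
  rw [Subgroup.mem_normalizer_iff]
  intro z
  constructor
  · rintro ⟨r, hr, rfl⟩
    exact ⟨x' * r * x'⁻¹, (Subgroup.mem_normalizer_iff.mp hx' r).mp hr, rfl⟩
  · rintro ⟨r, hr, hrz⟩
    refine ⟨x'⁻¹ * r * x', ?_, ?_⟩
    · have := (Subgroup.mem_normalizer_iff.mp (Subgroup.inv_mem _ hx') r).mp hr
      simpa using this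
    · have h1 : (N.subtype (x'⁻¹ * r * x') : G) = (x' : G)⁻¹ * (r : G) * (x' : G) := rfl
      rw [h1]
      have h2 : (r : G) = (x' : G) * z * (x' : G)⁻¹ := hrz
      rw [h2]
      group

/-- Conjugation by an element of `N_N(R)` is compatible with `Over`. -/
theorem over_conj [Fintype (KC N R)] {x' : N}
    (hgC : (x' : G) ∈ Subgroup.normalizer ((CG N R : Subgroup G) : Set G))
    {ξ : IrrCharacter (CG N R)} {θ' θ₁ : IrrCharacter (CN N R)} (hne : Over ξ θ')
    (hconj : IsConjCharOf (CN N R) x' (θ' : CN N R → ℂ) (θ₁ : CN N R → ℂ)) :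
    Over (cjIrr (CG N R) (x' : G) hgC ξ) θ₁ := by
  classical
  unfold Over at hne ⊢
  have hσmem : ∀ n : KC N R,
      Cfsg.Agent.S4691.conjAut (CG N R) (x' : G) hgC (n : CG N R) ∈ KC N R := by
    intro n
    show ((Cfsg.Agent.S4691.conjAut (CG N R) (x' : G) hgC (n : CG N R) : CG N R) : G) ∈ N
    rw [coe_conjAut]
    exact N.mul_mem (N.mul_mem (N.inv_mem x'.2) n.2) x'.2
  have hσinj : Function.Injective (fun n : KC N R =>
      (⟨Cfsg.Agent.S4691.conjAut (CG N R) (x' : G) hgC (n : CG N R), hσmem n⟩ : KC N R)) := by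
    intro a b hab
    have h1 := congrArg Subtype.val hab
    have h2 := (Cfsg.Agent.S4691.conjAut (CG N R) (x' : G) hgC).injective h1
    exact Subtype.ext h2
  have heq : classInner (fun n : KC N R => (cjIrr (CG N R) (x' : G) hgC ξ : CG N R → ℂ) n)
      (irrMap (phi N R).symm θ₁ : KC N R → ℂ) =
      classInner (fun n : KC N R => (ξ : CG N R → ℂ) n)
        (irrMap (phi N R).symm θ' : KC N R → ℂ) := by
    unfold classInner
    congr 1
    refine Fintype.sum_bijective _ (Finite.injective_iff_bijective.mp hσinj) _ _ fun n => ?_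
    beta_reduce
    rw [cjIrr_apply, irrMap_apply, irrMap_apply]
    congr 2
    apply hconj
    apply Subtype.ext
    push_cast
    rw [coe_phi_symm, coe_phi_symm]
    show ((n : CG N R) : G) = (x' : G) *
      ((Cfsg.Agent.S4691.conjAut (CG N R) (x' : G) hgC (n : CG N R) : CG N R) : G) * (x' : G)⁻¹
    rw [coe_conjAut]
    group
  rw [heq]
  exact hne

end Cab

end Cfsg.Agent.Lib.Helper77
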