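import Cfsg.Agent.Lib.Helper77.CabA

/-!
# Extensions of blocks by `p`-groups: descent of nilpotency, and the `G`-action on `C_N(R)`
-/

set_option autoImplicit false

universe u

namespace Cfsg.Agent.Lib.Helper77

namespace Cab

open Cfsg
open Cfsg.Agent.Lib.Helper81
open Cfsg.Agent.Lib.Helper80
open scoped ComplexConjugate

variable {G : Type u} [Group G] {N : Subgroup G} {R : Subgroup N}

section Down

variable [Fintype G] {p : ℕ} [Fact p.Prime] {M : Ideal AlgInt}

/-- **Descent.** If `B` (with the idempotent of `c`) is nilpotent then so is `c`. -/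
theorem nilpotent_down (hpM : IsPModular p M) [N.Normal] (hidx : ∃ k : ℕ, N.index = p ^ k)
    {c : Set (IrrCharacter N)} (hc : IsPBlock M c) {B : Set (IrrCharacter G)}
    (hB : IsPBlock M B) (hBc : ∀ g : G, blockCoeff B g = subgroupBlockCoeff N c g)
    (hnil : IsNilpotentBlock p M B) : IsNilpotentBlock p M c := by
  classical
  have hM : M.IsPrime := isPrime_of_isPModular hpM
  refine ⟨hc, fun R h hR x hxN hxst hreg => ?_⟩
  have := Fintype.ofFinite (CG N R)
  have := Fintype.ofFinite (KC N R)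
  obtain ⟨θ₀, hh⟩ := hR.1.2
  have hθ₀ : θ₀ ∈ h := by rw [hh]; exact sameBlock_refl hM _
  obtain ⟨ξ, hξ⟩ := exists_over θ₀
  have hpair := isBrauerPairOf_up hpM hB hBc hR hθ₀ hξ
  have hgR := coe_mem_normalizer_map hxN
  have hgC := Cfsg.Agent.S4691.normalizer_le_normalizer_centralizer' _ hgR
  have hst' : StabilizesBlock (CG N R) (blockOf M (ξ : CG N R → ℂ)) (x : G) := by
    apply stabilizesBlock_of_image_eq _ hgC
    obtain ⟨θ₁, hθ₁, hconj⟩ := hxst.2 θ₀ hθ₀
    have hover := over_conj hgC hξ hconj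
    obtain ⟨B₀, -, huniq⟩ := Cfsg.Agent.S0966.result p M hpM (KC N R) (index_KC N R hidx)
      (irrMap (phi N R).symm '' h) (isPBlock_irrMap_image _ hR.1.2)
    have h1 : blockOf M (ξ : CG N R → ℂ) = B₀ :=
      huniq _ ⟨⟨ξ, rfl⟩, ξ, sameBlock_refl hM _, irrMap (phi N R).symm θ₀, ⟨θ₀, hθ₀, rfl⟩, hξ⟩
    have h2 : cjIrr (CG N R) (x : G) hgC '' blockOf M (ξ : CG N R → ℂ) = B₀ :=
      huniq _ ⟨isPBlock_irrMap_image _ ⟨ξ, rfl⟩, cjIrr (CG N R) (x : G) hgC ξ,
        ⟨ξ, sameBlock_refl hM _, rfl⟩, irrMap (phi N R).symm θ₁, ⟨θ₁, hθ₁, rfl⟩, hover⟩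
    rw [h2, h1]
  have hreg' : IsPRegular p (x : G) := by
    unfold IsPRegular at hreg ⊢
    rwa [Subgroup.orderOf_coe]
  have hxC := hnil.2 _ _ hpair (x : G) hgR hst' hreg'
  exact mem_CN_of_mem_CG N R hxC

end Down

section Action

variable [hN : N.Normal]

theorem conj_mem_CN {g : G}
    (hg : g ∈ Subgroup.normalizer ((R.map N.subtype : Subgroup G) : Set G)) (y : CN N R) :
    (⟨g⁻¹ * ((y : N) : G) * g, by
      have := hN.conj_mem _ (y : N).2 g⁻¹
      rwa [inv_inv] at this⟩ : N) ∈ CN N R := by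
  apply mem_CN_of_mem_CG
  have hgC := Cfsg.Agent.S4691.normalizer_le_normalizer_centralizer' _ hg
  exact (Subgroup.mem_normalizer_iff''.mp hgC _).mp (coe_mem_CG N R y.2)

theorem conj_mem_CN' {g : G}
    (hg : g ∈ Subgroup.normalizer ((R.map N.subtype : Subgroup G) : Set G)) (y : CN N R) :
    (⟨g * ((y : N) : G) * g⁻¹, hN.conj_mem _ (y : N).2 g⟩ : N) ∈ CN N R := by
  apply mem_CN_of_mem_CG
  have hgC := Cfsg.Agent.S4691.normalizer_le_normalizer_centralizer' _ hg
  exact (Subgroup.mem_normalizer_iff.mp hgC _).mp (coe_mem_CG N R y.2)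

/-- Conjugation by `g ∈ N_G(R)` as an automorphism `y ↦ g⁻¹ y g` of `C_N(R)`. -/
def gam (g : G) (hg : g ∈ Subgroup.normalizer ((R.map N.subtype : Subgroup G) : Set G)) :
    CN N R ≃* CN N R where
  toFun y := ⟨_, conj_mem_CN hg y⟩
  invFun y := ⟨_, conj_mem_CN' hg y⟩
  left_inv y := by
    apply Subtype.ext
    apply Subtype.ext
    show g * (g⁻¹ * ((y : N) : G) * g) * g⁻¹ = _
    group
  right_inv y := by
    apply Subtype.ext
    apply Subtype.ext
    show g⁻¹ * (g * ((y : N) : G) * g⁻¹) * g = _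
    group
  map_mul' a b := by
    apply Subtype.ext
    apply Subtype.ext
    show g⁻¹ * (((a : N) : G) * ((b : N) : G)) * g =
      g⁻¹ * ((a : N) : G) * g * (g⁻¹ * ((b : N) : G) * g)
    group

theorem coe_gam (g : G) (hg : g ∈ Subgroup.normalizer ((R.map N.subtype : Subgroup G) : Set G))
    (y : CN N R) : (((gam g hg y : CN N R) : N) : G) = g⁻¹ * ((y : N) : G) * g := rfl

/-- `g ∈ N_G(R)` maps the set `h` of characters of `C_N(R)` into itself. -/
def StabG (h : Set (IrrCharacter (CN N R))) (g : G) : Prop :=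
  ∃ hg : g ∈ Subgroup.normalizer ((R.map N.subtype : Subgroup G) : Set G),
    ∀ θ ∈ h, irrMap (gam g hg) θ ∈ h

theorem stabG_one (h : Set (IrrCharacter (CN N R))) : StabG h (1 : G) := by
  refine ⟨Subgroup.one_mem _, fun θ hθ => ?_⟩
  have : irrMap (gam (1 : G) (Subgroup.one_mem _)) θ = θ := by
    apply Subtype.ext
    funext y
    rw [irrMap_apply]
    refine congrArg _ (Subtype.ext (Subtype.ext ?_))
    rw [coe_gam]
    group
  rw [this]
  exact hθ

theorem stabG_mul {h : Set (IrrCharacter (CN N R))} {g₁ g₂ : G} (h₁ : StabG h g₁)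
    (h₂ : StabG h g₂) : StabG h (g₁ * g₂) := by
  obtain ⟨hg₁, hs₁⟩ := h₁
  obtain ⟨hg₂, hs₂⟩ := h₂
  refine ⟨Subgroup.mul_mem _ hg₁ hg₂, fun θ hθ => ?_⟩
  have : irrMap (gam (g₁ * g₂) (Subgroup.mul_mem _ hg₁ hg₂)) θ =
      irrMap (gam g₁ hg₁) (irrMap (gam g₂ hg₂) θ) := by
    apply Subtype.ext
    funext y
    rw [irrMap_apply, irrMap_apply, irrMap_apply]
    refine congrArg _ (Subtype.ext (Subtype.ext ?_))
    rw [coe_gam, coe_gam, coe_gam]
    group
  rw [this]
  exact hs₁ _ (hs₂ θ hθ)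

theorem stabG_pow {h : Set (IrrCharacter (CN N R))} {g : G} (hg : StabG h g) (k : ℕ) :
    StabG h (g ^ k) := by
  induction k with
  | zero => rw [pow_zero]; exact stabG_one h
  | succ k ih => rw [pow_succ]; exact stabG_mul ih hg

theorem mem_normalizer_of_coe {x' : N}
    (hx : (x' : G) ∈ Subgroup.normalizer ((R.map N.subtype : Subgroup G) : Set G)) :
    x' ∈ Subgroup.normalizer (R : Set N) := by
  rw [Subgroup.mem_normalizer_iff]
  intro r
  have h1 := Subgroup.mem_normalizer_iff.mp hx (r : G)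
  constructor
  · intro hr
    obtain ⟨r', hr', e⟩ := h1.mp ⟨r, hr, rfl⟩
    have : r' = x' * r * x'⁻¹ := Subtype.ext e
    rw [← this]
    exact hr'
  · intro hr
    obtain ⟨r', hr', e⟩ := h1.mpr ⟨x' * r * x'⁻¹, hr, rfl⟩
    have : r' = r := Subtype.ext e
    rw [← this]
    exact hr'

/-- For elements of `N`, `StabG` is the frozen stabilizing condition. -/
theorem stabilizesBlock_of_stabG {h : Set (IrrCharacter (CN N R))} {x' : N}
    (hs : StabG h (x' : G)) : StabilizesBlock (CN N R) h x' := by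
  obtain ⟨hg, hs⟩ := hs
  have hx' := mem_normalizer_of_coe hg
  refine ⟨Cfsg.Agent.S4691.normalizer_le_normalizer_centralizer' R hx', fun χ hχ =>
    ⟨irrMap (gam (x' : G) hg) χ, hs χ hχ, fun k k' hk => ?_⟩⟩
  rw [irrMap_apply]
  refine congrArg _ (Subtype.ext (Subtype.ext ?_))
  rw [coe_gam, hk]
  push_cast
  group

end Action

end Cab

end Cfsg.Agent.Lib.Helper77
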