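import Cfsg.Agent.Lib.Helper77.CabB

/-!
# Extensions of blocks by `p`-groups: ascent of nilpotency
-/

set_option autoImplicit false

universe u

namespace Cfsg.Agent.Lib.Helper77

namespace Cab

open Cfsg
open Cfsg.Agent.Lib.Helper81
open Cfsg.Agent.Lib.Helper80
open scoped ComplexConjugate

variable {G : Type u} [Group G] {N : Subgroup G} {R : Subgroup N}
variable [Fintype G] {p : ℕ} [Fact p.Prime] {M : Ideal AlgInt}

/-- Core of the ascent: a `p`-regular element of `N` stabilizing a `B`-pair on a subgroup `R` of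
`N` centralizes `R`, when `c` is nilpotent. -/
theorem centralizes_of_stab (hpM : IsPModular p M) [hN : N.Normal]
    (hidx : ∃ k : ℕ, N.index = p ^ k)
    {c : Set (IrrCharacter N)} (hc : IsPBlock M c) {B : Set (IrrCharacter G)}
    (hBc : ∀ g : G, blockCoeff B g = subgroupBlockCoeff N c g)
    (hnilc : IsNilpotentBlock p M c)
    {f₁ : Set (IrrCharacter (CG N R))} (hf : IsBrauerPairOf p M B (R.map N.subtype) f₁)
    {x' : N} (hx' : x' ∈ Subgroup.normalizer (R : Set N))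
    (hst : StabilizesBlock (CG N R) f₁ (x' : G)) (hreg : IsPRegular p x') :
    x' ∈ CN N R := by
  classical
  have hM : M.IsPrime := isPrime_of_isPModular hpM
  have hp : p.Prime := Fact.out
  have := Fintype.ofFinite (CG N R)
  have := Fintype.ofFinite (KC N R)
  obtain ⟨ξ₀, hf₁⟩ := hf.1.2
  have hξ₀ : ξ₀ ∈ f₁ := by rw [hf₁]; exact sameBlock_refl hM _
  obtain ⟨θ', hθ'⟩ := exists_under ξ₀
  have hpair := isBrauerPairOf_down hpM hc hBc hf hξ₀ hθ'
  have hgR := coe_mem_normalizer_map hx'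
  have hgC := Cfsg.Agent.S4691.normalizer_le_normalizer_centralizer' _ hgR
  have hxCN : x' ∈ Subgroup.normalizer ((CN N R : Subgroup N) : Set N) :=
    Cfsg.Agent.S4691.normalizer_le_normalizer_centralizer' R hx'
  have hξx : cjIrr (CG N R) (x' : G) hgC ξ₀ ∈ f₁ := by
    have h1 := cjIrr_image_eq_of_stabilizes hM _ hf.1.2 hgC hst
    rw [← h1]
    exact Set.mem_image_of_mem _ hξ₀
  have hover := over_conj hgC hθ' (isConjCharOf_cjIrr (CN N R) x' hxCN θ')
  have hθ'h : θ' ∈ blockOf M (θ' : CN N R → ℂ) := sameBlock_refl hM _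
  obtain ⟨t, θ₀K, hθ₀K, hconj⟩ := Cfsg.Agent.S0964.result p M hpM (KC N R) f₁ hf.1.2
    (irrMap (phi N R).symm '' blockOf M (θ' : CN N R → ℂ))
    (isPBlock_irrMap_image _ ⟨θ', rfl⟩) ξ₀ hξ₀ (irrMap (phi N R).symm θ') ⟨θ', hθ'h, rfl⟩ hθ'
    (cjIrr (CG N R) (x' : G) hgC ξ₀) hξx
    (irrMap (phi N R).symm (cjIrr (CN N R) x' hxCN θ')) hover
  obtain ⟨θ₀, hθ₀, rfl⟩ := hθ₀K
  -- the element `s = t x`
  have htR : (t : G) ∈ Subgroup.normalizer ((R.map N.subtype : Subgroup G) : Set G) :=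
    Subgroup.centralizer_le_normalizer _ t.2
  have hsR : (t : G) * (x' : G) ∈
      Subgroup.normalizer ((R.map N.subtype : Subgroup G) : Set G) :=
    Subgroup.mul_mem _ htR hgR
  have hθs : irrMap (gam ((t : G) * (x' : G)) hsR) θ' = θ₀ := by
    apply Subtype.ext
    funext z
    rw [irrMap_apply]
    -- the element `n = t⁻¹ z t` of `KC`
    have hnC : (t : G)⁻¹ * ((z : N) : G) * (t : G) ∈ CG N R :=
      Subgroup.mul_mem _ (Subgroup.mul_mem _ (Subgroup.inv_mem _ t.2) (coe_mem_CG N R z.2)) t.2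
    have hnN : (t : G)⁻¹ * ((z : N) : G) * (t : G) ∈ N := by
      have := hN.conj_mem _ (z : N).2 (t : G)⁻¹
      rwa [inv_inv] at this
    have h1 := hconj ⟨⟨(t : G)⁻¹ * ((z : N) : G) * (t : G), hnC⟩, hnN⟩
    rw [irrMap_apply, irrMap_apply, cjIrr_apply] at h1
    have e1 : Cfsg.Agent.S4691.conjAut (CN N R) x' hxCN ((phi N R).symm
        ⟨⟨(t : G)⁻¹ * ((z : N) : G) * (t : G), hnC⟩, hnN⟩) =
        gam ((t : G) * (x' : G)) hsR z := by
      apply Subtype.ext
      apply Subtype.ext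
      rw [coe_gam]
      show (x' : G)⁻¹ * ((t : G)⁻¹ * ((z : N) : G) * (t : G)) * (x' : G) = _
      group
    rw [e1] at h1
    rw [h1]
    refine congrArg _ (Subtype.ext (Subtype.ext ?_))
    rw [coe_phi_symm]
    show (t : G) * ((t : G)⁻¹ * ((z : N) : G) * (t : G)) * (t : G)⁻¹ = _
    group
  have hstabs : StabG (blockOf M (θ' : CN N R → ℂ)) ((t : G) * (x' : G)) := by
    refine ⟨hsR, ?_⟩
    have hblk : irrMap (gam ((t : G) * (x' : G)) hsR) '' blockOf M (θ' : CN N R → ℂ) =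
        blockOf M (θ' : CN N R → ℂ) := by
      refine eq_of_isPBlock_of_mem hM (isPBlock_irrMap_image _ ⟨θ', rfl⟩) ⟨θ', rfl⟩
        (θ := θ₀) ⟨θ', hθ'h, hθs⟩ hθ₀
    intro θ hθ
    rw [← hblk]
    exact Set.mem_image_of_mem _ hθ
  -- a `p`-regular power of `s`
  obtain ⟨m, n', hn', hord⟩ := Nat.exists_eq_pow_mul_and_not_dvd
    (orderOf_pos ((t : G) * (x' : G))).ne' p hp.ne_one
  have hspow : IsPRegular p (((t : G) * (x' : G)) ^ p ^ m) := by
    unfold IsPRegular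
    rw [orderOf_pow' _ (pow_ne_zero m hp.ne_zero), hord, Nat.gcd_eq_right (Dvd.intro _ rfl),
      Nat.mul_div_cancel_left _ (pow_pos hp.pos m)]
    exact hn'
  have hsN : ((t : G) * (x' : G)) ^ p ^ m ∈ N := mem_of_isPRegular_of_index N hidx hspow
  have hstabpow := stabG_pow hstabs (p ^ m)
  have hst'' : StabilizesBlock (CN N R) (blockOf M (θ' : CN N R → ℂ))
      (⟨((t : G) * (x' : G)) ^ p ^ m, hsN⟩ : N) := stabilizesBlock_of_stabG hstabpow
  have hreg'' : IsPRegular p (⟨((t : G) * (x' : G)) ^ p ^ m, hsN⟩ : N) := by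
    unfold IsPRegular at hspow ⊢
    rw [← Subgroup.orderOf_coe]
    exact hspow
  have hxN'' : (⟨((t : G) * (x' : G)) ^ p ^ m, hsN⟩ : N) ∈ Subgroup.normalizer (R : Set N) :=
    mem_normalizer_of_coe hstabpow.1
  have hsC : (⟨((t : G) * (x' : G)) ^ p ^ m, hsN⟩ : N) ∈ CN N R :=
    hnilc.2 R _ hpair _ hxN'' hst'' hreg''
  have hsCG : ((t : G) * (x' : G)) ^ p ^ m ∈ CG N R := coe_mem_CG N R hsC
  -- `x ^ k` acts on `R` as `s ^ k`
  have hact1 : ∀ r ∈ (R.map N.subtype : Subgroup G),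
      (t : G) * (x' : G) * r * ((t : G) * (x' : G))⁻¹ = (x' : G) * r * (x' : G)⁻¹ := by
    intro r hr
    have h1 : (x' : G) * r * (x' : G)⁻¹ ∈ (R.map N.subtype : Subgroup G) :=
      (Subgroup.mem_normalizer_iff.mp hgR r).mp hr
    have h2 : (x' : G) * r * (x' : G)⁻¹ * (t : G) = (t : G) * ((x' : G) * r * (x' : G)⁻¹) :=
      t.2 _ h1
    have h3 : (t : G) * (x' : G) * r * ((t : G) * (x' : G))⁻¹ =
        (t : G) * ((x' : G) * r * (x' : G)⁻¹) * (t : G)⁻¹ := by group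
    rw [h3, ← h2, mul_inv_cancel_right]
  have hactk : ∀ k : ℕ, ∀ r ∈ (R.map N.subtype : Subgroup G),
      ((t : G) * (x' : G)) ^ k * r * (((t : G) * (x' : G)) ^ k)⁻¹ =
        (x' : G) ^ k * r * ((x' : G) ^ k)⁻¹ := by
    intro k
    induction k with
    | zero => intro r _; simp
    | succ k ih =>
      intro r hr
      have h1 : (x' : G) * r * (x' : G)⁻¹ ∈ (R.map N.subtype : Subgroup G) :=
        (Subgroup.mem_normalizer_iff.mp hgR r).mp hr
      have h2 : ((t : G) * (x' : G)) ^ (k + 1) * r * (((t : G) * (x' : G)) ^ (k + 1))⁻¹ =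
          ((t : G) * (x' : G)) ^ k * ((t : G) * (x' : G) * r * ((t : G) * (x' : G))⁻¹) *
            (((t : G) * (x' : G)) ^ k)⁻¹ := by
        rw [pow_succ]
        group
      rw [h2, hact1 r hr, ih _ h1, pow_succ]
      group
  have hxpC : (x' : G) ^ p ^ m ∈ CG N R := by
    intro r hr
    have h1 := hactk (p ^ m) r hr
    have h2 : ((t : G) * (x' : G)) ^ p ^ m * r * (((t : G) * (x' : G)) ^ p ^ m)⁻¹ = r := by
      rw [← hsCG r hr, mul_inv_cancel_right]
    rw [h2] at h1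
    have h3 : r * (x' : G) ^ p ^ m = (x' : G) ^ p ^ m * r := by
      conv_lhs => rw [h1]
      group
    exact h3
  have hcop : (p ^ m).Coprime (orderOf (x' : G)) := by
    rw [Subgroup.orderOf_coe]
    exact Nat.Coprime.pow_left m ((Nat.Prime.coprime_iff_not_dvd hp).mpr hreg)
  obtain ⟨j, hj⟩ := exists_pow_eq_self_of_coprime hcop
  apply mem_CN_of_mem_CG
  rw [← hj]
  exact Subgroup.pow_mem _ hxpC j

/-- The core of the ascent for a subgroup `R₁ ≤ N` of `G`. -/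
theorem centralizes_of_stab' (hpM : IsPModular p M) [hN : N.Normal]
    (hidx : ∃ k : ℕ, N.index = p ^ k)
    {c : Set (IrrCharacter N)} (hc : IsPBlock M c) {B : Set (IrrCharacter G)}
    (hBc : ∀ g : G, blockCoeff B g = subgroupBlockCoeff N c g)
    (hnilc : IsNilpotentBlock p M c) {R₁ : Subgroup G} (hR₁N : R₁ ≤ N)
    {f₁ : Set (IrrCharacter (Subgroup.centralizer (R₁ : Set G)))}
    (hf : IsBrauerPairOf p M B R₁ f₁) {x : G} (hxN : x ∈ N)
    (hxR : x ∈ Subgroup.normalizer (R₁ : Set G))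
    (hst : StabilizesBlock (Subgroup.centralizer (R₁ : Set G)) f₁ x) (hreg : IsPRegular p x) :
    x ∈ Subgroup.centralizer (R₁ : Set G) := by
  obtain ⟨R, rfl⟩ : ∃ R : Subgroup N, R₁ = R.map N.subtype :=
    ⟨R₁.subgroupOf N, (Subgroup.map_subgroupOf_eq_of_le hR₁N).symm⟩
  have hreg' : IsPRegular p (⟨x, hxN⟩ : N) := by
    unfold IsPRegular at hreg ⊢
    rw [← Subgroup.orderOf_coe]
    exact hreg
  have h1 := centralizes_of_stab hpM hidx hc hBc hnilc hf (x' := ⟨x, hxN⟩)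
    (mem_normalizer_of_coe hxR) hst hreg'
  exact coe_mem_CG N R h1

omit [Fintype G] in
/-- Coprime action: a `p`-regular element of `N` normalizing the `p`-group `Q` and centralizing
`Q ∩ N` centralizes `Q`. -/
theorem mem_centralizer_of_centralizes_inf [Finite G] [hN : N.Normal] {Q : Subgroup G}
    (hQ : IsPGroup p Q)
    {x : G} (hxN : x ∈ N) (hxQ : x ∈ Subgroup.normalizer (Q : Set G))
    (hxC : x ∈ Subgroup.centralizer ((Q ⊓ N : Subgroup G) : Set G)) (hreg : IsPRegular p x) :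
    x ∈ Subgroup.centralizer (Q : Set G) := by
  have hp : p.Prime := Fact.out
  intro q hq
  have hxq : x * q * x⁻¹ ∈ Q := (Subgroup.mem_normalizer_iff.mp hxQ q).mp hq
  have hrQ : q⁻¹ * (x * q * x⁻¹) ∈ Q := Q.mul_mem (Q.inv_mem hq) hxq
  have hrN : q⁻¹ * (x * q * x⁻¹) ∈ N := by
    have h1 : q⁻¹ * x * q⁻¹⁻¹ ∈ N := hN.conj_mem x hxN q⁻¹
    have h2 := N.mul_mem h1 (N.inv_mem hxN)
    have e : q⁻¹ * x * q⁻¹⁻¹ * x⁻¹ = q⁻¹ * (x * q * x⁻¹) := by group
    rwa [e] at h2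
  have hcomm : q⁻¹ * (x * q * x⁻¹) * x = x * (q⁻¹ * (x * q * x⁻¹)) := hxC _ ⟨hrQ, hrN⟩
  have hcommk : ∀ k : ℕ, x * (q⁻¹ * (x * q * x⁻¹)) ^ k * x⁻¹ = (q⁻¹ * (x * q * x⁻¹)) ^ k := by
    intro k
    have h1 : x * (q⁻¹ * (x * q * x⁻¹)) * x⁻¹ = q⁻¹ * (x * q * x⁻¹) := by
      rw [← hcomm, mul_inv_cancel_right]
    rw [← conj_pow, h1]
  have hpow : ∀ k : ℕ, x ^ k * q * (x ^ k)⁻¹ = q * (q⁻¹ * (x * q * x⁻¹)) ^ k := by
    intro k
    induction k with
    | zero => simp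
    | succ k ih =>
      have h1 : x ^ (k + 1) * q * (x ^ (k + 1))⁻¹ = x * (x ^ k * q * (x ^ k)⁻¹) * x⁻¹ := by
        rw [pow_succ']
        group
      rw [h1, ih]
      have h2 : x * (q * (q⁻¹ * (x * q * x⁻¹)) ^ k) * x⁻¹ =
          x * q * x⁻¹ * (x * (q⁻¹ * (x * q * x⁻¹)) ^ k * x⁻¹) := by group
      rw [h2, hcommk k, pow_succ', ← mul_assoc q]
      have e : q * (q⁻¹ * (x * q * x⁻¹)) = x * q * x⁻¹ := by group
      rw [e]
  have h1 := hpow (orderOf x)
  rw [pow_orderOf_eq_one, one_mul, inv_one, mul_one] at h1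
  have h2 : (q⁻¹ * (x * q * x⁻¹)) ^ orderOf x = 1 := by
    have := congrArg (fun z => q⁻¹ * z) h1
    simpa using this.symm
  obtain ⟨j, hj⟩ := hQ ⟨_, hrQ⟩
  have h3 : (q⁻¹ * (x * q * x⁻¹)) ^ p ^ j = 1 := by
    have := congrArg Subtype.val hj
    simpa using this
  have hd1 : orderOf (q⁻¹ * (x * q * x⁻¹)) ∣ orderOf x := orderOf_dvd_of_pow_eq_one h2
  have hd2 : orderOf (q⁻¹ * (x * q * x⁻¹)) ∣ p ^ j := orderOf_dvd_of_pow_eq_one h3
  have hcop : (orderOf x).Coprime (p ^ j) :=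
    Nat.Coprime.pow_right j ((Nat.Prime.coprime_iff_not_dvd hp).mpr hreg).symm
  have h4 : orderOf (q⁻¹ * (x * q * x⁻¹)) = 1 := Nat.eq_one_of_dvd_coprimes hcop hd1 hd2
  have h5 : q⁻¹ * (x * q * x⁻¹) = 1 := orderOf_eq_one_iff.mp h4
  have h6 : x * q * x⁻¹ = q := by
    have := congrArg (fun z => q * z) h5
    simpa using this
  have h7 : x * q = q * x := by
    have := congrArg (fun z => z * x) h6
    simpa using this
  exact h7.symm

/-- **Ascent.** If `c` is nilpotent then so is the block `B` of `G` with the idempotent of `c`. -/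
theorem nilpotent_up (hpM : IsPModular p M) [hN : N.Normal] (hidx : ∃ k : ℕ, N.index = p ^ k)
    {c : Set (IrrCharacter N)} (hc : IsPBlock M c) {B : Set (IrrCharacter G)}
    (hB : IsPBlock M B) (hBc : ∀ g : G, blockCoeff B g = subgroupBlockCoeff N c g)
    (hnilc : IsNilpotentBlock p M c) : IsNilpotentBlock p M B := by
  classical
  refine ⟨hB, fun Q f hQf x hxN hxst hreg => ?_⟩
  have hxNN : x ∈ N := mem_of_isPRegular_of_index N hidx hreg
  obtain ⟨fR, -, hle⟩ := Cfsg.Agent.Lib.Helper52.Subpairs.exists_subpairLE hpM _ Q (Q ⊓ N) f rfl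
    hQf.1 inf_le_left
  have hxR : x ∈ Subgroup.normalizer ((Q ⊓ N : Subgroup G) : Set G) := by
    rw [Subgroup.mem_normalizer_iff]
    intro z
    have h1 := Subgroup.mem_normalizer_iff.mp hxN z
    have h2 : z ∈ N ↔ x * z * x⁻¹ ∈ N := by
      constructor
      · intro hz
        exact hN.conj_mem z hz x
      · intro hz
        have := hN.conj_mem _ hz x⁻¹
        have e : x⁻¹ * (x * z * x⁻¹) * x⁻¹⁻¹ = z := by group
        rwa [e] at this
    rw [Subgroup.mem_inf, Subgroup.mem_inf, h1, h2]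
  have hstR := stabilizes_of_stab_of_subpairLE hpM hQf.1 hle hxN hxst hxR
  have hpairR : IsBrauerPairOf p M B (Q ⊓ N) fR :=
    (Cfsg.Agent.Lib.Helper52.Subpairs.isBrauerPairOf_iff_of_subpairLE hpM hB hle).mp hQf
  have hxC := centralizes_of_stab' hpM hidx hc hBc hnilc inf_le_right hpairR hxNN hxR hstR hreg
  exact mem_centralizer_of_centralizes_inf hQf.1.1 hxNN hxN hxC hreg

end Cab

end Cfsg.Agent.Lib.Helper77
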