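import Cfsg.Agent.S0947
import Cfsg.Agent.Lib.Helper77.StrongOrth
import Cfsg.Agent.Lib.Helper74.PReg1
import Cfsg.Agent.Lib.Helper81.Irr

/-!
# Brauer's method of columns for the principal block
-/

set_option autoImplicit false

universe u

namespace Cfsg.Agent.Lib.Helper77

open Cfsg
open Cfsg.Agent.Lib.Helper81
open Cfsg.Agent.Lib.Helper80
open scoped ComplexConjugate

variable {G : Type u} [Group G] {M : Ideal AlgInt}

open Classical in
theorem finsum_mem_eq_sum_filter_gen {ι : Type*} [Fintype ι] {A : Type*} [AddCommMonoid A]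
    (B : Set ι) (f : ι → A) :
    ∑ᶠ ψ ∈ B, f ψ = ∑ ψ ∈ Finset.univ.filter (fun ψ => ψ ∈ B), f ψ := by
  apply finsum_mem_eq_sum_of_inter_support_eq
  congr 1
  ext χ
  simp

theorem isPPart_self_of_pElement {p : ℕ} (hp : p.Prime) {v : G}
    (hv : ∃ k : ℕ, orderOf v = p ^ k) : IsPPart p v v :=
  ⟨1, mul_one v, Commute.one_right v, hv, by rw [orderOf_one]; exact hp.one_lt.ne' ∘ Nat.dvd_one.mp⟩

open Classical in
/-- Block orthogonality for the principal block at two `p`-elements. -/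
theorem sum_principalBlock_pElements [Fintype G] [Fintype (IrrCharacter G)] {p : ℕ}
    [Fact p.Prime] (hpM : IsPModular p M) {v v' : G} (hv : ∃ k : ℕ, orderOf v = p ^ k)
    (hv' : ∃ k : ℕ, orderOf v' = p ^ k) :
    ∑ χ ∈ Finset.univ.filter (fun χ : IrrCharacter G => χ ∈ principalBlock M G),
      (χ : G → ℂ) v⁻¹ * conj ((χ : G → ℂ) v'⁻¹) =
    if IsConj v v' then
      ((∑ᶠ ψ ∈ principalBlock M ↥(Subgroup.centralizer ({v} : Set G)),
        charDegree (ψ : ↥(Subgroup.centralizer ({v} : Set G)) → ℂ) ^ 2 : ℕ) : ℂ)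
    else 0 := by
  have hp : p.Prime := Fact.out
  have := Fintype.ofFinite (Subgroup.centralizer ({v} : Set G))
  have := Fintype.ofFinite (IrrCharacter (Subgroup.centralizer ({v} : Set G)))
  by_cases hc : IsConj v v'
  · rw [if_pos hc]
    obtain ⟨g, hg⟩ := isConj_iff.mp hc
    have h1 := Cfsg.Agent.S0947.main_complex p M hpM v hv
      (1 : Subgroup.centralizer ({v} : Set G)) (by
        rw [orderOf_one]; exact hp.one_lt.ne' ∘ Nat.dvd_one.mp)
    have h2 : ∀ χ : IrrCharacter G, (χ : G → ℂ) v⁻¹ * conj ((χ : G → ℂ) v'⁻¹) =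
        (χ : G → ℂ) (v * ((1 : Subgroup.centralizer ({v} : Set G)) : G)) *
          conj ((χ : G → ℂ) (v * ((1 : Subgroup.centralizer ({v} : Set G)) : G))) := by
      intro χ
      have e1 : v'⁻¹ = g * v⁻¹ * g⁻¹ := by rw [← hg]; group
      rw [e1, isClassFunction_of_isCharacter χ.2, irr_conj_inv, Complex.conj_conj,
        Subgroup.coe_one, mul_one, mul_comm]
    rw [Finset.sum_congr rfl fun χ _ => h2 χ, h1, finsum_mem_eq_sum_filter_gen, Nat.cast_sum]
    refine Finset.sum_congr rfl fun ψ _ => ?_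
    rw [irr_apply_one_eq_charDegree ψ, Complex.conj_natCast]
    push_cast
    ring
  · rw [if_neg hc]
    apply IdemTrace.strong_block_orthogonality_finset hpM (oneIrr G)
      (isPPart_self_of_pElement hp (by rwa [orderOf_inv]))
      (isPPart_self_of_pElement hp (by rwa [orderOf_inv]))
    intro hcon
    apply hc
    obtain ⟨g, hg⟩ := isConj_iff.mp hcon
    refine isConj_iff.mpr ⟨g, ?_⟩
    have := congrArg (·⁻¹) hg
    simpa [mul_assoc] using this

open Classical in
/-- The number of elements of `N` conjugating `v` to `v'`. -/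
theorem card_conj_fiber (N : Subgroup G) (v v' : G) :
    Nat.card {x : N // (x : G) * v * (x : G)⁻¹ = v'} =
      if ∃ n ∈ N, n * v * n⁻¹ = v' then
        Nat.card ↥(N ⊓ Subgroup.centralizer ({v} : Set G)) else 0 := by
  by_cases h : ∃ n ∈ N, n * v * n⁻¹ = v'
  · rw [if_pos h]
    obtain ⟨n₀, hn₀, h0⟩ := h
    subst h0
    refine Nat.card_congr
      { toFun := fun x => ⟨n₀⁻¹ * (x.1 : G), N.mul_mem (N.inv_mem hn₀) x.1.2, ?_⟩
        invFun := fun c => ⟨⟨n₀ * (c : G), N.mul_mem hn₀ c.2.1⟩, ?_⟩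
        left_inv := ?_
        right_inv := ?_ }
    · show n₀⁻¹ * (x.1 : G) ∈ Subgroup.centralizer ({v} : Set G)
      rw [Subgroup.mem_centralizer_singleton_iff]
      obtain ⟨⟨y, hyN⟩, hy⟩ := x
      simp only at hy ⊢
      have e1 : y * v = n₀ * v * n₀⁻¹ * y := by rw [← hy]; group
      rw [mul_assoc, e1]
      group
    · have hc : (c : G) * v = v * (c : G) := Subgroup.mem_centralizer_singleton_iff.mp c.2.2
      show n₀ * (c : G) * v * (n₀ * (c : G))⁻¹ = n₀ * v * n₀⁻¹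
      rw [mul_assoc n₀, hc]
      group
    · intro x
      apply Subtype.ext
      apply Subtype.ext
      show n₀ * (n₀⁻¹ * (x.1 : G)) = (x.1 : G)
      group
    · intro c
      apply Subtype.ext
      show n₀⁻¹ * (n₀ * (c : G)) = (c : G)
      group
  · rw [if_neg h]
    have : IsEmpty {x : N // (x : G) * v * (x : G)⁻¹ = v'} :=
      ⟨fun x => h ⟨(x.1 : G), x.1.2, x.2⟩⟩
    exact Nat.card_of_isEmpty

open Classical in
/-- Brauer's inner product formula for columns of the principal block. -/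
theorem columns_core [Fintype G] [Fintype (IrrCharacter G)] {p : ℕ} [Fact p.Prime]
    (hpM : IsPModular p M) (P : Subgroup G) (hP : IsPGroup p P) (N : Subgroup G)
    (hNN : N ≤ Subgroup.normalizer (P : Set G)) [Fintype P] [Fintype N] (U : Set G)
    (hfus : ∀ u ∈ U, ∀ g : G, g * u * g⁻¹ ∈ (P : Set G) → ∃ n ∈ N, n * u * n⁻¹ = g * u * g⁻¹)
    (w : ℂ)
    (hw : ∀ y ∈ U, ((∑ᶠ ψ ∈ principalBlock M ↥(Subgroup.centralizer ({y} : Set G)),
      charDegree (ψ : ↥(Subgroup.centralizer ({y} : Set G)) → ℂ) ^ 2 : ℕ) : ℂ) =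
      w * (Nat.card ↥(N ⊓ Subgroup.centralizer ({y} : Set G)) : ℂ))
    (θ η : P → ℂ) (hθU : ∀ y : P, (y : G) ∉ U → θ y = 0) :
    ∑ χ ∈ Finset.univ.filter (fun χ : IrrCharacter G => χ ∈ principalBlock M G),
      ((Nat.card P : ℂ)⁻¹ * ∑ y : P, (χ : G → ℂ) (y : G) * θ y⁻¹) *
        conj ((Nat.card P : ℂ)⁻¹ * ∑ y : P, (χ : G → ℂ) (y : G) * η y⁻¹) =
    (w / (Nat.card P : ℂ) ^ 2) *
      ∑ y : P, θ y * conj (∑ x : N, extendByZero P η ((x : G) * (y : G) * (x : G)⁻¹)) := by
  have hp : p.Prime := Fact.out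
  have hpel : ∀ v : P, ∃ k : ℕ, orderOf (v : G) = p ^ k := by
    intro v
    obtain ⟨k, hk⟩ := (IsPGroup.iff_orderOf.mp hP) v
    exact ⟨k, by rw [Subgroup.orderOf_coe]; exact hk⟩
  have hconjP : ∀ (x : N) (v : P), (x : G) * (v : G) * (x : G)⁻¹ ∈ P := by
    intro x v
    have := hNN x.2
    rw [Subgroup.mem_normalizer_iff] at this
    exact (this (v : G)).mp v.2
  -- the key evaluation
  have key : ∀ v : P, (v : G) ∈ U → ∀ v' : P,
      ∑ χ ∈ Finset.univ.filter (fun χ : IrrCharacter G => χ ∈ principalBlock M G),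
        (χ : G → ℂ) (v : G)⁻¹ * conj ((χ : G → ℂ) (v' : G)⁻¹) =
      w * ((Finset.univ.filter (fun x : N => (x : G) * (v : G) * (x : G)⁻¹ = (v' : G))).card : ℂ) := by
    intro v hvU v'
    rw [sum_principalBlock_pElements hpM (hpel v) (hpel v')]
    have hcard : (Finset.univ.filter
        (fun x : N => (x : G) * (v : G) * (x : G)⁻¹ = (v' : G))).card =
        Nat.card {x : N // (x : G) * (v : G) * (x : G)⁻¹ = (v' : G)} := by
      rw [Nat.card_eq_fintype_card, Fintype.card_subtype]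
    rw [hcard, card_conj_fiber]
    have hiff : IsConj (v : G) (v' : G) ↔ ∃ n ∈ N, n * (v : G) * n⁻¹ = (v' : G) := by
      constructor
      · intro hc
        obtain ⟨g, hg⟩ := isConj_iff.mp hc
        obtain ⟨n, hn, hn2⟩ := hfus (v : G) hvU g (by rw [hg]; exact v'.2)
        exact ⟨n, hn, hn2.trans hg⟩
      · rintro ⟨n, -, hn⟩
        exact isConj_iff.mpr ⟨n, hn⟩
    by_cases hc : IsConj (v : G) (v' : G)
    · rw [if_pos hc, if_pos (hiff.mp hc), hw _ hvU]
    · rw [if_neg hc, if_neg (fun h => hc (hiff.mpr h))]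
      simp
  -- reindexing of the coefficients
  have hre : ∀ (χ : IrrCharacter G) (ζ : P → ℂ), ∑ y : P, (χ : G → ℂ) (y : G) * ζ y⁻¹ =
      ∑ v : P, (χ : G → ℂ) (v : G)⁻¹ * ζ v := by
    intro χ ζ
    rw [← Equiv.sum_comp (Equiv.inv P)]
    refine Finset.sum_congr rfl fun v _ => ?_
    simp
  -- the right hand side
  have hrhs : ∀ v : P, conj (∑ x : N, extendByZero P η ((x : G) * (v : G) * (x : G)⁻¹)) =
      ∑ v' : P, ((Finset.univ.filter
        (fun x : N => (x : G) * (v : G) * (x : G)⁻¹ = (v' : G))).card : ℂ) * conj (η v') := by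
    intro v
    rw [map_sum]
    have h1 : ∀ x : N, conj (extendByZero P η ((x : G) * (v : G) * (x : G)⁻¹)) =
        conj (η ⟨(x : G) * (v : G) * (x : G)⁻¹, hconjP x v⟩) := by
      intro x
      rw [Cfsg.Agent.Lib.Helper25.extendByZero_of_mem P η (hconjP x v)]
    rw [Finset.sum_congr rfl fun x _ => h1 x]
    rw [← Finset.sum_fiberwise Finset.univ
      (fun x : N => (⟨(x : G) * (v : G) * (x : G)⁻¹, hconjP x v⟩ : P))]
    refine Finset.sum_congr rfl fun v' _ => ?_
    have h2 : ∀ x ∈ Finset.univ.filter (fun x : N =>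
        (⟨(x : G) * (v : G) * (x : G)⁻¹, hconjP x v⟩ : P) = v'),
        conj (η ⟨(x : G) * (v : G) * (x : G)⁻¹, hconjP x v⟩) = conj (η v') := by
      intro x hx
      rw [(Finset.mem_filter.mp hx).2]
    rw [Finset.sum_congr rfl h2, Finset.sum_const, nsmul_eq_mul]
    have hfe : Finset.univ.filter (fun x : N =>
        (⟨(x : G) * (v : G) * (x : G)⁻¹, hconjP x v⟩ : P) = v') =
        Finset.univ.filter (fun x : N => (x : G) * (v : G) * (x : G)⁻¹ = (v' : G)) := by
      ext x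
      simp only [Finset.mem_filter, Finset.mem_univ, true_and]
      exact ⟨fun h => congrArg Subtype.val h, fun h => Subtype.ext h⟩
    rw [hfe]
  simp_rw [hre, hrhs]
  -- algebra
  have hcc : conj ((Nat.card P : ℂ)⁻¹) = (Nat.card P : ℂ)⁻¹ := by
    rw [map_inv₀, Complex.conj_natCast]
  have hL : ∀ χ : IrrCharacter G,
      ((Nat.card P : ℂ)⁻¹ * ∑ v : P, (χ : G → ℂ) (v : G)⁻¹ * θ v) *
        conj ((Nat.card P : ℂ)⁻¹ * ∑ v : P, (χ : G → ℂ) (v : G)⁻¹ * η v) =
      (1 / (Nat.card P : ℂ) ^ 2) * ∑ v : P, ∑ v' : P, θ v * conj (η v') *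
        ((χ : G → ℂ) (v : G)⁻¹ * conj ((χ : G → ℂ) (v' : G)⁻¹)) := by
    intro χ
    rw [map_mul, hcc, map_sum]
    simp only [map_mul]
    rw [mul_mul_mul_comm, Finset.sum_mul_sum]
    congr 1
    · field_simp
    · refine Finset.sum_congr rfl fun v _ => Finset.sum_congr rfl fun v' _ => ?_
      ring
  rw [Finset.sum_congr rfl fun χ _ => hL χ, ← Finset.mul_sum, Finset.sum_comm]
  have hR : ∀ v : P, ∑ χ ∈ Finset.univ.filter
      (fun χ : IrrCharacter G => χ ∈ principalBlock M G), ∑ v' : P, θ v * conj (η v') *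
        ((χ : G → ℂ) (v : G)⁻¹ * conj ((χ : G → ℂ) (v' : G)⁻¹)) =
      w * (θ v * ∑ v' : P, ((Finset.univ.filter
        (fun x : N => (x : G) * (v : G) * (x : G)⁻¹ = (v' : G))).card : ℂ) * conj (η v')) := by
    intro v
    by_cases hvU : (v : G) ∈ U
    · rw [Finset.sum_comm, Finset.mul_sum, Finset.mul_sum]
      refine Finset.sum_congr rfl fun v' _ => ?_
      rw [← Finset.mul_sum, key v hvU v']
      ring
    · rw [hθU v hvU]
      simp
  rw [Finset.sum_congr rfl fun v _ => hR v, ← Finset.mul_sum]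
  ring

end Cfsg.Agent.Lib.Helper77
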