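import Cfsg.Agent.Lib.Helper77.SectionNorm
import Cfsg.Agent.Lib.Helper3.Complete

/-!
# Parseval's identity on a `p`-section (helper77)

For a `p`-element `z` with centralizer `H` and a class function `v` of `H` supported on the
`p`-regular elements, the inner products of `v` with the functions `c ↦ ζ (z c)`, `ζ` irreducible
character of `G`, have square sum `[v, v]`.
-/

set_option autoImplicit false

universe u

namespace Cfsg.Agent.Lib.Helper77.Ctb

open Cfsg Cfsg.Agent.Lib.Helper77
open scoped ComplexConjugate

/-- Parseval's identity in a finite group. -/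
theorem classInner_self_eq_sum {H : Type u} [Group H] [Fintype H] [Fintype (IrrCharacter H)]
    {v : H → ℂ} (hv : IsClassFunction H v) :
    classInner v v = ∑ χ : IrrCharacter H,
      classInner v (χ : H → ℂ) * conj (classInner v (χ : H → ℂ)) := by
  have h1 := Cfsg.Agent.Lib.Helper3.classFunction_eq_sum hv
  conv_lhs => rw [h1]
  rw [Cfsg.Agent.Lib.Helper3.classInner_sum_left]
  refine Finset.sum_congr rfl fun χ _ => ?_
  rw [Cfsg.Agent.Lib.Helper3.classInner_smul_left, ← h1,
    Cfsg.Agent.Lib.Helper3.classInner_conj_symm (χ : H → ℂ) v]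

variable {G : Type u} [Group G] [Fintype G]

theorem parseval_section [Fintype (IrrCharacter G)] {p : ℕ} (hp : p.Prime) {z : G}
    (hz : ∃ k : ℕ, orderOf z = p ^ k) (H : Subgroup G)
    (hH : H = Subgroup.centralizer ({z} : Set G))
    [Fintype H] [Fintype (IrrCharacter H)]
    (v : H → ℂ) (hv : IsClassFunction H v) (hv0 : ∀ c : H, p ∣ orderOf c → v c = 0) :
    ∑ ζ : IrrCharacter G,
      classInner (fun c : H => (ζ : G → ℂ) (z * (c : G))) v *
        conj (classInner (fun c : H => (ζ : G → ℂ) (z * (c : G))) v) = classInner v v := by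
  subst hH
  classical
  have hnC : (Nat.card (Subgroup.centralizer ({z} : Set G)) : ℂ) ≠ 0 :=
    Nat.cast_ne_zero.mpr Nat.card_pos.ne'
  -- expansion of one term
  have hL : ∀ ζ : IrrCharacter G,
      classInner (fun c : Subgroup.centralizer ({z} : Set G) => (ζ : G → ℂ) (z * (c : G))) v *
        conj (classInner (fun c : Subgroup.centralizer ({z} : Set G) =>
          (ζ : G → ℂ) (z * (c : G))) v) =
      (Nat.card (Subgroup.centralizer ({z} : Set G)) : ℂ)⁻¹ *
        (Nat.card (Subgroup.centralizer ({z} : Set G)) : ℂ)⁻¹ *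
        ∑ c : Subgroup.centralizer ({z} : Set G), ∑ c' : Subgroup.centralizer ({z} : Set G),
          (conj (v c) * v c') *
            ((ζ : G → ℂ) (z * (c : G)) * conj ((ζ : G → ℂ) (z * (c' : G)))) := by
    intro ζ
    unfold classInner
    rw [map_mul, map_inv₀, map_natCast, map_sum]
    simp only [map_mul, Complex.conj_conj]
    rw [mul_mul_mul_comm, Finset.sum_mul_sum]
    congr 1
    refine Finset.sum_congr rfl fun c _ => ?_
    refine Finset.sum_congr rfl fun c' _ => ?_
    ring
  -- column orthogonality on the section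
  have hK : ∀ c c' : Subgroup.centralizer ({z} : Set G), (conj (v c) * v c') *
      ∑ ζ : IrrCharacter G, (ζ : G → ℂ) (z * (c : G)) * conj ((ζ : G → ℂ) (z * (c' : G))) =
      (conj (v c) * v c') *
      ∑ χ : IrrCharacter (Subgroup.centralizer ({z} : Set G)),
        (χ : Subgroup.centralizer ({z} : Set G) → ℂ) c *
          conj ((χ : Subgroup.centralizer ({z} : Set G) → ℂ) c') := by
    intro c c'
    by_cases hc : p ∣ orderOf c
    · rw [hv0 c hc, map_zero, zero_mul, zero_mul, zero_mul]
    by_cases hc' : p ∣ orderOf c'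
    · rw [hv0 c' hc', mul_zero, zero_mul, zero_mul]
    congr 1
    rw [Cfsg.Agent.Lib.Helper3.column_orthogonality, Cfsg.Agent.Lib.Helper3.column_orthogonality]
    by_cases hcc : IsConj c c'
    · rw [if_pos hcc, if_pos ((isConj_mul_iff_of_pRegular hp hz c c' hc hc').mpr hcc),
        card_centralizer_mul_of_pRegular hp hz c hc]
    · rw [if_neg hcc, if_neg (fun h => hcc ((isConj_mul_iff_of_pRegular hp hz c c' hc hc').mp h))]
  rw [Finset.sum_congr rfl fun ζ _ => hL ζ, ← Finset.mul_sum, Finset.sum_comm]
  have h6 : ∀ c : Subgroup.centralizer ({z} : Set G),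
      ∑ ζ : IrrCharacter G, ∑ c' : Subgroup.centralizer ({z} : Set G),
        (conj (v c) * v c') *
          ((ζ : G → ℂ) (z * (c : G)) * conj ((ζ : G → ℂ) (z * (c' : G)))) =
      ∑ c' : Subgroup.centralizer ({z} : Set G), (conj (v c) * v c') *
        ∑ χ : IrrCharacter (Subgroup.centralizer ({z} : Set G)),
          (χ : Subgroup.centralizer ({z} : Set G) → ℂ) c *
            conj ((χ : Subgroup.centralizer ({z} : Set G) → ℂ) c') := by
    intro c
    rw [Finset.sum_comm]
    refine Finset.sum_congr rfl fun c' _ => ?_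
    rw [← Finset.mul_sum]
    exact hK c c'
  rw [Finset.sum_congr rfl fun c _ => h6 c]
  -- the right-hand side
  rw [classInner_self_eq_sum hv]
  have hR : ∀ χ : IrrCharacter (Subgroup.centralizer ({z} : Set G)),
      classInner v (χ : Subgroup.centralizer ({z} : Set G) → ℂ) *
        conj (classInner v (χ : Subgroup.centralizer ({z} : Set G) → ℂ)) =
      (Nat.card (Subgroup.centralizer ({z} : Set G)) : ℂ)⁻¹ *
        (Nat.card (Subgroup.centralizer ({z} : Set G)) : ℂ)⁻¹ *
        ∑ c : Subgroup.centralizer ({z} : Set G), ∑ c' : Subgroup.centralizer ({z} : Set G),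
          (conj (v c) * v c') *
            ((χ : Subgroup.centralizer ({z} : Set G) → ℂ) c *
              conj ((χ : Subgroup.centralizer ({z} : Set G) → ℂ) c')) := by
    intro χ
    unfold classInner
    rw [map_mul, map_inv₀, map_natCast, map_sum]
    simp only [map_mul, Complex.conj_conj]
    rw [mul_mul_mul_comm, Finset.sum_mul_sum]
    congr 1
    rw [Finset.sum_comm]
    refine Finset.sum_congr rfl fun c _ => ?_
    refine Finset.sum_congr rfl fun c' _ => ?_
    ring
  rw [Finset.sum_congr rfl fun χ _ => hR χ, ← Finset.mul_sum]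
  congr 1
  symm
  rw [Finset.sum_comm]
  refine Finset.sum_congr rfl fun c _ => ?_
  rw [Finset.sum_comm]
  refine Finset.sum_congr rfl fun c' _ => ?_
  rw [Finset.mul_sum]

end Cfsg.Agent.Lib.Helper77.Ctb
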