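import Cfsg.Agent.Lib.Helper77.IndPart
import Cfsg.Agent.Lib.Helper16.WBO
import Cfsg.Agent.Lib.Helper3.CharBasic
import Cfsg.Prelude.Def_BlockRank
import Mathlib.LinearAlgebra.Trace

/-!
# The `p`-regular rank of a block as a trace

The sum over the `p`-regular elements `s` of the squared norms of the members of a block at `s`
equals the group order times the `p`-regular rank of the block.
-/

set_option autoImplicit false

universe u

namespace Cfsg.Agent.Lib.Helper77

open Cfsg
open Cfsg.Agent.Lib.Helper81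
open Cfsg.Agent.Lib.Helper80
open scoped ComplexConjugate

variable {H : Type u} [Group H] [Fintype H] {M : Ideal AlgInt}

omit [Fintype H] in
open Classical in
theorem pRegularPart_apply (p : ℕ) (f : H → ℂ) (s : H) :
    pRegularPart p f s = if ¬ p ∣ orderOf s then f s else 0 := by
  unfold pRegularPart IsPRegular
  congr

omit [Fintype H] in
theorem pRegularPart_add (p : ℕ) (f g : H → ℂ) :
    pRegularPart p (f + g) = pRegularPart p f + pRegularPart p g := by
  funext s
  rw [Pi.add_apply, pRegularPart_apply, pRegularPart_apply, pRegularPart_apply]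
  split_ifs <;> simp

omit [Fintype H] in
theorem pRegularPart_smul (p : ℕ) (c : ℂ) (f : H → ℂ) :
    pRegularPart p (c • f) = c • pRegularPart p f := by
  funext s
  rw [Pi.smul_apply, pRegularPart_apply, pRegularPart_apply]
  split_ifs <;> simp

open Classical in
/-- The projection onto the span of the `p`-regular parts of the members of a block. -/
noncomputable def regProj (p : ℕ) [Fintype (IrrCharacter H)] (B : Set (IrrCharacter H)) :
    (H → ℂ) →ₗ[ℂ] (H → ℂ) where
  toFun f := ∑ ψ ∈ Finset.univ.filter (fun ψ : IrrCharacter H => ψ ∈ B),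
    classInner (pRegularPart p f) (ψ : H → ℂ) • pRegularPart p (ψ : H → ℂ)
  map_add' f g := by
    rw [← Finset.sum_add_distrib]
    refine Finset.sum_congr rfl fun ψ _ => ?_
    rw [← add_smul, pRegularPart_add, Cfsg.Agent.Lib.Helper3.classInner_add_left]
  map_smul' c f := by
    rw [Finset.smul_sum]
    refine Finset.sum_congr rfl fun ψ _ => ?_
    rw [smul_smul, pRegularPart_smul, Cfsg.Agent.Lib.Helper3.classInner_smul_left]
    rfl

open Classical in
theorem regProj_apply (p : ℕ) [Fintype (IrrCharacter H)] (B : Set (IrrCharacter H))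
    (f : H → ℂ) (s : H) :
    regProj p B f s = ∑ ψ ∈ Finset.univ.filter (fun ψ : IrrCharacter H => ψ ∈ B),
      classInner (pRegularPart p f) (ψ : H → ℂ) * pRegularPart p (ψ : H → ℂ) s := by
  unfold regProj
  simp [Finset.sum_apply]

open Classical in
theorem regProj_mem_span (p : ℕ) [Fintype (IrrCharacter H)] (B : Set (IrrCharacter H))
    (f : H → ℂ) :
    regProj p B f ∈ Submodule.span ℂ
      ((fun χ : IrrCharacter H => pRegularPart p (χ : H → ℂ)) '' B) := by
  unfold regProj
  simp only [LinearMap.coe_mk, AddHom.coe_mk]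
  refine Submodule.sum_mem _ fun ψ hψ => Submodule.smul_mem _ _ (Submodule.subset_span ?_)
  exact ⟨ψ, (Finset.mem_filter.mp hψ).2, rfl⟩

omit [Fintype H] in
theorem pRegularPart_pRegularPart (p : ℕ) (f : H → ℂ) :
    pRegularPart p (pRegularPart p f) = pRegularPart p f := by
  funext s
  rw [pRegularPart_apply, pRegularPart_apply]
  split_ifs <;> rfl

open Classical in
theorem regProj_pRegularPart_irr [Fintype (IrrCharacter H)] {p : ℕ} [Fact p.Prime]
    (hpM : IsPModular p M) (ξ₀ : IrrCharacter H) (ψ₀ : IrrCharacter H)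
    (hψ₀ : ψ₀ ∈ blockOf M (ξ₀ : H → ℂ)) :
    regProj p (blockOf M (ξ₀ : H → ℂ)) (pRegularPart p (ψ₀ : H → ℂ)) =
      pRegularPart p (ψ₀ : H → ℂ) := by
  funext s
  rw [regProj_apply, pRegularPart_pRegularPart]
  by_cases hs : p ∣ orderOf s
  · rw [pRegularPart_apply, if_neg (not_not.mpr hs)]
    refine Finset.sum_eq_zero fun ψ _ => ?_
    rw [pRegularPart_apply, if_neg (not_not.mpr hs), mul_zero]
  · rw [pRegularPart_apply, if_pos hs]
    have h1 : ∀ ψ : IrrCharacter H, classInner (pRegularPart p (ψ₀ : H → ℂ)) (ψ : H → ℂ) *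
        pRegularPart p (ψ : H → ℂ) s =
        (Nat.card H : ℂ)⁻¹ * ∑ t : H, pRegularPart p (ψ₀ : H → ℂ) t *
          ((ψ : H → ℂ) s * conj ((ψ : H → ℂ) t)) := by
      intro ψ
      unfold classInner
      rw [pRegularPart_apply p _ s, if_pos hs, mul_assoc, Finset.sum_mul]
      congr 1
      refine Finset.sum_congr rfl fun t _ => ?_
      ring
    rw [Finset.sum_congr rfl fun ψ _ => h1 ψ, ← Finset.mul_sum, Finset.sum_comm]
    have h2 : ∀ t : H, ∑ ψ ∈ Finset.univ.filter
        (fun ψ : IrrCharacter H => ψ ∈ blockOf M (ξ₀ : H → ℂ)),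
        pRegularPart p (ψ₀ : H → ℂ) t * ((ψ : H → ℂ) s * conj ((ψ : H → ℂ) t)) =
        ∑ ψ ∈ Finset.univ.filter (fun ψ : IrrCharacter H => ψ ∈ blockOf M (ξ₀ : H → ℂ)),
        (ψ₀ : H → ℂ) t * ((ψ : H → ℂ) s * conj ((ψ : H → ℂ) t)) := by
      intro t
      rw [← Finset.mul_sum, ← Finset.mul_sum]
      by_cases ht : p ∣ orderOf t
      · rw [Cfsg.Agent.Lib.Helper16.weak_block_orthogonality_finset hpM ξ₀ hs ht, mul_zero,
          mul_zero]
      · rw [pRegularPart_apply, if_pos ht]
    rw [Finset.sum_congr rfl fun t _ => h2 t, Finset.sum_comm, Finset.mul_sum]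
    have h3 : ∀ ψ : IrrCharacter H, (Nat.card H : ℂ)⁻¹ * ∑ t : H,
        (ψ₀ : H → ℂ) t * ((ψ : H → ℂ) s * conj ((ψ : H → ℂ) t)) =
        (if ψ₀ = ψ then 1 else 0) * (ψ : H → ℂ) s := by
      intro ψ
      have hci : classInner (ψ₀ : H → ℂ) (ψ : H → ℂ) = if ψ₀ = ψ then 1 else 0 := by
        rw [Cfsg.Agent.Lib.Helper3.classInner_irr ψ₀.2 ψ.2]
        by_cases h : ψ₀ = ψ
        · rw [if_pos h, if_pos (congrArg _ h)]
        · rw [if_neg h, if_neg (fun h' => h (Subtype.ext h'))]
      rw [← hci]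
      unfold classInner
      rw [mul_assoc, Finset.sum_mul]
      congr 1
      refine Finset.sum_congr rfl fun t _ => ?_
      ring
    rw [Finset.sum_congr rfl fun ψ _ => h3 ψ, Finset.sum_eq_single ψ₀]
    · rw [if_pos rfl, one_mul]
    · intro ψ _ hne
      rw [if_neg (fun h => hne h.symm), zero_mul]
    · intro h
      exact absurd (Finset.mem_filter.mpr ⟨Finset.mem_univ _, hψ₀⟩) h

theorem regProj_isProj [Fintype (IrrCharacter H)] {p : ℕ} [Fact p.Prime]
    (hpM : IsPModular p M) (ξ₀ : IrrCharacter H) :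
    LinearMap.IsProj (Submodule.span ℂ
      ((fun χ : IrrCharacter H => pRegularPart p (χ : H → ℂ)) '' blockOf M (ξ₀ : H → ℂ)))
      (regProj p (blockOf M (ξ₀ : H → ℂ))) := by
  refine ⟨fun f => regProj_mem_span p _ f, fun w hw => ?_⟩
  induction hw using Submodule.span_induction with
  | mem x hx =>
    obtain ⟨ψ₀, hψ₀, rfl⟩ := hx
    exact regProj_pRegularPart_irr hpM ξ₀ ψ₀ hψ₀
  | zero => exact map_zero _
  | add x y _ _ hx hy => rw [map_add, hx, hy]
  | smul c x _ hx => rw [map_smul, hx]

open Classical in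
theorem trace_regProj (p : ℕ) [Fintype (IrrCharacter H)] (B : Set (IrrCharacter H)) :
    LinearMap.trace ℂ (H → ℂ) (regProj p B) =
      ∑ s : H, regProj p B (Pi.single s 1) s := by
  rw [LinearMap.trace_eq_matrix_trace ℂ (Pi.basisFun ℂ H), LinearMap.toMatrix_eq_toMatrix',
    Matrix.trace]
  refine Finset.sum_congr rfl fun s _ => ?_
  rw [Matrix.diag_apply, LinearMap.toMatrix'_apply]

open Classical in
theorem regProj_single_apply (p : ℕ) [Fintype (IrrCharacter H)] (B : Set (IrrCharacter H))
    (s : H) :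
    regProj p B (Pi.single s 1) s = (Nat.card H : ℂ)⁻¹ *
      (if ¬ p ∣ orderOf s then ∑ ψ ∈ Finset.univ.filter (fun ψ : IrrCharacter H => ψ ∈ B),
        (ψ : H → ℂ) s * conj ((ψ : H → ℂ) s) else 0) := by
  rw [regProj_apply]
  by_cases hs : p ∣ orderOf s
  · rw [if_neg (not_not.mpr hs), mul_zero]
    refine Finset.sum_eq_zero fun ψ _ => ?_
    rw [pRegularPart_apply, if_neg (not_not.mpr hs), mul_zero]
  · rw [if_pos hs, Finset.mul_sum]
    refine Finset.sum_congr rfl fun ψ _ => ?_
    rw [pRegularPart_apply p _ s, if_pos hs]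
    unfold classInner
    rw [Finset.sum_eq_single s]
    · rw [pRegularPart_apply, if_pos hs, Pi.single_eq_same]
      ring
    · intro t _ hts
      rw [pRegularPart_apply]
      split_ifs
      · rw [zero_mul]
      · rw [Pi.single_eq_of_ne hts, zero_mul]
    · intro h
      exact absurd (Finset.mem_univ _) h

open Classical in
/-- The sum over the `p`-regular elements of the squared norms of the members of a block is the
group order times the `p`-regular rank of the block. -/
theorem sum_pRegular_block_eq [Fintype (IrrCharacter H)] {p : ℕ} [Fact p.Prime]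
    (hpM : IsPModular p M) (ξ₀ : IrrCharacter H) :
    ∑ s : H, (if ¬ p ∣ orderOf s then ∑ ψ ∈ Finset.univ.filter
        (fun ψ : IrrCharacter H => ψ ∈ blockOf M (ξ₀ : H → ℂ)),
        (ψ : H → ℂ) s * conj ((ψ : H → ℂ) s) else 0) =
      (Nat.card H : ℂ) * (blockRank p (blockOf M (ξ₀ : H → ℂ)) : ℂ) := by
  have hH : (Nat.card H : ℂ) ≠ 0 := Nat.cast_ne_zero.mpr Nat.card_pos.ne'
  have h1 := (regProj_isProj hpM ξ₀).trace
  rw [trace_regProj] at h1
  simp_rw [regProj_single_apply] at h1
  rw [← Finset.mul_sum] at h1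
  unfold blockRank
  rw [← h1, ← mul_assoc, mul_inv_cancel₀ hH, one_mul]

end Cfsg.Agent.Lib.Helper77
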