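import Cfsg.Agent.Lib.Helper77.CtbA
import Cfsg.Agent.Lib.Helper77.RankTrace
import Cfsg.Agent.Lib.Helper75.SectionCount
import Cfsg.Agent.S0952

/-!
# The matrix of contributions of a subsection (helper77)

For a `p`-element `z` with centralizer `H`, a block `b` of `H` inducing the block `B` of `G`:
`secPart z H b χ` is the `b`-part of `c ↦ χ (z c)` and
`ctb p z H b χ ψ = [secPart χ, secPart ψ]°` (inner product over the `p`-regular elements).
The matrix `(ctb χ ψ)`, `χ, ψ ∈ B`, is a Hermitian idempotent of trace `l(b)`; hence the sum of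
the squared absolute values of its entries is `l(b)`.
-/

set_option autoImplicit false

universe u

namespace Cfsg.Agent.Lib.Helper77.Ctb

open Cfsg Cfsg.Agent.Lib.Helper77 Cfsg.Agent.Lib.Helper81
open scoped ComplexConjugate

variable {G : Type u} [Group G] [Fintype G]

/-- the `b`-part of `c ↦ χ (z c)` -/
noncomputable def secPart (z : G) (H : Subgroup G) [Fintype H] (b : Set (IrrCharacter H))
    (χ : G → ℂ) : H → ℂ :=
  blockPart b (fun c : H => χ (z * (c : G)))

/-- the contribution of the pair `χ, ψ` -/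
noncomputable def ctb (p : ℕ) (z : G) (H : Subgroup G) [Fintype H] (b : Set (IrrCharacter H))
    (χ ψ : G → ℂ) : ℂ :=
  classInner (pRegularPart p (secPart z H b χ)) (secPart z H b ψ)

section basic
variable (z : G) (H : Subgroup G) [Fintype H] [Fintype (IrrCharacter H)]
  (b : Set (IrrCharacter H))

open Classical in
theorem secPart_apply (χ : G → ℂ) (g : H) :
    secPart z H b χ g = ∑ ξ ∈ Finset.univ.filter (fun ξ : IrrCharacter H => ξ ∈ b),
      classInner (fun c : H => χ (z * (c : G))) (ξ : H → ℂ) * (ξ : H → ℂ) g := by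
  unfold secPart
  rw [blockPart_eq_sum]

theorem isClassFunction_blockPart (ϑ : H → ℂ) : IsClassFunction H (blockPart b ϑ) := by
  classical
  intro g h
  rw [blockPart_eq_sum, blockPart_eq_sum]
  refine Finset.sum_congr rfl fun ξ _ => ?_
  rw [Cfsg.Agent.Lib.Helper80.irr_class ξ g h]

theorem isClassFunction_secPart (χ : G → ℂ) : IsClassFunction H (secPart z H b χ) :=
  isClassFunction_blockPart H b _

end basic

section inner
variable {H : Type u} [Group H] [Fintype H] [Fintype (IrrCharacter H)]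

/-- the `p`-regular part of a block part is orthogonal to the characters outside the block -/
theorem classInner_pRegularPart_blockPart_of_not_mem {p : ℕ} [Fact p.Prime] {M : Ideal AlgInt}
    (hM : IsPModular p M) (ξ₀ : IrrCharacter H) (ϑ : H → ℂ) (ξ' : IrrCharacter H)
    (hξ' : ξ' ∉ blockOf M (ξ₀ : H → ℂ)) :
    classInner (pRegularPart p (blockPart (blockOf M (ξ₀ : H → ℂ)) ϑ)) (ξ' : H → ℂ) = 0 := by
  classical
  have hMp : M.IsPrime := isPrime_of_isPModular hM
  unfold classInner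
  have h1 : ∑ g : H, pRegularPart p (blockPart (blockOf M (ξ₀ : H → ℂ)) ϑ) g *
      conj ((ξ' : H → ℂ) g) =
      ∑ ξ ∈ Finset.univ.filter (fun ξ : IrrCharacter H => ξ ∈ blockOf M (ξ₀ : H → ℂ)),
        classInner ϑ (ξ : H → ℂ) *
          ∑ g ∈ Finset.univ.filter (fun g : H => ¬ p ∣ orderOf g),
            (ξ : H → ℂ) g * conj ((ξ' : H → ℂ) g) := by
    simp_rw [Finset.mul_sum]
    rw [Finset.sum_comm]
    rw [Finset.sum_filter]
    refine Finset.sum_congr rfl fun g _ => ?_
    rw [pRegularPart_apply]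
    by_cases hg : p ∣ orderOf g
    · rw [if_neg (fun h => h hg), if_neg (fun h => h hg), zero_mul]
    · rw [if_pos hg, if_pos hg, blockPart_eq_sum, Finset.sum_mul]
      refine Finset.sum_congr rfl fun ξ _ => ?_
      ring
  rw [h1, Finset.sum_eq_zero, mul_zero]
  intro ξ hξ
  have hξb : ξ ∈ blockOf M (ξ₀ : H → ℂ) := (Finset.mem_filter.mp hξ).2
  have hns : ¬ SameBlock M (ξ : H → ℂ) (ξ' : H → ℂ) := by
    intro hs
    exact hξ' (sameBlock_trans hMp hξb hs)
  rw [Cfsg.Agent.S0952.orth_regular p M hM ξ ξ' hns, mul_zero]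

/-- a class function orthogonal to the characters outside `b` sees only the `b`-part -/
theorem classInner_blockPart_right (b : Set (IrrCharacter H)) {v ϑ : H → ℂ}
    (hϑ : IsClassFunction H ϑ)
    (hv : ∀ ξ' : IrrCharacter H, ξ' ∉ b → classInner v (ξ' : H → ℂ) = 0) :
    classInner v (blockPart b ϑ) = classInner v ϑ := by
  classical
  have e1 : blockPart b ϑ = ∑ ξ ∈ Finset.univ.filter (fun ξ : IrrCharacter H => ξ ∈ b),
      classInner ϑ (ξ : H → ℂ) • (ξ : H → ℂ) := by
    funext g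
    rw [blockPart_eq_sum, Finset.sum_apply]
    rfl
  have e2 := Cfsg.Agent.Lib.Helper3.classFunction_eq_sum hϑ
  rw [e1]
  conv_rhs => rw [e2]
  rw [Cfsg.Agent.Lib.Helper3.classInner_sum_right, Cfsg.Agent.Lib.Helper3.classInner_sum_right,
    Finset.sum_filter]
  refine Finset.sum_congr rfl fun ξ _ => ?_
  split_ifs with hξ
  · rfl
  · rw [Cfsg.Agent.Lib.Helper3.classInner_smul_right, hv ξ hξ, mul_zero]

theorem classInner_pRegularPart_self (p : ℕ) (f : H → ℂ) :
    classInner (pRegularPart p f) (pRegularPart p f) = classInner (pRegularPart p f) f := by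
  classical
  unfold classInner
  congr 1
  refine Finset.sum_congr rfl fun g _ => ?_
  rw [pRegularPart_apply]
  by_cases hg : p ∣ orderOf g
  · rw [if_neg (fun h => h hg), zero_mul, zero_mul]
  · rw [if_pos hg]

end inner

section main
variable [Fintype (IrrCharacter G)] {p : ℕ} [Fact p.Prime] {M : Ideal AlgInt}

/-- second main theorem: outside the induced block the section part vanishes on the `p`-regular
elements -/
theorem secPart_eq_zero (hM : IsPModular p M) {z : G} (hz : ∃ k : ℕ, orderOf z = p ^ k)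
    (H : Subgroup G) (hH : H = Subgroup.centralizer ({z} : Set G)) [Fintype H]
    {b : Set (IrrCharacter H)} {B : Set (IrrCharacter G)} (hind : IsInducedBlock M H b B)
    (ψ : IrrCharacter G) (hψ : ψ ∉ B) (s : H) (hs : ¬ p ∣ orderOf s) :
    secPart z H b (ψ : G → ℂ) s = 0 := by
  subst hH
  have hMp : M.IsPrime := isPrime_of_isPModular hM
  unfold secPart
  refine Cfsg.Agent.S0923.result p M hM z hz (blockOf M (ψ : G → ℂ)) ⟨ψ, rfl⟩ ψ
    (sameBlock_refl hMp _) b hind.1 ?_ s hs
  intro hind'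
  apply hψ
  rw [isInducedBlock_unique hMp hind hind']
  exact sameBlock_refl hMp _

theorem ctb_eq_zero (hM : IsPModular p M) {z : G} (hz : ∃ k : ℕ, orderOf z = p ^ k)
    (H : Subgroup G) (hH : H = Subgroup.centralizer ({z} : Set G)) [Fintype H]
    {b : Set (IrrCharacter H)} {B : Set (IrrCharacter G)} (hind : IsInducedBlock M H b B)
    (χ : G → ℂ) (ψ : IrrCharacter G) (hψ : ψ ∉ B) :
    ctb p z H b χ (ψ : G → ℂ) = 0 := by
  classical
  unfold ctb classInner
  rw [Finset.sum_eq_zero, mul_zero]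
  intro s _
  rw [pRegularPart_apply]
  by_cases hs : p ∣ orderOf s
  · rw [if_neg (fun h => h hs), zero_mul]
  · rw [if_pos hs, secPart_eq_zero hM hz H hH hind ψ hψ s hs, map_zero, mul_zero]

/-- the contribution as an inner product with the shifted character -/
theorem ctb_eq_conj (hM : IsPModular p M) {z : G}
    (H : Subgroup G) (hH : H = Subgroup.centralizer ({z} : Set G)) [Fintype H]
    [Fintype (IrrCharacter H)] (ξ₀ : IrrCharacter H) (χ : G → ℂ) (ψ : IrrCharacter G) :
    ctb p z H (blockOf M (ξ₀ : H → ℂ)) χ (ψ : G → ℂ) =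
      conj (classInner (fun c : H => (ψ : G → ℂ) (z * (c : G)))
        (pRegularPart p (secPart z H (blockOf M (ξ₀ : H → ℂ)) χ))) := by
  subst hH
  unfold ctb
  rw [← Cfsg.Agent.Lib.Helper3.classInner_conj_symm]
  unfold secPart
  exact classInner_blockPart_right _ (Cfsg.Agent.Lib.Helper75.isClassFunction_shift ψ z)
    (fun ξ' hξ' => classInner_pRegularPart_blockPart_of_not_mem hM ξ₀ _ ξ' hξ')

open Classical in
/-- row sums of squares: `∑_{ψ ∈ B} |m_{χψ}|² = m_{χχ}` -/
theorem sum_ctb_mul_conj (hM : IsPModular p M) {z : G} (hz : ∃ k : ℕ, orderOf z = p ^ k)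
    (H : Subgroup G) (hH : H = Subgroup.centralizer ({z} : Set G)) [Fintype H]
    [Fintype (IrrCharacter H)] (ξ₀ : IrrCharacter H) {B : Set (IrrCharacter G)}
    (hind : IsInducedBlock M H (blockOf M (ξ₀ : H → ℂ)) B) (χ : G → ℂ) :
    ∑ ψ ∈ Finset.univ.filter (fun ψ : IrrCharacter G => ψ ∈ B),
      ctb p z H (blockOf M (ξ₀ : H → ℂ)) χ (ψ : G → ℂ) *
        conj (ctb p z H (blockOf M (ξ₀ : H → ℂ)) χ (ψ : G → ℂ)) =
      ctb p z H (blockOf M (ξ₀ : H → ℂ)) χ χ := by
  have hp : p.Prime := Fact.out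
  set v := pRegularPart p (secPart z H (blockOf M (ξ₀ : H → ℂ)) χ) with hv
  have hvcl : IsClassFunction H v :=
    Cfsg.Agent.Lib.Helper74.pRegularPart_isClassFunction p (isClassFunction_secPart z H _ χ)
  have hv0 : ∀ c : H, p ∣ orderOf c → v c = 0 := by
    intro c hc
    rw [hv, pRegularPart_apply, if_neg (fun h => h hc)]
  have h1 := parseval_section hp hz H hH v hvcl hv0
  have h2 : classInner v v = ctb p z H (blockOf M (ξ₀ : H → ℂ)) χ χ := by
    rw [hv]
    exact classInner_pRegularPart_self p _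
  rw [← h2, ← h1, Finset.sum_filter]
  refine Finset.sum_congr rfl fun ψ _ => ?_
  split_ifs with hψ
  · rw [ctb_eq_conj hM H hH ξ₀ χ ψ, Complex.conj_conj, mul_comm]
  · have h3 := ctb_eq_zero hM hz H hH hind χ ψ hψ
    rw [ctb_eq_conj hM H hH ξ₀ χ ψ] at h3
    have h4 := congrArg (starRingEnd ℂ) h3
    rw [Complex.conj_conj, map_zero] at h4
    rw [h4, zero_mul]

open Classical in
/-- the trace: `∑_{χ ∈ B} m_{χχ} = l(b)` -/
theorem sum_ctb_self (hM : IsPModular p M) {z : G} (hz : ∃ k : ℕ, orderOf z = p ^ k)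
    (H : Subgroup G) (hH : H = Subgroup.centralizer ({z} : Set G)) [Fintype H]
    [Fintype (IrrCharacter H)] (ξ₀ : IrrCharacter H) {B : Set (IrrCharacter G)}
    (hind : IsInducedBlock M H (blockOf M (ξ₀ : H → ℂ)) B) :
    ∑ χ ∈ Finset.univ.filter (fun χ : IrrCharacter G => χ ∈ B),
      ctb p z H (blockOf M (ξ₀ : H → ℂ)) (χ : G → ℂ) (χ : G → ℂ) =
      (blockRank p (blockOf M (ξ₀ : H → ℂ)) : ℂ) := by
  have hnH : (Nat.card H : ℂ) ≠ 0 := Nat.cast_ne_zero.mpr Nat.card_pos.ne'
  -- extend the sum to all irreducible characters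
  have h1 : ∑ χ ∈ Finset.univ.filter (fun χ : IrrCharacter G => χ ∈ B),
      ctb p z H (blockOf M (ξ₀ : H → ℂ)) (χ : G → ℂ) (χ : G → ℂ) =
      ∑ χ : IrrCharacter G,
        ctb p z H (blockOf M (ξ₀ : H → ℂ)) (χ : G → ℂ) (χ : G → ℂ) := by
    rw [Finset.sum_filter]
    refine Finset.sum_congr rfl fun χ _ => ?_
    split_ifs with hχ
    · rfl
    · exact (ctb_eq_zero hM hz H hH hind _ χ hχ).symm
  rw [h1]
  -- pointwise form
  have h2 : ∀ χ : IrrCharacter G,
      ctb p z H (blockOf M (ξ₀ : H → ℂ)) (χ : G → ℂ) (χ : G → ℂ) =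
      (Nat.card H : ℂ)⁻¹ * ∑ s : H, (if ¬ p ∣ orderOf s then
        secPart z H (blockOf M (ξ₀ : H → ℂ)) (χ : G → ℂ) s *
          conj (secPart z H (blockOf M (ξ₀ : H → ℂ)) (χ : G → ℂ) s) else 0) := by
    intro χ
    unfold ctb classInner
    congr 1
    refine Finset.sum_congr rfl fun s _ => ?_
    rw [pRegularPart_apply]
    by_cases hs : p ∣ orderOf s
    · rw [if_neg (fun h => h hs), if_neg (fun h => h hs), zero_mul]
    · rw [if_pos hs, if_pos hs]
  rw [Finset.sum_congr rfl fun χ _ => h2 χ, ← Finset.mul_sum, Finset.sum_comm]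
  have h3 : ∀ s : H, ∑ χ : IrrCharacter G, (if ¬ p ∣ orderOf s then
        secPart z H (blockOf M (ξ₀ : H → ℂ)) (χ : G → ℂ) s *
          conj (secPart z H (blockOf M (ξ₀ : H → ℂ)) (χ : G → ℂ) s) else 0) =
      (if ¬ p ∣ orderOf s then ∑ ψ ∈ Finset.univ.filter
        (fun ψ : IrrCharacter H => ψ ∈ blockOf M (ξ₀ : H → ℂ)),
        (ψ : H → ℂ) s * conj ((ψ : H → ℂ) s) else 0) := by
    intro s
    by_cases hs : p ∣ orderOf s
    · rw [if_neg (fun h => h hs)]
      refine Finset.sum_eq_zero fun χ _ => ?_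
      rw [if_neg (fun h => h hs)]
    · rw [if_pos hs]
      simp_rw [if_pos hs]
      subst hH
      exact sum_blockPart_mul_conj hM hz ξ₀ s hs
  rw [Finset.sum_congr rfl fun s _ => h3 s, sum_pRegular_block_eq hM ξ₀, ← mul_assoc,
    inv_mul_cancel₀ hnH, one_mul]

open Classical in
/-- the sum of the squared absolute values of all contributions is `l(b)` -/
theorem sum_sum_ctb_mul_conj (hM : IsPModular p M) {z : G} (hz : ∃ k : ℕ, orderOf z = p ^ k)
    (H : Subgroup G) (hH : H = Subgroup.centralizer ({z} : Set G)) [Fintype H]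
    [Fintype (IrrCharacter H)] (ξ₀ : IrrCharacter H) {B : Set (IrrCharacter G)}
    (hind : IsInducedBlock M H (blockOf M (ξ₀ : H → ℂ)) B) :
    ∑ χ ∈ Finset.univ.filter (fun χ : IrrCharacter G => χ ∈ B),
      ∑ ψ ∈ Finset.univ.filter (fun ψ : IrrCharacter G => ψ ∈ B),
        ctb p z H (blockOf M (ξ₀ : H → ℂ)) (χ : G → ℂ) (ψ : G → ℂ) *
          conj (ctb p z H (blockOf M (ξ₀ : H → ℂ)) (χ : G → ℂ) (ψ : G → ℂ)) =
      (blockRank p (blockOf M (ξ₀ : H → ℂ)) : ℂ) := by
  rw [Finset.sum_congr rfl fun (χ : IrrCharacter G) _ =>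
    sum_ctb_mul_conj hM hz H hH ξ₀ hind (χ : G → ℂ)]
  exact sum_ctb_self hM hz H hH ξ₀ hind

end main

end Cfsg.Agent.Lib.Helper77.Ctb
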