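import Cfsg.Agent.Lib.Helper81.LocalRing

/-!
# The arithmetic core of the unit property of contributions (helper77)

Abstract form: a double sum `∑ (e ξ mχ ξ) conj (e ξ' mψ ξ') (w ξ' ρ ξ ξ')` is a local unit when
the `e ξ conj (e ξ')` are congruent to `1`, `ρ` is constant in its second argument modulo the
local ideal, `ρ ξ ξ' w ξ'` is symmetric, and the two "row sums" are local units.
-/

set_option autoImplicit false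

namespace Cfsg.Agent.Lib.Helper77.Ctb

open Cfsg Cfsg.Agent.Lib.Helper81
open scoped ComplexConjugate

theorem unit_core {ι : Type*} {p : ℕ} {M : Ideal AlgInt} (hM : IsPModular p M)
    (bf : Finset ι) (e : ι → ℂ) (mχ mψ w : ι → ℕ) (ρ : ι → ι → ℂ)
    (h1 : ∀ ξ ∈ bf, ∀ ξ' ∈ bf, MemLocalIdeal M (e ξ * conj (e ξ') - 1))
    (h2 : ∀ ξ ∈ bf, ∀ ξ' ∈ bf, MemLocalRing M (ρ ξ ξ'))
    (h3 : ∀ θ ∈ bf, ∀ ξ' ∈ bf, ∀ ξ'' ∈ bf, MemLocalIdeal M (ρ θ ξ' - ρ θ ξ''))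
    (h4 : ∀ ξ ∈ bf, ∀ ξ' ∈ bf, ρ ξ ξ' * (w ξ' : ℂ) = ρ ξ' ξ * (w ξ : ℂ))
    (ξ₁ : ι) (hξ₁ : ξ₁ ∈ bf) (h5 : ¬ p ∣ w ξ₁)
    (hUχ : ¬ MemLocalIdeal M (∑ ξ ∈ bf, (mχ ξ : ℂ) * ρ ξ ξ₁))
    (hUψ : ¬ MemLocalIdeal M (∑ ξ ∈ bf, (mψ ξ : ℂ) * ρ ξ ξ₁)) :
    MemLocalRing M (∑ ξ ∈ bf, ∑ ξ' ∈ bf,
      (e ξ * (mχ ξ : ℂ)) * conj (e ξ' * (mψ ξ' : ℂ)) * ((w ξ' : ℂ) * ρ ξ ξ')) ∧
    ¬ MemLocalIdeal M (∑ ξ ∈ bf, ∑ ξ' ∈ bf,
      (e ξ * (mχ ξ : ℂ)) * conj (e ξ' * (mψ ξ' : ℂ)) * ((w ξ' : ℂ) * ρ ξ ξ')) := by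
  have hMp : M.IsPrime := isPrime_of_isPModular hM
  set x := ∑ ξ ∈ bf, ∑ ξ' ∈ bf,
      (e ξ * (mχ ξ : ℂ)) * conj (e ξ' * (mψ ξ' : ℂ)) * ((w ξ' : ℂ) * ρ ξ ξ') with hx
  set x₀ := ∑ ξ ∈ bf, ∑ ξ' ∈ bf, (mχ ξ : ℂ) * (mψ ξ' : ℂ) * ((w ξ' : ℂ) * ρ ξ ξ') with hx₀
  set Uχ := ∑ ξ ∈ bf, (mχ ξ : ℂ) * ρ ξ ξ₁ with hUχdef
  set Uψ := ∑ ξ ∈ bf, (mψ ξ : ℂ) * ρ ξ ξ₁ with hUψdef
  set W : ℂ := ∑ ξ' ∈ bf, (mψ ξ' : ℂ) * (w ξ' : ℂ) with hW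
  have hnat : ∀ n : ℕ, MemLocalRing M (n : ℂ) := fun n => memLocalRing_natCast hMp n
  -- x - x₀
  have d1 : MemLocalIdeal M (x - x₀) := by
    rw [hx, hx₀, ← Finset.sum_sub_distrib]
    apply memLocalIdeal_sum hMp
    intro ξ hξ
    rw [← Finset.sum_sub_distrib]
    apply memLocalIdeal_sum hMp
    intro ξ' hξ'
    have e1 : (e ξ * (mχ ξ : ℂ)) * conj (e ξ' * (mψ ξ' : ℂ)) * ((w ξ' : ℂ) * ρ ξ ξ') -
        (mχ ξ : ℂ) * (mψ ξ' : ℂ) * ((w ξ' : ℂ) * ρ ξ ξ') =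
        (e ξ * conj (e ξ') - 1) * ((mχ ξ : ℂ) * (mψ ξ' : ℂ) * ((w ξ' : ℂ) * ρ ξ ξ')) := by
      rw [map_mul, Complex.conj_natCast]
      ring
    rw [e1]
    apply memLocalIdeal_mul_right hMp (h1 ξ hξ ξ' hξ')
    exact memLocalRing_mul hMp (memLocalRing_mul hMp (hnat _) (hnat _))
      (memLocalRing_mul hMp (hnat _) (h2 ξ hξ ξ' hξ'))
  -- x₀ - Uχ W
  have d2 : MemLocalIdeal M (x₀ - Uχ * W) := by
    have e2 : Uχ * W = ∑ ξ ∈ bf, ∑ ξ' ∈ bf,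
        (mχ ξ : ℂ) * (mψ ξ' : ℂ) * ((w ξ' : ℂ) * ρ ξ ξ₁) := by
      rw [hUχdef, hW, Finset.sum_mul_sum]
      refine Finset.sum_congr rfl fun ξ _ => Finset.sum_congr rfl fun ξ' _ => ?_
      ring
    rw [e2, hx₀, ← Finset.sum_sub_distrib]
    apply memLocalIdeal_sum hMp
    intro ξ hξ
    rw [← Finset.sum_sub_distrib]
    apply memLocalIdeal_sum hMp
    intro ξ' hξ'
    have e3 : (mχ ξ : ℂ) * (mψ ξ' : ℂ) * ((w ξ' : ℂ) * ρ ξ ξ') -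
        (mχ ξ : ℂ) * (mψ ξ' : ℂ) * ((w ξ' : ℂ) * ρ ξ ξ₁) =
        ((mχ ξ : ℂ) * (mψ ξ' : ℂ) * (w ξ' : ℂ)) * (ρ ξ ξ' - ρ ξ ξ₁) := by ring
    rw [e3]
    apply memLocalIdeal_mul_left hMp _ (h3 ξ hξ ξ' hξ' ξ₁ hξ₁)
    exact memLocalRing_mul hMp (memLocalRing_mul hMp (hnat _) (hnat _)) (hnat _)
  -- membership of the pieces
  have hUχR : MemLocalRing M Uχ :=
    memLocalRing_sum hMp _ _ (fun ξ hξ => memLocalRing_mul hMp (hnat _) (h2 ξ hξ ξ₁ hξ₁))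
  have hWR : MemLocalRing M W :=
    memLocalRing_sum hMp _ _ (fun ξ _ => memLocalRing_mul hMp (hnat _) (hnat _))
  -- W is a local unit
  have hWu : ¬ MemLocalIdeal M W := by
    intro hWI
    apply hUψ
    set κ := ρ ξ₁ ξ₁ with hκ
    have hκR : MemLocalRing M κ := h2 ξ₁ hξ₁ ξ₁ hξ₁
    have e4 : Uψ * (w ξ₁ : ℂ) - κ * W =
        ∑ ξ ∈ bf, ((mψ ξ : ℂ) * (w ξ : ℂ)) * (ρ ξ₁ ξ - κ) := by
      rw [hUψdef, hW, Finset.sum_mul, Finset.mul_sum, ← Finset.sum_sub_distrib]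
      refine Finset.sum_congr rfl fun ξ hξ => ?_
      rw [mul_assoc, h4 ξ hξ ξ₁ hξ₁]
      ring
    have d3 : MemLocalIdeal M (Uψ * (w ξ₁ : ℂ) - κ * W) := by
      rw [e4]
      apply memLocalIdeal_sum hMp
      intro ξ hξ
      exact memLocalIdeal_mul_left hMp (memLocalRing_mul hMp (hnat _) (hnat _))
        (h3 ξ₁ hξ₁ ξ hξ ξ₁ hξ₁)
    have d4 : MemLocalIdeal M (Uψ * (w ξ₁ : ℂ)) := by
      have := memLocalIdeal_add hMp d3 (memLocalIdeal_mul_left hMp hκR hWI)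
      rwa [sub_add_cancel] at this
    have hw1 : ¬ MemLocalIdeal M ((w ξ₁ : ℕ) : ℂ) := by
      rw [memLocalIdeal_natCast_iff hM]
      exact h5
    rw [mul_comm] at d4
    exact memLocalIdeal_of_mul_of_not_memLocalIdeal hMp (hnat _) hw1 d4
  -- the product is a local unit
  have hprod : ¬ MemLocalIdeal M (Uχ * W) := by
    intro h
    exact hWu (memLocalIdeal_of_mul_of_not_memLocalIdeal hMp hUχR hUχ h)
  have hsum : MemLocalIdeal M (x - Uχ * W) := by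
    have := memLocalIdeal_add hMp d1 d2
    rwa [sub_add_sub_cancel] at this
  constructor
  · have := memLocalRing_add hMp (memLocalRing_of_memLocalIdeal hsum)
      (memLocalRing_mul hMp hUχR hWR)
    rwa [sub_add_cancel] at this
  · intro hxI
    apply hprod
    have := memLocalIdeal_sub hMp hxI hsum
    rwa [sub_sub_cancel] at this

end Cfsg.Agent.Lib.Helper77.Ctb
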