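import Mathlib
import Cfsg.Agent.Lib.Helper75.GaloisNorm
import Cfsg.Agent.Lib.Helper75.BurnsideGallagher

/-!
# A norm inequality for Galois-stable families of cyclotomic integers (helper77)

A family `x u`, `u ∈ (ℤ/N)ˣ`, of non-zero algebraic integers which is permuted by the field
automorphisms of `ℂ` according to their action on the `N`-th roots of unity satisfies
`φ(N) ≤ ∑ ‖x u‖²` (the product is a non-zero rational integer; arithmetic-geometric mean).
-/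

set_option autoImplicit false

namespace Cfsg.Agent.Lib.Helper77.Ctb

open Cfsg

theorem totient_le_sum_norm_sq (N : ℕ) [NeZero N] (x : (ZMod N)ˣ → ℂ)
    (hint : ∀ u, IsIntegral ℤ (x u))
    (hτ : ∀ (τ : ℂ ≃+* ℂ) (j : (ZMod N)ˣ),
      (∀ ω : ℂ, ω ^ N = 1 → τ ω = ω ^ (j : ZMod N).val) → ∀ u, τ (x u) = x (u * j))
    (hne : ∀ u, x u ≠ 0) :
    (Nat.totient N : ℝ) ≤ ∑ u : (ZMod N)ˣ, ‖x u‖ ^ 2 := by
  have hN : 0 < N := Nat.pos_of_ne_zero (NeZero.ne N)
  set Q : ℂ := ∏ u : (ZMod N)ˣ, x u with hQ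
  have hQint : IsIntegral ℤ Q := IsIntegral.prod _ (fun u _ => hint u)
  have hQfix : ∀ τ : ℂ ≃+* ℂ, τ Q = Q := by
    intro τ
    obtain ⟨j, hcop, hj⟩ := Cfsg.Agent.Lib.Helper75.exists_pow_of_ringEquiv τ N hN
    set ju : (ZMod N)ˣ := ZMod.unitOfCoprime j hcop with hju
    have hval : ((ju : (ZMod N)ˣ) : ZMod N).val = j % N := by
      rw [hju, ZMod.coe_unitOfCoprime, ZMod.val_natCast]
    have hj' : ∀ ω : ℂ, ω ^ N = 1 → τ ω = ω ^ ((ju : (ZMod N)ˣ) : ZMod N).val := by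
      intro ω hω
      rw [hval, hj ω hω]
      exact pow_eq_pow_mod j hω
    rw [hQ, map_prod]
    rw [Finset.prod_congr rfl (fun u _ => hτ τ ju hj' u)]
    exact Fintype.prod_equiv (Equiv.mulRight ju) _ _ (fun u => rfl)
  obtain ⟨n, hn⟩ := Cfsg.Agent.Lib.Helper75.exists_int_eq_of_forall_ringEquiv_eq Q hQint hQfix
  have hQne : Q ≠ 0 := Finset.prod_ne_zero_iff.mpr (fun u _ => hne u)
  have hn0 : n ≠ 0 := by
    rintro rfl
    apply hQne
    rw [← hn]
    simp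
  have hnorm : (1 : ℝ) ≤ ‖Q‖ := by
    rw [← hn, Complex.norm_intCast]
    have : (1 : ℤ) ≤ |n| := Int.one_le_abs hn0
    exact_mod_cast this
  have hprod : (1 : ℝ) ≤ ∏ u : (ZMod N)ˣ, ‖x u‖ ^ 2 := by
    rw [Finset.prod_pow, ← norm_prod, ← hQ]
    nlinarith [norm_nonneg Q]
  have key := Cfsg.Agent.Lib.Helper75.card_le_sum_of_one_le_prod (Finset.univ : Finset (ZMod N)ˣ)
    (fun u => ‖x u‖ ^ 2) (fun u _ => by positivity) hprod
  rw [Finset.card_univ, ZMod.card_units_eq_totient] at key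
  exact key

end Cfsg.Agent.Lib.Helper77.Ctb
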