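import Cfsg.Agent.Lib.Helper77.CtbC
import Cfsg.Agent.Lib.Helper77.RankTrace
import Cfsg.Agent.Lib.Helper74.PReg6
import Cfsg.Agent.Lib.Helper74.PReg4
import Cfsg.Agent.Lib.Helper74.PReg1
import Cfsg.Agent.Lib.Helper16.DefectVal

/-!
# Contributions inside the centralizer: formula, unit property, integrality, Galois action
(helper77)

`cval p b χ' ψ' z` is the inner product over the `p`-regular elements of the `b`-parts of
`c ↦ χ' (z c)` and `c ↦ ψ' (z c)`, for characters `χ', ψ'` of `H` and a central element `z`.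
-/

set_option autoImplicit false

universe u

namespace Cfsg.Agent.Lib.Helper77.Ctb

open Cfsg Cfsg.Agent.Lib.Helper81 Cfsg.Agent.Lib.Helper74 Cfsg.Agent.Lib.Helper76
  Cfsg.Agent.Lib.Helper16
open scoped ComplexConjugate

variable {H : Type u} [Group H] [Fintype H]

noncomputable def cval (p : ℕ) (b : Set (IrrCharacter H)) (χ' ψ' : H → ℂ) (z : H) : ℂ :=
  classInner (pRegularPart p (blockPart b (fun c : H => χ' (z * c))))
    (blockPart b (fun c : H => ψ' (z * c)))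

theorem pTilde_eq_smul (p : ℕ) (f : H → ℂ) :
    pTilde p f = ((p ^ (Nat.card H).factorization p : ℕ) : ℂ) • pRegularPart p f := by
  classical
  funext x
  rw [pTilde_apply, Pi.smul_apply, smul_eq_mul, Cfsg.Agent.Lib.Helper77.pRegularPart_apply]
  by_cases hx : p ∣ orderOf x
  · rw [if_pos hx, if_neg (fun h => h hx), mul_zero]
  · rw [if_neg hx, if_pos hx]

omit [Fintype H] in
theorem pRegularPart_sum {ι : Type*} (p : ℕ) (s : Finset ι) (c : ι → ℂ) (f : ι → H → ℂ) :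
    pRegularPart p (∑ i ∈ s, c i • f i) = ∑ i ∈ s, c i • pRegularPart p (f i) := by
  classical
  funext x
  rw [Cfsg.Agent.Lib.Helper77.pRegularPart_apply, Finset.sum_apply, Finset.sum_apply]
  by_cases hx : p ∣ orderOf x
  · rw [if_neg (fun h => h hx)]
    symm
    refine Finset.sum_eq_zero fun i _ => ?_
    rw [Pi.smul_apply, Cfsg.Agent.Lib.Helper77.pRegularPart_apply, if_neg (fun h => h hx),
      smul_zero]
  · rw [if_pos hx]
    refine Finset.sum_congr rfl fun i _ => ?_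
    rw [Pi.smul_apply, Pi.smul_apply, Cfsg.Agent.Lib.Helper77.pRegularPart_apply, if_pos hx]

variable [Fintype (IrrCharacter H)]

open Classical in
/-- the block part of a twisted character -/
theorem blockPart_twist_eq (b : Set (IrrCharacter H)) (χ' : H → ℂ) (z : H)
    (hz : z ∈ Subgroup.center H) (m : IrrCharacter H → ℕ)
    (hm : ∀ ψ : IrrCharacter H, classInner χ' (ψ : H → ℂ) = (m ψ : ℂ)) :
    blockPart b (fun c : H => χ' (z * c)) =
      ∑ ξ ∈ Finset.univ.filter (fun ξ : IrrCharacter H => ξ ∈ b),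
        (om ξ z * (m ξ : ℂ)) • (ξ : H → ℂ) := by
  funext y
  rw [Cfsg.Agent.Lib.Helper77.blockPart_eq_sum, Finset.sum_apply]
  refine Finset.sum_congr rfl fun ξ _ => ?_
  rw [classInner_twist χ' ξ z hz, hm ξ]
  rfl

open Classical in
/-- the contribution as a double sum -/
theorem cval_eq_sum (p : ℕ) (b : Set (IrrCharacter H)) (χ' ψ' : H → ℂ) (z : H)
    (hz : z ∈ Subgroup.center H) (mχ mψ : IrrCharacter H → ℕ)
    (hmχ : ∀ ξ : IrrCharacter H, classInner χ' (ξ : H → ℂ) = (mχ ξ : ℂ))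
    (hmψ : ∀ ξ : IrrCharacter H, classInner ψ' (ξ : H → ℂ) = (mψ ξ : ℂ)) :
    cval p b χ' ψ' z =
      ∑ ξ ∈ Finset.univ.filter (fun ξ : IrrCharacter H => ξ ∈ b),
        ∑ ξ' ∈ Finset.univ.filter (fun ξ : IrrCharacter H => ξ ∈ b),
          (om ξ z * (mχ ξ : ℂ)) * conj (om ξ' z * (mψ ξ' : ℂ)) *
            classInner (pRegularPart p (ξ : H → ℂ)) (ξ' : H → ℂ) := by
  unfold cval
  rw [blockPart_twist_eq b χ' z hz mχ hmχ, blockPart_twist_eq b ψ' z hz mψ hmψ,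
    pRegularPart_sum, Cfsg.Agent.Lib.Helper3.classInner_sum_left]
  refine Finset.sum_congr rfl fun ξ _ => ?_
  rw [Cfsg.Agent.Lib.Helper3.classInner_smul_left, Cfsg.Agent.Lib.Helper3.classInner_sum_right,
    Finset.mul_sum]
  refine Finset.sum_congr rfl fun ξ' _ => ?_
  rw [Cfsg.Agent.Lib.Helper3.classInner_smul_right]
  ring

/-- values of `om` at elements of finite order are roots of unity -/
theorem om_pow_eq_one (ξ : IrrCharacter H) (z : H) (hz : z ∈ Subgroup.center H) (n : ℕ)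
    (hzn : z ^ n = 1) : om ξ z ^ n = 1 := by
  rw [← om_pow ξ z hz, hzn, om_one]

open Classical in
/-- the unit property -/
theorem cval_unit {p : ℕ} [Fact p.Prime] {M : Ideal AlgInt} (hM : IsPModular p M)
    (ξ₀ : IrrCharacter H) (z : H) (hz : z ∈ Subgroup.center H) (k : ℕ) (hzk : z ^ (p ^ k) = 1)
    (χ' ψ' : H → ℂ) (hχ' : IsCharacter H χ') (hψ' : IsCharacter H ψ')
    (hUχ : ∀ ξ₁ ∈ blockOf M (ξ₀ : H → ℂ),
      ¬ MemLocalIdeal M (classInner (pTilde p χ') (ξ₁ : H → ℂ) / (ξ₁ : H → ℂ) 1))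
    (hUψ : ∀ ξ₁ ∈ blockOf M (ξ₀ : H → ℂ),
      ¬ MemLocalIdeal M (classInner (pTilde p ψ') (ξ₁ : H → ℂ) / (ξ₁ : H → ℂ) 1)) :
    MemLocalRing M (((p ^ blockDefect p (blockOf M (ξ₀ : H → ℂ)) : ℕ) : ℂ) *
      cval p (blockOf M (ξ₀ : H → ℂ)) χ' ψ' z) ∧
    ¬ MemLocalIdeal M (((p ^ blockDefect p (blockOf M (ξ₀ : H → ℂ)) : ℕ) : ℂ) *
      cval p (blockOf M (ξ₀ : H → ℂ)) χ' ψ' z) := by
  have hp : p.Prime := Fact.out
  have hMp : M.IsPrime := isPrime_of_isPModular hM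
  set b := blockOf M (ξ₀ : H → ℂ) with hb
  set bf := Finset.univ.filter (fun ξ : IrrCharacter H => ξ ∈ b) with hbf
  have hmem : ∀ ξ : IrrCharacter H, ξ ∈ bf ↔ ξ ∈ b := by
    intro ξ
    rw [hbf, Finset.mem_filter]
    exact ⟨fun h => h.2, fun h => ⟨Finset.mem_univ _, h⟩⟩
  have hξ₀b : ξ₀ ∈ b := sameBlock_refl hMp _
  set a := (Nat.card H).factorization p with ha
  set s := minDegVal p b with hs
  have hsa : s ≤ a := minDegVal_le_card p ⟨ξ₀, hξ₀b⟩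
  have hd : blockDefect p b = a - s := blockDefect_eq p b
  obtain ⟨ξ₁, hξ₁b, hξ₁s⟩ := exists_minDegVal p (B := b) ⟨ξ₀, hξ₀b⟩
  obtain ⟨mχ, hmχ, hdχ⟩ := Cfsg.Agent.Lib.Helper15.exists_nat_decomp hχ'
  obtain ⟨mψ, hmψ, hdψ⟩ := Cfsg.Agent.Lib.Helper15.exists_nat_decomp hψ'
  -- the reduced degrees
  set w : IrrCharacter H → ℕ := fun ξ => charDegree (ξ : H → ℂ) / p ^ s with hw
  have hwmul : ∀ ξ ∈ b, charDegree (ξ : H → ℂ) = p ^ s * w ξ := by
    intro ξ hξ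
    have h1 : p ^ s ∣ charDegree (ξ : H → ℂ) :=
      dvd_trans (pow_dvd_pow p (minDegVal_le p hξ)) (Nat.ordProj_dvd _ _)
    rw [hw]
    exact (Nat.mul_div_cancel' h1).symm
  have hw0 : ∀ ξ ∈ b, w ξ ≠ 0 := by
    intro ξ hξ h0
    have := hwmul ξ hξ
    rw [h0, mul_zero] at this
    exact irr_charDegree_ne_zero ξ this
  have hw1 : ¬ p ∣ w ξ₁ := by
    rw [hw]
    show ¬ p ∣ charDegree (ξ₁ : H → ℂ) / p ^ s
    rw [hs, ← hξ₁s]
    exact Nat.not_dvd_ordCompl hp (irr_charDegree_ne_zero ξ₁)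
  have hpsC : ((p ^ s : ℕ) : ℂ) ≠ 0 := by exact_mod_cast (pow_pos hp.pos s).ne'
  -- the ratios
  set ρ : IrrCharacter H → IrrCharacter H → ℂ := fun ξ ξ' =>
    classInner (pTilde p (ξ : H → ℂ)) (ξ' : H → ℂ) / (ξ' : H → ℂ) 1 with hρ
  have hone : ∀ ξ ∈ b, (ξ : H → ℂ) 1 = ((p ^ s : ℕ) : ℂ) * (w ξ : ℂ) := by
    intro ξ hξ
    rw [irr_apply_one_eq_charDegree ξ, hwmul ξ hξ]
    push_cast
    rfl
  have hwC : ∀ ξ ∈ b, (w ξ : ℂ) ≠ 0 := fun ξ hξ => by exact_mod_cast hw0 ξ hξ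
  -- key identity
  have hkey : ∀ ξ : IrrCharacter H, ∀ ξ' ∈ b,
      ((p ^ blockDefect p b : ℕ) : ℂ) * classInner (pRegularPart p (ξ : H → ℂ)) (ξ' : H → ℂ) =
        (w ξ' : ℂ) * ρ ξ ξ' := by
    intro ξ ξ' hξ'
    rw [hρ]
    simp only
    rw [pTilde_eq_smul, Cfsg.Agent.Lib.Helper3.classInner_smul_left, hone ξ' hξ', hd]
    have hpa : ((p ^ a : ℕ) : ℂ) = ((p ^ (a - s) : ℕ) : ℂ) * ((p ^ s : ℕ) : ℂ) := by
      rw [← Nat.cast_mul, ← pow_add, Nat.sub_add_cancel hsa]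
    rw [← ha, hpa]
    have := hwC ξ' hξ'
    field_simp
  -- symmetry
  have hsymm : ∀ ξ ∈ bf, ∀ ξ' ∈ bf, ρ ξ ξ' * (w ξ' : ℂ) = ρ ξ' ξ * (w ξ : ℂ) := by
    intro ξ hξ ξ' hξ'
    rw [hρ]
    simp only
    rw [hone ξ ((hmem ξ).1 hξ), hone ξ' ((hmem ξ').1 hξ'), pTilde_symm p ξ ξ']
    have h1 := hwC ξ ((hmem ξ).1 hξ)
    have h2 := hwC ξ' ((hmem ξ').1 hξ')
    field_simp
  -- expansion of the row sums
  have hrow : ∀ (φ : H → ℂ) (m : IrrCharacter H → ℕ),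
      φ = ∑ ψ : IrrCharacter H, (m ψ : ℂ) • (ψ : H → ℂ) → ∀ ξ₂ ∈ b,
      classInner (pTilde p φ) (ξ₂ : H → ℂ) / (ξ₂ : H → ℂ) 1 = ∑ ξ ∈ bf, (m ξ : ℂ) * ρ ξ ξ₂ := by
    intro φ m hφ ξ₂ hξ₂
    have hφfun : φ = fun x => ∑ ψ ∈ (Finset.univ : Finset (IrrCharacter H)),
        (m ψ : ℂ) * (ψ : H → ℂ) x := by
      funext x
      conv_lhs => rw [hφ]
      simp [Finset.sum_apply]
    conv_lhs => rw [hφfun]
    rw [pTilde_sum, Cfsg.Agent.Lib.Helper25.classInner_sum_left, Finset.sum_div, hbf,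
      Finset.sum_filter]
    refine Finset.sum_congr rfl fun ψ _ => ?_
    rw [Cfsg.Agent.Lib.Helper25.classInner_smul_left]
    split_ifs with hψ
    · rw [hρ]
      simp only
      rw [mul_div_assoc]
    · have hns : ¬ SameBlock M (ψ : H → ℂ) (ξ₂ : H → ℂ) := by
        intro hs'
        apply hψ
        exact sameBlock_trans hMp hξ₂ (sameBlock_symm hs')
      rw [pTilde_eq_zero_of_not_sameBlock p M hM ψ ξ₂ hns, mul_zero, zero_div]
  have hcore := unit_core hM bf (fun ξ => om ξ z) mχ mψ w ρ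
    (by
      intro ξ _ ξ' _
      apply memLocalIdeal_sub_one_of_pow_prime_pow_eq_one hM k
      rw [mul_pow, ← map_pow, om_pow_eq_one ξ z hz _ hzk, om_pow_eq_one ξ' z hz _ hzk, map_one,
        mul_one])
    (fun ξ _ ξ' _ => pTilde_ratio_memLocalRing hM ξ ξ')
    (by
      intro θ _ ξ' hξ' ξ'' hξ''
      exact pTilde_cong p M hM θ ξ' ξ''
        (sameBlock_trans hMp (sameBlock_symm ((hmem ξ').1 hξ')) ((hmem ξ'').1 hξ'')))
    hsymm ξ₁ ((hmem ξ₁).2 hξ₁b) hw1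
    (by rw [← hrow χ' mχ hdχ ξ₁ hξ₁b]; exact hUχ ξ₁ hξ₁b)
    (by rw [← hrow ψ' mψ hdψ ξ₁ hξ₁b]; exact hUψ ξ₁ hξ₁b)
  have hform : ((p ^ blockDefect p b : ℕ) : ℂ) * cval p b χ' ψ' z =
      ∑ ξ ∈ bf, ∑ ξ' ∈ bf,
        ((fun ξ => om ξ z) ξ * (mχ ξ : ℂ)) * conj ((fun ξ => om ξ z) ξ' * (mψ ξ' : ℂ)) *
          ((w ξ' : ℂ) * ρ ξ ξ') := by
    rw [cval_eq_sum p b χ' ψ' z hz mχ mψ hmχ hmψ, Finset.mul_sum]
    refine Finset.sum_congr rfl fun ξ _ => ?_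
    rw [Finset.mul_sum]
    refine Finset.sum_congr rfl fun ξ' hξ' => ?_
    rw [← hkey ξ ξ' ((hmem ξ').1 hξ')]
    ring
  rw [hform]
  exact hcore

end Cfsg.Agent.Lib.Helper77.Ctb
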