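import Cfsg.Agent.Lib.Helper77.CtbE

/-!
# Contributions: integrality and the action of field automorphisms (helper77)
-/

set_option autoImplicit false

universe u

namespace Cfsg.Agent.Lib.Helper77.Ctb

open Cfsg Cfsg.Agent.Lib.Helper81 Cfsg.Agent.Lib.Helper74 Cfsg.Agent.Lib.Helper76
  Cfsg.Agent.Lib.Helper16
open scoped ComplexConjugate

variable {H : Type u} [Group H] [Fintype H] [Fintype (IrrCharacter H)]

theorem isIntegral_om (ξ : IrrCharacter H) (z : H) (hz : z ∈ Subgroup.center H) :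
    IsIntegral ℤ (om ξ z) := by
  apply IsIntegral.of_pow (orderOf_pos z)
  rw [om_pow_eq_one ξ z hz _ (pow_orderOf_eq_one z)]
  exact isIntegral_one

open Classical in
/-- the rewritten double sum with integer coefficients -/
theorem pow_mul_cval_eq_sum {p : ℕ} [Fact p.Prime] (b : Set (IrrCharacter H)) (χ' ψ' : H → ℂ)
    (z : H) (hz : z ∈ Subgroup.center H) (mχ mψ : IrrCharacter H → ℕ)
    (hmχ : ∀ ξ : IrrCharacter H, classInner χ' (ξ : H → ℂ) = (mχ ξ : ℂ))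
    (hmψ : ∀ ξ : IrrCharacter H, classInner ψ' (ξ : H → ℂ) = (mψ ξ : ℂ))
    (c : IrrCharacter H → IrrCharacter H → ℤ)
    (hc : ∀ ξ ∈ b, ∀ ξ' : IrrCharacter H, ((p : ℂ) ^ blockDefect p b) *
      classInner (pRegularPart p (ξ : H → ℂ)) (ξ' : H → ℂ) = (c ξ ξ' : ℂ)) :
    ((p ^ blockDefect p b : ℕ) : ℂ) * cval p b χ' ψ' z =
      ∑ ξ ∈ Finset.univ.filter (fun ξ : IrrCharacter H => ξ ∈ b),
        ∑ ξ' ∈ Finset.univ.filter (fun ξ : IrrCharacter H => ξ ∈ b),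
          (om ξ z * (mχ ξ : ℂ)) * (om ξ' z⁻¹ * (mψ ξ' : ℂ)) * (c ξ ξ' : ℂ) := by
  rw [cval_eq_sum p b χ' ψ' z hz mχ mψ hmχ hmψ, Finset.mul_sum]
  refine Finset.sum_congr rfl fun ξ hξ => ?_
  rw [Finset.mul_sum]
  refine Finset.sum_congr rfl fun ξ' _ => ?_
  rw [← hc ξ (Finset.mem_filter.mp hξ).2 ξ', map_mul, Complex.conj_natCast, om_conj]
  push_cast
  ring

theorem exists_int_coeff {p : ℕ} [Fact p.Prime] (b : Set (IrrCharacter H)) :
    ∃ c : IrrCharacter H → IrrCharacter H → ℤ,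
      ∀ ξ ∈ b, ∀ ξ' : IrrCharacter H, ((p : ℂ) ^ blockDefect p b) *
        classInner (pRegularPart p (ξ : H → ℂ)) (ξ' : H → ℂ) = (c ξ ξ' : ℂ) := by
  classical
  have key : ∀ ξ ξ' : IrrCharacter H, ∃ zi : ℤ, ξ ∈ b → ((p : ℂ) ^ blockDefect p b) *
      classInner (pRegularPart p (ξ : H → ℂ)) (ξ' : H → ℂ) = (zi : ℂ) := by
    intro ξ ξ'
    by_cases hξ : ξ ∈ b
    · obtain ⟨zi, hzi⟩ := pow_defect_mul_classInner_pRegularPart_int p b ξ ξ' hξ
      exact ⟨zi, fun _ => hzi⟩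
    · exact ⟨0, fun h => absurd h hξ⟩
  choose c hc using key
  exact ⟨c, fun ξ hξ ξ' => hc ξ ξ' hξ⟩

/-- integrality of the normalised contribution -/
theorem cval_integral {p : ℕ} [Fact p.Prime] (b : Set (IrrCharacter H)) (χ' ψ' : H → ℂ)
    (hχ' : IsCharacter H χ') (hψ' : IsCharacter H ψ') (z : H) (hz : z ∈ Subgroup.center H) :
    IsIntegral ℤ (((p ^ blockDefect p b : ℕ) : ℂ) * cval p b χ' ψ' z) := by
  classical
  obtain ⟨mχ, hmχ, -⟩ := Cfsg.Agent.Lib.Helper15.exists_nat_decomp hχ'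
  obtain ⟨mψ, hmψ, -⟩ := Cfsg.Agent.Lib.Helper15.exists_nat_decomp hψ'
  obtain ⟨c, hc⟩ := exists_int_coeff (p := p) b
  rw [pow_mul_cval_eq_sum b χ' ψ' z hz mχ mψ hmχ hmψ c hc]
  refine IsIntegral.sum _ fun ξ _ => IsIntegral.sum _ fun ξ' _ => ?_
  refine IsIntegral.mul (IsIntegral.mul (IsIntegral.mul (isIntegral_om ξ z hz) (isIntegral_natCast _))
    (IsIntegral.mul (isIntegral_om ξ' z⁻¹ (Subgroup.inv_mem _ hz)) (isIntegral_natCast _)))
    (isIntegral_intCast _)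

/-- a field automorphism acting on the `N`-th roots of unity as the `j`-th power map sends the
normalised contribution at `z` to the one at `z ^ j` -/
theorem cval_galois {p : ℕ} [Fact p.Prime] (b : Set (IrrCharacter H)) (χ' ψ' : H → ℂ)
    (hχ' : IsCharacter H χ') (hψ' : IsCharacter H ψ') (z : H) (hz : z ∈ Subgroup.center H)
    (N : ℕ) (hzN : z ^ N = 1) (τ : ℂ ≃+* ℂ) (j : ℕ) (hτ : ∀ ω : ℂ, ω ^ N = 1 → τ ω = ω ^ j) :
    τ (((p ^ blockDefect p b : ℕ) : ℂ) * cval p b χ' ψ' z) =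
      ((p ^ blockDefect p b : ℕ) : ℂ) * cval p b χ' ψ' (z ^ j) := by
  classical
  obtain ⟨mχ, hmχ, -⟩ := Cfsg.Agent.Lib.Helper15.exists_nat_decomp hχ'
  obtain ⟨mψ, hmψ, -⟩ := Cfsg.Agent.Lib.Helper15.exists_nat_decomp hψ'
  obtain ⟨c, hc⟩ := exists_int_coeff (p := p) b
  have hzj : z ^ j ∈ Subgroup.center H := Subgroup.pow_mem _ hz j
  rw [pow_mul_cval_eq_sum b χ' ψ' z hz mχ mψ hmχ hmψ c hc,
    pow_mul_cval_eq_sum b χ' ψ' (z ^ j) hzj mχ mψ hmχ hmψ c hc, map_sum]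
  refine Finset.sum_congr rfl fun ξ _ => ?_
  rw [map_sum]
  refine Finset.sum_congr rfl fun ξ' _ => ?_
  have hinvN : z⁻¹ ^ N = 1 := by rw [inv_pow, hzN, inv_one]
  have h1 : τ (om ξ z) = om ξ (z ^ j) := by
    rw [hτ _ (om_pow_eq_one ξ z hz N hzN), om_pow ξ z hz]
  have h2 : τ (om ξ' z⁻¹) = om ξ' (z ^ j)⁻¹ := by
    rw [hτ _ (om_pow_eq_one ξ' z⁻¹ (Subgroup.inv_mem _ hz) N hinvN),
      ← om_pow ξ' z⁻¹ (Subgroup.inv_mem _ hz), inv_pow]
  simp only [map_mul, map_natCast, map_intCast, h1, h2]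

end Cfsg.Agent.Lib.Helper77.Ctb
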