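import Cfsg.Agent.Lib.Helper77.CtbB
import Cfsg.Agent.Lib.Helper77.CtbD
import Cfsg.Agent.Lib.Helper77.CtbF
import Cfsg.Agent.S4431

/-!
# `k(B)² ≤ p^(2d) l(b)` for a block all of whose characters have height zero (helper77)
-/

set_option autoImplicit false

universe u

namespace Cfsg.Agent.Lib.Helper77.Ctb

open Cfsg Cfsg.Agent.Lib.Helper81 Cfsg.Agent.Lib.Helper74 Cfsg.Agent.Lib.Helper76
open scoped ComplexConjugate

variable {G : Type u} [Group G] [Fintype G]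

theorem centralizer_pow_eq {y : G} {n : ℕ} (hn : Nat.Coprime n (orderOf y)) :
    Subgroup.centralizer ({y} : Set G) = Subgroup.centralizer ({y ^ n} : Set G) := by
  obtain ⟨m, hm⟩ := exists_pow_eq_self_of_coprime hn
  ext g
  simp only [Subgroup.mem_centralizer_singleton_iff]
  constructor
  · intro h
    exact ((Commute.pow_right (show Commute g y from h) n)).eq
  · intro h
    have h1 : Commute g ((y ^ n) ^ m) := Commute.pow_right (show Commute g (y ^ n) from h) m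
    rw [hm] at h1
    exact h1.eq

theorem exists_orderOf_pow {p : ℕ} (hp : p.Prime) {y : G} (hy : ∃ k : ℕ, orderOf y = p ^ k)
    (n : ℕ) : ∃ k : ℕ, orderOf (y ^ n) = p ^ k := by
  obtain ⟨k, hk⟩ := hy
  have h1 : orderOf (y ^ n) ∣ p ^ k := hk ▸ orderOf_pow_dvd n
  obtain ⟨m, -, hm⟩ := (Nat.dvd_prime_pow hp).1 h1
  exact ⟨m, hm⟩

section assembly
variable [Fintype (IrrCharacter G)] {p : ℕ} [Fact p.Prime] {M : Ideal AlgInt}

/-- the contribution in terms of the intrinsic quantity of the centralizer -/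
theorem ctb_eq_cval (y : G) (H : Subgroup G) [Fintype H] (hyH : y ∈ H)
    (b : Set (IrrCharacter H)) (χ ψ : G → ℂ) (n : ℕ) :
    ctb p (y ^ n) H b χ ψ =
      cval p b (fun c : H => χ (c : G)) (fun c : H => ψ (c : G)) ((⟨y, hyH⟩ : H) ^ n) := by
  unfold ctb cval secPart
  have e : ∀ φ : G → ℂ, (fun c : H => φ (y ^ n * (c : G))) =
      (fun c : H => (fun c : H => φ (c : G)) ((⟨y, hyH⟩ : H) ^ n * c)) := by
    intro φ
    funext c
    simp only [Subgroup.coe_mul, Subgroup.coe_pow]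
  rw [e χ, e ψ]

open Classical in
theorem card_sq_le (hM : IsPModular p M) {B : Set (IrrCharacter G)}
    (hh : ∀ χ ∈ B, blockHeight p B (χ : G → ℂ) = 0) (y : G) (hy : ∃ k : ℕ, orderOf y = p ^ k)
    (H : Subgroup G) (hH : H = Subgroup.centralizer ({y} : Set G)) [Fintype H]
    [Fintype (IrrCharacter H)] (ξ₀ : IrrCharacter H)
    (hind : IsInducedBlock M H (blockOf M (ξ₀ : H → ℂ)) B) :
    (Finset.univ.filter (fun χ : IrrCharacter G => χ ∈ B)).card ^ 2 ≤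
      p ^ (2 * blockDefect p (blockOf M (ξ₀ : H → ℂ))) * blockRank p (blockOf M (ξ₀ : H → ℂ)) := by
  have hp : p.Prime := Fact.out
  have hMp : M.IsPrime := isPrime_of_isPModular hM
  set b := blockOf M (ξ₀ : H → ℂ) with hb
  set d := blockDefect p b with hd
  set Bf := Finset.univ.filter (fun χ : IrrCharacter G => χ ∈ B) with hBf
  set N := orderOf y with hN
  have hNpos : 0 < N := orderOf_pos y
  have : NeZero N := ⟨hNpos.ne'⟩
  obtain ⟨k, hk⟩ := hy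
  have hyH : y ∈ H := by
    rw [hH, Subgroup.mem_centralizer_singleton_iff]
  set zH : H := ⟨y, hyH⟩ with hzH
  have hzc : zH ∈ Subgroup.center H := by
    rw [Subgroup.mem_center_iff]
    intro c
    apply Subtype.ext
    have hc : (c : G) ∈ Subgroup.centralizer ({y} : Set G) := hH ▸ c.2
    have := Subgroup.mem_centralizer_singleton_iff.mp hc
    simp only [Subgroup.coe_mul, hzH]
    exact this
  have hzN : zH ^ N = 1 := by
    apply Subtype.ext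
    simp only [Subgroup.coe_pow, Subgroup.coe_one, hzH]
    exact pow_orderOf_eq_one y
  have hres : ∀ χ : IrrCharacter G, IsCharacter H (fun c : H => (χ : G → ℂ) (c : G)) := fun χ =>
    Cfsg.Agent.Lib.Helper3.IsCharacter.restrict
      (Cfsg.Agent.Lib.Helper3.IsIrrCharacter.isCharacter χ.2) _
  -- the family
  set x : IrrCharacter G → IrrCharacter G → (ZMod N)ˣ → ℂ := fun χ ψ u =>
    ((p ^ d : ℕ) : ℂ) * ctb p (y ^ (u : ZMod N).val) H b (χ : G → ℂ) (ψ : G → ℂ) with hx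
  have hxc : ∀ χ ψ u, x χ ψ u = ((p ^ d : ℕ) : ℂ) *
      cval p b (fun c : H => (χ : G → ℂ) (c : G)) (fun c : H => (ψ : G → ℂ) (c : G))
        (zH ^ (u : ZMod N).val) := by
    intro χ ψ u
    rw [hx]
    simp only
    rw [ctb_eq_cval y H hyH b]
  -- units
  have hU : ∀ χ ∈ B, ∀ ξ₁ ∈ b, ¬ MemLocalIdeal M
      (classInner (pTilde p (fun c : H => (χ : G → ℂ) (c : G))) (ξ₁ : H → ℂ) /
        (ξ₁ : H → ℂ) 1) := by
    intro χ hχ ξ₁ hξ₁
    exact (Cfsg.Agent.S4431.result p M hM H b B hind χ ξ₁ hξ₁).2 hχ (hh χ hχ)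
  have hne : ∀ χ ∈ B, ∀ ψ ∈ B, ∀ u, x χ ψ u ≠ 0 := by
    intro χ hχ ψ hψ u h0
    have hzu : (zH ^ (u : ZMod N).val) ^ (p ^ k) = 1 := by
      rw [← pow_mul, mul_comm, pow_mul, ← hk, hzN, one_pow]
    have := (cval_unit hM ξ₀ (zH ^ (u : ZMod N).val) (Subgroup.pow_mem _ hzc _) k hzu
      _ _ (hres χ) (hres ψ) (hU χ hχ) (hU ψ hψ)).2
    rw [← hd, ← hxc χ ψ u, h0] at this
    exact this (memLocalIdeal_zero hMp)
  have hint : ∀ χ ψ u, IsIntegral ℤ (x χ ψ u) := by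
    intro χ ψ u
    rw [hxc]
    exact cval_integral b _ _ (hres χ) (hres ψ) _ (Subgroup.pow_mem _ hzc _)
  have hgal : ∀ χ ψ (τ : ℂ ≃+* ℂ) (j : (ZMod N)ˣ),
      (∀ ω : ℂ, ω ^ N = 1 → τ ω = ω ^ (j : ZMod N).val) → ∀ u, τ (x χ ψ u) = x χ ψ (u * j) := by
    intro χ ψ τ j hτ u
    rw [hxc, hxc]
    have hzu : (zH ^ (u : ZMod N).val) ^ N = 1 := by
      rw [← pow_mul, mul_comm, pow_mul, hzN, one_pow]
    rw [cval_galois b _ _ (hres χ) (hres ψ) _ (Subgroup.pow_mem _ hzc _) N hzu τ _ hτ]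
    congr 2
    rw [← pow_mul, Units.val_mul, ZMod.val_mul]
    exact pow_eq_pow_mod _ hzN
  -- lower bound for each pair
  have hlow : ∀ χ ∈ B, ∀ ψ ∈ B, (Nat.totient N : ℝ) ≤ ∑ u : (ZMod N)ˣ, ‖x χ ψ u‖ ^ 2 :=
    fun χ hχ ψ hψ => totient_le_sum_norm_sq N (x χ ψ) (hint χ ψ) (hgal χ ψ) (hne χ hχ ψ hψ)
  -- the exact value of the total
  have htot : ∀ u : (ZMod N)ˣ, ∑ χ ∈ Bf, ∑ ψ ∈ Bf, ‖x χ ψ u‖ ^ 2 =
      ((p ^ (2 * d) : ℕ) : ℝ) * (blockRank p b : ℝ) := by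
    intro u
    have hcop : Nat.Coprime (u : ZMod N).val (orderOf y) := ZMod.val_coe_unit_coprime u
    have hH' : H = Subgroup.centralizer ({y ^ (u : ZMod N).val} : Set G) := by
      rw [hH]
      exact centralizer_pow_eq hcop
    have hz' := exists_orderOf_pow hp ⟨k, hk⟩ (u : ZMod N).val
    have h1 := sum_sum_ctb_mul_conj hM hz' H hH' ξ₀ hind
    have h2 : ∀ χ ψ : IrrCharacter G, ((‖x χ ψ u‖ ^ 2 : ℝ) : ℂ) = ((p ^ (2 * d) : ℕ) : ℂ) *
        (ctb p (y ^ (u : ZMod N).val) H b (χ : G → ℂ) (ψ : G → ℂ) *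
          conj (ctb p (y ^ (u : ZMod N).val) H b (χ : G → ℂ) (ψ : G → ℂ))) := by
      intro χ ψ
      rw [hx]
      simp only
      rw [Complex.mul_conj, ← Complex.normSq_eq_norm_sq, Complex.normSq_mul, Complex.normSq_natCast]
      push_cast
      ring
    have h3 : ((∑ χ ∈ Bf, ∑ ψ ∈ Bf, ‖x χ ψ u‖ ^ 2 : ℝ) : ℂ) =
        ((((p ^ (2 * d) : ℕ) : ℝ) * (blockRank p b : ℝ) : ℝ) : ℂ) := by
      push_cast
      rw [← h1, Finset.mul_sum]
      refine Finset.sum_congr rfl fun χ _ => ?_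
      rw [Finset.mul_sum]
      refine Finset.sum_congr rfl fun ψ _ => ?_
      have := h2 χ ψ
      push_cast at this
      exact this
    exact_mod_cast h3
  -- double counting
  have hmem : ∀ χ : IrrCharacter G, χ ∈ Bf ↔ χ ∈ B := by
    intro χ
    rw [hBf, Finset.mem_filter]
    exact ⟨fun h => h.2, fun h => ⟨Finset.mem_univ _, h⟩⟩
  have hA : ((Bf.card : ℝ) ^ 2) * (Nat.totient N : ℝ) ≤
      ∑ χ ∈ Bf, ∑ ψ ∈ Bf, ∑ u : (ZMod N)ˣ, ‖x χ ψ u‖ ^ 2 := by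
    calc ((Bf.card : ℝ) ^ 2) * (Nat.totient N : ℝ)
        = ∑ _χ ∈ Bf, ∑ _ψ ∈ Bf, (Nat.totient N : ℝ) := by
          rw [Finset.sum_const, Finset.sum_const, nsmul_eq_mul, nsmul_eq_mul]
          ring
      _ ≤ _ := Finset.sum_le_sum fun χ hχ => Finset.sum_le_sum fun ψ hψ =>
          hlow χ ((hmem χ).1 hχ) ψ ((hmem ψ).1 hψ)
  have hB' : ∑ χ ∈ Bf, ∑ ψ ∈ Bf, ∑ u : (ZMod N)ˣ, ‖x χ ψ u‖ ^ 2 =
      (Nat.totient N : ℝ) * (((p ^ (2 * d) : ℕ) : ℝ) * (blockRank p b : ℝ)) := by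
    have e1 : ∑ χ ∈ Bf, ∑ ψ ∈ Bf, ∑ u : (ZMod N)ˣ, ‖x χ ψ u‖ ^ 2 =
        ∑ u : (ZMod N)ˣ, ∑ χ ∈ Bf, ∑ ψ ∈ Bf, ‖x χ ψ u‖ ^ 2 := by
      calc ∑ χ ∈ Bf, ∑ ψ ∈ Bf, ∑ u : (ZMod N)ˣ, ‖x χ ψ u‖ ^ 2
          = ∑ χ ∈ Bf, ∑ u : (ZMod N)ˣ, ∑ ψ ∈ Bf, ‖x χ ψ u‖ ^ 2 :=
            Finset.sum_congr rfl fun χ _ => Finset.sum_comm
        _ = ∑ u : (ZMod N)ˣ, ∑ χ ∈ Bf, ∑ ψ ∈ Bf, ‖x χ ψ u‖ ^ 2 := Finset.sum_comm
    rw [e1, Finset.sum_congr rfl fun u _ => htot u, Finset.sum_const, Finset.card_univ,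
      ZMod.card_units_eq_totient, nsmul_eq_mul]
  have hφ : (0 : ℝ) < (Nat.totient N : ℝ) := by exact_mod_cast Nat.totient_pos.mpr hNpos
  have hfin : ((Bf.card : ℝ) ^ 2) ≤ ((p ^ (2 * d) : ℕ) : ℝ) * (blockRank p b : ℝ) := by
    rw [hB'] at hA
    have h5 : ((Bf.card : ℝ) ^ 2) * (Nat.totient N : ℝ) ≤
        (((p ^ (2 * d) : ℕ) : ℝ) * (blockRank p b : ℝ)) * (Nat.totient N : ℝ) := by
      rw [mul_comm (((p ^ (2 * d) : ℕ) : ℝ) * (blockRank p b : ℝ))]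
      exact hA
    exact le_of_mul_le_mul_right h5 hφ
  exact_mod_cast hfin

end assembly

end Cfsg.Agent.Lib.Helper77.Ctb
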