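import Cfsg.Agent.Lib.Helper25.InnerTools
import Cfsg.Agent.Lib.Helper3.CharBasic

/-!
# Reduced bases of integral lattices of rank two in a space of functions (helper77)

A finite family of functions whose mutual inner products, scaled by a positive integer `q`, are
integers and whose complex span has dimension two generates a lattice with a reduced basis
`β₁, β₂`: the scaled Gram matrix `(a, h; h, c)` satisfies `0 ≤ 2 h ≤ a ≤ c`, `1 ≤ a`.
-/

set_option autoImplicit false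

universe u

namespace Cfsg.Agent.Lib.Helper77.Ctb

open Cfsg Cfsg.Agent.Lib.Helper3
open scoped ComplexConjugate

section lattice
variable {H : Type u} [Group H] [Fintype H]

/-- integrality of the scaled form on the generated additive group -/
theorem lat_int_closure {ι : Type*} (v : ι → H → ℂ) (q : ℕ)
    (hint : ∀ i j, ∃ n : ℤ, (q : ℂ) * classInner (v i) (v j) = (n : ℂ)) :
    ∀ x ∈ AddSubgroup.closure (Set.range v), ∀ y ∈ AddSubgroup.closure (Set.range v),
      ∃ n : ℤ, (q : ℂ) * classInner x y = (n : ℂ) := by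
  intro x hx
  induction hx using AddSubgroup.closure_induction with
  | mem x hx =>
    obtain ⟨i, rfl⟩ := hx
    intro y hy
    induction hy using AddSubgroup.closure_induction with
    | mem y hy =>
      obtain ⟨j, rfl⟩ := hy
      exact hint i j
    | zero => exact ⟨0, by rw [classInner_zero_right, mul_zero, Int.cast_zero]⟩
    | add y₁ y₂ _ _ h₁ h₂ =>
      obtain ⟨n₁, hn₁⟩ := h₁
      obtain ⟨n₂, hn₂⟩ := h₂
      exact ⟨n₁ + n₂, by rw [classInner_add_right, mul_add, hn₁, hn₂, Int.cast_add]⟩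
    | neg y _ h₁ =>
      obtain ⟨n₁, hn₁⟩ := h₁
      refine ⟨-n₁, ?_⟩
      have : -y = (0 : H → ℂ) - y := (zero_sub y).symm
      rw [this, classInner_sub_right, classInner_zero_right, zero_sub, mul_neg, hn₁, Int.cast_neg]
  | zero =>
    intro y _
    exact ⟨0, by rw [classInner_zero_left, mul_zero, Int.cast_zero]⟩
  | add x₁ x₂ _ _ h₁ h₂ =>
    intro y hy
    obtain ⟨n₁, hn₁⟩ := h₁ y hy
    obtain ⟨n₂, hn₂⟩ := h₂ y hy
    exact ⟨n₁ + n₂, by rw [classInner_add_left, mul_add, hn₁, hn₂, Int.cast_add]⟩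
  | neg x _ h₁ =>
    intro y hy
    obtain ⟨n₁, hn₁⟩ := h₁ y hy
    refine ⟨-n₁, ?_⟩
    have : -x = (0 : H → ℂ) - x := (zero_sub x).symm
    rw [this, classInner_sub_left, classInner_zero_left, zero_sub, mul_neg, hn₁, Int.cast_neg]

/-- the scaled norm of a lattice vector is a natural number, positive for non-zero vectors -/
theorem lat_norm_nat {q : ℕ} (hq : 0 < q) {x : H → ℂ}
    (h : ∃ n : ℤ, (q : ℂ) * classInner x x = (n : ℂ)) :
    ∃ n : ℕ, (q : ℂ) * classInner x x = (n : ℂ) ∧ (x ≠ 0 → 0 < n) := by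
  obtain ⟨n, hn⟩ := h
  have h1 : 0 ≤ (classInner x x).re := Cfsg.Agent.Lib.Helper25.classInner_self_re_nonneg x
  have h2 : ((q : ℂ) * classInner x x).re = (q : ℝ) * (classInner x x).re := by
    rw [Complex.mul_re]
    simp
  have h3 : (0 : ℝ) ≤ (n : ℝ) := by
    have : ((n : ℂ)).re = (n : ℝ) := Complex.intCast_re n
    rw [← this, ← hn, h2]
    positivity
  have h4 : 0 ≤ n := by exact_mod_cast h3
  refine ⟨n.toNat, ?_, ?_⟩
  · rw [hn]
    have : ((n.toNat : ℤ) : ℂ) = (n : ℂ) := by rw [Int.toNat_of_nonneg h4]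
    rw [← this]
    push_cast
    rfl
  · intro hx
    by_contra h0
    have h5 : n.toNat = 0 := by omega
    have h6 : n = 0 := by omega
    rw [h6, Int.cast_zero] at hn
    have hq0 : (q : ℂ) ≠ 0 := Nat.cast_ne_zero.mpr hq.ne'
    have := (mul_eq_zero.mp hn).resolve_left hq0
    exact hx (Cfsg.Agent.Lib.Helper25.classInner_self_eq_zero this)

/-- the scaled form on a combination of two vectors -/
theorem lat_form_comb {q : ℕ} {β₁ β₂ : H → ℂ} {A B B' C : ℂ}
    (hA : (q : ℂ) * classInner β₁ β₁ = A) (hB : (q : ℂ) * classInner β₁ β₂ = B)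
    (hB' : (q : ℂ) * classInner β₂ β₁ = B') (hC : (q : ℂ) * classInner β₂ β₂ = C)
    (s t s' t' : ℂ) :
    (q : ℂ) * classInner (s • β₁ + t • β₂) (s' • β₁ + t' • β₂) =
      s * conj s' * A + s * conj t' * B + t * conj s' * B' + t * conj t' * C := by
  rw [classInner_add_left, classInner_add_right, classInner_add_right, classInner_smul_left,
    classInner_smul_left, classInner_smul_left, classInner_smul_left, classInner_smul_right,
    classInner_smul_right, classInner_smul_right, classInner_smul_right, ← hA, ← hB, ← hB', ← hC]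
  ring

/-- **Reduced basis** of a lattice of rank two, up to the sign of the mixed term. -/
theorem exists_reduced_basis_aux {ι : Type*} (v : ι → H → ℂ) (q : ℕ) (hq : 0 < q)
    (hint : ∀ i j, ∃ n : ℤ, (q : ℂ) * classInner (v i) (v j) = (n : ℂ))
    (hrank : Module.finrank ℂ (Submodule.span ℂ (Set.range v)) = 2) :
    ∃ (β₁ β₂ : H → ℂ) (a c : ℕ) (h : ℤ),
      β₁ ∈ AddSubgroup.closure (Set.range v) ∧ β₂ ∈ AddSubgroup.closure (Set.range v) ∧
      (q : ℂ) * classInner β₁ β₁ = (a : ℂ) ∧ (q : ℂ) * classInner β₁ β₂ = (h : ℂ) ∧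
      (q : ℂ) * classInner β₂ β₂ = (c : ℂ) ∧ -(a : ℤ) ≤ 2 * h ∧ 2 * h ≤ a ∧ a ≤ c ∧ 1 ≤ a ∧
      ∀ x ∈ AddSubgroup.closure (Set.range v),
        ∃ n₁ n₂ : ℤ, x = (n₁ : ℂ) • β₁ + (n₂ : ℂ) • β₂ := by
  classical
  set Λ := AddSubgroup.closure (Set.range v) with hΛ
  have hΛint := lat_int_closure v q hint
  have hq0 : (q : ℂ) ≠ 0 := Nat.cast_ne_zero.mpr hq.ne'
  have hsub : ∀ x ∈ Λ, x ∈ Submodule.span ℂ (Set.range v) := by
    intro x hx
    have hle : Λ ≤ (Submodule.span ℂ (Set.range v)).toAddSubgroup := by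
      rw [hΛ, AddSubgroup.closure_le]
      exact Submodule.subset_span
    exact hle hx
  have hnat : ∀ x ∈ Λ, ∃ n : ℕ, (q : ℂ) * classInner x x = (n : ℂ) ∧ (x ≠ 0 → 0 < n) :=
    fun x hx => lat_norm_nat hq (hΛint x hx x hx)
  have hgen : ∀ i, v i ∈ Λ := fun i => AddSubgroup.subset_closure ⟨i, rfl⟩
  -- the first minimum
  have hex1 : ∃ n : ℕ, ∃ x ∈ Λ, x ≠ 0 ∧ (q : ℂ) * classInner x x = (n : ℂ) := by
    by_contra hcon
    push Not at hcon
    have hv0 : ∀ i, v i = 0 := by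
      intro i
      by_contra hvi
      obtain ⟨n, hn, -⟩ := hnat (v i) (hgen i)
      exact hcon n (v i) (hgen i) hvi hn
    have hbot : Submodule.span ℂ (Set.range v) = ⊥ := by
      rw [Submodule.span_eq_bot]
      rintro _ ⟨i, rfl⟩
      exact hv0 i
    rw [hbot, finrank_bot] at hrank
    omega
  obtain ⟨β₁, hβ₁Λ, hβ₁0, hβ₁a⟩ := Nat.find_spec hex1
  set a := Nat.find hex1 with ha
  have hamin : ∀ x ∈ Λ, x ≠ 0 → ∀ n : ℕ, (q : ℂ) * classInner x x = (n : ℂ) → a ≤ n :=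
    fun x hx hx0 n hn => Nat.find_min' hex1 ⟨x, hx, hx0, hn⟩
  have ha1 : 1 ≤ a := by
    obtain ⟨n, hn, hpos⟩ := hnat β₁ hβ₁Λ
    have : (n : ℂ) = (a : ℂ) := by rw [← hn, hβ₁a]
    have hna : n = a := by exact_mod_cast this
    have := hpos hβ₁0
    omega
  -- the second minimum
  have hex2 : ∃ n : ℕ, ∃ x ∈ Λ, (∀ κ : ℂ, x ≠ κ • β₁) ∧ (q : ℂ) * classInner x x = (n : ℂ) := by
    by_contra hcon
    push Not at hcon
    have hv1 : ∀ i, ∃ κ : ℂ, v i = κ • β₁ := by
      intro i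
      by_contra hvi
      push Not at hvi
      obtain ⟨n, hn, -⟩ := hnat (v i) (hgen i)
      exact hcon n (v i) (hgen i) hvi hn
    have hle : Submodule.span ℂ (Set.range v) ≤ Submodule.span ℂ {β₁} := by
      rw [Submodule.span_le]
      rintro _ ⟨i, rfl⟩
      obtain ⟨κ, hκ⟩ := hv1 i
      rw [hκ]
      exact Submodule.smul_mem _ _ (Submodule.mem_span_singleton_self β₁)
    have h1 := Submodule.finrank_mono hle
    have h2 : Module.finrank ℂ (Submodule.span ℂ {β₁}) ≤ 1 := by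
      have := finrank_span_le_card (R := ℂ) ({β₁} : Set (H → ℂ))
      simpa using this
    omega
  obtain ⟨β₂, hβ₂Λ, hβ₂ind, hβ₂c⟩ := Nat.find_spec hex2
  set c := Nat.find hex2 with hc
  have hcmin : ∀ x ∈ Λ, (∀ κ : ℂ, x ≠ κ • β₁) → ∀ n : ℕ,
      (q : ℂ) * classInner x x = (n : ℂ) → c ≤ n :=
    fun x hx hxi n hn => Nat.find_min' hex2 ⟨x, hx, hxi, hn⟩
  have hβ₂0 : β₂ ≠ 0 := by
    intro h0
    exact hβ₂ind 0 (by rw [h0, zero_smul])
  have hac : a ≤ c := hamin β₂ hβ₂Λ hβ₂0 c hβ₂c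
  obtain ⟨h, hh⟩ := hΛint β₁ hβ₁Λ β₂ hβ₂Λ
  have hh' : (q : ℂ) * classInner β₂ β₁ = (h : ℂ) := by
    rw [classInner_conj_symm, ← Complex.conj_natCast q, ← map_mul, hh, map_intCast]
  -- a combination which is a multiple of `β₁` has no `β₂`-part
  have hindep : ∀ s t κ : ℂ, s • β₁ + t • β₂ = κ • β₁ → t = 0 := by
    intro s t κ hst
    by_contra ht
    apply hβ₂ind ((κ - s) / t)
    have h1 : t • β₂ = (κ - s) • β₁ := by
      rw [sub_smul, ← hst]
      abel
    calc β₂ = t⁻¹ • (t • β₂) := by rw [smul_smul, inv_mul_cancel₀ ht, one_smul]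
      _ = ((κ - s) / t) • β₁ := by rw [h1, smul_smul]; congr 1; field_simp
  -- the norm of an integral combination
  have hnorm : ∀ s t : ℝ, (q : ℂ) * classInner ((s : ℂ) • β₁ + (t : ℂ) • β₂)
      ((s : ℂ) • β₁ + (t : ℂ) • β₂) =
      ((s ^ 2 * a + 2 * s * t * h + t ^ 2 * c : ℝ) : ℂ) := by
    intro s t
    rw [lat_form_comb hβ₁a hh hh' hβ₂c, Complex.conj_ofReal, Complex.conj_ofReal]
    push_cast
    ring
  -- the mixed term is small
  have hred : -(a : ℤ) ≤ 2 * h ∧ 2 * h ≤ a := by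
    constructor
    · have hx : β₁ + β₂ ∈ Λ := Λ.add_mem hβ₁Λ hβ₂Λ
      have hxi : ∀ κ : ℂ, β₁ + β₂ ≠ κ • β₁ := by
        intro κ hκ
        have := hindep 1 1 κ (by rw [one_smul, one_smul]; exact hκ)
        exact one_ne_zero this
      obtain ⟨n, hn, -⟩ := hnat _ hx
      have h1 := hcmin _ hx hxi n hn
      have h2 := hnorm 1 1
      simp only [Complex.ofReal_one, one_smul] at h2
      rw [hn] at h2
      have h3 : (n : ℝ) = (1 : ℝ) ^ 2 * a + 2 * 1 * 1 * h + 1 ^ 2 * c := by exact_mod_cast h2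
      have h4 : (n : ℤ) = a + 2 * h + c := by
        have : ((n : ℤ) : ℝ) = ((a + 2 * h + c : ℤ) : ℝ) := by
          push_cast
          rw [h3]
          ring
        exact_mod_cast this
      omega
    · have hx : -β₁ + β₂ ∈ Λ := Λ.add_mem (Λ.neg_mem hβ₁Λ) hβ₂Λ
      have hxi : ∀ κ : ℂ, -β₁ + β₂ ≠ κ • β₁ := by
        intro κ hκ
        have := hindep (-1) 1 κ (by rw [neg_one_smul, one_smul]; exact hκ)
        exact one_ne_zero this
      obtain ⟨n, hn, -⟩ := hnat _ hx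
      have h1 := hcmin _ hx hxi n hn
      have h2 := hnorm (-1) 1
      simp only [Complex.ofReal_neg, Complex.ofReal_one, one_smul, neg_one_smul] at h2
      rw [hn] at h2
      have h3 : (n : ℝ) = (-1 : ℝ) ^ 2 * a + 2 * (-1) * 1 * h + 1 ^ 2 * c := by exact_mod_cast h2
      have h4 : (n : ℤ) = a - 2 * h + c := by
        have : ((n : ℤ) : ℝ) = ((a - 2 * h + c : ℤ) : ℝ) := by
          push_cast
          rw [h3]
          ring
        exact_mod_cast this
      omega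
  -- linear independence and coordinates
  have hli : LinearIndependent ℂ ![β₁, β₂] := by
    rw [LinearIndependent.pair_iff]
    intro s t hst
    have ht : t = 0 := hindep s t 0 (by rw [hst, zero_smul])
    refine ⟨?_, ht⟩
    rw [ht, zero_smul, add_zero] at hst
    exact (smul_eq_zero.mp hst).resolve_right hβ₁0
  have hspan : Submodule.span ℂ (Set.range ![β₁, β₂]) = Submodule.span ℂ (Set.range v) := by
    apply Submodule.eq_of_le_of_finrank_eq
    · rw [Submodule.span_le]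
      rintro _ ⟨i, rfl⟩
      fin_cases i
      · exact hsub β₁ hβ₁Λ
      · exact hsub β₂ hβ₂Λ
    · rw [finrank_span_eq_card hli, hrank]
      simp
  have hcoord : ∀ x ∈ Λ, ∃ s t : ℂ, x = s • β₁ + t • β₂ := by
    intro x hx
    have h1 := hsub x hx
    rw [← hspan, Submodule.mem_span_range_iff_exists_fun] at h1
    obtain ⟨cf, hcf⟩ := h1
    refine ⟨cf 0, cf 1, ?_⟩
    rw [← hcf, Fin.sum_univ_two]
    rfl
  have haR : (1 : ℝ) ≤ (a : ℝ) := by exact_mod_cast ha1
  have hacR : (a : ℝ) ≤ (c : ℝ) := by exact_mod_cast hac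
  have hh1R : -(a : ℝ) ≤ 2 * (h : ℝ) := by exact_mod_cast hred.1
  have hh2R : 2 * (h : ℝ) ≤ (a : ℝ) := by exact_mod_cast hred.2
  have hΔ : (0 : ℝ) < (a : ℝ) * c - (h : ℝ) * h := by nlinarith
  refine ⟨β₁, β₂, a, c, h, hβ₁Λ, hβ₂Λ, hβ₁a, hh, hβ₂c, hred.1, hred.2, hac, ha1, ?_⟩
  intro x hx
  obtain ⟨s, t, hst⟩ := hcoord x hx
  -- the coordinates are real
  obtain ⟨n₁, hn₁⟩ := hΛint x hx β₁ hβ₁Λ
  obtain ⟨n₂, hn₂⟩ := hΛint x hx β₂ hβ₂Λ
  have e1 : s * (a : ℂ) + t * (h : ℂ) = (n₁ : ℂ) := by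
    rw [← hn₁, hst]
    have := lat_form_comb hβ₁a hh hh' hβ₂c s t 1 0
    rw [one_smul, zero_smul, add_zero] at this
    rw [this]
    simp
  have e2 : s * (h : ℂ) + t * (c : ℂ) = (n₂ : ℂ) := by
    rw [← hn₂, hst]
    have := lat_form_comb hβ₁a hh hh' hβ₂c s t 0 1
    rw [one_smul, zero_smul, zero_add] at this
    rw [this]
    simp
  have e1i : s.im * a + t.im * h = 0 := by
    have := congrArg Complex.im e1
    simpa using this
  have e2i : s.im * h + t.im * c = 0 := by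
    have := congrArg Complex.im e2
    simpa using this
  have hsi : s.im = 0 := by
    have : s.im * ((a : ℝ) * c - (h : ℝ) * h) = 0 := by linear_combination (c : ℝ) * e1i - (h : ℝ) * e2i
    exact (mul_eq_zero.mp this).resolve_right hΔ.ne'
  have hti : t.im = 0 := by
    have : t.im * ((a : ℝ) * c - (h : ℝ) * h) = 0 := by linear_combination (a : ℝ) * e2i - (h : ℝ) * e1i
    exact (mul_eq_zero.mp this).resolve_right hΔ.ne'
  have hsr : s = ((s.re : ℝ) : ℂ) := Complex.ext (by simp) (by simp [hsi])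
  have htr : t = ((t.re : ℝ) : ℂ) := Complex.ext (by simp) (by simp [hti])
  set m₁ : ℤ := round s.re with hm₁
  set m₂ : ℤ := round t.re with hm₂
  set s' : ℝ := s.re - m₁ with hs'
  set t' : ℝ := t.re - m₂ with ht'
  have hs'b : |s'| ≤ 1 / 2 := abs_sub_round s.re
  have ht'b : |t'| ≤ 1 / 2 := abs_sub_round t.re
  set x' : H → ℂ := (s' : ℂ) • β₁ + (t' : ℂ) • β₂ with hx'
  have hxx' : x = (m₁ : ℂ) • β₁ + (m₂ : ℂ) • β₂ + x' := by
    rw [hx', hst]
    conv_lhs => rw [hsr, htr]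
    rw [hs', ht']
    push_cast
    module
  have hx'Λ : x' ∈ Λ := by
    have h1 : x' = x - ((m₁ : ℂ) • β₁ + (m₂ : ℂ) • β₂) := by rw [hxx']; abel
    rw [h1]
    refine Λ.sub_mem hx (Λ.add_mem ?_ ?_)
    · rw [Int.cast_smul_eq_zsmul]
      exact Λ.zsmul_mem hβ₁Λ _
    · rw [Int.cast_smul_eq_zsmul]
      exact Λ.zsmul_mem hβ₂Λ _
  obtain ⟨n, hn, hnpos⟩ := hnat x' hx'Λ
  have hnR : (n : ℝ) = s' ^ 2 * a + 2 * s' * t' * h + t' ^ 2 * c := by
    have h1 := hnorm s' t'
    rw [← hx', hn] at h1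
    exact_mod_cast h1
  have hs2 : s' ^ 2 ≤ 1 / 4 := by
    have := abs_le.mp hs'b
    nlinarith
  have ht2 : t' ^ 2 ≤ 1 / 4 := by
    have := abs_le.mp ht'b
    nlinarith
  have hst2 : |s' * t'| ≤ 1 / 4 := by
    rw [abs_mul]
    calc |s'| * |t'| ≤ (1 / 2) * (1 / 2) :=
          mul_le_mul hs'b ht'b (abs_nonneg _) (by norm_num)
      _ = 1 / 4 := by norm_num
  have hhabs : |(h : ℝ)| ≤ (a : ℝ) / 2 := by
    rw [abs_le]
    constructor <;> linarith
  have hmix : 2 * s' * t' * h ≤ (a : ℝ) / 4 := by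
    have h1 : s' * t' * h ≤ |s' * t' * h| := le_abs_self _
    have h2 : |s' * t' * h| = |s' * t'| * |(h : ℝ)| := abs_mul _ _
    have h3 : |s' * t'| * |(h : ℝ)| ≤ (1 / 4) * ((a : ℝ) / 2) :=
      mul_le_mul hst2 hhabs (abs_nonneg _) (by norm_num)
    nlinarith
  have ht'0 : t' = 0 := by
    by_contra ht0
    have hxi : ∀ κ : ℂ, x' ≠ κ • β₁ := by
      intro κ hκ
      have := hindep _ _ κ hκ
      exact ht0 (by exact_mod_cast this)
    have h1 := hcmin x' hx'Λ hxi n hn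
    have h1R : (c : ℝ) ≤ (n : ℝ) := by exact_mod_cast h1
    have hc0 : (0 : ℝ) < (c : ℝ) := by linarith
    nlinarith
  have hx'0 : x' = 0 := by
    by_contra hx0
    have h1 := hamin x' hx'Λ hx0 n hn
    have h1R : (a : ℝ) ≤ (n : ℝ) := by exact_mod_cast h1
    rw [ht'0] at hnR
    nlinarith
  refine ⟨m₁, m₂, ?_⟩
  rw [hxx', hx'0, add_zero]

/-- **Reduced basis** of a lattice of rank two. -/
theorem exists_reduced_basis {ι : Type*} (v : ι → H → ℂ) (q : ℕ) (hq : 0 < q)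
    (hint : ∀ i j, ∃ n : ℤ, (q : ℂ) * classInner (v i) (v j) = (n : ℂ))
    (hrank : Module.finrank ℂ (Submodule.span ℂ (Set.range v)) = 2) :
    ∃ (β₁ β₂ : H → ℂ) (a c : ℕ) (h : ℤ),
      β₁ ∈ AddSubgroup.closure (Set.range v) ∧ β₂ ∈ AddSubgroup.closure (Set.range v) ∧
      (q : ℂ) * classInner β₁ β₁ = (a : ℂ) ∧ (q : ℂ) * classInner β₁ β₂ = (h : ℂ) ∧
      (q : ℂ) * classInner β₂ β₂ = (c : ℂ) ∧ 0 ≤ h ∧ 2 * h ≤ a ∧ a ≤ c ∧ 1 ≤ a ∧
      ∀ x ∈ AddSubgroup.closure (Set.range v),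
        ∃ n₁ n₂ : ℤ, x = (n₁ : ℂ) • β₁ + (n₂ : ℂ) • β₂ := by
  obtain ⟨β₁, β₂, a, c, h, h1, h2, h3, h4, h5, h6, h7, h8, h9, h10⟩ :=
    exists_reduced_basis_aux v q hq hint hrank
  by_cases hh : 0 ≤ h
  · exact ⟨β₁, β₂, a, c, h, h1, h2, h3, h4, h5, hh, h7, h8, h9, h10⟩
  · push Not at hh
    refine ⟨β₁, -β₂, a, c, -h, h1, (AddSubgroup.closure (Set.range v)).neg_mem h2, h3, ?_, ?_,
      by omega, by omega, h8, h9, ?_⟩
    · have : -β₂ = (0 : H → ℂ) - β₂ := (zero_sub β₂).symm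
      rw [this, classInner_sub_right, classInner_zero_right, zero_sub, mul_neg, h4, Int.cast_neg]
    · have : -β₂ = (0 : H → ℂ) - β₂ := (zero_sub β₂).symm
      rw [this, classInner_sub_right, classInner_zero_right, classInner_sub_left,
        classInner_zero_left, zero_sub, zero_sub, neg_neg, h5]
    · intro x hx
      obtain ⟨n₁, n₂, hn⟩ := h10 x hx
      refine ⟨n₁, -n₂, ?_⟩
      rw [hn]
      push_cast
      module

end lattice

end Cfsg.Agent.Lib.Helper77.Ctb
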