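import Cfsg.Agent.Lib.Helper77.CtbJ
import Cfsg.Agent.Lib.Helper75.GaloisCyc

/-!
# Test vectors and the frame of section parts (helper77)

A *test vector* for a block `b` of `H` is a class function `π` of `H` vanishing at the `p`-singular
elements, with integral inner products with the irreducible characters of `H`, and orthogonal to
the irreducible characters outside `b`.  For a subsection `(y, b)` of the block `B` of `G` the numbers
`dnum y H π χ = [c ↦ χ (y c), π]`, `χ ∈ B`, are algebraic integers permuted by the field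
automorphisms, and the sum of their squared absolute values is `[π, π]` (Parseval on the section).
-/

set_option autoImplicit false

universe u

namespace Cfsg.Agent.Lib.Helper77.Ctb

open Cfsg Cfsg.Agent.Lib.Helper81 Cfsg.Agent.Lib.Helper74 Cfsg.Agent.Lib.Helper76
  Cfsg.Agent.Lib.Helper16 Cfsg.Agent.Lib.Helper25
open scoped ComplexConjugate

/-- test vectors for the set `b` of irreducible characters -/
structure IsTestVec {H : Type u} [Group H] [Fintype H] (p : ℕ) (b : Set (IrrCharacter H))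
    (π : H → ℂ) : Prop where
  cls : IsClassFunction H π
  sing : ∀ c : H, p ∣ orderOf c → π c = 0
  int : ∀ ξ : IrrCharacter H, ∃ n : ℤ, classInner (ξ : H → ℂ) π = (n : ℂ)
  out : ∀ ξ : IrrCharacter H, ξ ∉ b → classInner (ξ : H → ℂ) π = 0

section intrinsic
variable {H : Type u} [Group H] [Fintype H]

theorem IsTestVec.add {p : ℕ} {b : Set (IrrCharacter H)} {π₁ π₂ : H → ℂ}
    (h₁ : IsTestVec p b π₁) (h₂ : IsTestVec p b π₂) : IsTestVec p b (π₁ + π₂) where
  cls := fun g h => by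
    simp only [Pi.add_apply]
    rw [h₁.cls g h, h₂.cls g h]
  sing := fun c hc => by
    rw [Pi.add_apply, h₁.sing c hc, h₂.sing c hc, add_zero]
  int := fun ξ => by
    obtain ⟨n₁, hn₁⟩ := h₁.int ξ
    obtain ⟨n₂, hn₂⟩ := h₂.int ξ
    exact ⟨n₁ + n₂, by rw [Cfsg.Agent.Lib.Helper3.classInner_add_right, hn₁, hn₂, Int.cast_add]⟩
  out := fun ξ hξ => by
    rw [Cfsg.Agent.Lib.Helper3.classInner_add_right, h₁.out ξ hξ, h₂.out ξ hξ, add_zero]

/-- the inner product of a twisted function with a test vector -/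
noncomputable def dval (π : H → ℂ) (χ' : H → ℂ) (z : H) : ℂ :=
  classInner (fun c : H => χ' (z * c)) π

variable [Fintype (IrrCharacter H)]

theorem isClassFunction_twist {χ' : H → ℂ} (hχ' : IsClassFunction H χ') (z : H)
    (hz : z ∈ Subgroup.center H) : IsClassFunction H (fun c : H => χ' (z * c)) := by
  intro g h
  show χ' (z * (h * g * h⁻¹)) = χ' (z * g)
  have e : z * (h * g * h⁻¹) = h * (z * g) * h⁻¹ := by
    have h1 : z * h = h * z := ((Subgroup.mem_center_iff.mp hz) h).symm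
    calc z * (h * g * h⁻¹) = (z * h) * g * h⁻¹ := by group
      _ = (h * z) * g * h⁻¹ := by rw [h1]
      _ = h * (z * g) * h⁻¹ := by group
  rw [e, hχ']

/-- expansion along the irreducible characters -/
theorem dval_eq_sum (π : H → ℂ) (χ' : H → ℂ) (hχ' : IsClassFunction H χ') (z : H)
    (hz : z ∈ Subgroup.center H) (m : IrrCharacter H → ℕ)
    (hm : ∀ ξ : IrrCharacter H, classInner χ' (ξ : H → ℂ) = (m ξ : ℂ)) :
    dval π χ' z = ∑ ξ : IrrCharacter H, (om ξ z * (m ξ : ℂ)) * classInner (ξ : H → ℂ) π := by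
  unfold dval
  have h1 := Cfsg.Agent.Lib.Helper3.classFunction_eq_sum (isClassFunction_twist hχ' z hz)
  conv_lhs => rw [h1]
  rw [Cfsg.Agent.Lib.Helper3.classInner_sum_left]
  refine Finset.sum_congr rfl fun ξ _ => ?_
  rw [Cfsg.Agent.Lib.Helper3.classInner_smul_left, classInner_twist χ' ξ z hz, hm ξ]

/-- integrality -/
theorem dval_integral {p : ℕ} {b : Set (IrrCharacter H)} {π : H → ℂ} (hπ : IsTestVec p b π)
    (χ' : H → ℂ) (hχ' : IsCharacter H χ') (z : H) (hz : z ∈ Subgroup.center H) :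
    IsIntegral ℤ (dval π χ' z) := by
  classical
  obtain ⟨m, hm, -⟩ := Cfsg.Agent.Lib.Helper15.exists_nat_decomp hχ'
  rw [dval_eq_sum π χ' (Cfsg.Agent.Lib.Helper3.IsCharacter.isClassFunction hχ') z hz m hm]
  refine IsIntegral.sum _ fun ξ _ => ?_
  obtain ⟨n, hn⟩ := hπ.int ξ
  rw [hn]
  exact IsIntegral.mul (IsIntegral.mul (isIntegral_om ξ z hz) (isIntegral_natCast _))
    (isIntegral_intCast _)

/-- the action of the field automorphisms -/
theorem dval_galois {p : ℕ} {b : Set (IrrCharacter H)} {π : H → ℂ} (hπ : IsTestVec p b π)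
    (χ' : H → ℂ) (hχ' : IsCharacter H χ') (z : H) (hz : z ∈ Subgroup.center H)
    (N : ℕ) (hzN : z ^ N = 1) (τ : ℂ ≃+* ℂ) (j : ℕ) (hτ : ∀ ω : ℂ, ω ^ N = 1 → τ ω = ω ^ j) :
    τ (dval π χ' z) = dval π χ' (z ^ j) := by
  classical
  obtain ⟨m, hm, -⟩ := Cfsg.Agent.Lib.Helper15.exists_nat_decomp hχ'
  have hcl := Cfsg.Agent.Lib.Helper3.IsCharacter.isClassFunction hχ'
  rw [dval_eq_sum π χ' hcl z hz m hm,
    dval_eq_sum π χ' hcl (z ^ j) (Subgroup.pow_mem _ hz j) m hm, map_sum]
  refine Finset.sum_congr rfl fun ξ _ => ?_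
  obtain ⟨n, hn⟩ := hπ.int ξ
  rw [hn]
  have h1 : τ (om ξ z) = om ξ (z ^ j) := by
    rw [hτ _ (om_pow_eq_one ξ z hz N hzN), om_pow ξ z hz]
  simp only [map_mul, map_natCast, map_intCast, h1]

end intrinsic

section frame
variable {G : Type u} [Group G] [Fintype G]

/-- the number attached to a test vector and a class function of `G` -/
noncomputable def dnum (z : G) (H : Subgroup G) [Fintype H] (π : H → ℂ) (ψ : G → ℂ) : ℂ :=
  classInner (fun c : H => ψ (z * (c : G))) π

theorem dnum_eq_dval (y : G) (H : Subgroup G) [Fintype H] (hyH : y ∈ H) (π : H → ℂ)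
    (ψ : G → ℂ) (n : ℕ) :
    dnum (y ^ n) H π ψ = dval π (fun c : H => ψ (c : G)) ((⟨y, hyH⟩ : H) ^ n) := by
  unfold dnum dval
  congr 1

theorem dnum_add (z : G) (H : Subgroup G) [Fintype H] (π₁ π₂ : H → ℂ) (ψ : G → ℂ) :
    dnum z H (π₁ + π₂) ψ = dnum z H π₁ ψ + dnum z H π₂ ψ := by
  unfold dnum
  rw [Cfsg.Agent.Lib.Helper3.classInner_add_right]

variable [Fintype (IrrCharacter G)] {p : ℕ} [Fact p.Prime] {M : Ideal AlgInt}

/-- the number only depends on the `p`-regular part of the section part -/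
theorem dnum_eq_secPart (z : G) (H : Subgroup G) (hH : H = Subgroup.centralizer ({z} : Set G))
    [Fintype H] [Fintype (IrrCharacter H)] {b : Set (IrrCharacter H)} {π : H → ℂ}
    (hπ : IsTestVec p b π) (ψ : IrrCharacter G) :
    dnum z H π (ψ : G → ℂ) = classInner (pRegularPart p (secPart z H b (ψ : G → ℂ))) π := by
  classical
  subst hH
  have h1 : classInner π (secPart z (Subgroup.centralizer ({z} : Set G)) b (ψ : G → ℂ)) =
      classInner π (fun c : Subgroup.centralizer ({z} : Set G) => (ψ : G → ℂ) (z * (c : G))) := by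
    unfold secPart
    refine classInner_blockPart_right b (Cfsg.Agent.Lib.Helper75.isClassFunction_shift ψ z) ?_
    intro ξ' hξ'
    rw [Cfsg.Agent.Lib.Helper3.classInner_conj_symm, hπ.out ξ' hξ', map_zero]
  unfold dnum
  rw [Cfsg.Agent.Lib.Helper3.classInner_conj_symm, ← h1,
    ← Cfsg.Agent.Lib.Helper3.classInner_conj_symm]
  unfold classInner
  congr 1
  refine Finset.sum_congr rfl fun c _ => ?_
  rw [Cfsg.Agent.Lib.Helper77.pRegularPart_apply]
  by_cases hc : p ∣ orderOf c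
  · rw [if_neg (fun h => h hc), hπ.sing c hc, map_zero, mul_zero, mul_zero]
  · rw [if_pos hc]

/-- outside the induced block the numbers vanish -/
theorem dnum_eq_zero (hM : IsPModular p M) {z : G} (hz : ∃ k : ℕ, orderOf z = p ^ k)
    (H : Subgroup G) (hH : H = Subgroup.centralizer ({z} : Set G)) [Fintype H]
    [Fintype (IrrCharacter H)] {b : Set (IrrCharacter H)} {B : Set (IrrCharacter G)}
    (hind : IsInducedBlock M H b B) {π : H → ℂ} (hπ : IsTestVec p b π)
    (ψ : IrrCharacter G) (hψ : ψ ∉ B) : dnum z H π (ψ : G → ℂ) = 0 := by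
  classical
  rw [dnum_eq_secPart z H hH hπ ψ]
  unfold classInner
  rw [Finset.sum_eq_zero, mul_zero]
  intro s _
  rw [Cfsg.Agent.Lib.Helper77.pRegularPart_apply]
  by_cases hs : p ∣ orderOf s
  · rw [if_neg (fun h => h hs), zero_mul]
  · rw [if_pos hs, secPart_eq_zero hM hz H hH hind ψ hψ s hs, zero_mul]

open Classical in
/-- Parseval on the section: the squared absolute values of the numbers of a test vector add up
to its norm -/
theorem sum_dnum_mul_conj (hM : IsPModular p M) {z : G} (hz : ∃ k : ℕ, orderOf z = p ^ k)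
    (H : Subgroup G) (hH : H = Subgroup.centralizer ({z} : Set G)) [Fintype H]
    [Fintype (IrrCharacter H)] {b : Set (IrrCharacter H)} {B : Set (IrrCharacter G)}
    (hind : IsInducedBlock M H b B) {π : H → ℂ} (hπ : IsTestVec p b π) :
    ∑ ψ ∈ Finset.univ.filter (fun ψ : IrrCharacter G => ψ ∈ B),
      dnum z H π (ψ : G → ℂ) * conj (dnum z H π (ψ : G → ℂ)) = classInner π π := by
  have hp : p.Prime := Fact.out
  rw [← parseval_section hp hz H hH π hπ.cls hπ.sing, Finset.sum_filter]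
  refine Finset.sum_congr rfl fun ψ _ => ?_
  split_ifs with hψ
  · rfl
  · have := dnum_eq_zero hM hz H hH hind hπ ψ hψ
    unfold dnum at this
    rw [this, zero_mul]

open Classical in
/-- the real form of `sum_dnum_mul_conj` -/
theorem sum_norm_dnum_sq (hM : IsPModular p M) {z : G} (hz : ∃ k : ℕ, orderOf z = p ^ k)
    (H : Subgroup G) (hH : H = Subgroup.centralizer ({z} : Set G)) [Fintype H]
    [Fintype (IrrCharacter H)] {b : Set (IrrCharacter H)} {B : Set (IrrCharacter G)}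
    (hind : IsInducedBlock M H b B) {π : H → ℂ} (hπ : IsTestVec p b π) :
    ∑ ψ ∈ Finset.univ.filter (fun ψ : IrrCharacter G => ψ ∈ B),
      ‖dnum z H π (ψ : G → ℂ)‖ ^ 2 = (classInner π π).re := by
  have h1 := sum_dnum_mul_conj hM hz H hH hind hπ
  have h2 : ((∑ ψ ∈ Finset.univ.filter (fun ψ : IrrCharacter G => ψ ∈ B),
      ‖dnum z H π (ψ : G → ℂ)‖ ^ 2 : ℝ) : ℂ) = classInner π π := by
    rw [← h1]
    push_cast
    refine Finset.sum_congr rfl fun ψ _ => ?_
    rw [Complex.mul_conj, Complex.normSq_eq_norm_sq]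
    push_cast
    rfl
  rw [← h2, Complex.ofReal_re]

end frame

section galois
variable {G : Type u} [Group G] [Fintype G] [Fintype (IrrCharacter G)] {p : ℕ} [Fact p.Prime]
  {M : Ideal AlgInt}

omit [Fintype (IrrCharacter G)] [Fact p.Prime] in
/-- the section data at the powers of `y` prime to its order -/
theorem section_data (hp : p.Prime) (y : G) (hy : ∃ k : ℕ, orderOf y = p ^ k) (H : Subgroup G)
    (hH : H = Subgroup.centralizer ({y} : Set G)) (N : ℕ) [NeZero N] (hN : N = orderOf y)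
    (u : (ZMod N)ˣ) : (∃ k' : ℕ, orderOf (y ^ (u : ZMod N).val) = p ^ k') ∧
      H = Subgroup.centralizer ({y ^ (u : ZMod N).val} : Set G) := by
  have hcop : Nat.Coprime (u : ZMod N).val (orderOf y) := hN ▸ ZMod.val_coe_unit_coprime u
  refine ⟨exists_orderOf_pow hp hy (u : ZMod N).val, ?_⟩
  rw [hH]
  exact centralizer_pow_eq hcop

omit [Fintype G] [Fintype (IrrCharacter G)] [Fact p.Prime] in
theorem pow_one_val (y : G) (N : ℕ) [NeZero N] (hN : N = orderOf y) :
    y ^ (((1 : (ZMod N)ˣ) : ZMod N)).val = y := by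
  have hyN : y ^ N = 1 := hN ▸ pow_orderOf_eq_one y
  rw [Units.val_one, ZMod.val_one_eq_one_mod, ← pow_eq_pow_mod 1 hyN, pow_one]

open Classical in
/-- the total over the block and over the generators of `⟨y⟩` -/
theorem frame_sum (hM : IsPModular p M) {B : Set (IrrCharacter G)} (y : G)
    (hy : ∃ k : ℕ, orderOf y = p ^ k) (H : Subgroup G)
    (hH : H = Subgroup.centralizer ({y} : Set G)) [Fintype H] [Fintype (IrrCharacter H)]
    {b : Set (IrrCharacter H)} (hind : IsInducedBlock M H b B) {π : H → ℂ}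
    (hπ : IsTestVec p b π) (N : ℕ) [NeZero N] (hN : N = orderOf y) :
    ∑ χ ∈ Finset.univ.filter (fun χ : IrrCharacter G => χ ∈ B), ∑ u : (ZMod N)ˣ,
      ‖dnum (y ^ (u : ZMod N).val) H π (χ : G → ℂ)‖ ^ 2 =
      (Nat.totient N : ℝ) * (classInner π π).re := by
  have hp : p.Prime := Fact.out
  rw [Finset.sum_comm]
  rw [Finset.sum_congr rfl fun u _ =>
    sum_norm_dnum_sq hM (section_data hp y hy H hH N hN u).1 H
      (section_data hp y hy H hH N hN u).2 hind hπ]
  rw [Finset.sum_const, Finset.card_univ, ZMod.card_units_eq_totient, nsmul_eq_mul]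

/-- the lower bound for one character -/
theorem frame_low (y : G) (H : Subgroup G)
    (hH : H = Subgroup.centralizer ({y} : Set G)) [Fintype H] [Fintype (IrrCharacter H)]
    {b : Set (IrrCharacter H)} {π : H → ℂ}
    (hπ : IsTestVec p b π) (N : ℕ) [NeZero N] (hN : N = orderOf y) (χ : IrrCharacter G)
    (hne : dnum y H π (χ : G → ℂ) ≠ 0) :
    (Nat.totient N : ℝ) ≤ ∑ u : (ZMod N)ˣ,
      ‖dnum (y ^ (u : ZMod N).val) H π (χ : G → ℂ)‖ ^ 2 := by
  have hNpos : 0 < N := Nat.pos_of_ne_zero (NeZero.ne N)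
  have hyH : y ∈ H := by
    rw [hH, Subgroup.mem_centralizer_singleton_iff]
  set zH : H := ⟨y, hyH⟩ with hzH
  have hzc : zH ∈ Subgroup.center H := by
    rw [Subgroup.mem_center_iff]
    intro c
    apply Subtype.ext
    have hc : (c : G) ∈ Subgroup.centralizer ({y} : Set G) := hH ▸ c.2
    have := Subgroup.mem_centralizer_singleton_iff.mp hc
    simp only [Subgroup.coe_mul, hzH]
    exact this
  have hzN : zH ^ N = 1 := by
    apply Subtype.ext
    simp only [Subgroup.coe_pow, Subgroup.coe_one, hzH]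
    rw [hN]
    exact pow_orderOf_eq_one y
  have hres : IsCharacter H (fun c : H => (χ : G → ℂ) (c : G)) :=
    Cfsg.Agent.Lib.Helper3.IsCharacter.restrict
      (Cfsg.Agent.Lib.Helper3.IsIrrCharacter.isCharacter χ.2) _
  set x : (ZMod N)ˣ → ℂ := fun u => dnum (y ^ (u : ZMod N).val) H π (χ : G → ℂ) with hx
  have hxc : ∀ u, x u = dval π (fun c : H => (χ : G → ℂ) (c : G)) (zH ^ (u : ZMod N).val) := by
    intro u
    rw [hx]
    exact dnum_eq_dval y H hyH π _ _
  have hint : ∀ u, IsIntegral ℤ (x u) := by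
    intro u
    rw [hxc]
    exact dval_integral hπ _ hres _ (Subgroup.pow_mem _ hzc _)
  have hgal : ∀ (τ : ℂ ≃+* ℂ) (j : (ZMod N)ˣ),
      (∀ ω : ℂ, ω ^ N = 1 → τ ω = ω ^ (j : ZMod N).val) → ∀ u, τ (x u) = x (u * j) := by
    intro τ j hτ u
    rw [hxc, hxc]
    have hzu : (zH ^ (u : ZMod N).val) ^ N = 1 := by
      rw [← pow_mul, mul_comm, pow_mul, hzN, one_pow]
    rw [dval_galois hπ _ hres _ (Subgroup.pow_mem _ hzc _) N hzu τ _ hτ]
    congr 1
    rw [← pow_mul, Units.val_mul, ZMod.val_mul]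
    exact pow_eq_pow_mod _ hzN
  have hx1 : x 1 ≠ 0 := by
    rw [hx]
    simp only
    rw [pow_one_val y N hN]
    exact hne
  have hne' : ∀ u, x u ≠ 0 := by
    intro u
    obtain ⟨τ, hτ⟩ := Cfsg.Agent.Lib.Helper75.exists_ringEquiv_pow_rootsOfUnity N
      (u : ZMod N).val hNpos (ZMod.val_coe_unit_coprime u)
    have h1 := hgal τ u hτ 1
    rw [one_mul] at h1
    rw [← h1]
    exact (map_ne_zero τ).mpr hx1
  exact totient_le_sum_norm_sq N x hint hgal hne'

open Classical in
/-- **One test vector**: if no number of the test vector vanishes on the block, then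
`k(B) ≤ [π, π]`. -/
theorem card_le_of_testVec (hM : IsPModular p M) {B : Set (IrrCharacter G)} (y : G)
    (hy : ∃ k : ℕ, orderOf y = p ^ k) (H : Subgroup G)
    (hH : H = Subgroup.centralizer ({y} : Set G)) [Fintype H] [Fintype (IrrCharacter H)]
    {b : Set (IrrCharacter H)} (hind : IsInducedBlock M H b B) {π : H → ℂ}
    (hπ : IsTestVec p b π) (hne : ∀ χ ∈ B, dnum y H π (χ : G → ℂ) ≠ 0) :
    ((Finset.univ.filter (fun χ : IrrCharacter G => χ ∈ B)).card : ℝ) ≤
      (classInner π π).re := by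
  set N := orderOf y with hN
  have hNpos : 0 < N := orderOf_pos y
  have : NeZero N := ⟨hNpos.ne'⟩
  set Bf := Finset.univ.filter (fun χ : IrrCharacter G => χ ∈ B) with hBf
  have h1 := frame_sum hM y hy H hH hind hπ N hN
  have h2 : (Bf.card : ℝ) * (Nat.totient N : ℝ) ≤ ∑ χ ∈ Bf, ∑ u : (ZMod N)ˣ,
      ‖dnum (y ^ (u : ZMod N).val) H π (χ : G → ℂ)‖ ^ 2 := by
    calc (Bf.card : ℝ) * (Nat.totient N : ℝ) = ∑ _χ ∈ Bf, (Nat.totient N : ℝ) := by
          rw [Finset.sum_const, nsmul_eq_mul]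
      _ ≤ _ := Finset.sum_le_sum fun χ hχ =>
          frame_low y H hH hπ N hN χ (hne χ (Finset.mem_filter.mp hχ).2)
  rw [h1] at h2
  have hφ : (0 : ℝ) < (Nat.totient N : ℝ) := by exact_mod_cast Nat.totient_pos.mpr hNpos
  have h3 : (Bf.card : ℝ) * (Nat.totient N : ℝ) ≤ (classInner π π).re * (Nat.totient N : ℝ) := by
    rw [mul_comm (classInner π π).re]
    exact h2
  exact le_of_mul_le_mul_right h3 hφ

open Classical in
/-- **Two test vectors**: if for every character of the block one of the two numbers does not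
vanish, then `2 k(B) ≤ [π₁, π₁] + [π₂, π₂] + [π₁ + π₂, π₁ + π₂]`. -/
theorem two_mul_card_le_of_testVec (hM : IsPModular p M) {B : Set (IrrCharacter G)} (y : G)
    (hy : ∃ k : ℕ, orderOf y = p ^ k) (H : Subgroup G)
    (hH : H = Subgroup.centralizer ({y} : Set G)) [Fintype H] [Fintype (IrrCharacter H)]
    {b : Set (IrrCharacter H)} (hind : IsInducedBlock M H b B) {π₁ π₂ : H → ℂ}
    (hπ₁ : IsTestVec p b π₁) (hπ₂ : IsTestVec p b π₂)
    (hne : ∀ χ ∈ B, dnum y H π₁ (χ : G → ℂ) ≠ 0 ∨ dnum y H π₂ (χ : G → ℂ) ≠ 0) :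
    2 * ((Finset.univ.filter (fun χ : IrrCharacter G => χ ∈ B)).card : ℝ) ≤
      (classInner π₁ π₁).re + (classInner π₂ π₂).re +
        (classInner (π₁ + π₂) (π₁ + π₂)).re := by
  set N := orderOf y with hN
  have hNpos : 0 < N := orderOf_pos y
  have : NeZero N := ⟨hNpos.ne'⟩
  set Bf := Finset.univ.filter (fun χ : IrrCharacter G => χ ∈ B) with hBf
  have hπ₃ : IsTestVec p b (π₁ + π₂) := hπ₁.add hπ₂
  have s1 := frame_sum hM y hy H hH hind hπ₁ N hN
  have s2 := frame_sum hM y hy H hH hind hπ₂ N hN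
  have s3 := frame_sum hM y hy H hH hind hπ₃ N hN
  set S : (H → ℂ) → IrrCharacter G → ℝ := fun π χ => ∑ u : (ZMod N)ˣ,
      ‖dnum (y ^ (u : ZMod N).val) H π (χ : G → ℂ)‖ ^ 2 with hS
  have hS0 : ∀ π χ, 0 ≤ S π χ := fun π χ => Finset.sum_nonneg fun u _ => by positivity
  have hlow : ∀ χ ∈ Bf, 2 * (Nat.totient N : ℝ) ≤ S π₁ χ + S π₂ χ + S (π₁ + π₂) χ := by
    intro χ hχ
    have hχB := (Finset.mem_filter.mp hχ).2
    have l1 : dnum y H π₁ (χ : G → ℂ) ≠ 0 → (Nat.totient N : ℝ) ≤ S π₁ χ :=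
      fun h => frame_low y H hH hπ₁ N hN χ h
    have l2 : dnum y H π₂ (χ : G → ℂ) ≠ 0 → (Nat.totient N : ℝ) ≤ S π₂ χ :=
      fun h => frame_low y H hH hπ₂ N hN χ h
    have l3 : dnum y H (π₁ + π₂) (χ : G → ℂ) ≠ 0 → (Nat.totient N : ℝ) ≤ S (π₁ + π₂) χ :=
      fun h => frame_low y H hH hπ₃ N hN χ h
    have e3 := dnum_add y H π₁ π₂ (χ : G → ℂ)
    have p1 := hS0 π₁ χ
    have p2 := hS0 π₂ χ
    have p3 := hS0 (π₁ + π₂) χ
    by_cases h1 : dnum y H π₁ (χ : G → ℂ) = 0
    · have h2 : dnum y H π₂ (χ : G → ℂ) ≠ 0 := (hne χ hχB).resolve_left (fun h => h h1)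
      have h3 : dnum y H (π₁ + π₂) (χ : G → ℂ) ≠ 0 := by
        rw [e3, h1, zero_add]
        exact h2
      have := l2 h2
      have := l3 h3
      linarith
    · by_cases h2 : dnum y H π₂ (χ : G → ℂ) = 0
      · have h3 : dnum y H (π₁ + π₂) (χ : G → ℂ) ≠ 0 := by
          rw [e3, h2, add_zero]
          exact h1
        have := l1 h1
        have := l3 h3
        linarith
      · have := l1 h1
        have := l2 h2
        linarith
  have h2 : (Bf.card : ℝ) * (2 * (Nat.totient N : ℝ)) ≤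
      ∑ χ ∈ Bf, (S π₁ χ + S π₂ χ + S (π₁ + π₂) χ) := by
    calc (Bf.card : ℝ) * (2 * (Nat.totient N : ℝ)) = ∑ _χ ∈ Bf, 2 * (Nat.totient N : ℝ) := by
          rw [Finset.sum_const, nsmul_eq_mul]
      _ ≤ _ := Finset.sum_le_sum hlow
  rw [Finset.sum_add_distrib, Finset.sum_add_distrib] at h2
  simp only [hS] at h2
  rw [s1, s2, s3] at h2
  have hφ : (0 : ℝ) < (Nat.totient N : ℝ) := by exact_mod_cast Nat.totient_pos.mpr hNpos
  have h3 : (2 * (Bf.card : ℝ)) * (Nat.totient N : ℝ) ≤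
      ((classInner π₁ π₁).re + (classInner π₂ π₂).re +
        (classInner (π₁ + π₂) (π₁ + π₂)).re) * (Nat.totient N : ℝ) := by
    linarith
  exact le_of_mul_le_mul_right h3 hφ

end galois

end Cfsg.Agent.Lib.Helper77.Ctb
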