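import Cfsg.Agent.Lib.Helper77.CtbL
import Cfsg.Agent.Lib.Helper77.CtbK

/-!
# Major subsections of rank two: `k(B) ≤ p^d` (helper77)

The lattice generated by the `p`-regular parts of the characters of a block `b` of rank two has a
reduced basis; the dual basis consists of test vectors, and the frame inequality for the hexagonal
form gives `k(B) ≤ p^d (a + c - h) / (a c - h²) ≤ p^d` unless the lattice is an orthogonal sum
with a vector of norm `p^{-d}`, where a local argument shows that one of the two columns never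
vanishes.
-/

set_option autoImplicit false

universe u

namespace Cfsg.Agent.Lib.Helper77.Ctb

open Cfsg Cfsg.Agent.Lib.Helper81 Cfsg.Agent.Lib.Helper74 Cfsg.Agent.Lib.Helper76
  Cfsg.Agent.Lib.Helper16 Cfsg.Agent.Lib.Helper25
open scoped ComplexConjugate

section localarg
variable {G : Type u} [Group G] [Fintype G] [Fintype (IrrCharacter G)] {p : ℕ} [Fact p.Prime]
  {M : Ideal AlgInt}

open Classical in
/-- **Local non-vanishing**: let `v` be a class function of the centralizer `H` of the `p`-element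
`z` with integral values and `ψ₀` a character of height zero of `B`.  If
`p^d [c ↦ ψ₀ (z c), v]` is a local unit, then `[c ↦ χ (z c), v] ≠ 0` for all `χ ∈ B`. -/
theorem dnum_ne_zero_of_unit (hM : IsPModular p M) {B : Set (IrrCharacter G)} {z : G}
    (H : Subgroup G) (hH : H = Subgroup.centralizer ({z} : Set G)) [Fintype H]
    (hB : ∃ χ₁ : IrrCharacter G, B = blockOf M (χ₁ : G → ℂ))
    (v : H → ℂ) (hvcl : IsClassFunction H v) (hvint : ∀ c : H, IsIntegral ℤ (v c))
    (ψ₀ : IrrCharacter G) (hψ₀ : ψ₀ ∈ B) (hh : blockHeight p B (ψ₀ : G → ℂ) = 0)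
    (hunit : ¬ MemLocalIdeal M (((p ^ blockDefect p B : ℕ) : ℂ) * dnum z H v (ψ₀ : G → ℂ)))
    (χ : IrrCharacter G) (hχ : χ ∈ B) : dnum z H v (χ : G → ℂ) ≠ 0 := by
  have hp : p.Prime := Fact.out
  have hMp : M.IsPrime := isPrime_of_isPModular hM
  have hzH : z ∈ H := by
    rw [hH, Subgroup.mem_centralizer_singleton_iff]
  set zH : H := ⟨z, hzH⟩ with hzHdef
  have hzc : zH ∈ Subgroup.center H := by
    rw [Subgroup.mem_center_iff]
    intro c
    apply Subtype.ext
    have hc : (c : G) ∈ Subgroup.centralizer ({z} : Set G) := hH ▸ c.2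
    have := Subgroup.mem_centralizer_singleton_iff.mp hc
    simp only [Subgroup.coe_mul, hzHdef]
    exact this
  -- the class function of `H` to be induced
  set θ : H → ℂ := fun h => conj (v (zH⁻¹ * h)) with hθ
  have hθcl : IsClassFunction H θ := by
    intro g h
    simp only [hθ]
    congr 1
    have hzi : zH⁻¹ ∈ Subgroup.center H := Subgroup.inv_mem _ hzc
    have e : zH⁻¹ * (h * g * h⁻¹) = h * (zH⁻¹ * g) * h⁻¹ := by
      have h1 : zH⁻¹ * h = h * zH⁻¹ := ((Subgroup.mem_center_iff.mp hzi) h).symm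
      calc zH⁻¹ * (h * g * h⁻¹) = (zH⁻¹ * h) * g * h⁻¹ := by group
        _ = (h * zH⁻¹) * g * h⁻¹ := by rw [h1]
        _ = h * (zH⁻¹ * g) * h⁻¹ := by group
    rw [e, hvcl]
  have hθR : ∀ t, MemLocalRing M (θ t) := fun t =>
    memLocalRing_algInt hMp ⟨_, map_isIntegral_int (starRingEnd ℂ) (hvint _)⟩
  set a : G → ℂ := indFun H θ with ha
  have hacl : IsClassFunction G a := indFun_isClassFunction H θ
  have haS : ∀ g, MemLocalRing M (a g) := fun g => memLocalRing_indFun H hMp hθcl hθR g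
  have hnH : (Nat.card H : ℂ) ≠ 0 := Nat.cast_ne_zero.mpr Nat.card_pos.ne'
  have hsum : ∀ φ : IrrCharacter G, ∑ g : G, a g * (φ : G → ℂ) g =
      (Nat.card G : ℂ) * dnum z H v (φ : G → ℂ) := by
    intro φ
    have hφcl : IsClassFunction G (φ : G → ℂ) := isClassFunction_of_isCharacter φ.2
    have h1 := sum_mul_indFun H θ hφcl
    have h2 : ∑ t : H, (φ : G → ℂ) t * θ t =
        ∑ c : H, (φ : G → ℂ) (z * (c : G)) * conj (v c) := by
      refine Fintype.sum_equiv (Equiv.mulLeft zH⁻¹) _ _ ?_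
      intro t
      simp only [Equiv.coe_mulLeft, hθ]
      congr 2
      simp [hzHdef]
    unfold dnum classInner
    rw [← h2]
    calc ∑ g : G, a g * (φ : G → ℂ) g = ∑ g : G, (φ : G → ℂ) g * indFun H θ g :=
          Finset.sum_congr rfl fun g _ => mul_comm _ _
      _ = _ := by
          rw [h1]
          ring
  have homega : ∀ φ : IrrCharacter G, omega (φ : G → ℂ) a =
      (Nat.card G : ℂ) * dnum z H v (φ : G → ℂ) / (φ : G → ℂ) 1 := by
    intro φ
    unfold omega
    rw [hsum φ]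
  intro h0
  have hsame : SameBlock M (χ : G → ℂ) (ψ₀ : G → ℂ) := by
    obtain ⟨χ₁, hχ₁⟩ := hB
    rw [hχ₁] at hχ hψ₀
    exact sameBlock_trans hMp (sameBlock_symm hχ) hψ₀
  have key := memLocalIdeal_omega_sub hMp (isClassFunction_of_isCharacter χ.2)
    (isClassFunction_of_isCharacter ψ₀.2) hsame hacl haS
  rw [homega χ, homega ψ₀, h0, mul_zero, zero_div, zero_sub] at key
  have key2 := memLocalIdeal_neg key
  rw [neg_neg] at key2
  -- the degree of `ψ₀`
  obtain ⟨f, hf0, hf1, hf2, hf3⟩ := irr_degree_spec ψ₀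
  have hval : f.factorization p = minDegVal p B := by
    rw [← hf2]
    exact val_eq_of_height_zero p hψ₀ hh
  have hdB : blockDefect p B = (Nat.card G).factorization p - minDegVal p B := blockDefect_eq p B
  have hle : minDegVal p B ≤ (Nat.card G).factorization p := minDegVal_le_card p ⟨ψ₀, hψ₀⟩
  set dB := blockDefect p B with hdBdef
  have hn : Nat.card G = p ^ (f.factorization p + dB) *
      (Nat.card G / p ^ (Nat.card G).factorization p) := by
    have e : f.factorization p + dB = (Nat.card G).factorization p := by omega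
    rw [e]
    exact (Nat.ordProj_mul_ordCompl_eq_self (Nat.card G) p).symm
  have hf : f = p ^ f.factorization p * (f / p ^ f.factorization p) :=
    (Nat.ordProj_mul_ordCompl_eq_self f p).symm
  have hn' : ¬ p ∣ Nat.card G / p ^ (Nat.card G).factorization p :=
    Nat.not_dvd_ordCompl hp Nat.card_pos.ne'
  set n' := Nat.card G / p ^ (Nat.card G).factorization p with hn'def
  set f' := f / p ^ f.factorization p with hf'def
  have hf'0 : (f' : ℂ) ≠ 0 := by
    intro h
    have : f' = 0 := by exact_mod_cast h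
    rw [this, mul_zero] at hf
    omega
  have hp0 : (p : ℂ) ≠ 0 := by exact_mod_cast hp.ne_zero
  have e1 : (f' : ℂ) * ((Nat.card G : ℂ) * dnum z H v (ψ₀ : G → ℂ) /
      (ψ₀ : G → ℂ) 1) = (n' : ℂ) * (((p ^ dB : ℕ) : ℂ) * dnum z H v (ψ₀ : G → ℂ)) := by
    rw [hf1]
    have hfC : (f : ℂ) = (p : ℂ) ^ f.factorization p * (f' : ℂ) := by
      conv_lhs => rw [hf]
      push_cast
      ring
    have hnC : (Nat.card G : ℂ) = (p : ℂ) ^ (f.factorization p + dB) * (n' : ℂ) := by
      conv_lhs => rw [hn]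
      push_cast
      ring
    rw [hfC, hnC, pow_add]
    push_cast
    field_simp
  have key3 := memLocalIdeal_mul_left hMp (memLocalRing_natCast hMp f') key2
  rw [e1] at key3
  have key4 := memLocalIdeal_of_mul_of_not_memLocalIdeal hMp (memLocalRing_natCast hMp n')
    (fun h => hn' ((memLocalIdeal_natCast_iff hM n').1 h)) key3
  exact hunit key4

end localarg

section major
variable {G : Type u} [Group G] [Fintype G] [Fintype (IrrCharacter G)] {p : ℕ} [Fact p.Prime]
  {M : Ideal AlgInt}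

open Classical in
/-- for a major subsection every diagonal contribution is non-zero -/
theorem ctb_self_ne_zero (hM : IsPModular p M) {B : Set (IrrCharacter G)} {z : G}
    (hz : ∃ k : ℕ, orderOf z = p ^ k)
    (H : Subgroup G) (hH : H = Subgroup.centralizer ({z} : Set G)) [Fintype H]
    [Fintype (IrrCharacter H)] (ξ₀ : IrrCharacter H)
    (hind : IsInducedBlock M H (blockOf M (ξ₀ : H → ℂ)) B)
    (hdef : blockDefect p (blockOf M (ξ₀ : H → ℂ)) = blockDefect p B)
    (χ : IrrCharacter G) (hχ : χ ∈ B) :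
    ctb p z H (blockOf M (ξ₀ : H → ℂ)) (χ : G → ℂ) (χ : G → ℂ) ≠ 0 := by
  have hMp : M.IsPrime := isPrime_of_isPModular hM
  have hBne : B.Nonempty := by
    obtain ⟨χ₁, hχ₁⟩ := hind.2.1
    exact ⟨χ₁, hχ₁ ▸ sameBlock_refl hMp _⟩
  obtain ⟨ψ₀, hψ₀, hψ₀v⟩ := exists_minDegVal p hBne
  have hh0 : blockHeight p B (ψ₀ : G → ℂ) = 0 := by
    rw [blockHeight_eq, hψ₀v, Nat.sub_self]
  intro h0
  have h1 := sum_ctb_mul_conj hM hz H hH ξ₀ hind (χ : G → ℂ)
  rw [h0] at h1
  have h2 : ∀ ψ ∈ Finset.univ.filter (fun ψ : IrrCharacter G => ψ ∈ B),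
      ctb p z H (blockOf M (ξ₀ : H → ℂ)) (χ : G → ℂ) (ψ : G → ℂ) *
        conj (ctb p z H (blockOf M (ξ₀ : H → ℂ)) (χ : G → ℂ) (ψ : G → ℂ)) =
      ((‖ctb p z H (blockOf M (ξ₀ : H → ℂ)) (χ : G → ℂ) (ψ : G → ℂ)‖ ^ 2 : ℝ) : ℂ) := by
    intro ψ _
    rw [Complex.mul_conj, Complex.normSq_eq_norm_sq]
  rw [Finset.sum_congr rfl h2, ← Complex.ofReal_sum] at h1
  have h3 : ∑ ψ ∈ Finset.univ.filter (fun ψ : IrrCharacter G => ψ ∈ B),
      ‖ctb p z H (blockOf M (ξ₀ : H → ℂ)) (χ : G → ℂ) (ψ : G → ℂ)‖ ^ 2 = 0 := by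
    exact_mod_cast h1
  have h4 := (Finset.sum_eq_zero_iff_of_nonneg (fun ψ _ => by positivity)).mp h3 ψ₀
    (Finset.mem_filter.mpr ⟨Finset.mem_univ _, hψ₀⟩)
  have h5 : ctb p z H (blockOf M (ξ₀ : H → ℂ)) (χ : G → ℂ) (ψ₀ : G → ℂ) = 0 := by
    have := pow_eq_zero_iff (two_ne_zero) |>.mp h4
    exact norm_eq_zero.mp this
  have h6 := ctb_ne_zero hM hz H hH ξ₀ hind hdef ψ₀ hψ₀ hh0 χ hχ
  apply h6
  rw [← ctb_conj_symm, h5, map_zero]

/-- the scaled diagonal contribution of a character of height zero is a local unit -/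
theorem ctb_self_unit (hM : IsPModular p M) {B : Set (IrrCharacter G)} {z : G}
    (hz : ∃ k : ℕ, orderOf z = p ^ k)
    (H : Subgroup G) (hH : H = Subgroup.centralizer ({z} : Set G)) [Fintype H]
    [Fintype (IrrCharacter H)] (ξ₀ : IrrCharacter H)
    (hind : IsInducedBlock M H (blockOf M (ξ₀ : H → ℂ)) B)
    (ψ₀ : IrrCharacter G) (hψ₀ : ψ₀ ∈ B) (hh : blockHeight p B (ψ₀ : G → ℂ) = 0) :
    ¬ MemLocalIdeal M (((p ^ blockDefect p (blockOf M (ξ₀ : H → ℂ)) : ℕ) : ℂ) *
      ctb p z H (blockOf M (ξ₀ : H → ℂ)) (ψ₀ : G → ℂ) (ψ₀ : G → ℂ)) := by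
  set b := blockOf M (ξ₀ : H → ℂ) with hb
  obtain ⟨k, hk⟩ := hz
  have hzH : z ∈ H := by
    rw [hH, Subgroup.mem_centralizer_singleton_iff]
  set zH : H := ⟨z, hzH⟩ with hzHdef
  have hzc : zH ∈ Subgroup.center H := by
    rw [Subgroup.mem_center_iff]
    intro c
    apply Subtype.ext
    have hc : (c : G) ∈ Subgroup.centralizer ({z} : Set G) := hH ▸ c.2
    have := Subgroup.mem_centralizer_singleton_iff.mp hc
    simp only [Subgroup.coe_mul, hzHdef]
    exact this
  have hzk : zH ^ (p ^ k) = 1 := by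
    apply Subtype.ext
    simp only [Subgroup.coe_pow, Subgroup.coe_one, hzHdef]
    rw [← hk]
    exact pow_orderOf_eq_one z
  have hres : IsCharacter H (fun c : H => (ψ₀ : G → ℂ) (c : G)) :=
    Cfsg.Agent.Lib.Helper3.IsCharacter.restrict
      (Cfsg.Agent.Lib.Helper3.IsIrrCharacter.isCharacter ψ₀.2) _
  have hU : ∀ ξ₁ ∈ b, ¬ MemLocalIdeal M
      (classInner (pTilde p (fun c : H => (ψ₀ : G → ℂ) (c : G))) (ξ₁ : H → ℂ) /
        (ξ₁ : H → ℂ) 1) := by
    intro ξ₁ hξ₁
    exact (Cfsg.Agent.S4431.result p M hM H b B hind ψ₀ ξ₁ hξ₁).2 hψ₀ hh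
  have hunit := (cval_unit hM ξ₀ zH hzc k hzk _ _ hres hres hU hU).2
  have hc := ctb_eq_cval (p := p) z H hzH b (ψ₀ : G → ℂ) (ψ₀ : G → ℂ) 1
  rw [pow_one, pow_one] at hc
  rw [← hb, ← hc] at hunit
  exact hunit

end major

section latvec
variable {H : Type u} [Group H] [Fintype H] [Fintype (IrrCharacter H)]

/-- the relevant properties of the vectors of the lattice of `p`-regular parts -/
structure IsLatVec (p : ℕ) (b : Set (IrrCharacter H)) (x : H → ℂ) : Prop where
  cls : IsClassFunction H x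
  sing : ∀ c : H, p ∣ orderOf c → x c = 0
  out : ∀ ξ' : IrrCharacter H, ξ' ∉ b → classInner (ξ' : H → ℂ) x = 0
  integral : ∀ c : H, IsIntegral ℤ (x c)

omit [Fintype (IrrCharacter H)] in
theorem classInner_pRegularPart_right (p : ℕ) (f g : H → ℂ) :
    classInner (pRegularPart p f) (pRegularPart p g) = classInner (pRegularPart p f) g := by
  classical
  unfold classInner
  congr 1
  refine Finset.sum_congr rfl fun x _ => ?_
  rw [Cfsg.Agent.Lib.Helper77.pRegularPart_apply, Cfsg.Agent.Lib.Helper77.pRegularPart_apply]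
  by_cases hx : p ∣ orderOf x
  · rw [if_neg (fun h => h hx), zero_mul, zero_mul]
  · rw [if_pos hx, if_pos hx]

omit [Fintype (IrrCharacter H)] in
/-- against a function vanishing at the `p`-singular elements only the `p`-regular part counts -/
theorem classInner_eq_pRegularPart_left (p : ℕ) (f : H → ℂ) {π : H → ℂ}
    (hπ : ∀ c : H, p ∣ orderOf c → π c = 0) :
    classInner f π = classInner (pRegularPart p f) π := by
  classical
  unfold classInner
  congr 1
  refine Finset.sum_congr rfl fun x _ => ?_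
  rw [Cfsg.Agent.Lib.Helper77.pRegularPart_apply]
  by_cases hx : p ∣ orderOf x
  · rw [if_neg (fun h => h hx), hπ x hx, map_zero, mul_zero, mul_zero]
  · rw [if_pos hx]

theorem isLatVec_gen {p : ℕ} [Fact p.Prime] {M : Ideal AlgInt} (hM : IsPModular p M)
    (ξ₀ : IrrCharacter H) (ξ : IrrCharacter H) (hξ : ξ ∈ blockOf M (ξ₀ : H → ℂ)) :
    IsLatVec p (blockOf M (ξ₀ : H → ℂ)) (pRegularPart p (ξ : H → ℂ)) where
  cls := pRegularPart_isClassFunction p (isClassFunction_of_isCharacter ξ.2)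
  sing := fun c hc => by
    classical
    rw [Cfsg.Agent.Lib.Helper77.pRegularPart_apply, if_neg (fun h => h hc)]
  out := fun ξ' hξ' => by
    classical
    have hMp : M.IsPrime := isPrime_of_isPModular hM
    have hns : ¬ SameBlock M (ξ' : H → ℂ) (ξ : H → ℂ) := by
      intro hs
      exact hξ' (sameBlock_trans hMp hξ (sameBlock_symm hs))
    have h1 := Cfsg.Agent.S0952.orth_regular p M hM ξ' ξ hns
    unfold classInner
    have h2 : ∑ g : H, (ξ' : H → ℂ) g * conj (pRegularPart p (ξ : H → ℂ) g) =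
        ∑ x ∈ Finset.univ.filter (fun x : H => ¬ p ∣ orderOf x),
          (ξ' : H → ℂ) x * conj ((ξ : H → ℂ) x) := by
      rw [Finset.sum_filter]
      refine Finset.sum_congr rfl fun g _ => ?_
      rw [Cfsg.Agent.Lib.Helper77.pRegularPart_apply]
      by_cases hg : p ∣ orderOf g
      · rw [if_neg (fun h => h hg), if_neg (fun h => h hg), map_zero, mul_zero]
      · rw [if_pos hg, if_pos hg]
    rw [h2, h1, mul_zero]
  integral := fun c => by
    classical
    rw [Cfsg.Agent.Lib.Helper77.pRegularPart_apply]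
    by_cases hc : p ∣ orderOf c
    · rw [if_neg (fun h => h hc)]
      exact isIntegral_zero
    · rw [if_pos hc]
      exact Cfsg.Agent.Lib.Helper80.irr_isIntegral ξ c

theorem isLatVec_closure {p : ℕ} {b : Set (IrrCharacter H)} {ι : Type*} (v : ι → H → ℂ)
    (hv : ∀ i, IsLatVec p b (v i)) :
    ∀ x ∈ AddSubgroup.closure (Set.range v), IsLatVec p b x := by
  intro x hx
  induction hx using AddSubgroup.closure_induction with
  | mem x hx =>
    obtain ⟨i, rfl⟩ := hx
    exact hv i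
  | zero =>
    exact ⟨fun g h => rfl, fun c _ => rfl,
      fun ξ' _ => Cfsg.Agent.Lib.Helper3.classInner_zero_right _, fun c => isIntegral_zero⟩
  | add x₁ x₂ _ _ h₁ h₂ =>
    refine ⟨fun g h => ?_, fun c hc => ?_, fun ξ' hξ' => ?_, fun c => ?_⟩
    · simp only [Pi.add_apply]
      rw [h₁.cls g h, h₂.cls g h]
    · rw [Pi.add_apply, h₁.sing c hc, h₂.sing c hc, add_zero]
    · rw [Cfsg.Agent.Lib.Helper3.classInner_add_right, h₁.out ξ' hξ', h₂.out ξ' hξ', add_zero]
    · exact IsIntegral.add (h₁.integral c) (h₂.integral c)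
  | neg x _ h₁ =>
    refine ⟨fun g h => ?_, fun c hc => ?_, fun ξ' hξ' => ?_, fun c => ?_⟩
    · simp only [Pi.neg_apply]
      rw [h₁.cls g h]
    · rw [Pi.neg_apply, h₁.sing c hc, neg_zero]
    · have : -x = (0 : H → ℂ) - x := (zero_sub x).symm
      rw [this, Cfsg.Agent.Lib.Helper3.classInner_sub_right,
        Cfsg.Agent.Lib.Helper3.classInner_zero_right, h₁.out ξ' hξ', sub_zero]
    · exact IsIntegral.neg (h₁.integral c)

/-- combinations of two lattice vectors with integral inner products with them are test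
vectors -/
theorem isTestVec_comb {p : ℕ} {b : Set (IrrCharacter H)} {β₁ β₂ : H → ℂ}
    (h₁ : IsLatVec p b β₁) (h₂ : IsLatVec p b β₂)
    (hexp : ∀ ξ ∈ b, ∃ n₁ n₂ : ℤ,
      pRegularPart p (ξ : H → ℂ) = (n₁ : ℂ) • β₁ + (n₂ : ℂ) • β₂)
    (s t : ℂ) (hi₁ : ∃ n : ℤ, classInner β₁ (s • β₁ + t • β₂) = (n : ℂ))
    (hi₂ : ∃ n : ℤ, classInner β₂ (s • β₁ + t • β₂) = (n : ℂ)) :
    IsTestVec p b (s • β₁ + t • β₂) := by
  have hsing : ∀ c : H, p ∣ orderOf c → (s • β₁ + t • β₂) c = 0 := by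
    intro c hc
    simp only [Pi.add_apply, Pi.smul_apply, smul_eq_mul]
    rw [h₁.sing c hc, h₂.sing c hc, mul_zero, mul_zero, add_zero]
  have hout : ∀ ξ : IrrCharacter H, ξ ∉ b → classInner (ξ : H → ℂ) (s • β₁ + t • β₂) = 0 := by
    intro ξ hξ
    rw [Cfsg.Agent.Lib.Helper3.classInner_add_right,
      Cfsg.Agent.Lib.Helper3.classInner_smul_right, Cfsg.Agent.Lib.Helper3.classInner_smul_right,
      h₁.out ξ hξ, h₂.out ξ hξ, mul_zero, mul_zero, add_zero]
  refine ⟨fun g h => ?_, hsing, fun ξ => ?_, hout⟩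
  · simp only [Pi.add_apply, Pi.smul_apply, smul_eq_mul]
    rw [h₁.cls g h, h₂.cls g h]
  · by_cases hξ : ξ ∈ b
    · obtain ⟨n₁, n₂, hn⟩ := hexp ξ hξ
      obtain ⟨m₁, hm₁⟩ := hi₁
      obtain ⟨m₂, hm₂⟩ := hi₂
      refine ⟨n₁ * m₁ + n₂ * m₂, ?_⟩
      rw [classInner_eq_pRegularPart_left p _ hsing, hn,
        Cfsg.Agent.Lib.Helper3.classInner_add_left, Cfsg.Agent.Lib.Helper3.classInner_smul_left,
        Cfsg.Agent.Lib.Helper3.classInner_smul_left, hm₁, hm₂]
      push_cast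
      ring
    · exact ⟨0, by rw [hout ξ hξ, Int.cast_zero]⟩

end latvec

section ranktwo
variable {G : Type u} [Group G] [Fintype G] [Fintype (IrrCharacter G)] {p : ℕ} [Fact p.Prime]
  {M : Ideal AlgInt}

omit [Fintype (IrrCharacter G)] [Fact p.Prime] in
theorem dnum_comb (z : G) (H : Subgroup G) [Fintype H] (β₁ β₂ : H → ℂ) (s t : ℂ) (ψ : G → ℂ) :
    dnum z H (s • β₁ + t • β₂) ψ = conj s * dnum z H β₁ ψ + conj t * dnum z H β₂ ψ := by
  unfold dnum
  rw [Cfsg.Agent.Lib.Helper3.classInner_add_right, Cfsg.Agent.Lib.Helper3.classInner_smul_right,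
    Cfsg.Agent.Lib.Helper3.classInner_smul_right]

omit [Fintype (IrrCharacter G)] [Fact p.Prime] in
open Classical in
/-- the `p`-regular section part lies in the complex span of a basis of the lattice -/
theorem secPart_regular_mem_span (z : G) (H : Subgroup G) [Fintype H]
    [Fintype (IrrCharacter H)] (b : Set (IrrCharacter H)) (χ : G → ℂ) {β₁ β₂ : H → ℂ}
    (hexp : ∀ ξ ∈ b, ∃ n₁ n₂ : ℤ,
      pRegularPart p (ξ : H → ℂ) = (n₁ : ℂ) • β₁ + (n₂ : ℂ) • β₂) :
    ∃ S T : ℂ, pRegularPart p (secPart z H b χ) = S • β₁ + T • β₂ := by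
  have key : ∀ ξ : IrrCharacter H, ∃ n₁ n₂ : ℤ, ξ ∈ b →
      pRegularPart p (ξ : H → ℂ) = (n₁ : ℂ) • β₁ + (n₂ : ℂ) • β₂ := by
    intro ξ
    by_cases hξ : ξ ∈ b
    · obtain ⟨n₁, n₂, h⟩ := hexp ξ hξ
      exact ⟨n₁, n₂, fun _ => h⟩
    · exact ⟨0, 0, fun h => absurd h hξ⟩
  choose n₁ n₂ hn using key
  set bf := Finset.univ.filter (fun ξ : IrrCharacter H => ξ ∈ b) with hbf
  set cf : IrrCharacter H → ℂ := fun ξ =>
    classInner (fun c : H => χ (z * (c : G))) (ξ : H → ℂ) with hcf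
  have e1 : secPart z H b χ = ∑ ξ ∈ bf, cf ξ • (ξ : H → ℂ) := by
    funext g
    rw [secPart_apply, Finset.sum_apply]
    rfl
  refine ⟨∑ ξ ∈ bf, cf ξ * (n₁ ξ : ℂ), ∑ ξ ∈ bf, cf ξ * (n₂ ξ : ℂ), ?_⟩
  rw [e1, pRegularPart_sum, Finset.sum_smul, Finset.sum_smul, ← Finset.sum_add_distrib]
  refine Finset.sum_congr rfl fun ξ hξ => ?_
  rw [hn ξ (Finset.mem_filter.mp hξ).2, smul_add, smul_smul, smul_smul]

end ranktwo

end Cfsg.Agent.Lib.Helper77.Ctb
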