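import Cfsg.Agent.Lib.Helper77.CtbM

/-!
# Major subsections of rank two: the theorem `k(B) ≤ p^d` (helper77)
-/

set_option autoImplicit false

universe u

namespace Cfsg.Agent.Lib.Helper77.Ctb

open Cfsg Cfsg.Agent.Lib.Helper81 Cfsg.Agent.Lib.Helper74 Cfsg.Agent.Lib.Helper76
  Cfsg.Agent.Lib.Helper16 Cfsg.Agent.Lib.Helper25
open scoped ComplexConjugate

section ranktwo
variable {G : Type u} [Group G] [Fintype G] [Fintype (IrrCharacter G)] {p : ℕ} [Fact p.Prime]
  {M : Ideal AlgInt}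

/-- the arithmetic of reduced forms -/
theorem reduced_form_ineq (a c h : ℤ) (h0 : 0 ≤ h) (h1 : 2 * h ≤ a) (h2 : a ≤ c) (h3 : 2 ≤ a) :
    a + c - h ≤ a * c - h * h := by
  obtain ⟨e, rfl⟩ : ∃ e, c = a + e := ⟨c - a, by ring⟩
  obtain ⟨f, rfl⟩ : ∃ f, a = 2 * h + f := ⟨a - 2 * h, by ring⟩
  have he : 0 ≤ e := by linarith
  have hf : 0 ≤ f := by linarith
  rcases h0.eq_or_lt with hz | hpos
  · subst hz
    have hf2 : 2 ≤ f := by linarith
    nlinarith [mul_nonneg he (by linarith : (0 : ℤ) ≤ f - 1), mul_nonneg hf (by linarith : (0 : ℤ) ≤ f - 2)]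
  · have h1' : 1 ≤ h := hpos
    nlinarith [mul_nonneg he (by linarith : (0 : ℤ) ≤ 2 * h + f - 1), mul_nonneg hf hf,
      mul_nonneg hf (by linarith : (0 : ℤ) ≤ h - 1), mul_nonneg h0 (by linarith : (0 : ℤ) ≤ h - 1),
      mul_nonneg hf h0]

open Classical in
/-- **Major subsections of rank two**: `k(B) ≤ p^d`. -/
theorem card_le_of_rank_two_core (hM : IsPModular p M) {B : Set (IrrCharacter G)}
    (y : G) (hy : ∃ k : ℕ, orderOf y = p ^ k)
    (H : Subgroup G) (hH : H = Subgroup.centralizer ({y} : Set G)) [Fintype H]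
    [Fintype (IrrCharacter H)] (ξ₀ : IrrCharacter H)
    (hind : IsInducedBlock M H (blockOf M (ξ₀ : H → ℂ)) B)
    (hdef : blockDefect p (blockOf M (ξ₀ : H → ℂ)) = blockDefect p B)
    (hl : blockRank p (blockOf M (ξ₀ : H → ℂ)) = 2) :
    (Finset.univ.filter (fun χ : IrrCharacter G => χ ∈ B)).card ≤ p ^ blockDefect p B := by
  have hp : p.Prime := Fact.out
  have hMp : M.IsPrime := isPrime_of_isPModular hM
  set b := blockOf M (ξ₀ : H → ℂ) with hb
  set d := blockDefect p b with hd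
  set q : ℕ := p ^ d with hq
  have hqpos : 0 < q := pow_pos hp.pos d
  set Bf := Finset.univ.filter (fun χ : IrrCharacter G => χ ∈ B) with hBf
  -- the lattice
  set v : {ξ : IrrCharacter H // ξ ∈ b} → H → ℂ := fun ξ => pRegularPart p (ξ.1 : H → ℂ) with hv
  have hint : ∀ i j, ∃ n : ℤ, (q : ℂ) * classInner (v i) (v j) = (n : ℂ) := by
    intro i j
    obtain ⟨n, hn⟩ := pow_defect_mul_classInner_pRegularPart_int p b i.1 j.1 i.2
    refine ⟨n, ?_⟩
    rw [hv]
    simp only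
    rw [classInner_pRegularPart_right, ← hn, hq]
    push_cast
    rfl
  have hrange : Set.range v = (fun χ : IrrCharacter H => pRegularPart p (χ : H → ℂ)) '' b := by
    ext f
    constructor
    · rintro ⟨ξ, rfl⟩
      exact ⟨ξ.1, ξ.2, rfl⟩
    · rintro ⟨ξ, hξ, rfl⟩
      exact ⟨⟨ξ, hξ⟩, rfl⟩
  have hrank : Module.finrank ℂ (Submodule.span ℂ (Set.range v)) = 2 := by
    rw [hrange]
    exact hl
  obtain ⟨β₁, β₂, a, c, h, hβ₁Λ, hβ₂Λ, hA, hHh, hC, hh0, hh1, hac, ha1, hcoord⟩ :=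
    exists_reduced_basis v q hqpos hint hrank
  have hgenlat : ∀ i, IsLatVec p b (v i) := fun i => isLatVec_gen hM ξ₀ i.1 i.2
  have hL₁ : IsLatVec p b β₁ := isLatVec_closure v hgenlat β₁ hβ₁Λ
  have hL₂ : IsLatVec p b β₂ := isLatVec_closure v hgenlat β₂ hβ₂Λ
  have hexp : ∀ ξ ∈ b, ∃ n₁ n₂ : ℤ,
      pRegularPart p (ξ : H → ℂ) = (n₁ : ℂ) • β₁ + (n₂ : ℂ) • β₂ := by
    intro ξ hξ
    exact hcoord (v ⟨ξ, hξ⟩) (AddSubgroup.subset_closure ⟨⟨ξ, hξ⟩, rfl⟩)
  have hHh' : (q : ℂ) * classInner β₂ β₁ = (h : ℂ) := by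
    rw [Cfsg.Agent.Lib.Helper3.classInner_conj_symm, ← Complex.conj_natCast q, ← map_mul, hHh,
      map_intCast]
  -- real quantities
  set qR : ℝ := (q : ℝ) with hqR
  set aR : ℝ := (a : ℝ) with haR
  set cR : ℝ := (c : ℝ) with hcR
  set hR : ℝ := (h : ℝ) with hhR
  have hqRpos : 0 < qR := by rw [hqR]; exact_mod_cast hqpos
  have haR1 : 1 ≤ aR := by rw [haR]; exact_mod_cast ha1
  have hacR : aR ≤ cR := by rw [haR, hcR]; exact_mod_cast hac
  have hh0R : 0 ≤ hR := by rw [hhR]; exact_mod_cast hh0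
  have hh1R : 2 * hR ≤ aR := by rw [hhR, haR]; exact_mod_cast hh1
  set Δ : ℝ := aR * cR - hR * hR with hΔ
  have hΔpos : 0 < Δ := by rw [hΔ]; nlinarith
  have hq0 : (q : ℂ) ≠ 0 := Nat.cast_ne_zero.mpr hqpos.ne'
  have hΔne : Δ ≠ 0 := hΔpos.ne'
  have hqRne : qR ≠ 0 := hqRpos.ne'
  -- the form on real combinations
  have hform : ∀ s t s' t' : ℝ, classInner ((s : ℂ) • β₁ + (t : ℂ) • β₂)
      ((s' : ℂ) • β₁ + (t' : ℂ) • β₂) =
      (((s * s' * aR + (s * t' + t * s') * hR + t * t' * cR) / qR : ℝ) : ℂ) := by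
    intro s t s' t'
    have h1 := lat_form_comb hA hHh hHh' hC (s : ℂ) (t : ℂ) (s' : ℂ) (t' : ℂ)
    rw [Complex.conj_ofReal, Complex.conj_ofReal] at h1
    have h2 : classInner ((s : ℂ) • β₁ + (t : ℂ) • β₂) ((s' : ℂ) • β₁ + (t' : ℂ) • β₂) =
        ((s : ℂ) * (s' : ℂ) * (a : ℂ) + (s : ℂ) * (t' : ℂ) * (h : ℂ) +
          (t : ℂ) * (s' : ℂ) * (h : ℂ) + (t : ℂ) * (t' : ℂ) * (c : ℂ)) / (q : ℂ) := by
      rw [← h1]
      field_simp
    rw [h2, hqR, haR, hcR, hhR]
    push_cast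
    ring
  have hone : ∀ x : H → ℂ, x = ((1 : ℝ) : ℂ) • x := fun x => by
    rw [Complex.ofReal_one, one_smul]
  have hβ₁e : β₁ = ((1 : ℝ) : ℂ) • β₁ + ((0 : ℝ) : ℂ) • β₂ := by
    rw [Complex.ofReal_one, Complex.ofReal_zero, one_smul, zero_smul, add_zero]
  have hβ₂e : β₂ = ((0 : ℝ) : ℂ) • β₁ + ((1 : ℝ) : ℂ) • β₂ := by
    rw [Complex.ofReal_one, Complex.ofReal_zero, one_smul, zero_smul, zero_add]
  -- the dual basis
  obtain ⟨s₁, hs₁⟩ : ∃ s₁ : ℝ, s₁ = qR * cR / Δ := ⟨_, rfl⟩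
  obtain ⟨t₁, ht₁⟩ : ∃ t₁ : ℝ, t₁ = -(qR * hR / Δ) := ⟨_, rfl⟩
  obtain ⟨s₂, hs₂⟩ : ∃ s₂ : ℝ, s₂ = -(qR * hR / Δ) := ⟨_, rfl⟩
  obtain ⟨t₂, ht₂⟩ : ∃ t₂ : ℝ, t₂ = qR * aR / Δ := ⟨_, rfl⟩
  obtain ⟨π₁, hπ₁⟩ : ∃ π₁ : H → ℂ, π₁ = (s₁ : ℂ) • β₁ + (t₁ : ℂ) • β₂ := ⟨_, rfl⟩
  obtain ⟨π₂, hπ₂⟩ : ∃ π₂ : H → ℂ, π₂ = (s₂ : ℂ) • β₁ + (t₂ : ℂ) • β₂ := ⟨_, rfl⟩
  have hB11 : classInner β₁ π₁ = 1 := by
    conv_lhs => rw [hβ₁e]
    rw [hπ₁, hform]
    have : (1 * s₁ * aR + (1 * t₁ + 0 * s₁) * hR + 0 * t₁ * cR) / qR = 1 := by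
      rw [hs₁, ht₁]
      field_simp
      rw [hΔ]
      ring
    rw [this, Complex.ofReal_one]
  have hB21 : classInner β₂ π₁ = 0 := by
    conv_lhs => rw [hβ₂e]
    rw [hπ₁, hform]
    have : (0 * s₁ * aR + (0 * t₁ + 1 * s₁) * hR + 1 * t₁ * cR) / qR = 0 := by
      rw [hs₁, ht₁]
      field_simp
      rw [hΔ]
      ring
    rw [this, Complex.ofReal_zero]
  have hB12 : classInner β₁ π₂ = 0 := by
    conv_lhs => rw [hβ₁e]
    rw [hπ₂, hform]
    have : (1 * s₂ * aR + (1 * t₂ + 0 * s₂) * hR + 0 * t₂ * cR) / qR = 0 := by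
      rw [hs₂, ht₂]
      field_simp
      rw [hΔ]
      ring
    rw [this, Complex.ofReal_zero]
  have hB22 : classInner β₂ π₂ = 1 := by
    conv_lhs => rw [hβ₂e]
    rw [hπ₂, hform]
    have : (0 * s₂ * aR + (0 * t₂ + 1 * s₂) * hR + 1 * t₂ * cR) / qR = 1 := by
      rw [hs₂, ht₂]
      field_simp
      rw [hΔ]
      ring
    rw [this, Complex.ofReal_one]
  have hT₁ : IsTestVec p b π₁ := by
    rw [hπ₁]
    exact isTestVec_comb hL₁ hL₂ hexp _ _ ⟨1, by rw [← hπ₁, hB11, Int.cast_one]⟩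
      ⟨0, by rw [← hπ₁, hB21, Int.cast_zero]⟩
  have hT₂ : IsTestVec p b π₂ := by
    rw [hπ₂]
    exact isTestVec_comb hL₁ hL₂ hexp _ _ ⟨0, by rw [← hπ₂, hB12, Int.cast_zero]⟩
      ⟨1, by rw [← hπ₂, hB22, Int.cast_one]⟩
  have hN1 : (classInner π₁ π₁).re = qR * cR / Δ := by
    rw [hπ₁, hform, Complex.ofReal_re, hs₁, ht₁]
    field_simp
    rw [hΔ]
    ring
  have hN2 : (classInner π₂ π₂).re = qR * aR / Δ := by
    rw [hπ₂, hform, Complex.ofReal_re, hs₂, ht₂]
    field_simp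
    rw [hΔ]
    ring
  have hN3 : (classInner (π₁ + π₂) (π₁ + π₂)).re = qR * (aR + cR - 2 * hR) / Δ := by
    have e : π₁ + π₂ = ((s₁ + s₂ : ℝ) : ℂ) • β₁ + ((t₁ + t₂ : ℝ) : ℂ) • β₂ := by
      rw [hπ₁, hπ₂]
      push_cast
      module
    rw [e, hform, Complex.ofReal_re, hs₁, ht₁, hs₂, ht₂]
    field_simp
    rw [hΔ]
    ring
  -- the numbers of the dual basis are the coordinates of the section parts
  have hcoordw : ∀ χ : IrrCharacter G, ∃ S T : ℂ,
      pRegularPart p (secPart y H b (χ : G → ℂ)) = S • β₁ + T • β₂ ∧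
      dnum y H π₁ (χ : G → ℂ) = S ∧ dnum y H π₂ (χ : G → ℂ) = T := by
    intro χ
    obtain ⟨S, T, hST⟩ := secPart_regular_mem_span (p := p) y H b (χ : G → ℂ) hexp
    refine ⟨S, T, hST, ?_, ?_⟩
    · rw [dnum_eq_secPart y H hH hT₁ χ, hST, Cfsg.Agent.Lib.Helper3.classInner_add_left,
        Cfsg.Agent.Lib.Helper3.classInner_smul_left, Cfsg.Agent.Lib.Helper3.classInner_smul_left,
        hB11, hB21, mul_one, mul_zero, add_zero]
    · rw [dnum_eq_secPart y H hH hT₂ χ, hST, Cfsg.Agent.Lib.Helper3.classInner_add_left,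
        Cfsg.Agent.Lib.Helper3.classInner_smul_left, Cfsg.Agent.Lib.Helper3.classInner_smul_left,
        hB12, hB22, mul_one, mul_zero, zero_add]
  have hctbw : ∀ χ : IrrCharacter G, ctb p y H b (χ : G → ℂ) (χ : G → ℂ) =
      classInner (pRegularPart p (secPart y H b (χ : G → ℂ)))
        (pRegularPart p (secPart y H b (χ : G → ℂ))) := by
    intro χ
    unfold ctb
    rw [classInner_pRegularPart_right]
  have hdB : blockDefect p B = d := hdef.symm
  rw [hdB]
  by_cases ha2 : 2 ≤ a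
  · -- the generic case: the hexagonal form
    have hne : ∀ χ ∈ B, dnum y H π₁ (χ : G → ℂ) ≠ 0 ∨ dnum y H π₂ (χ : G → ℂ) ≠ 0 := by
      intro χ hχ
      obtain ⟨S, T, hST, hS, hT⟩ := hcoordw χ
      by_contra hcon
      push Not at hcon
      have hS0 : S = 0 := by rw [← hS]; exact hcon.1
      have hT0 : T = 0 := by rw [← hT]; exact hcon.2
      have hw0 : pRegularPart p (secPart y H b (χ : G → ℂ)) = 0 := by
        rw [hST, hS0, hT0, zero_smul, zero_smul, add_zero]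
      have := ctb_self_ne_zero hM hy H hH ξ₀ hind hdef χ hχ
      apply this
      rw [hctbw χ, hw0, Cfsg.Agent.Lib.Helper3.classInner_zero_left]
    have key := two_mul_card_le_of_testVec hM y hy H hH hind hT₁ hT₂ hne
    rw [hN1, hN2, hN3] at key
    have hineq := reduced_form_ineq (a : ℤ) (c : ℤ) h hh0 hh1 (by exact_mod_cast hac)
      (by exact_mod_cast ha2)
    have hineqR : aR + cR - hR ≤ Δ := by
      rw [hΔ, haR, hcR, hhR]
      exact_mod_cast hineq
    have h1 : qR * cR / Δ + qR * aR / Δ + qR * (aR + cR - 2 * hR) / Δ =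
        2 * (qR * ((aR + cR - hR) / Δ)) := by
      field_simp
      ring
    rw [h1] at key
    have h2 : (aR + cR - hR) / Δ ≤ 1 := (div_le_one hΔpos).mpr hineqR
    have h3 : (Bf.card : ℝ) ≤ qR := by
      have : qR * ((aR + cR - hR) / Δ) ≤ qR * 1 := mul_le_mul_of_nonneg_left h2 hqRpos.le
      linarith
    rw [hqR] at h3
    exact_mod_cast h3
  · -- the exceptional case: an orthogonal sum with a vector of norm `1 / q`
    have ha1' : a = 1 := by omega
    have hh0' : h = 0 := by omega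
    have haR' : aR = 1 := by rw [haR, ha1']; norm_num
    have hhR' : hR = 0 := by rw [hhR, hh0']; norm_num
    have hΔ' : Δ = cR := by rw [hΔ, haR', hhR']; ring
    have hcRpos : 0 < cR := by rw [← hΔ']; exact hΔpos
    have hc1 : 1 ≤ cR := by linarith
    -- a character of height zero
    have hBne : B.Nonempty := by
      obtain ⟨χ₁, hχ₁⟩ := hind.2.1
      exact ⟨χ₁, hχ₁ ▸ sameBlock_refl hMp _⟩
    obtain ⟨ψ₀, hψ₀, hψ₀v⟩ := exists_minDegVal p hBne
    have hh0 : blockHeight p B (ψ₀ : G → ℂ) = 0 := by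
      rw [blockHeight_eq, hψ₀v, Nat.sub_self]
    obtain ⟨S₀, T₀, hST₀, hS₀, hT₀⟩ := hcoordw ψ₀
    have hyH : y ∈ H := by
      rw [hH, Subgroup.mem_centralizer_singleton_iff]
    have hzc : (⟨y, hyH⟩ : H) ∈ Subgroup.center H := by
      rw [Subgroup.mem_center_iff]
      intro c'
      apply Subtype.ext
      have hc' : (c' : G) ∈ Subgroup.centralizer ({y} : Set G) := hH ▸ c'.2
      have := Subgroup.mem_centralizer_singleton_iff.mp hc'
      simp only [Subgroup.coe_mul]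
      exact this
    have hres : IsCharacter H (fun c' : H => (ψ₀ : G → ℂ) (c' : G)) :=
      Cfsg.Agent.Lib.Helper3.IsCharacter.restrict
        (Cfsg.Agent.Lib.Helper3.IsIrrCharacter.isCharacter ψ₀.2) _
    have hdint : ∀ {π : H → ℂ}, IsTestVec p b π → IsIntegral ℤ (dnum y H π (ψ₀ : G → ℂ)) := by
      intro π hπ
      have h1 := dnum_eq_dval y H hyH π (ψ₀ : G → ℂ) 1
      rw [pow_one, pow_one] at h1
      rw [h1]
      exact dval_integral hπ _ hres _ hzc
    have hS₀int : IsIntegral ℤ S₀ := hS₀ ▸ hdint hT₁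
    have hT₀int : IsIntegral ℤ T₀ := hT₀ ▸ hdint hT₂
    -- the unit
    have hunit := ctb_self_unit hM hy H hH ξ₀ hind ψ₀ hψ₀ hh0
    have hval : ((p ^ d : ℕ) : ℂ) * ctb p y H b (ψ₀ : G → ℂ) (ψ₀ : G → ℂ) =
        S₀ * conj S₀ + (c : ℂ) * (T₀ * conj T₀) := by
      rw [hctbw ψ₀, hST₀, ← hq, lat_form_comb hA hHh hHh' hC, ha1', hh0']
      push_cast
      ring
    rw [← hb, ← hd, hval] at hunit
    have hintC : ∀ x : ℂ, IsIntegral ℤ x → MemLocalRing M x := fun x hx =>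
      memLocalRing_algInt hMp ⟨x, hx⟩
    have hcase : ¬ MemLocalIdeal M (S₀ * conj S₀) ∨
        ¬ MemLocalIdeal M ((c : ℂ) * (T₀ * conj T₀)) := by
      by_contra hcon
      push Not at hcon
      exact hunit (memLocalIdeal_add hMp hcon.1 hcon.2)
    have hs₁q : s₁ = qR := by
      rw [hs₁, hΔ']
      field_simp
    have ht₁0 : t₁ = 0 := by rw [ht₁, hhR']; simp
    have hs₂0 : s₂ = 0 := by rw [hs₂, hhR']; simp
    have ht₂q : t₂ = qR / cR := by rw [ht₂, haR', hΔ', mul_one]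
    have hd1 : ∀ φ : IrrCharacter G, dnum y H π₁ (φ : G → ℂ) =
        (q : ℂ) * dnum y H β₁ (φ : G → ℂ) := by
      intro φ
      rw [hπ₁, dnum_comb, Complex.conj_ofReal, Complex.conj_ofReal, hs₁q, ht₁0, hqR]
      simp
    have hd2 : ∀ φ : IrrCharacter G, dnum y H π₂ (φ : G → ℂ) =
        ((q : ℂ) / (c : ℂ)) * dnum y H β₂ (φ : G → ℂ) := by
      intro φ
      rw [hπ₂, dnum_comb, Complex.conj_ofReal, Complex.conj_ofReal, hs₂0, ht₂q, hqR, hcR]
      simp
    have hcC : (c : ℂ) ≠ 0 := by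
      have : (c : ℝ) ≠ 0 := hcRpos.ne'
      exact_mod_cast this
    rcases hcase with hc1' | hc2'
    · -- the first column never vanishes
      have hne : ∀ χ ∈ B, dnum y H π₁ (χ : G → ℂ) ≠ 0 := by
        intro χ hχ
        have hX := dnum_ne_zero_of_unit hM H hH hind.2.1 (S₀ • β₁)
          (fun g k => by
            simp only [Pi.smul_apply, smul_eq_mul]
            rw [hL₁.cls g k])
          (fun c' => by
            rw [Pi.smul_apply, smul_eq_mul]
            exact IsIntegral.mul hS₀int (hL₁.integral c'))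
          ψ₀ hψ₀ hh0 (by
            have e : dnum y H (S₀ • β₁) (ψ₀ : G → ℂ) = conj S₀ * dnum y H β₁ (ψ₀ : G → ℂ) := by
              have := dnum_comb y H β₁ β₂ S₀ 0 (ψ₀ : G → ℂ)
              rw [zero_smul, add_zero, map_zero, zero_mul, add_zero] at this
              exact this
            have e2 : ((p ^ blockDefect p B : ℕ) : ℂ) * dnum y H (S₀ • β₁) (ψ₀ : G → ℂ) =
                S₀ * conj S₀ := by
              rw [e, hdB, ← hq, ← hS₀, hd1 ψ₀]
              ring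
            rw [e2]
            exact hc1') χ hχ
        intro h0
        apply hX
        have e : dnum y H (S₀ • β₁) (χ : G → ℂ) = conj S₀ * dnum y H β₁ (χ : G → ℂ) := by
          have := dnum_comb y H β₁ β₂ S₀ 0 (χ : G → ℂ)
          rw [zero_smul, add_zero, map_zero, zero_mul, add_zero] at this
          exact this
        rw [e]
        rw [hd1 χ] at h0
        rw [(mul_eq_zero.mp h0).resolve_left hq0, mul_zero]
      have key := card_le_of_testVec hM y hy H hH hind hT₁ hne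
      rw [hN1, hΔ'] at key
      have h3 : (Bf.card : ℝ) ≤ qR := by
        have : qR * cR / cR = qR := by field_simp
        linarith
      rw [hqR] at h3
      exact_mod_cast h3
    · -- the second column never vanishes
      have hne : ∀ χ ∈ B, dnum y H π₂ (χ : G → ℂ) ≠ 0 := by
        intro χ hχ
        have hX := dnum_ne_zero_of_unit hM H hH hind.2.1 (T₀ • β₂)
          (fun g k => by
            simp only [Pi.smul_apply, smul_eq_mul]
            rw [hL₂.cls g k])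
          (fun c' => by
            rw [Pi.smul_apply, smul_eq_mul]
            exact IsIntegral.mul hT₀int (hL₂.integral c'))
          ψ₀ hψ₀ hh0 (by
            have e : dnum y H (T₀ • β₂) (ψ₀ : G → ℂ) = conj T₀ * dnum y H β₂ (ψ₀ : G → ℂ) := by
              have := dnum_comb y H β₁ β₂ 0 T₀ (ψ₀ : G → ℂ)
              rw [zero_smul, zero_add, map_zero, zero_mul, zero_add] at this
              exact this
            have e3 : dnum y H β₂ (ψ₀ : G → ℂ) = ((c : ℂ) / (q : ℂ)) * T₀ := by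
              rw [← hT₀, hd2 ψ₀]
              field_simp
            have e2 : ((p ^ blockDefect p B : ℕ) : ℂ) * dnum y H (T₀ • β₂) (ψ₀ : G → ℂ) =
                (c : ℂ) * (T₀ * conj T₀) := by
              rw [e, hdB, ← hq, e3]
              field_simp
            rw [e2]
            exact hc2') χ hχ
        intro h0
        apply hX
        have e : dnum y H (T₀ • β₂) (χ : G → ℂ) = conj T₀ * dnum y H β₂ (χ : G → ℂ) := by
          have := dnum_comb y H β₁ β₂ 0 T₀ (χ : G → ℂ)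
          rw [zero_smul, zero_add, map_zero, zero_mul, zero_add] at this
          exact this
        rw [e]
        rw [hd2 χ] at h0
        have hqc : (q : ℂ) / (c : ℂ) ≠ 0 := div_ne_zero hq0 hcC
        rw [(mul_eq_zero.mp h0).resolve_left hqc, mul_zero]
      have key := card_le_of_testVec hM y hy H hH hind hT₂ hne
      rw [hN2, hΔ', haR', mul_one] at key
      have h3 : (Bf.card : ℝ) ≤ qR := by
        have : qR / cR ≤ qR := div_le_self hqRpos.le hc1
        linarith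
      rw [hqR] at h3
      exact_mod_cast h3

end ranktwo

end Cfsg.Agent.Lib.Helper77.Ctb
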