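import Mathlib
import Cfsg.Agent.Lib.Helper75.GaloisNorm
import Cfsg.Agent.Lib.Helper75.GaloisCyc
import Cfsg.Agent.Lib.Helper75.BurnsideGallagher
import Cfsg.Agent.Lib.Helper77.CtbH

/-!
# Cyclotomic integers of `2`-power conductor: traces are divisible by the degree (helper77)

* `exists_poly_of_isIntegral_cyc`: an algebraic integer of `ℚ(ζ) ⊆ ℂ` is an integral polynomial
  expression in `ζ` (the ring of integers of a cyclotomic field).
* `sum_galois_family_eq`: the sum of a Galois-stable family over the units of `ℤ/2^k` whose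
  first member is such an expression is `φ(2^k)` times a rational integer.
* `eq_one_of_sum_le_card`: the equality case of the arithmetic-geometric mean inequality.
* `norm_eq_one_of_sum_norm_le`: a Galois-stable family of non-zero algebraic integers whose norms
  add up to at most `φ(N)` consists of numbers of norm one.
-/

set_option autoImplicit false

namespace Cfsg.Agent.Lib.Helper77.Ctb

/-- algebraic integers of a cyclotomic subfield of `ℂ` are integral polynomial expressions in the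
root of unity -/
theorem exists_poly_of_isIntegral_cyc (N : ℕ) [NeZero N] (ζ : ℂ) (hζ : IsPrimitiveRoot ζ N) (μ : ℂ)
    (hμ : IsIntegral ℤ μ) (hmem : μ ∈ IntermediateField.adjoin ℚ ({ζ} : Set ℂ)) :
    ∃ P : Polynomial ℤ, μ = Polynomial.aeval ζ P := by
  set K := IntermediateField.adjoin ℚ ({ζ} : Set ℂ) with hK
  have hζint : IsIntegral ℚ ζ := (hζ.isIntegral (NeZero.pos N)).tower_top
  have hζalg : IsAlgebraic ℚ ζ := hζint.isAlgebraic
  have hcyc : IsCyclotomicExtension {N} ℚ K := by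
    change IsCyclotomicExtension {N} ℚ (IntermediateField.adjoin ℚ {ζ}).toSubalgebra
    rw [IntermediateField.adjoin_simple_toSubalgebra_of_isAlgebraic hζalg]
    exact hζ.adjoin_isCyclotomicExtension ℚ
  set ζK : K := ⟨ζ, IntermediateField.mem_adjoin_simple_self ℚ ζ⟩ with hζKdef
  have hζK : IsPrimitiveRoot ζK N := by
    have : IsPrimitiveRoot ((algebraMap K ℂ) ζK) N := hζ
    exact IsPrimitiveRoot.of_map_of_injective (f := algebraMap K ℂ) this
      (algebraMap K ℂ).injective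
  have hic := IsCyclotomicExtension.Rat.isIntegralClosure_adjoin_singleton hζK
  have hμK : IsIntegral ℤ (⟨μ, hmem⟩ : K) := by
    have : IsIntegral ℤ ((algebraMap K ℂ) ⟨μ, hmem⟩) := hμ
    exact (isIntegral_algebraMap_iff (algebraMap K ℂ).injective).mp this
  obtain ⟨y, hy⟩ := hic.isIntegral_iff.mp hμK
  have hy2 : (y : K) ∈ (Polynomial.aeval ζK : Polynomial ℤ →ₐ[ℤ] K).range := by
    rw [← Algebra.adjoin_singleton_eq_range_aeval]
    exact y.2
  obtain ⟨P, hP⟩ := hy2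
  refine ⟨P, ?_⟩
  have h1 : (⟨μ, hmem⟩ : K) = Polynomial.aeval ζK P := by
    rw [← hy]
    exact hP.symm
  have h2 := congrArg (algebraMap K ℂ) h1
  rw [← Polynomial.aeval_algebraMap_apply] at h2
  exact h2

/-- the sum of a Galois-stable family over the units of `ℤ/2^k` -/
theorem sum_galois_family_eq (k : ℕ) (ζ : ℂ) (hζ : ζ ^ (2 ^ k) = 1)
    (x : (ZMod (2 ^ k))ˣ → ℂ)
    (hτ : ∀ (τ : ℂ ≃+* ℂ) (j : (ZMod (2 ^ k))ˣ),
      (∀ ω : ℂ, ω ^ (2 ^ k) = 1 → τ ω = ω ^ (j : ZMod (2 ^ k)).val) → ∀ u, τ (x u) = x (u * j))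
    (P : Polynomial ℤ) (hP : x 1 = Polynomial.aeval ζ P) :
    ∃ c : ℤ, ∑ u : (ZMod (2 ^ k))ˣ, x u = ((2 ^ k).totient : ℂ) * (c : ℂ) := by
  have hNpos : 0 < 2 ^ k := by positivity
  have hxu : ∀ u : (ZMod (2 ^ k))ˣ, x u = Polynomial.aeval (ζ ^ (u : ZMod (2 ^ k)).val) P := by
    intro u
    obtain ⟨τ, hτu⟩ := Cfsg.Agent.Lib.Helper75.exists_ringEquiv_pow_rootsOfUnity (2 ^ k)
      (u : ZMod (2 ^ k)).val hNpos (ZMod.val_coe_unit_coprime u)
    have h1 := hτ τ u hτu 1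
    rw [one_mul] at h1
    rw [← h1, hP]
    have h2 : τ (Polynomial.aeval ζ P) = Polynomial.aeval (τ ζ) P := by
      rw [Polynomial.aeval_def, Polynomial.aeval_def, Polynomial.eval₂_eq_sum_range,
        Polynomial.eval₂_eq_sum_range, map_sum]
      refine Finset.sum_congr rfl fun i _ => ?_
      rw [map_mul, map_pow]
      congr 1
      simp
    rw [h2, hτu ζ hζ]
  set ε : ℂ → ℤ := fun w => if w = 1 then 1 else if w = -1 then -1 else 0 with hε
  have hR : ∀ w : ℂ, w ^ (2 ^ k) = 1 →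
      ∑ u : (ZMod (2 ^ k))ˣ, w ^ (u : ZMod (2 ^ k)).val =
        ((2 ^ k).totient : ℂ) * (ε w : ℂ) := by
    intro w hw
    rw [sum_units_pow_two_pow k w hw]
    simp only [hε]
    split_ifs <;> simp
  refine ⟨∑ i ∈ Finset.range (P.natDegree + 1), P.coeff i * ε (ζ ^ i), ?_⟩
  have hexp : ∀ u : (ZMod (2 ^ k))ˣ, x u =
      ∑ i ∈ Finset.range (P.natDegree + 1), (P.coeff i : ℂ) * (ζ ^ i) ^ (u : ZMod (2 ^ k)).val := by
    intro u
    rw [hxu u, Polynomial.aeval_def, Polynomial.eval₂_eq_sum_range]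
    refine Finset.sum_congr rfl fun i _ => ?_
    rw [← pow_mul, ← pow_mul, mul_comm i]
    simp
  rw [Finset.sum_congr rfl fun u _ => hexp u, Finset.sum_comm]
  push_cast
  rw [Finset.mul_sum]
  refine Finset.sum_congr rfl fun i _ => ?_
  rw [← Finset.mul_sum, hR (ζ ^ i) (by rw [← pow_mul, mul_comm, pow_mul, hζ, one_pow])]
  ring

/-- the equality case of the arithmetic-geometric mean inequality -/
theorem eq_one_of_sum_le_card {ι : Type*} (s : Finset ι) (z : ι → ℝ)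
    (hz : ∀ i ∈ s, 0 ≤ z i) (h : 1 ≤ ∏ i ∈ s, z i) (hs : ∑ i ∈ s, z i ≤ (s.card : ℝ)) :
    ∀ i ∈ s, z i = 1 := by
  set w : ι → ℝ := fun i => Real.sqrt (z i) with hw
  have hw0 : ∀ i ∈ s, 0 ≤ w i := fun i _ => Real.sqrt_nonneg _
  have hwsq : ∀ i ∈ s, w i ^ 2 = z i := fun i hi => Real.sq_sqrt (hz i hi)
  have hprod0 : 0 ≤ ∏ i ∈ s, w i := Finset.prod_nonneg hw0
  have hprodsq : (∏ i ∈ s, w i) ^ 2 = ∏ i ∈ s, z i := by
    rw [← Finset.prod_pow]
    exact Finset.prod_congr rfl hwsq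
  have hprod1 : 1 ≤ ∏ i ∈ s, w i := by
    by_contra hlt
    push Not at hlt
    have : (∏ i ∈ s, w i) ^ 2 < 1 := by nlinarith
    rw [hprodsq] at this
    linarith
  have hsum := Cfsg.Agent.Lib.Helper75.card_le_sum_of_one_le_prod s w hw0 hprod1
  have hsq : ∑ i ∈ s, (w i - 1) ^ 2 ≤ 0 := by
    have e : ∑ i ∈ s, (w i - 1) ^ 2 = ∑ i ∈ s, z i - 2 * ∑ i ∈ s, w i + (s.card : ℝ) := by
      have e1 : ∀ i ∈ s, (w i - 1) ^ 2 = z i - 2 * w i + 1 := by
        intro i hi
        rw [← hwsq i hi]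
        ring
      rw [Finset.sum_congr rfl e1, Finset.sum_add_distrib, Finset.sum_sub_distrib,
        ← Finset.mul_sum, Finset.sum_const, nsmul_eq_mul, mul_one]
    rw [e]
    linarith
  have hzero := (Finset.sum_eq_zero_iff_of_nonneg (fun i _ => sq_nonneg (w i - 1))).mp
    (le_antisymm hsq (Finset.sum_nonneg fun i _ => sq_nonneg (w i - 1)))
  intro i hi
  have h1 : w i = 1 := by
    have := hzero i hi
    have h2 : w i - 1 = 0 := by
      rcases pow_eq_zero_iff (two_ne_zero) |>.mp this with h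
      exact h
    linarith
  rw [← hwsq i hi, h1]
  norm_num

/-- a Galois-stable family of non-zero algebraic integers whose norms add up to at most `φ(N)`
consists of numbers of norm one -/
theorem norm_eq_one_of_sum_norm_le (N : ℕ) [NeZero N] (x : (ZMod N)ˣ → ℂ)
    (hint : ∀ u, IsIntegral ℤ (x u))
    (hτ : ∀ (τ : ℂ ≃+* ℂ) (j : (ZMod N)ˣ),
      (∀ ω : ℂ, ω ^ N = 1 → τ ω = ω ^ (j : ZMod N).val) → ∀ u, τ (x u) = x (u * j))
    (hne : ∀ u, x u ≠ 0)
    (hsum : ∑ u : (ZMod N)ˣ, ‖x u‖ ≤ (Nat.totient N : ℝ)) : ∀ u, ‖x u‖ = 1 := by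
  have hN : 0 < N := Nat.pos_of_ne_zero (NeZero.ne N)
  set Q : ℂ := ∏ u : (ZMod N)ˣ, x u with hQ
  have hQint : IsIntegral ℤ Q := IsIntegral.prod _ (fun u _ => hint u)
  have hQfix : ∀ τ : ℂ ≃+* ℂ, τ Q = Q := by
    intro τ
    obtain ⟨j, hcop, hj⟩ := Cfsg.Agent.Lib.Helper75.exists_pow_of_ringEquiv τ N hN
    set ju : (ZMod N)ˣ := ZMod.unitOfCoprime j hcop with hju
    have hval : ((ju : (ZMod N)ˣ) : ZMod N).val = j % N := by
      rw [hju, ZMod.coe_unitOfCoprime, ZMod.val_natCast]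
    have hj' : ∀ ω : ℂ, ω ^ N = 1 → τ ω = ω ^ ((ju : (ZMod N)ˣ) : ZMod N).val := by
      intro ω hω
      rw [hval, hj ω hω]
      exact pow_eq_pow_mod j hω
    rw [hQ, map_prod]
    rw [Finset.prod_congr rfl (fun u _ => hτ τ ju hj' u)]
    exact Fintype.prod_equiv (Equiv.mulRight ju) _ _ (fun u => rfl)
  obtain ⟨n, hn⟩ := Cfsg.Agent.Lib.Helper75.exists_int_eq_of_forall_ringEquiv_eq Q hQint hQfix
  have hQne : Q ≠ 0 := Finset.prod_ne_zero_iff.mpr (fun u _ => hne u)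
  have hn0 : n ≠ 0 := by
    rintro rfl
    apply hQne
    rw [← hn]
    simp
  have hnorm : (1 : ℝ) ≤ ‖Q‖ := by
    rw [← hn, Complex.norm_intCast]
    have : (1 : ℤ) ≤ |n| := Int.one_le_abs hn0
    exact_mod_cast this
  have hprod : (1 : ℝ) ≤ ∏ u : (ZMod N)ˣ, ‖x u‖ := by
    rw [← norm_prod, ← hQ]
    exact hnorm
  have key := eq_one_of_sum_le_card (Finset.univ : Finset (ZMod N)ˣ)
    (fun u => ‖x u‖) (fun u _ => norm_nonneg _) hprod
    (by rw [Finset.card_univ, ZMod.card_units_eq_totient]; exact hsum)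
  exact fun u => key u (Finset.mem_univ u)

end Cfsg.Agent.Lib.Helper77.Ctb
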