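import Cfsg.Agent.Lib.Helper77.CtbM

/-!
# Contributions of a major subsection and heights (helper77)

For a major subsection `(z, b)` of the block `B` of defect `d`, and `χ, ψ ∈ B`:
* `p^d m_{χψ} / p^{h(ψ)}` is an algebraic integer (`isIntegral_ctb_div`);
* if `h(χ) ≥ 1` then `p^d m_{χχ} / p^{h(χ)}` lies in the local ideal (`memLocalIdeal_ctb_self_div`).
Both come from the central characters of `B` on the class function of `G` induced from the
conjugate of the shifted `p`-regular section part of `χ`.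
-/

set_option autoImplicit false

universe u

namespace Cfsg.Agent.Lib.Helper77.Ctb

open Cfsg Cfsg.Agent.Lib.Helper81 Cfsg.Agent.Lib.Helper74 Cfsg.Agent.Lib.Helper76
  Cfsg.Agent.Lib.Helper16 Cfsg.Agent.Lib.Helper25
open scoped ComplexConjugate

section ind
variable {G : Type u} [Group G] [Fintype G]

/-- an induced class function with integral values has integral values -/
theorem isIntegral_indFun (T : Subgroup G) [Fintype T] {d : T → ℂ}
    (hd : IsClassFunction T d) (hdI : ∀ t, IsIntegral ℤ (d t)) (g : G) :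
    IsIntegral ℤ (indFun T d g) := by
  classical
  obtain ⟨S, hS, -⟩ := Subgroup.exists_isComplement_left T (1 : G)
  have : Fintype S := Fintype.ofFinite _
  have hT0 : (Nat.card T : ℂ) ≠ 0 := card_ne_zero_complex
  set F : G → ℂ := fun x => extendByZero T d (x⁻¹ * g * x) with hF
  have hinv : ∀ (x : G) (u : T), F (x * u) = F x := by
    intro x u
    show extendByZero T d ((x * u)⁻¹ * g * (x * u)) = extendByZero T d (x⁻¹ * g * x)
    rw [← fr_extendByZero_conj T hd u (x⁻¹ * g * x)]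
    congr 1
    group
  have h1 : ∑ x : G, F x = (Nat.card T : ℂ) * ∑ s : S, F s := by
    rw [← Fintype.sum_equiv (Equiv.ofBijective _ hS) (fun p : S × (T : Set G) => F p.1) F]
    · rw [Fintype.sum_prod_type]
      simp only [Finset.sum_const, Finset.card_univ, nsmul_eq_mul]
      rw [← Finset.mul_sum]
      congr 1
      rw [Nat.card_eq_fintype_card]
      congr 1
    · rintro ⟨s, t⟩
      show F s = F ((s : G) * (t : G))
      exact (hinv s ⟨t, t.2⟩).symm
  rw [indFun_apply, h1, ← mul_assoc, inv_mul_cancel₀ hT0, one_mul]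
  refine IsIntegral.sum _ fun s _ => ?_
  show IsIntegral ℤ (extendByZero T d _)
  by_cases h : (s : G)⁻¹ * g * s ∈ T
  · rw [extendByZero_of_mem T d h]
    exact hdI _
  · rw [extendByZero_of_not_mem T d h]
    exact isIntegral_zero

/-- the central character of an irreducible character at an integral class function -/
theorem isIntegral_omega_of_integral {χ : G → ℂ} (hχ : IsIrrCharacter G χ) {a : G → ℂ}
    (ha : IsClassFunction G a) (haI : ∀ g, IsIntegral ℤ (a g)) :
    IsIntegral ℤ (Cfsg.Agent.Lib.Helper77.omega χ a) := by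
  classical
  rw [Cfsg.Agent.Lib.Helper77.omega_eq_sum_conjClasses
    (Cfsg.Agent.Lib.Helper77.isClassFunction_of_isCharacter hχ) ha]
  exact IsIntegral.sum _ fun c _ =>
    (haI _).mul (Cfsg.Agent.Lib.Helper77.isIntegral_centralChar_irr hχ _)

end ind

section sec
variable {G : Type u} [Group G] [Fintype G] [Fintype (IrrCharacter G)] {p : ℕ} [Fact p.Prime]
  {M : Ideal AlgInt}

open Classical in
/-- the integral class function of `G` whose central character values are the conjugate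
contributions of `χ` -/
theorem exists_sec_classFun (hM : IsPModular p M) {z : G}
    (H : Subgroup G) (hH : H = Subgroup.centralizer ({z} : Set G)) [Fintype H]
    [Fintype (IrrCharacter H)] (ξ₀ : IrrCharacter H) (χ : IrrCharacter G) :
    ∃ a : G → ℂ, IsClassFunction G a ∧ (∀ g, IsIntegral ℤ (a g)) ∧
      ∀ φ : IrrCharacter G, Cfsg.Agent.Lib.Helper77.omega (φ : G → ℂ) a =
        (Nat.card G : ℂ) * conj (ctb p z H (blockOf M (ξ₀ : H → ℂ)) (χ : G → ℂ) (φ : G → ℂ)) /
          (φ : G → ℂ) 1 := by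
  have hp : p.Prime := Fact.out
  have hMp : M.IsPrime := isPrime_of_isPModular hM
  set b := blockOf M (ξ₀ : H → ℂ) with hb
  have hzH : z ∈ H := by
    rw [hH, Subgroup.mem_centralizer_singleton_iff]
  set zH : H := ⟨z, hzH⟩ with hzHdef
  have hzc : zH ∈ Subgroup.center H := by
    rw [Subgroup.mem_center_iff]
    intro c
    apply Subtype.ext
    have hc : (c : G) ∈ Subgroup.centralizer ({z} : Set G) := hH ▸ c.2
    have := Subgroup.mem_centralizer_singleton_iff.mp hc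
    simp only [Subgroup.coe_mul, hzHdef]
    exact this
  have hres : ∀ χ : IrrCharacter G, IsCharacter H (fun c : H => (χ : G → ℂ) (c : G)) := fun χ =>
    Cfsg.Agent.Lib.Helper3.IsCharacter.restrict
      (Cfsg.Agent.Lib.Helper3.IsIrrCharacter.isCharacter χ.2) _
  set v : H → ℂ := pRegularPart p (secPart z H b (χ : G → ℂ)) with hv
  have hvcl : IsClassFunction H v :=
    pRegularPart_isClassFunction p (isClassFunction_secPart z H _ _)
  have hvint : ∀ c : H, IsIntegral ℤ (v c) := by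
    intro c
    rw [hv, Cfsg.Agent.Lib.Helper77.pRegularPart_apply]
    by_cases hc : p ∣ orderOf c
    · rw [if_neg (fun h => h hc)]
      exact isIntegral_zero
    · rw [if_pos hc]
      exact isIntegral_blockPart_twist b _ (hres χ) zH hzc c
  set θ : H → ℂ := fun h => conj (v (zH⁻¹ * h)) with hθ
  have hθcl : IsClassFunction H θ := by
    intro g h
    simp only [hθ]
    congr 1
    have hzi : zH⁻¹ ∈ Subgroup.center H := Subgroup.inv_mem _ hzc
    have e : zH⁻¹ * (h * g * h⁻¹) = h * (zH⁻¹ * g) * h⁻¹ := by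
      have h1 : zH⁻¹ * h = h * zH⁻¹ := ((Subgroup.mem_center_iff.mp hzi) h).symm
      calc zH⁻¹ * (h * g * h⁻¹) = (zH⁻¹ * h) * g * h⁻¹ := by group
        _ = (h * zH⁻¹) * g * h⁻¹ := by rw [h1]
        _ = h * (zH⁻¹ * g) * h⁻¹ := by group
    rw [e, hvcl]
  have hθI : ∀ t, IsIntegral ℤ (θ t) := fun t =>
    map_isIntegral_int (starRingEnd ℂ) (hvint _)
  refine ⟨indFun H θ, indFun_isClassFunction H θ, fun g => isIntegral_indFun H hθcl hθI g, ?_⟩
  intro φ
  have hnH : (Nat.card H : ℂ) ≠ 0 := Nat.cast_ne_zero.mpr Nat.card_pos.ne'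
  have hφcl : IsClassFunction G (φ : G → ℂ) :=
    Cfsg.Agent.Lib.Helper77.isClassFunction_of_isCharacter φ.2
  have h1 := sum_mul_indFun H θ hφcl
  have h2 : ∑ t : H, (φ : G → ℂ) t * θ t =
      ∑ c : H, (φ : G → ℂ) (z * (c : G)) * conj (v c) := by
    refine Fintype.sum_equiv (Equiv.mulLeft zH⁻¹) _ _ ?_
    intro t
    simp only [Equiv.coe_mulLeft, hθ]
    congr 2
    simp [hzHdef]
  unfold Cfsg.Agent.Lib.Helper77.omega
  congr 1
  rw [ctb_eq_conj hM H hH ξ₀ _ φ, Complex.conj_conj]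
  unfold classInner
  rw [← h2]
  calc ∑ g : G, indFun H θ g * (φ : G → ℂ) g = ∑ g : G, (φ : G → ℂ) g * indFun H θ g :=
        Finset.sum_congr rfl fun g _ => mul_comm _ _
    _ = _ := by
        rw [h1]
        field_simp

/-- the arithmetic of the degree of a character of the block: `|G| / ψ(1) = p^(d-h) t` with
`p ∤ t` -/
theorem card_div_degree (p : ℕ) [Fact p.Prime] {B : Set (IrrCharacter G)} (ψ : IrrCharacter G)
    (hψ : ψ ∈ B) :
    ∃ t : ℕ, ¬ p ∣ t ∧ blockHeight p B (ψ : G → ℂ) ≤ blockDefect p B ∧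
      (Nat.card G : ℂ) / (ψ : G → ℂ) 1 =
        (t : ℂ) * (p : ℂ) ^ (blockDefect p B - blockHeight p B (ψ : G → ℂ)) := by
  have hp : p.Prime := Fact.out
  obtain ⟨f, hf0, hf1, hf2, e, he⟩ := irr_degree_spec ψ
  have hn0 : Nat.card G ≠ 0 := Nat.card_pos.ne'
  have he0 : e ≠ 0 := by
    rintro rfl
    rw [mul_zero] at he
    exact hn0 he
  have hfac : (Nat.card G).factorization p = f.factorization p + e.factorization p := by
    rw [he, Nat.factorization_mul hf0.ne' he0]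
    rfl
  have hm := minDegVal_le p hψ
  rw [hf2] at hm
  have hh : blockHeight p B (ψ : G → ℂ) = f.factorization p - minDegVal p B := by
    rw [blockHeight_eq, hf2]
  have hd : blockDefect p B = (Nat.card G).factorization p - minDegVal p B := blockDefect_eq p B
  refine ⟨e / p ^ e.factorization p, Nat.not_dvd_ordCompl hp he0, by omega, ?_⟩
  have hev : blockDefect p B - blockHeight p B (ψ : G → ℂ) = e.factorization p := by omega
  rw [hev, hf1]
  have hf0' : (f : ℂ) ≠ 0 := by exact_mod_cast hf0.ne'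
  have hee : (e : ℂ) = ((e / p ^ e.factorization p : ℕ) : ℂ) * (p : ℂ) ^ e.factorization p := by
    have := Nat.ordProj_mul_ordCompl_eq_self e p
    conv_lhs => rw [← this]
    push_cast
    ring
  rw [← hee, he]
  push_cast
  field_simp

/-- **Integrality**: `p^d m_{χψ} / p^{h(ψ)}` is an algebraic integer. -/
theorem isIntegral_ctb_div (hM : IsPModular p M) {B : Set (IrrCharacter G)} {z : G}
    (H : Subgroup G) (hH : H = Subgroup.centralizer ({z} : Set G)) [Fintype H]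
    [Fintype (IrrCharacter H)] (ξ₀ : IrrCharacter H) (χ ψ : IrrCharacter G) (hψ : ψ ∈ B)
    (hX : IsIntegral ℤ (((p ^ blockDefect p B : ℕ) : ℂ) *
      ctb p z H (blockOf M (ξ₀ : H → ℂ)) (χ : G → ℂ) (ψ : G → ℂ))) :
    IsIntegral ℤ (((p ^ blockDefect p B : ℕ) : ℂ) *
      ctb p z H (blockOf M (ξ₀ : H → ℂ)) (χ : G → ℂ) (ψ : G → ℂ) /
        (p : ℂ) ^ blockHeight p B (ψ : G → ℂ)) := by
  have hp : p.Prime := Fact.out
  set b := blockOf M (ξ₀ : H → ℂ) with hb
  set d := blockDefect p B with hd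
  set h := blockHeight p B (ψ : G → ℂ) with hh
  obtain ⟨a, hacl, haI, hom⟩ := exists_sec_classFun hM H hH ξ₀ χ
  have hI := isIntegral_omega_of_integral ψ.2 hacl haI
  rw [hom ψ] at hI
  obtain ⟨t, ht, hhd, hdeg⟩ := card_div_degree p ψ hψ
  rw [← hd, ← hh] at hhd hdeg
  have hp0 : (p : ℂ) ≠ 0 := by exact_mod_cast hp.ne_zero
  set c := ctb p z H b (χ : G → ℂ) (ψ : G → ℂ) with hc
  have e1 : (Nat.card G : ℂ) * conj c / (ψ : G → ℂ) 1 = (t : ℂ) * (p : ℂ) ^ (d - h) * conj c := by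
    rw [← hdeg]
    ring
  rw [e1] at hI
  have hI2 : IsIntegral ℤ ((t : ℂ) * (p : ℂ) ^ (d - h) * c) := by
    have := map_isIntegral_int (starRingEnd ℂ) hI
    rw [map_mul, map_mul, map_pow, Complex.conj_natCast, Complex.conj_natCast,
      Complex.conj_conj] at this
    exact this
  set Y : ℂ := ((p ^ d : ℕ) : ℂ) * c / (p : ℂ) ^ h with hY
  have hpd : ((p ^ d : ℕ) : ℂ) = (p : ℂ) ^ (d - h) * (p : ℂ) ^ h := by
    rw [← pow_add, Nat.sub_add_cancel hhd]
    push_cast
    rfl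
  have hY1 : (t : ℂ) * Y = (t : ℂ) * (p : ℂ) ^ (d - h) * c := by
    rw [hY, hpd]
    field_simp
  have hY2 : (p : ℂ) ^ h * Y = ((p ^ d : ℕ) : ℂ) * c := by
    rw [hY]
    field_simp
  have hcop : IsCoprime (t : ℤ) ((p : ℤ) ^ h) := by
    have h1 : Nat.Coprime t (p ^ h) :=
      Nat.Coprime.pow_right h ((Nat.Prime.coprime_iff_not_dvd hp).mpr ht).symm
    have := Nat.isCoprime_iff_coprime.mpr h1
    simpa using this
  obtain ⟨u, w, huw⟩ := hcop
  have hYe : Y = (u : ℂ) * ((t : ℂ) * Y) + (w : ℂ) * ((p : ℂ) ^ h * Y) := by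
    have h1 : ((u * t + w * (p : ℤ) ^ h : ℤ) : ℂ) = 1 := by
      rw [huw]
      simp
    push_cast at h1
    calc Y = ((u : ℂ) * (t : ℂ) + (w : ℂ) * (p : ℂ) ^ h) * Y := by rw [h1, one_mul]
      _ = _ := by ring
  rw [hYe, hY1, hY2]
  exact ((isIntegral_algebraMap (R := ℤ) (A := ℂ) (x := u)).mul hI2).add
    ((isIntegral_algebraMap (R := ℤ) (A := ℂ) (x := w)).mul hX)

/-- **The diagonal contribution of a character of positive height**: `p^d m_{χχ} / p^{h(χ)}`
lies in the local ideal. -/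
theorem memLocalIdeal_ctb_self_div (hM : IsPModular p M) {B : Set (IrrCharacter G)} {z : G}
    (H : Subgroup G) (hH : H = Subgroup.centralizer ({z} : Set G)) [Fintype H]
    [Fintype (IrrCharacter H)] (ξ₀ : IrrCharacter H)
    (hB : ∃ χ₁ : IrrCharacter G, B = blockOf M (χ₁ : G → ℂ))
    (hX : ∀ φ ψ : IrrCharacter G, IsIntegral ℤ (((p ^ blockDefect p B : ℕ) : ℂ) *
      ctb p z H (blockOf M (ξ₀ : H → ℂ)) (φ : G → ℂ) (ψ : G → ℂ)))
    (χ : IrrCharacter G) (hχ : χ ∈ B) (hpos : 1 ≤ blockHeight p B (χ : G → ℂ)) :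
    MemLocalIdeal M (((p ^ blockDefect p B : ℕ) : ℂ) *
      ctb p z H (blockOf M (ξ₀ : H → ℂ)) (χ : G → ℂ) (χ : G → ℂ) /
        (p : ℂ) ^ blockHeight p B (χ : G → ℂ)) := by
  have hp : p.Prime := Fact.out
  have hMp : M.IsPrime := isPrime_of_isPModular hM
  set b := blockOf M (ξ₀ : H → ℂ) with hb
  set d := blockDefect p B with hd
  set h := blockHeight p B (χ : G → ℂ) with hh
  obtain ⟨ψ₀, hψ₀, hψ₀v⟩ := exists_minDegVal p ⟨χ, hχ⟩
  have hh0 : blockHeight p B (ψ₀ : G → ℂ) = 0 := by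
    rw [blockHeight_eq, hψ₀v, Nat.sub_self]
  obtain ⟨a, hacl, haI, hom⟩ := exists_sec_classFun hM H hH ξ₀ χ
  have haS : ∀ g, MemLocalRing M (a g) := fun g => memLocalRing_algInt hMp ⟨_, haI g⟩
  have hsame : SameBlock M (χ : G → ℂ) (ψ₀ : G → ℂ) := by
    obtain ⟨χ₁, hχ₁⟩ := hB
    rw [hχ₁] at hχ hψ₀
    exact sameBlock_trans hMp (sameBlock_symm hχ) hψ₀
  have key := Cfsg.Agent.Lib.Helper77.memLocalIdeal_omega_sub hMp
    (Cfsg.Agent.Lib.Helper77.isClassFunction_of_isCharacter χ.2)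
    (Cfsg.Agent.Lib.Helper77.isClassFunction_of_isCharacter ψ₀.2) hsame hacl haS
  rw [hom χ, hom ψ₀, ctb_self_conj, ctb_conj_symm] at key
  obtain ⟨t, ht, hhd, hdeg⟩ := card_div_degree p χ hχ
  obtain ⟨t₀, -, -, hdeg₀⟩ := card_div_degree p ψ₀ hψ₀
  rw [← hd, ← hh] at hhd hdeg
  rw [← hd, hh0, Nat.sub_zero] at hdeg₀
  have hp0 : (p : ℂ) ≠ 0 := by exact_mod_cast hp.ne_zero
  set Y : ℂ := ((p ^ d : ℕ) : ℂ) * ctb p z H b (χ : G → ℂ) (χ : G → ℂ) / (p : ℂ) ^ h with hY
  set Y' : ℂ := ((p ^ d : ℕ) : ℂ) * ctb p z H b (ψ₀ : G → ℂ) (χ : G → ℂ) / (p : ℂ) ^ h with hY'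
  have hY'I : IsIntegral ℤ Y' := isIntegral_ctb_div hM H hH ξ₀ ψ₀ χ hχ (hX ψ₀ χ)
  have hpd : ((p ^ d : ℕ) : ℂ) = (p : ℂ) ^ (d - h) * (p : ℂ) ^ h := by
    rw [← pow_add, Nat.sub_add_cancel hhd]
    push_cast
    rfl
  have e1 : (Nat.card G : ℂ) * ctb p z H b (χ : G → ℂ) (χ : G → ℂ) / (χ : G → ℂ) 1 =
      (t : ℂ) * Y := by
    have : (Nat.card G : ℂ) * ctb p z H b (χ : G → ℂ) (χ : G → ℂ) / (χ : G → ℂ) 1 =
        (Nat.card G : ℂ) / (χ : G → ℂ) 1 * ctb p z H b (χ : G → ℂ) (χ : G → ℂ) := by ring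
    rw [this, hdeg, hY, hpd]
    field_simp
  have e2 : (Nat.card G : ℂ) * ctb p z H b (ψ₀ : G → ℂ) (χ : G → ℂ) / (ψ₀ : G → ℂ) 1 =
      ((p ^ h : ℕ) : ℂ) * ((t₀ : ℂ) * Y') := by
    have : (Nat.card G : ℂ) * ctb p z H b (ψ₀ : G → ℂ) (χ : G → ℂ) / (ψ₀ : G → ℂ) 1 =
        (Nat.card G : ℂ) / (ψ₀ : G → ℂ) 1 * ctb p z H b (ψ₀ : G → ℂ) (χ : G → ℂ) := by ring
    rw [this, hdeg₀, hY']
    push_cast
    field_simp
  rw [e1, e2] at key
  have hph : MemLocalIdeal M (((p ^ h : ℕ) : ℂ) * ((t₀ : ℂ) * Y')) := by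
    refine memLocalIdeal_mul_right hMp ((memLocalIdeal_natCast_iff hM _).mpr ?_)
      (memLocalRing_mul hMp (memLocalRing_natCast hMp t₀) (memLocalRing_algInt hMp ⟨_, hY'I⟩))
    exact dvd_pow_self p (by omega)
  have h3 := memLocalIdeal_add hMp key hph
  rw [sub_add_cancel] at h3
  exact memLocalIdeal_of_mul_of_not_memLocalIdeal hMp (memLocalRing_natCast hMp t)
    (fun hc => ht ((memLocalIdeal_natCast_iff hM t).1 hc)) h3

end sec

end Cfsg.Agent.Lib.Helper77.Ctb
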