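import Cfsg.Agent.Lib.Helper77.CtbO
import Cfsg.Agent.Lib.Helper77.CtbP

/-!
# Galois averages of diagonal contributions (helper77)

Pure lemmas on families `x u = ∑ w^u a` (symmetric integral combinations of `2^k`-th roots of
unity) permuted by the field automorphisms: the average is an odd integer if `x 1` is a local unit
(`odd_avg_of_unit`), and at least `2^(h+1)` if `x 1 / 2^h` is a positive algebraic integer of the
local ideal (`two_le_avg_of_mem`).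
-/

set_option autoImplicit false

universe u

namespace Cfsg.Agent.Lib.Helper77.Ctb

open Cfsg Cfsg.Agent.Lib.Helper81
open scoped ComplexConjugate

open Classical in
/-- the average of a local unit is odd -/
theorem odd_avg_of_unit {M : Ideal AlgInt} (hM : IsPModular 2 M) {ι : Type*} (k : ℕ)
    (s : Finset ι) (w : ι → ι → ℂ) (hw : ∀ i ∈ s, ∀ j ∈ s, w i j ^ (2 ^ k) = 1)
    (hinv : ∀ i ∈ s, ∀ j ∈ s, w i j * w j i = 1)
    (a : ι → ι → ℤ) (ha : ∀ i ∈ s, ∀ j ∈ s, a i j = a j i)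
    (x : (ZMod (2 ^ k))ˣ → ℂ)
    (hexp : ∀ u : (ZMod (2 ^ k))ˣ, x u =
      ∑ i ∈ s, ∑ j ∈ s, w i j ^ (u : ZMod (2 ^ k)).val * (a i j : ℂ))
    (hunit : ¬ MemLocalIdeal M (x 1)) :
    ∃ r : ℤ, Odd r ∧ ∑ u : (ZMod (2 ^ k))ˣ, x u = (Nat.totient (2 ^ k) : ℂ) * (r : ℂ) := by
  have hMp : M.IsPrime := isPrime_of_isPModular hM
  obtain ⟨r, hr1, hr2⟩ := parity_core k s w hw hinv a ha
  refine ⟨r, ?_, ?_⟩
  · have hodd : Odd (∑ i ∈ s, ∑ j ∈ s, a i j) := by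
      rcases Int.even_or_odd (∑ i ∈ s, ∑ j ∈ s, a i j) with he | ho
      · exfalso
        have h2 : ((2 : ℕ) : ℤ) ∣ ∑ i ∈ s, ∑ j ∈ s, a i j := by
          exact_mod_cast even_iff_two_dvd.mp he
        have h3 : MemLocalIdeal M ((∑ i ∈ s, ∑ j ∈ s, a i j : ℤ) : ℂ) :=
          (memLocalIdeal_intCast_iff hM _).mpr h2
        have h4 : MemLocalIdeal M (x 1 - ((∑ i ∈ s, ∑ j ∈ s, a i j : ℤ) : ℂ)) := by
          rw [hexp 1]
          push_cast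
          rw [← Finset.sum_sub_distrib]
          refine memLocalIdeal_sum hMp _ _ fun i hi => ?_
          rw [← Finset.sum_sub_distrib]
          refine memLocalIdeal_sum hMp _ _ fun j hj => ?_
          have e : ∀ n : ℕ, w i j ^ n * (a i j : ℂ) - (a i j : ℂ) =
              (w i j ^ n - 1) * (a i j : ℂ) := fun n => by ring
          rw [e]
          refine memLocalIdeal_mul_right hMp ?_ (memLocalRing_intCast hMp _)
          apply Cfsg.Agent.Lib.Helper74.memLocalIdeal_sub_one_of_pow_prime_pow_eq_one hM k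
          rw [← pow_mul, mul_comm, pow_mul, hw i hi j hj, one_pow]
        have h5 := memLocalIdeal_add hMp h4 h3
        rw [sub_add_cancel] at h5
        exact hunit h5
      · exact ho
    have : r = (r - ∑ i ∈ s, ∑ j ∈ s, a i j) + ∑ i ∈ s, ∑ j ∈ s, a i j := by ring
    rw [this]
    exact hr2.add_odd hodd
  · rw [← hr1]
    exact Finset.sum_congr rfl fun u _ => hexp u

open Classical in
/-- the average of a positive algebraic integer `x / 2^h` of the local ideal is at least two -/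
theorem two_le_avg_of_mem {M : Ideal AlgInt} (hM : IsPModular 2 M) {ι : Type*} (k : ℕ)
    (s : Finset ι) (w : ι → ι → ℂ) (hw : ∀ i ∈ s, ∀ j ∈ s, w i j ^ (2 ^ k) = 1)
    (a : ι → ι → ℤ) (x : (ZMod (2 ^ k))ˣ → ℂ)
    (hexp : ∀ u : (ZMod (2 ^ k))ˣ, x u =
      ∑ i ∈ s, ∑ j ∈ s, w i j ^ (u : ZMod (2 ^ k)).val * (a i j : ℂ))
    (h : ℕ) (hint : ∀ u, IsIntegral ℤ (x u / (2 : ℂ) ^ h))
    (hτ : ∀ (τ : ℂ ≃+* ℂ) (j : (ZMod (2 ^ k))ˣ),
      (∀ ω : ℂ, ω ^ (2 ^ k) = 1 → τ ω = ω ^ (j : ZMod (2 ^ k)).val) → ∀ u, τ (x u) = x (u * j))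
    (ρ : (ZMod (2 ^ k))ˣ → ℝ) (hρ : ∀ u, x u = (ρ u : ℂ)) (hρpos : ∀ u, 0 < ρ u)
    (hmem : MemLocalIdeal M (x 1 / (2 : ℂ) ^ h)) :
    ∃ c : ℤ, 2 ≤ c ∧
      ∑ u : (ZMod (2 ^ k))ˣ, x u = (Nat.totient (2 ^ k) : ℂ) * ((2 : ℂ) ^ h * (c : ℂ)) := by
  have hMp : M.IsPrime := isPrime_of_isPModular hM
  have hNpos : 0 < 2 ^ k := by positivity
  haveI : NeZero (2 ^ k) := ⟨hNpos.ne'⟩
  have h2h : (2 : ℂ) ^ h ≠ 0 := pow_ne_zero _ two_ne_zero
  set ζ : ℂ := Complex.exp (2 * Real.pi * Complex.I / ((2 ^ k : ℕ) : ℂ)) with hζdef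
  have hζ : IsPrimitiveRoot ζ (2 ^ k) := Complex.isPrimitiveRoot_exp (2 ^ k) hNpos.ne'
  set K := IntermediateField.adjoin ℚ ({ζ} : Set ℂ) with hK
  have hζK : ζ ∈ K := IntermediateField.mem_adjoin_simple_self ℚ ζ
  have hwmem : ∀ i ∈ s, ∀ j ∈ s, w i j ∈ K := by
    intro i hi j hj
    obtain ⟨n, -, hn⟩ := hζ.eq_pow_of_pow_eq_one (hw i hi j hj)
    rw [← hn]
    exact pow_mem hζK n
  set μ : (ZMod (2 ^ k))ˣ → ℂ := fun u => x u / (2 : ℂ) ^ h with hμ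
  have hμ1mem : μ 1 ∈ K := by
    rw [hμ]
    simp only
    rw [hexp 1]
    refine div_mem (sum_mem fun i hi => sum_mem fun j hj =>
      mul_mem (pow_mem (hwmem i hi j hj) _) (intCast_mem K _)) (pow_mem ?_ h)
    exact_mod_cast natCast_mem K 2
  obtain ⟨P, hP⟩ := exists_poly_of_isIntegral_cyc (2 ^ k) ζ hζ (μ 1) (hint 1) hμ1mem
  have hμτ : ∀ (τ : ℂ ≃+* ℂ) (j : (ZMod (2 ^ k))ˣ),
      (∀ ω : ℂ, ω ^ (2 ^ k) = 1 → τ ω = ω ^ (j : ZMod (2 ^ k)).val) →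
        ∀ u, τ (μ u) = μ (u * j) := by
    intro τ j hj u
    rw [hμ]
    simp only
    rw [map_div₀, map_pow, hτ τ j hj u]
    congr 2
    exact map_ofNat τ 2
  obtain ⟨c, hc⟩ := sum_galois_family_eq k ζ hζ.pow_eq_one μ hμτ P hP
  have hμρ : ∀ u, μ u = ((ρ u / 2 ^ h : ℝ) : ℂ) := by
    intro u
    rw [hμ]
    simp only
    rw [hρ u]
    push_cast
    rfl
  have hμnorm : ∀ u, ‖μ u‖ = ρ u / 2 ^ h := by
    intro u
    rw [hμρ u, Complex.norm_real, Real.norm_of_nonneg]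
    exact div_nonneg (hρpos u).le (by positivity)
  have hμne : ∀ u, μ u ≠ 0 := by
    intro u h0
    have := hμnorm u
    rw [h0, norm_zero] at this
    have h1 : 0 < ρ u / 2 ^ h := div_pos (hρpos u) (by positivity)
    linarith
  have hφ : (0 : ℝ) < (Nat.totient (2 ^ k) : ℝ) := by
    exact_mod_cast Nat.totient_pos.mpr hNpos
  -- the real form of the sum
  have hsumR : ∑ u : (ZMod (2 ^ k))ˣ, ‖μ u‖ = (Nat.totient (2 ^ k) : ℝ) * (c : ℝ) := by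
    have h1 : ((∑ u : (ZMod (2 ^ k))ˣ, ‖μ u‖ : ℝ) : ℂ) =
        (((Nat.totient (2 ^ k) : ℝ) * (c : ℝ) : ℝ) : ℂ) := by
      rw [Complex.ofReal_sum]
      push_cast
      rw [← hc]
      refine Finset.sum_congr rfl fun u _ => ?_
      rw [hμnorm u, hμρ u]
    exact_mod_cast h1
  have hlow := totient_le_sum_norm (2 ^ k) μ hint hμτ hμne
  rw [hsumR] at hlow
  have hc1 : (1 : ℝ) ≤ (c : ℝ) := by
    by_contra hlt
    push Not at hlt
    nlinarith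
  have hc1' : (1 : ℤ) ≤ c := by exact_mod_cast hc1
  have hcne : c ≠ 1 := by
    rintro rfl
    have hle : ∑ u : (ZMod (2 ^ k))ˣ, ‖μ u‖ ≤ (Nat.totient (2 ^ k) : ℝ) := by
      rw [hsumR]
      simp
    have hone := norm_eq_one_of_sum_norm_le (2 ^ k) μ hint hμτ hμne hle 1
    have hμ1 : μ 1 = 1 := by
      rw [hμρ 1]
      rw [hμnorm 1] at hone
      rw [hone]
      simp
    have : MemLocalIdeal M (μ 1) := hmem
    rw [hμ1] at this
    exact not_memLocalIdeal_one hMp this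
  refine ⟨c, by omega, ?_⟩
  have e : ∑ u : (ZMod (2 ^ k))ˣ, x u = (2 : ℂ) ^ h * ∑ u : (ZMod (2 ^ k))ˣ, μ u := by
    rw [Finset.mul_sum]
    refine Finset.sum_congr rfl fun u _ => ?_
    rw [hμ]
    simp only
    field_simp
  rw [e, hc]
  ring

section expansion
variable {H : Type u} [Group H] [Fintype H] [Fintype (IrrCharacter H)]

open Cfsg.Agent.Lib.Helper74 Cfsg.Agent.Lib.Helper76 in
open Classical in
/-- the diagonal numbers as symmetric integral combinations of roots of unity -/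
theorem cval_self_expansion (b : Set (IrrCharacter H)) (χ' : H → ℂ) (hχ' : IsCharacter H χ')
    (zH : H) (hzc : zH ∈ Subgroup.center H) (k : ℕ) (hzN : zH ^ (2 ^ k) = 1) :
    ∃ (w : IrrCharacter H → IrrCharacter H → ℂ) (a : IrrCharacter H → IrrCharacter H → ℤ),
      (∀ ξ ξ', w ξ ξ' ^ (2 ^ k) = 1) ∧ (∀ ξ ξ', w ξ ξ' * w ξ' ξ = 1) ∧
      (∀ ξ ∈ Finset.univ.filter (fun ξ : IrrCharacter H => ξ ∈ b),
        ∀ ξ' ∈ Finset.univ.filter (fun ξ : IrrCharacter H => ξ ∈ b), a ξ ξ' = a ξ' ξ) ∧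
      ∀ n : ℕ, ((2 ^ blockDefect 2 b : ℕ) : ℂ) * cval 2 b χ' χ' (zH ^ n) =
        ∑ ξ ∈ Finset.univ.filter (fun ξ : IrrCharacter H => ξ ∈ b),
          ∑ ξ' ∈ Finset.univ.filter (fun ξ : IrrCharacter H => ξ ∈ b),
            w ξ ξ' ^ n * (a ξ ξ' : ℂ) := by
  haveI : Fact (Nat.Prime 2) := ⟨Nat.prime_two⟩
  set bf := Finset.univ.filter (fun ξ : IrrCharacter H => ξ ∈ b) with hbf
  have hzinvN : zH⁻¹ ^ (2 ^ k) = 1 := by rw [inv_pow, hzN, inv_one]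
  obtain ⟨mχ, hmχ, -⟩ := Cfsg.Agent.Lib.Helper15.exists_nat_decomp hχ'
  obtain ⟨c, hc⟩ := exists_int_coeff (p := 2) b
  have hcsymm : ∀ ξ ∈ bf, ∀ ξ' ∈ bf, c ξ ξ' = c ξ' ξ := by
    intro ξ hξ ξ' hξ'
    have hξb : ξ ∈ b := (Finset.mem_filter.mp hξ).2
    have hξ'b : ξ' ∈ b := (Finset.mem_filter.mp hξ').2
    have h1 := hc ξ hξb ξ'
    have h2 := hc ξ' hξ'b ξ
    have h3 : conj ((c ξ' ξ : ℂ)) = (c ξ ξ' : ℂ) := by
      rw [← h2, ← h1, map_mul, map_pow, Complex.conj_natCast, classInner_pRegularPart_conj]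
    rw [map_intCast] at h3
    exact_mod_cast h3.symm
  refine ⟨fun ξ ξ' => om ξ zH * om ξ' zH⁻¹,
    fun ξ ξ' => (mχ ξ : ℤ) * (mχ ξ' : ℤ) * c ξ ξ', ?_, ?_, ?_, ?_⟩
  · intro ξ ξ'
    rw [mul_pow, om_pow_eq_one ξ zH hzc _ hzN,
      om_pow_eq_one ξ' zH⁻¹ (Subgroup.inv_mem _ hzc) _ hzinvN, one_mul]
  · intro ξ ξ'
    calc om ξ zH * om ξ' zH⁻¹ * (om ξ' zH * om ξ zH⁻¹)
        = (om ξ zH * om ξ zH⁻¹) * (om ξ' zH * om ξ' zH⁻¹) := by ring
      _ = 1 := by rw [om_mul_inv ξ zH hzc, om_mul_inv ξ' zH hzc, one_mul]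
  · intro ξ hξ ξ' hξ'
    simp only
    rw [hcsymm ξ hξ ξ' hξ']
    ring
  · intro n
    rw [pow_mul_cval_eq_sum b _ _ _ (Subgroup.pow_mem _ hzc _) mχ mχ hmχ hmχ c hc]
    refine Finset.sum_congr rfl fun ξ _ => ?_
    refine Finset.sum_congr rfl fun ξ' _ => ?_
    rw [om_pow ξ zH hzc, ← inv_pow, om_pow ξ' zH⁻¹ (Subgroup.inv_mem _ hzc)]
    simp only
    rw [mul_pow]
    push_cast
    ring

end expansion

end Cfsg.Agent.Lib.Helper77.Ctb
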