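import Cfsg.Agent.Lib.Helper77.CtbQ

/-!
# Major subsections of `2`-blocks of rank at most three: the weighted bound (helper77)

For a major subsection `(y, b)` of the `2`-block `B` of defect `d` with `l(b) ≤ 3`:
`3 k₀(B) + 2 ∑_{h ≥ 1} 2^h k_h(B) ≤ 3 · 2^d`.

The Galois average `R χ` of the diagonal contribution `2^d m_{χχ}` is an odd integer for `χ` of
height zero and a multiple `2^h c`, `c ≥ 2`, for `χ` of height `h ≥ 1`; the averages add up to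
`2^d l(b)`.  If some character of height zero has average one, its row gives
`∑ 4^{h(ψ)} ≤ 2^d`.
-/

set_option autoImplicit false

universe u

namespace Cfsg.Agent.Lib.Helper77.Ctb

open Cfsg Cfsg.Agent.Lib.Helper81 Cfsg.Agent.Lib.Helper74 Cfsg.Agent.Lib.Helper76
  Cfsg.Agent.Lib.Helper16 Cfsg.Agent.Lib.Helper25
open scoped ComplexConjugate

variable {G : Type u} [Group G] [Fintype G] [Fintype (IrrCharacter G)] {M : Ideal AlgInt}

/-- the weight of a character of the block: `3` in height zero, `2 · 2^h` in height `h ≥ 1` -/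
noncomputable def hwt (B : Set (IrrCharacter G)) (χ : IrrCharacter G) : ℕ :=
  if blockHeight 2 B (χ : G → ℂ) = 0 then 3 else 2 * 2 ^ blockHeight 2 B (χ : G → ℂ)

open Classical in
/-- **The weighted bound for major subsections of rank at most three.** -/
theorem weighted_core (hM : IsPModular 2 M) {B : Set (IrrCharacter G)}
    (y : G) (hy : ∃ k : ℕ, orderOf y = 2 ^ k)
    (H : Subgroup G) (hH : H = Subgroup.centralizer ({y} : Set G)) [Fintype H]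
    [Fintype (IrrCharacter H)] (ξ₀ : IrrCharacter H)
    (hind : IsInducedBlock M H (blockOf M (ξ₀ : H → ℂ)) B)
    (hdef : blockDefect 2 (blockOf M (ξ₀ : H → ℂ)) = blockDefect 2 B)
    (hl : blockRank 2 (blockOf M (ξ₀ : H → ℂ)) ≤ 3) :
    ∑ χ ∈ Finset.univ.filter (fun χ : IrrCharacter G => χ ∈ B), hwt B χ ≤
      3 * 2 ^ blockDefect 2 B := by
  have hp : (2 : ℕ).Prime := Nat.prime_two
  have hMp : M.IsPrime := isPrime_of_isPModular hM
  set b := blockOf M (ξ₀ : H → ℂ) with hb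
  set d := blockDefect 2 b with hd
  set l := blockRank 2 b with hl'
  set Bf := Finset.univ.filter (fun χ : IrrCharacter G => χ ∈ B) with hBf
  have hBfB : ∀ χ, χ ∈ Bf ↔ χ ∈ B := by
    intro χ
    rw [hBf, Finset.mem_filter]
    simp
  have hB : ∃ χ₁ : IrrCharacter G, B = blockOf M (χ₁ : G → ℂ) := hind.2.1
  obtain ⟨k, hk⟩ := hy
  have hyH : y ∈ H := by
    rw [hH, Subgroup.mem_centralizer_singleton_iff]
  set zH : H := ⟨y, hyH⟩ with hzH
  have hzc : zH ∈ Subgroup.center H := by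
    rw [Subgroup.mem_center_iff]
    intro c
    apply Subtype.ext
    have hc : (c : G) ∈ Subgroup.centralizer ({y} : Set G) := hH ▸ c.2
    have := Subgroup.mem_centralizer_singleton_iff.mp hc
    simp only [Subgroup.coe_mul, hzH]
    exact this
  have hzN : zH ^ (2 ^ k) = 1 := by
    apply Subtype.ext
    simp only [Subgroup.coe_pow, Subgroup.coe_one, hzH]
    rw [← hk]
    exact pow_orderOf_eq_one y
  have hres : ∀ χ : IrrCharacter G, IsCharacter H (fun c : H => (χ : G → ℂ) (c : G)) := fun χ =>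
    Cfsg.Agent.Lib.Helper3.IsCharacter.restrict
      (Cfsg.Agent.Lib.Helper3.IsIrrCharacter.isCharacter χ.2) _
  -- the family
  set x : IrrCharacter G → IrrCharacter G → (ZMod (2 ^ k))ˣ → ℂ := fun χ ψ u =>
    ((2 ^ d : ℕ) : ℂ) * ctb 2 (y ^ (u : ZMod (2 ^ k)).val) H b (χ : G → ℂ) (ψ : G → ℂ) with hx
  have hxc : ∀ χ ψ u, x χ ψ u = ((2 ^ d : ℕ) : ℂ) *
      cval 2 b (fun c : H => (χ : G → ℂ) (c : G)) (fun c : H => (ψ : G → ℂ) (c : G))
        (zH ^ (u : ZMod (2 ^ k)).val) := by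
    intro χ ψ u
    rw [hx]
    simp only
    rw [ctb_eq_cval y H hyH b]
  have hint : ∀ χ ψ u, IsIntegral ℤ (x χ ψ u) := by
    intro χ ψ u
    rw [hxc]
    exact cval_integral b _ _ (hres χ) (hres ψ) _ (Subgroup.pow_mem _ hzc _)
  have hgal : ∀ χ ψ (τ : ℂ ≃+* ℂ) (j : (ZMod (2 ^ k))ˣ),
      (∀ ω : ℂ, ω ^ (2 ^ k) = 1 → τ ω = ω ^ (j : ZMod (2 ^ k)).val) →
        ∀ u, τ (x χ ψ u) = x χ ψ (u * j) := by
    intro χ ψ τ j hτ u
    rw [hxc, hxc]
    have hzu : (zH ^ (u : ZMod (2 ^ k)).val) ^ (2 ^ k) = 1 := by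
      rw [← pow_mul, mul_comm, pow_mul, hzN, one_pow]
    rw [cval_galois b _ _ (hres χ) (hres ψ) _ (Subgroup.pow_mem _ hzc _) (2 ^ k) hzu τ _ hτ]
    congr 2
    rw [← pow_mul, Units.val_mul, ZMod.val_mul]
    exact pow_eq_pow_mod _ hzN
  -- the section data of the powers of `y`
  have hsec : ∀ u : (ZMod (2 ^ k))ˣ,
      (∃ k' : ℕ, orderOf (y ^ (u : ZMod (2 ^ k)).val) = 2 ^ k') ∧
      H = Subgroup.centralizer ({y ^ (u : ZMod (2 ^ k)).val} : Set G) := by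
    intro u
    have hcop : Nat.Coprime (u : ZMod (2 ^ k)).val (orderOf y) := by
      rw [hk]
      exact ZMod.val_coe_unit_coprime u
    refine ⟨exists_orderOf_pow hp ⟨k, hk⟩ _, ?_⟩
    rw [hH]
    exact centralizer_pow_eq hcop
  -- rows
  have hrow : ∀ (χ : IrrCharacter G) (u : (ZMod (2 ^ k))ˣ),
      ∑ ψ ∈ Bf, x χ ψ u * conj (x χ ψ u) = ((2 ^ d : ℕ) : ℂ) * x χ χ u := by
    intro χ u
    have h1 := sum_ctb_mul_conj hM (hsec u).1 H (hsec u).2 ξ₀ hind (χ : G → ℂ)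
    rw [hx]
    simp only
    rw [← h1, Finset.mul_sum, Finset.mul_sum]
    refine Finset.sum_congr rfl fun ψ _ => ?_
    rw [map_mul, Complex.conj_natCast]
    ring
  have hnorm : ∀ (χ : IrrCharacter G) (u : (ZMod (2 ^ k))ˣ),
      ((∑ ψ ∈ Bf, ‖x χ ψ u‖ ^ 2 : ℝ) : ℂ) = ((2 ^ d : ℕ) : ℂ) * x χ χ u := by
    intro χ u
    rw [Complex.ofReal_sum]
    refine (Finset.sum_congr rfl fun ψ _ => ?_).trans (hrow χ u)
    rw [Complex.mul_conj, Complex.normSq_eq_norm_sq]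
  -- trace
  have htr : ∀ u : (ZMod (2 ^ k))ˣ, ∑ χ ∈ Bf, x χ χ u = ((2 ^ d : ℕ) : ℂ) * (l : ℂ) := by
    intro u
    have h1 := sum_ctb_self hM (hsec u).1 H (hsec u).2 ξ₀ hind
    rw [hx]
    simp only
    rw [← Finset.mul_sum, h1]
  -- heights
  set ht : IrrCharacter G → ℕ := fun χ => blockHeight 2 B (χ : G → ℂ) with hht
  have e2 : ((2 : ℕ) : ℂ) = 2 := by norm_num
  have hφpos : 0 < Nat.totient (2 ^ k) := Nat.totient_pos.mpr (by positivity)
  have hφ : (0 : ℝ) < (Nat.totient (2 ^ k) : ℝ) := by exact_mod_cast hφpos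
  have hφC : (Nat.totient (2 ^ k) : ℂ) ≠ 0 := by exact_mod_cast hφpos.ne'
  have h2dR : (0 : ℝ) < (2 : ℝ) ^ d := by positivity
  have hXB : ∀ (u : (ZMod (2 ^ k))ˣ) (φ ψ : IrrCharacter G),
      IsIntegral ℤ (((2 ^ blockDefect 2 B : ℕ) : ℂ) *
        ctb 2 (y ^ (u : ZMod (2 ^ k)).val) H b (φ : G → ℂ) (ψ : G → ℂ)) := by
    intro u φ ψ
    rw [← hdef]
    exact hint φ ψ u
  have hintdiv : ∀ χ ψ : IrrCharacter G, ψ ∈ B → ∀ u,
      IsIntegral ℤ (x χ ψ u / (2 : ℂ) ^ ht ψ) := by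
    intro χ ψ hψ u
    have := isIntegral_ctb_div hM H (hsec u).2 ξ₀ χ ψ hψ (hXB u χ ψ)
    rw [← hdef, e2] at this
    exact this
  -- non-vanishing
  have hne0 : ∀ ψ₀ ∈ B, ht ψ₀ = 0 → ∀ χ ∈ B, ∀ u, x ψ₀ χ u ≠ 0 := by
    intro ψ₀ hψ₀ hh χ hχ u
    have := ctb_ne_zero hM (hsec u).1 H (hsec u).2 ξ₀ hind hdef ψ₀ hψ₀ hh χ hχ
    rw [hx]
    simp only
    exact mul_ne_zero (by exact_mod_cast (pow_pos hp.pos d).ne') this
  have hnediag : ∀ χ ∈ B, ∀ u, x χ χ u ≠ 0 := by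
    intro χ hχ u
    have := ctb_self_ne_zero hM (hsec u).1 H (hsec u).2 ξ₀ hind hdef χ hχ
    rw [hx]
    simp only
    exact mul_ne_zero (by exact_mod_cast (pow_pos hp.pos d).ne') this
  -- the diagonal numbers are positive reals
  set ρ : IrrCharacter G → (ZMod (2 ^ k))ˣ → ℝ := fun χ u =>
    (∑ ψ ∈ Bf, ‖x χ ψ u‖ ^ 2) / 2 ^ d with hρdef
  have hρ : ∀ χ u, x χ χ u = (ρ χ u : ℂ) := by
    intro χ u
    rw [hρdef]
    simp only
    rw [Complex.ofReal_div, hnorm χ u]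
    push_cast
    field_simp
  have hρ0 : ∀ χ u, 0 ≤ ρ χ u := by
    intro χ u
    rw [hρdef]
    simp only
    exact div_nonneg (Finset.sum_nonneg fun ψ _ => by positivity) h2dR.le
  have hρpos : ∀ χ ∈ B, ∀ u, 0 < ρ χ u := by
    intro χ hχ u
    rcases (hρ0 χ u).eq_or_lt with h0 | hpos
    · exfalso
      apply hnediag χ hχ u
      rw [hρ χ u, ← h0]
      simp
    · exact hpos
  have hrowR : ∀ χ u, ∑ ψ ∈ Bf, ‖x χ ψ u‖ ^ 2 = 2 ^ d * ρ χ u := by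
    intro χ u
    rw [hρdef]
    simp only
    field_simp
  -- units in height zero
  have hU : ∀ χ ∈ B, ht χ = 0 → ∀ ξ₁ ∈ b, ¬ MemLocalIdeal M
      (classInner (pTilde 2 (fun c : H => (χ : G → ℂ) (c : G))) (ξ₁ : H → ℂ) /
        (ξ₁ : H → ℂ) 1) := by
    intro χ hχ hh ξ₁ hξ₁
    exact (Cfsg.Agent.S4431.result 2 M hM H b B hind χ ξ₁ hξ₁).2 hχ hh
  have hunit : ∀ χ ∈ B, ht χ = 0 → ∀ u, ¬ MemLocalIdeal M (x χ χ u) := by
    intro χ hχ hh u
    have hzu : (zH ^ (u : ZMod (2 ^ k)).val) ^ (2 ^ k) = 1 := by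
      rw [← pow_mul, mul_comm, pow_mul, hzN, one_pow]
    have := (cval_unit hM ξ₀ (zH ^ (u : ZMod (2 ^ k)).val) (Subgroup.pow_mem _ hzc _) k hzu
      _ _ (hres χ) (hres χ) (hU χ hχ hh) (hU χ hχ hh)).2
    rw [← hd, ← hxc χ χ u] at this
    exact this
  -- the averages
  have hR : ∀ χ : IrrCharacter G, ∃ R : ℤ, χ ∈ B →
      (∑ u : (ZMod (2 ^ k))ˣ, x χ χ u = (Nat.totient (2 ^ k) : ℂ) * (R : ℂ) ∧ 1 ≤ R ∧
        (ht χ = 0 → Odd R) ∧ (1 ≤ ht χ → 2 * 2 ^ ht χ ≤ R)) := by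
    intro χ
    by_cases hχ : χ ∈ B
    swap
    · exact ⟨0, fun h => absurd h hχ⟩
    obtain ⟨w, a, hw, hinv, hasymm, hexp0⟩ :=
      cval_self_expansion b (fun c : H => (χ : G → ℂ) (c : G)) (hres χ) zH hzc k hzN
    have hexp : ∀ u : (ZMod (2 ^ k))ˣ, x χ χ u =
        ∑ ξ ∈ Finset.univ.filter (fun ξ : IrrCharacter H => ξ ∈ b),
          ∑ ξ' ∈ Finset.univ.filter (fun ξ : IrrCharacter H => ξ ∈ b),
            w ξ ξ' ^ (u : ZMod (2 ^ k)).val * (a ξ ξ' : ℂ) := by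
      intro u
      rw [hxc]
      exact hexp0 _
    have hsumρ : ∑ u : (ZMod (2 ^ k))ˣ, x χ χ u =
        ((∑ u : (ZMod (2 ^ k))ˣ, ρ χ u : ℝ) : ℂ) := by
      rw [Complex.ofReal_sum]
      exact Finset.sum_congr rfl fun u _ => hρ χ u
    have hsumpos : 0 < ∑ u : (ZMod (2 ^ k))ˣ, ρ χ u :=
      Finset.sum_pos (fun u _ => hρpos χ hχ u) ⟨1, Finset.mem_univ _⟩
    by_cases h0 : ht χ = 0
    · obtain ⟨r, hodd, hsum⟩ := odd_avg_of_unit hM k _ w (fun i _ j _ => hw i j)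
        (fun i _ j _ => hinv i j) a hasymm (x χ χ) hexp (hunit χ hχ h0 1)
      refine ⟨r, fun _ => ⟨hsum, ?_, fun _ => hodd, fun h1 => by omega⟩⟩
      rw [hsumρ] at hsum
      have h1 : (∑ u : (ZMod (2 ^ k))ˣ, ρ χ u : ℝ) = (Nat.totient (2 ^ k) : ℝ) * (r : ℝ) := by
        exact_mod_cast hsum
      have h2 : (0 : ℝ) < (r : ℝ) := by
        by_contra hle
        push Not at hle
        nlinarith
      have h3 : (0 : ℤ) < r := by exact_mod_cast h2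
      omega
    · have hpos : 1 ≤ ht χ := by omega
      have hmem : MemLocalIdeal M (x χ χ 1 / (2 : ℂ) ^ ht χ) := by
        have := memLocalIdeal_ctb_self_div hM H (hsec 1).2 ξ₀ hB (hXB 1) χ hχ hpos
        rw [← hdef, e2] at this
        exact this
      obtain ⟨c, hc2, hsum⟩ := two_le_avg_of_mem hM k _ w (fun i _ j _ => hw i j) a (x χ χ) hexp
        (ht χ) (hintdiv χ χ hχ) (hgal χ χ) (ρ χ) (hρ χ) (hρpos χ hχ) hmem
      refine ⟨2 ^ ht χ * c, fun _ => ⟨?_, ?_, fun h => absurd h h0, fun _ => ?_⟩⟩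
      · rw [hsum]
        push_cast
        ring
      · have : (1 : ℤ) ≤ 2 ^ ht χ := one_le_pow₀ (by norm_num)
        nlinarith
      · have : (0 : ℤ) < 2 ^ ht χ := by positivity
        nlinarith
  choose R hR using hR
  -- the averages add up to `2^d l`
  have hRsum : ∑ χ ∈ Bf, R χ = 2 ^ d * (l : ℤ) := by
    have h1 : ∑ χ ∈ Bf, ∑ u : (ZMod (2 ^ k))ˣ, x χ χ u =
        (Nat.totient (2 ^ k) : ℂ) * ((∑ χ ∈ Bf, R χ : ℤ) : ℂ) := by
      push_cast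
      rw [Finset.mul_sum]
      exact Finset.sum_congr rfl fun χ hχ => (hR χ ((hBfB χ).mp hχ)).1
    have h2 : ∑ χ ∈ Bf, ∑ u : (ZMod (2 ^ k))ˣ, x χ χ u =
        (Nat.totient (2 ^ k) : ℂ) * ((2 ^ d * (l : ℤ) : ℤ) : ℂ) := by
      rw [Finset.sum_comm, Finset.sum_congr rfl fun u _ => htr u, Finset.sum_const,
        Finset.card_univ, ZMod.card_units_eq_totient, nsmul_eq_mul]
      push_cast
      ring
    rw [h1] at h2
    have h3 := mul_left_cancel₀ hφC h2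
    exact_mod_cast h3
  have hdB : blockDefect 2 B = d := hdef.symm
  rw [hdB]
  by_cases hcase : ∃ χ₁ ∈ B, ht χ₁ = 0 ∧ R χ₁ = 1
  · -- a character of height zero with average one: its row
    obtain ⟨χ₁, hχ₁, hh₁, hR₁⟩ := hcase
    have hsum1 : ∑ u : (ZMod (2 ^ k))ˣ, ρ χ₁ u = (Nat.totient (2 ^ k) : ℝ) := by
      have h1 := (hR χ₁ hχ₁).1
      rw [hR₁] at h1
      have h2 : ((∑ u : (ZMod (2 ^ k))ˣ, ρ χ₁ u : ℝ) : ℂ) =
          (((Nat.totient (2 ^ k) : ℝ)) : ℂ) := by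
        rw [Complex.ofReal_sum]
        rw [← Finset.sum_congr rfl fun u _ => hρ χ₁ u, h1]
        push_cast
        ring
      exact_mod_cast h2
    have hlow : ∀ ψ ∈ Bf, (Nat.totient (2 ^ k) : ℝ) * (4 : ℝ) ^ ht ψ ≤
        ∑ u : (ZMod (2 ^ k))ˣ, ‖x χ₁ ψ u‖ ^ 2 := by
      intro ψ hψ
      have hψB := (hBfB ψ).mp hψ
      have h2h : (2 : ℂ) ^ ht ψ ≠ 0 := pow_ne_zero _ two_ne_zero
      have hτ' : ∀ (τ : ℂ ≃+* ℂ) (j : (ZMod (2 ^ k))ˣ),
          (∀ ω : ℂ, ω ^ (2 ^ k) = 1 → τ ω = ω ^ (j : ZMod (2 ^ k)).val) →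
            ∀ u, τ (x χ₁ ψ u / (2 : ℂ) ^ ht ψ) = x χ₁ ψ (u * j) / (2 : ℂ) ^ ht ψ := by
        intro τ j hj u
        rw [map_div₀, map_pow, hgal χ₁ ψ τ j hj u]
        congr 2
        exact map_ofNat τ 2
      haveI : NeZero (2 ^ k) := ⟨(by positivity : (0 : ℕ) < 2 ^ k).ne'⟩
      have h1 := totient_le_sum_norm_sq (2 ^ k) (fun u => x χ₁ ψ u / (2 : ℂ) ^ ht ψ)
        (hintdiv χ₁ ψ hψB) hτ' (fun u => div_ne_zero (hne0 χ₁ hχ₁ hh₁ ψ hψB u) h2h)
      have h3 : ∀ u : (ZMod (2 ^ k))ˣ, ‖x χ₁ ψ u / (2 : ℂ) ^ ht ψ‖ ^ 2 =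
          ‖x χ₁ ψ u‖ ^ 2 / (4 : ℝ) ^ ht ψ := by
        intro u
        rw [norm_div, norm_pow, div_pow, ← pow_mul, mul_comm, pow_mul]
        norm_num
      rw [Finset.sum_congr rfl fun u _ => h3 u, ← Finset.sum_div] at h1
      have h4 : (0 : ℝ) < (4 : ℝ) ^ ht ψ := by positivity
      rwa [le_div_iff₀ h4] at h1
    have htot : ∑ ψ ∈ Bf, ∑ u : (ZMod (2 ^ k))ˣ, ‖x χ₁ ψ u‖ ^ 2 =
        2 ^ d * (Nat.totient (2 ^ k) : ℝ) := by
      rw [Finset.sum_comm, Finset.sum_congr rfl fun u _ => hrowR χ₁ u, ← Finset.mul_sum, hsum1]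
    have h5 : (Nat.totient (2 ^ k) : ℝ) * ∑ ψ ∈ Bf, (4 : ℝ) ^ ht ψ ≤
        2 ^ d * (Nat.totient (2 ^ k) : ℝ) := by
      rw [← htot, Finset.mul_sum]
      exact Finset.sum_le_sum hlow
    have h6 : ∑ ψ ∈ Bf, (4 : ℝ) ^ ht ψ ≤ 2 ^ d := by
      have : (Nat.totient (2 ^ k) : ℝ) * ∑ ψ ∈ Bf, (4 : ℝ) ^ ht ψ ≤
          (Nat.totient (2 ^ k) : ℝ) * 2 ^ d := by linarith
      exact le_of_mul_le_mul_left this hφ
    have h7 : ∑ ψ ∈ Bf, 4 ^ ht ψ ≤ 2 ^ d := by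
      exact_mod_cast h6
    calc ∑ χ ∈ Bf, hwt B χ ≤ ∑ χ ∈ Bf, 3 * 4 ^ ht χ := by
          refine Finset.sum_le_sum fun χ _ => ?_
          unfold hwt
          split_ifs with h0
          · have : 1 ≤ 4 ^ ht χ := Nat.one_le_pow _ _ (by norm_num)
            omega
          · have : 2 ^ blockHeight 2 B (χ : G → ℂ) ≤ 4 ^ ht χ :=
              Nat.pow_le_pow_left (by norm_num) _
            omega
      _ = 3 * ∑ χ ∈ Bf, 4 ^ ht χ := by rw [Finset.mul_sum]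
      _ ≤ 3 * 2 ^ d := Nat.mul_le_mul_left 3 h7
  · -- all averages in height zero are at least three
    push Not at hcase
    have hle : ∀ χ ∈ Bf, (hwt B χ : ℤ) ≤ R χ := by
      intro χ hχ
      have hχB := (hBfB χ).mp hχ
      obtain ⟨-, h1, hodd, hpos⟩ := hR χ hχB
      unfold hwt
      split_ifs with h0
      · have hne := hcase χ hχB h0
        obtain ⟨m, hm⟩ := hodd h0
        push_cast
        omega
      · have := hpos (Nat.one_le_iff_ne_zero.mpr h0)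
        push_cast
        exact this
    have h1 : ((∑ χ ∈ Bf, hwt B χ : ℕ) : ℤ) ≤ 2 ^ d * (l : ℤ) := by
      rw [← hRsum]
      push_cast
      exact Finset.sum_le_sum hle
    have h2 : (2 : ℤ) ^ d * (l : ℤ) ≤ 3 * 2 ^ d := by
      have : (l : ℤ) ≤ 3 := by exact_mod_cast hl
      have h2d : (0 : ℤ) < 2 ^ d := by positivity
      nlinarith
    exact_mod_cast h1.trans h2

end Cfsg.Agent.Lib.Helper77.Ctb
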