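import Cfsg.Agent.Lib.Helper77.CtbR
import Cfsg.Agent.Lib.Helper74.BR3

/-!
# Major subsections of `2`-blocks of corank at most three (helper77)

For a major subsection `(y, b)` of the `2`-block `B` of defect `d` with `k(B) ≤ l(b) + 3`:
`k(B) ≤ 2^d`.  The argument of `weighted_core` is applied to the complementary projection
`2^d - M` of the matrix of contributions, whose rank is `k(B) - l(b)`.
-/

set_option autoImplicit false

universe u

namespace Cfsg.Agent.Lib.Helper77.Ctb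

open Cfsg Cfsg.Agent.Lib.Helper81 Cfsg.Agent.Lib.Helper74 Cfsg.Agent.Lib.Helper76
  Cfsg.Agent.Lib.Helper16 Cfsg.Agent.Lib.Helper25
open scoped ComplexConjugate

/-- the average of the complementary numbers `(2^d - x) / 2^h` is at least two -/
theorem dual_two_le_avg {M : Ideal AlgInt} (hM : IsPModular 2 M) (k : ℕ)
    (x : (ZMod (2 ^ k))ˣ → ℂ) (d h : ℕ) (hhd : h ≤ d) (c : ℤ)
    (hsum : ∑ u : (ZMod (2 ^ k))ˣ, x u = (Nat.totient (2 ^ k) : ℂ) * ((2 : ℂ) ^ h * (c : ℂ)))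
    (hint : ∀ u, IsIntegral ℤ (x u / (2 : ℂ) ^ h))
    (hτ : ∀ (τ : ℂ ≃+* ℂ) (j : (ZMod (2 ^ k))ˣ),
      (∀ ω : ℂ, ω ^ (2 ^ k) = 1 → τ ω = ω ^ (j : ZMod (2 ^ k)).val) → ∀ u, τ (x u) = x (u * j))
    (ρ : (ZMod (2 ^ k))ˣ → ℝ) (hρ : ∀ u, x u = (ρ u : ℂ)) (hρpos : ∀ u, 0 < ρ u)
    (hρlt : ∀ u, ρ u < 2 ^ d)
    (hmem : MemLocalIdeal M (x 1 / (2 : ℂ) ^ h)) :
    2 ≤ 2 ^ (d - h) - c := by
  have hMp : M.IsPrime := isPrime_of_isPModular hM
  have hNpos : 0 < 2 ^ k := by positivity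
  haveI : NeZero (2 ^ k) := ⟨hNpos.ne'⟩
  have h2h : (2 : ℂ) ^ h ≠ 0 := pow_ne_zero _ two_ne_zero
  have hφ : (0 : ℝ) < (Nat.totient (2 ^ k) : ℝ) := by
    exact_mod_cast Nat.totient_pos.mpr hNpos
  have hφC : (Nat.totient (2 ^ k) : ℂ) ≠ 0 := by
    exact_mod_cast (Nat.totient_pos.mpr hNpos).ne'
  have hpd : (2 : ℂ) ^ d = (2 : ℂ) ^ (d - h) * (2 : ℂ) ^ h := by
    rw [← pow_add, Nat.sub_add_cancel hhd]
  set μ : (ZMod (2 ^ k))ˣ → ℂ := fun u => ((2 : ℂ) ^ d - x u) / (2 : ℂ) ^ h with hμ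
  have hμe : ∀ u, μ u = (2 : ℂ) ^ (d - h) - x u / (2 : ℂ) ^ h := by
    intro u
    rw [hμ]
    simp only
    rw [hpd]
    field_simp
  have hμint : ∀ u, IsIntegral ℤ (μ u) := by
    intro u
    rw [hμe u]
    have h2 : IsIntegral ℤ (2 : ℂ) := by
      have := isIntegral_algebraMap (R := ℤ) (A := ℂ) (x := 2)
      simpa using this
    exact (h2.pow _).sub (hint u)
  have hμτ : ∀ (τ : ℂ ≃+* ℂ) (j : (ZMod (2 ^ k))ˣ),
      (∀ ω : ℂ, ω ^ (2 ^ k) = 1 → τ ω = ω ^ (j : ZMod (2 ^ k)).val) →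
        ∀ u, τ (μ u) = μ (u * j) := by
    intro τ j hj u
    rw [hμ]
    simp only
    rw [map_div₀, map_sub, map_pow, map_pow, hτ τ j hj u]
    have : τ 2 = 2 := map_ofNat τ 2
    rw [this]
  have hμρ : ∀ u, μ u = (((2 ^ d - ρ u) / 2 ^ h : ℝ) : ℂ) := by
    intro u
    rw [hμ]
    simp only
    rw [hρ u]
    push_cast
    rfl
  have hμnorm : ∀ u, ‖μ u‖ = (2 ^ d - ρ u) / 2 ^ h := by
    intro u
    rw [hμρ u, Complex.norm_real, Real.norm_of_nonneg]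
    exact div_nonneg (by linarith [hρlt u]) (by positivity)
  have hμne : ∀ u, μ u ≠ 0 := by
    intro u h0
    have := hμnorm u
    rw [h0, norm_zero] at this
    have h1 : 0 < (2 ^ d - ρ u) / 2 ^ h := div_pos (by linarith [hρlt u]) (by positivity)
    linarith
  set c' : ℤ := 2 ^ (d - h) - c with hc'
  have hμsum : ∑ u : (ZMod (2 ^ k))ˣ, μ u = (Nat.totient (2 ^ k) : ℂ) * (c' : ℂ) := by
    have e1 : ∑ u : (ZMod (2 ^ k))ˣ, μ u =
        ∑ u : (ZMod (2 ^ k))ˣ, ((2 : ℂ) ^ (d - h) - x u / (2 : ℂ) ^ h) :=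
      Finset.sum_congr rfl fun u _ => hμe u
    rw [e1, Finset.sum_sub_distrib, ← Finset.sum_div, hsum, Finset.sum_const, Finset.card_univ,
      ZMod.card_units_eq_totient, nsmul_eq_mul, hc']
    push_cast
    field_simp
  have hsumR : ∑ u : (ZMod (2 ^ k))ˣ, ‖μ u‖ = (Nat.totient (2 ^ k) : ℝ) * (c' : ℝ) := by
    have h1 : ((∑ u : (ZMod (2 ^ k))ˣ, ‖μ u‖ : ℝ) : ℂ) =
        (((Nat.totient (2 ^ k) : ℝ) * (c' : ℝ) : ℝ) : ℂ) := by
      rw [Complex.ofReal_sum]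
      push_cast
      rw [← hμsum]
      refine Finset.sum_congr rfl fun u _ => ?_
      rw [hμnorm u, hμρ u]
    exact_mod_cast h1
  have hlow := totient_le_sum_norm (2 ^ k) μ hμint hμτ hμne
  rw [hsumR] at hlow
  have hc1 : (1 : ℝ) ≤ (c' : ℝ) := by
    by_contra hlt
    push Not at hlt
    nlinarith
  have hc1' : (1 : ℤ) ≤ c' := by exact_mod_cast hc1
  have hcne : c' ≠ 1 := by
    intro hone
    have hle : ∑ u : (ZMod (2 ^ k))ˣ, ‖μ u‖ ≤ (Nat.totient (2 ^ k) : ℝ) := by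
      rw [hsumR, hone]
      simp
    have hn1 := norm_eq_one_of_sum_norm_le (2 ^ k) μ hμint hμτ hμne hle 1
    have hμ1 : μ 1 = 1 := by
      rw [hμρ 1]
      rw [hμnorm 1] at hn1
      rw [hn1]
      simp
    rw [hμe 1] at hμ1
    -- `x 1 / 2^h = 2^(d-h) - 1`
    have hx1 : x 1 / (2 : ℂ) ^ h = (2 : ℂ) ^ (d - h) - 1 := by
      rw [← hμ1]
      ring
    rcases Nat.eq_zero_or_pos (d - h) with hz | hpos
    · rw [hz, pow_zero, sub_self] at hx1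
      have hx0 : x 1 = 0 := by
        rcases div_eq_zero_iff.mp hx1 with h0 | h0
        · exact h0
        · exact absurd h0 h2h
      have := hρpos 1
      rw [hρ 1] at hx0
      have : ρ 1 = 0 := by exact_mod_cast hx0
      linarith [hρpos 1]
    · have h2mem : MemLocalIdeal M ((2 : ℂ) ^ (d - h)) := by
        have : MemLocalIdeal M (((2 ^ (d - h) : ℕ) : ℂ)) :=
          (memLocalIdeal_natCast_iff hM _).mpr (dvd_pow_self 2 (by omega))
        exact_mod_cast this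
      rw [hx1] at hmem
      have := memLocalIdeal_sub hMp h2mem hmem
      rw [sub_sub_cancel] at this
      exact not_memLocalIdeal_one hMp this
  omega

variable {G : Type u} [Group G] [Fintype G] [Fintype (IrrCharacter G)] {M : Ideal AlgInt}

open Classical in
/-- **Major subsections of corank at most three**: `k(B) ≤ 2^d`. -/
theorem card_le_of_corank_three_core (hM : IsPModular 2 M) {B : Set (IrrCharacter G)}
    (y : G) (hy : ∃ k : ℕ, orderOf y = 2 ^ k)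
    (H : Subgroup G) (hH : H = Subgroup.centralizer ({y} : Set G)) [Fintype H]
    [Fintype (IrrCharacter H)] (ξ₀ : IrrCharacter H)
    (hind : IsInducedBlock M H (blockOf M (ξ₀ : H → ℂ)) B)
    (hdef : blockDefect 2 (blockOf M (ξ₀ : H → ℂ)) = blockDefect 2 B)
    (hkl : (Finset.univ.filter (fun χ : IrrCharacter G => χ ∈ B)).card ≤
      blockRank 2 (blockOf M (ξ₀ : H → ℂ)) + 3) :
    (Finset.univ.filter (fun χ : IrrCharacter G => χ ∈ B)).card ≤ 2 ^ blockDefect 2 B := by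
  have hp : (2 : ℕ).Prime := Nat.prime_two
  have hMp : M.IsPrime := isPrime_of_isPModular hM
  set b := blockOf M (ξ₀ : H → ℂ) with hb
  set d := blockDefect 2 b with hd
  set l := blockRank 2 b with hl'
  set Bf := Finset.univ.filter (fun χ : IrrCharacter G => χ ∈ B) with hBf
  have hBfB : ∀ χ, χ ∈ Bf ↔ χ ∈ B := by
    intro χ
    rw [hBf, Finset.mem_filter]
    simp
  have hB : ∃ χ₁ : IrrCharacter G, B = blockOf M (χ₁ : G → ℂ) := hind.2.1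
  obtain ⟨k, hk⟩ := hy
  have hyH : y ∈ H := by
    rw [hH, Subgroup.mem_centralizer_singleton_iff]
  set zH : H := ⟨y, hyH⟩ with hzH
  have hzc : zH ∈ Subgroup.center H := by
    rw [Subgroup.mem_center_iff]
    intro c
    apply Subtype.ext
    have hc : (c : G) ∈ Subgroup.centralizer ({y} : Set G) := hH ▸ c.2
    have := Subgroup.mem_centralizer_singleton_iff.mp hc
    simp only [Subgroup.coe_mul, hzH]
    exact this
  have hzN : zH ^ (2 ^ k) = 1 := by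
    apply Subtype.ext
    simp only [Subgroup.coe_pow, Subgroup.coe_one, hzH]
    rw [← hk]
    exact pow_orderOf_eq_one y
  have hres : ∀ χ : IrrCharacter G, IsCharacter H (fun c : H => (χ : G → ℂ) (c : G)) := fun χ =>
    Cfsg.Agent.Lib.Helper3.IsCharacter.restrict
      (Cfsg.Agent.Lib.Helper3.IsIrrCharacter.isCharacter χ.2) _
  -- the family
  set x : IrrCharacter G → IrrCharacter G → (ZMod (2 ^ k))ˣ → ℂ := fun χ ψ u =>
    ((2 ^ d : ℕ) : ℂ) * ctb 2 (y ^ (u : ZMod (2 ^ k)).val) H b (χ : G → ℂ) (ψ : G → ℂ) with hx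
  have hxc : ∀ χ ψ u, x χ ψ u = ((2 ^ d : ℕ) : ℂ) *
      cval 2 b (fun c : H => (χ : G → ℂ) (c : G)) (fun c : H => (ψ : G → ℂ) (c : G))
        (zH ^ (u : ZMod (2 ^ k)).val) := by
    intro χ ψ u
    rw [hx]
    simp only
    rw [ctb_eq_cval y H hyH b]
  have hint : ∀ χ ψ u, IsIntegral ℤ (x χ ψ u) := by
    intro χ ψ u
    rw [hxc]
    exact cval_integral b _ _ (hres χ) (hres ψ) _ (Subgroup.pow_mem _ hzc _)
  have hgal : ∀ χ ψ (τ : ℂ ≃+* ℂ) (j : (ZMod (2 ^ k))ˣ),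
      (∀ ω : ℂ, ω ^ (2 ^ k) = 1 → τ ω = ω ^ (j : ZMod (2 ^ k)).val) →
        ∀ u, τ (x χ ψ u) = x χ ψ (u * j) := by
    intro χ ψ τ j hτ u
    rw [hxc, hxc]
    have hzu : (zH ^ (u : ZMod (2 ^ k)).val) ^ (2 ^ k) = 1 := by
      rw [← pow_mul, mul_comm, pow_mul, hzN, one_pow]
    rw [cval_galois b _ _ (hres χ) (hres ψ) _ (Subgroup.pow_mem _ hzc _) (2 ^ k) hzu τ _ hτ]
    congr 2
    rw [← pow_mul, Units.val_mul, ZMod.val_mul]
    exact pow_eq_pow_mod _ hzN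
  -- the section data of the powers of `y`
  have hsec : ∀ u : (ZMod (2 ^ k))ˣ,
      (∃ k' : ℕ, orderOf (y ^ (u : ZMod (2 ^ k)).val) = 2 ^ k') ∧
      H = Subgroup.centralizer ({y ^ (u : ZMod (2 ^ k)).val} : Set G) := by
    intro u
    have hcop : Nat.Coprime (u : ZMod (2 ^ k)).val (orderOf y) := by
      rw [hk]
      exact ZMod.val_coe_unit_coprime u
    refine ⟨exists_orderOf_pow hp ⟨k, hk⟩ _, ?_⟩
    rw [hH]
    exact centralizer_pow_eq hcop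
  -- rows
  have hrow : ∀ (χ : IrrCharacter G) (u : (ZMod (2 ^ k))ˣ),
      ∑ ψ ∈ Bf, x χ ψ u * conj (x χ ψ u) = ((2 ^ d : ℕ) : ℂ) * x χ χ u := by
    intro χ u
    have h1 := sum_ctb_mul_conj hM (hsec u).1 H (hsec u).2 ξ₀ hind (χ : G → ℂ)
    rw [hx]
    simp only
    rw [← h1, Finset.mul_sum, Finset.mul_sum]
    refine Finset.sum_congr rfl fun ψ _ => ?_
    rw [map_mul, Complex.conj_natCast]
    ring
  have hnorm : ∀ (χ : IrrCharacter G) (u : (ZMod (2 ^ k))ˣ),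
      ((∑ ψ ∈ Bf, ‖x χ ψ u‖ ^ 2 : ℝ) : ℂ) = ((2 ^ d : ℕ) : ℂ) * x χ χ u := by
    intro χ u
    rw [Complex.ofReal_sum]
    refine (Finset.sum_congr rfl fun ψ _ => ?_).trans (hrow χ u)
    rw [Complex.mul_conj, Complex.normSq_eq_norm_sq]
  -- trace
  have htr : ∀ u : (ZMod (2 ^ k))ˣ, ∑ χ ∈ Bf, x χ χ u = ((2 ^ d : ℕ) : ℂ) * (l : ℂ) := by
    intro u
    have h1 := sum_ctb_self hM (hsec u).1 H (hsec u).2 ξ₀ hind
    rw [hx]
    simp only
    rw [← Finset.mul_sum, h1]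
  -- heights
  set ht : IrrCharacter G → ℕ := fun χ => blockHeight 2 B (χ : G → ℂ) with hht
  have e2 : ((2 : ℕ) : ℂ) = 2 := by norm_num
  have hφpos : 0 < Nat.totient (2 ^ k) := Nat.totient_pos.mpr (by positivity)
  have hφ : (0 : ℝ) < (Nat.totient (2 ^ k) : ℝ) := by exact_mod_cast hφpos
  have hφC : (Nat.totient (2 ^ k) : ℂ) ≠ 0 := by exact_mod_cast hφpos.ne'
  have h2dR : (0 : ℝ) < (2 : ℝ) ^ d := by positivity
  have hXB : ∀ (u : (ZMod (2 ^ k))ˣ) (φ ψ : IrrCharacter G),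
      IsIntegral ℤ (((2 ^ blockDefect 2 B : ℕ) : ℂ) *
        ctb 2 (y ^ (u : ZMod (2 ^ k)).val) H b (φ : G → ℂ) (ψ : G → ℂ)) := by
    intro u φ ψ
    rw [← hdef]
    exact hint φ ψ u
  have hintdiv : ∀ χ ψ : IrrCharacter G, ψ ∈ B → ∀ u,
      IsIntegral ℤ (x χ ψ u / (2 : ℂ) ^ ht ψ) := by
    intro χ ψ hψ u
    have := isIntegral_ctb_div hM H (hsec u).2 ξ₀ χ ψ hψ (hXB u χ ψ)
    rw [← hdef, e2] at this
    exact this
  -- non-vanishing
  have hne0 : ∀ ψ₀ ∈ B, ht ψ₀ = 0 → ∀ χ ∈ B, ∀ u, x ψ₀ χ u ≠ 0 := by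
    intro ψ₀ hψ₀ hh χ hχ u
    have := ctb_ne_zero hM (hsec u).1 H (hsec u).2 ξ₀ hind hdef ψ₀ hψ₀ hh χ hχ
    rw [hx]
    simp only
    exact mul_ne_zero (by exact_mod_cast (pow_pos hp.pos d).ne') this
  have hnediag : ∀ χ ∈ B, ∀ u, x χ χ u ≠ 0 := by
    intro χ hχ u
    have := ctb_self_ne_zero hM (hsec u).1 H (hsec u).2 ξ₀ hind hdef χ hχ
    rw [hx]
    simp only
    exact mul_ne_zero (by exact_mod_cast (pow_pos hp.pos d).ne') this
  -- the diagonal numbers are positive reals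
  set ρ : IrrCharacter G → (ZMod (2 ^ k))ˣ → ℝ := fun χ u =>
    (∑ ψ ∈ Bf, ‖x χ ψ u‖ ^ 2) / 2 ^ d with hρdef
  have hρ : ∀ χ u, x χ χ u = (ρ χ u : ℂ) := by
    intro χ u
    rw [hρdef]
    simp only
    rw [Complex.ofReal_div, hnorm χ u]
    push_cast
    field_simp
  have hρ0 : ∀ χ u, 0 ≤ ρ χ u := by
    intro χ u
    rw [hρdef]
    simp only
    exact div_nonneg (Finset.sum_nonneg fun ψ _ => by positivity) h2dR.le
  have hρpos : ∀ χ ∈ B, ∀ u, 0 < ρ χ u := by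
    intro χ hχ u
    rcases (hρ0 χ u).eq_or_lt with h0 | hpos
    · exfalso
      apply hnediag χ hχ u
      rw [hρ χ u, ← h0]
      simp
    · exact hpos
  have hrowR : ∀ χ u, ∑ ψ ∈ Bf, ‖x χ ψ u‖ ^ 2 = 2 ^ d * ρ χ u := by
    intro χ u
    rw [hρdef]
    simp only
    field_simp
  have hdB : blockDefect 2 B = d := hdef.symm
  rw [hdB]
  -- the trivial case
  by_cases hk1 : Bf.card ≤ 1
  · exact hk1.trans (Nat.one_le_two_pow)
  push Not at hk1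
  -- the defect is positive
  have hd1 : 1 ≤ d := by
    by_contra hd0
    push Not at hd0
    obtain ⟨χ₁, hχ₁⟩ := hB
    have h0 : blockDefect 2 (blockOf M (χ₁ : G → ℂ)) = 0 := by
      rw [← hχ₁, hdB]
      omega
    have hsing := blockDefect_eq_zero_imp_singleton 2 M hM χ₁ h0
    have hBf1 : Bf ⊆ {χ₁} := by
      intro χ hχ
      have := (hBfB χ).mp hχ
      rw [hχ₁, hsing] at this
      exact Finset.mem_singleton.mpr this
    have := Finset.card_le_card hBf1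
    rw [Finset.card_singleton] at this
    omega
  -- another character with non-zero contribution
  have hconjx : ∀ χ ψ u, conj (x ψ χ u) = x χ ψ u := by
    intro χ ψ u
    rw [hx]
    simp only
    rw [map_mul, Complex.conj_natCast, ctb_conj_symm]
  have hother : ∀ χ ∈ B, ∃ ψ' ∈ B, ψ' ≠ χ ∧ ∀ u, x χ ψ' u ≠ 0 := by
    intro χ hχ
    by_cases h0 : ht χ = 0
    · obtain ⟨ψ', hψ', hne⟩ : ∃ ψ' ∈ Bf, ψ' ≠ χ := by
        by_contra hnone
        push Not at hnone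
        have : Bf ⊆ {χ} := fun ψ hψ => Finset.mem_singleton.mpr (hnone ψ hψ)
        have := Finset.card_le_card this
        rw [Finset.card_singleton] at this
        omega
      exact ⟨ψ', (hBfB ψ').mp hψ', hne, fun u => hne0 χ hχ h0 ψ' ((hBfB ψ').mp hψ') u⟩
    · obtain ⟨ψ₀, hψ₀, hψ₀v⟩ := exists_minDegVal 2 ⟨χ, hχ⟩
      have hh0 : ht ψ₀ = 0 := by
        rw [hht]
        simp only
        rw [blockHeight_eq, hψ₀v, Nat.sub_self]
      refine ⟨ψ₀, hψ₀, ?_, fun u => ?_⟩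
      · rintro rfl
        exact h0 hh0
      · rw [← hconjx χ ψ₀ u]
        exact (map_ne_zero (starRingEnd ℂ)).mpr (hne0 ψ₀ hψ₀ hh0 χ hχ u)
  -- the diagonal numbers are smaller than `2^d`
  have hρlt : ∀ χ ∈ B, ∀ u, ρ χ u < 2 ^ d := by
    intro χ hχ u
    obtain ⟨ψ', hψ', hne, hnz⟩ := hother χ hχ
    have hχf : χ ∈ Bf := (hBfB χ).mpr hχ
    have hψf : ψ' ∈ Bf := (hBfB ψ').mpr hψ'
    have h1 : ‖x χ χ u‖ ^ 2 + ‖x χ ψ' u‖ ^ 2 ≤ ∑ ψ ∈ Bf, ‖x χ ψ u‖ ^ 2 := by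
      have hsub : ({χ, ψ'} : Finset (IrrCharacter G)) ⊆ Bf := by
        intro φ hφ
        rw [Finset.mem_insert, Finset.mem_singleton] at hφ
        rcases hφ with rfl | rfl
        · exact hχf
        · exact hψf
      have := Finset.sum_le_sum_of_subset_of_nonneg hsub
        (f := fun ψ => ‖x χ ψ u‖ ^ 2) (fun ψ _ _ => by positivity)
      rwa [Finset.sum_pair hne.symm] at this
    have h2 : ‖x χ χ u‖ = ρ χ u := by
      rw [hρ χ u, Complex.norm_real, Real.norm_of_nonneg (hρ0 χ u)]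
    have h3 : 0 < ‖x χ ψ' u‖ ^ 2 := by
      have := norm_pos_iff.mpr (hnz u)
      positivity
    rw [hrowR χ u, h2] at h1
    have hpos := hρpos χ hχ u
    by_contra hge
    push Not at hge
    nlinarith
  -- units in height zero
  have hU : ∀ χ ∈ B, ht χ = 0 → ∀ ξ₁ ∈ b, ¬ MemLocalIdeal M
      (classInner (pTilde 2 (fun c : H => (χ : G → ℂ) (c : G))) (ξ₁ : H → ℂ) /
        (ξ₁ : H → ℂ) 1) := by
    intro χ hχ hh ξ₁ hξ₁
    exact (Cfsg.Agent.S4431.result 2 M hM H b B hind χ ξ₁ hξ₁).2 hχ hh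
  have hunit : ∀ χ ∈ B, ht χ = 0 → ∀ u, ¬ MemLocalIdeal M (x χ χ u) := by
    intro χ hχ hh u
    have hzu : (zH ^ (u : ZMod (2 ^ k)).val) ^ (2 ^ k) = 1 := by
      rw [← pow_mul, mul_comm, pow_mul, hzN, one_pow]
    have := (cval_unit hM ξ₀ (zH ^ (u : ZMod (2 ^ k)).val) (Subgroup.pow_mem _ hzc _) k hzu
      _ _ (hres χ) (hres χ) (hU χ hχ hh) (hU χ hχ hh)).2
    rw [← hd, ← hxc χ χ u] at this
    exact this
  -- the complementary averages
  have hR : ∀ χ : IrrCharacter G, ∃ R : ℤ, χ ∈ B →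
      (∑ u : (ZMod (2 ^ k))ˣ, x χ χ u = (Nat.totient (2 ^ k) : ℂ) * (R : ℂ) ∧
        1 ≤ 2 ^ d - R ∧ (ht χ = 0 → Odd (2 ^ d - R)) ∧ (1 ≤ ht χ → 2 * 2 ^ ht χ ≤ 2 ^ d - R)) := by
    intro χ
    by_cases hχ : χ ∈ B
    swap
    · exact ⟨0, fun h => absurd h hχ⟩
    obtain ⟨w, a, hw, hinv, hasymm, hexp0⟩ :=
      cval_self_expansion b (fun c : H => (χ : G → ℂ) (c : G)) (hres χ) zH hzc k hzN
    have hexp : ∀ u : (ZMod (2 ^ k))ˣ, x χ χ u =
        ∑ ξ ∈ Finset.univ.filter (fun ξ : IrrCharacter H => ξ ∈ b),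
          ∑ ξ' ∈ Finset.univ.filter (fun ξ : IrrCharacter H => ξ ∈ b),
            w ξ ξ' ^ (u : ZMod (2 ^ k)).val * (a ξ ξ' : ℂ) := by
      intro u
      rw [hxc]
      exact hexp0 _
    have hsumρ : ∑ u : (ZMod (2 ^ k))ˣ, x χ χ u =
        ((∑ u : (ZMod (2 ^ k))ˣ, ρ χ u : ℝ) : ℂ) := by
      rw [Complex.ofReal_sum]
      exact Finset.sum_congr rfl fun u _ => hρ χ u
    have hsumlt : ∑ u : (ZMod (2 ^ k))ˣ, ρ χ u < (Nat.totient (2 ^ k) : ℝ) * 2 ^ d := by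
      calc ∑ u : (ZMod (2 ^ k))ˣ, ρ χ u < ∑ _u : (ZMod (2 ^ k))ˣ, (2 : ℝ) ^ d :=
            Finset.sum_lt_sum_of_nonempty ⟨1, Finset.mem_univ _⟩ fun u _ => hρlt χ hχ u
        _ = (Nat.totient (2 ^ k) : ℝ) * 2 ^ d := by
            rw [Finset.sum_const, Finset.card_univ, ZMod.card_units_eq_totient, nsmul_eq_mul]
    have hRlt : ∀ r : ℤ, ∑ u : (ZMod (2 ^ k))ˣ, x χ χ u = (Nat.totient (2 ^ k) : ℂ) * (r : ℂ) →
        1 ≤ 2 ^ d - r := by
      intro r hsum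
      rw [hsumρ] at hsum
      have h1 : (∑ u : (ZMod (2 ^ k))ˣ, ρ χ u : ℝ) = (Nat.totient (2 ^ k) : ℝ) * (r : ℝ) := by
        exact_mod_cast hsum
      rw [h1] at hsumlt
      have h2 : (r : ℝ) < 2 ^ d := lt_of_mul_lt_mul_left hsumlt hφ.le
      have h3 : r < 2 ^ d := by exact_mod_cast h2
      omega
    by_cases h0 : ht χ = 0
    · obtain ⟨r, hodd, hsum⟩ := odd_avg_of_unit hM k _ w (fun i _ j _ => hw i j)
        (fun i _ j _ => hinv i j) a hasymm (x χ χ) hexp (hunit χ hχ h0 1)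
      refine ⟨r, fun _ => ⟨hsum, hRlt r hsum, fun _ => ?_, fun h1 => by omega⟩⟩
      have heven : Even ((2 : ℤ) ^ d) := by
        rw [Int.even_pow]
        exact ⟨even_two, by omega⟩
      exact heven.sub_odd hodd
    · have hpos : 1 ≤ ht χ := by omega
      have hmem : MemLocalIdeal M (x χ χ 1 / (2 : ℂ) ^ ht χ) := by
        have := memLocalIdeal_ctb_self_div hM H (hsec 1).2 ξ₀ hB (hXB 1) χ hχ hpos
        rw [← hdef, e2] at this
        exact this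
      obtain ⟨c, hc2, hsum⟩ := two_le_avg_of_mem hM k _ w (fun i _ j _ => hw i j) a (x χ χ) hexp
        (ht χ) (hintdiv χ χ hχ) (hgal χ χ) (ρ χ) (hρ χ) (hρpos χ hχ) hmem
      have hhd : ht χ ≤ d := by
        obtain ⟨t, -, hle, -⟩ := card_div_degree 2 χ hχ
        rw [hdB] at hle
        exact hle
      have hdual := dual_two_le_avg hM k (x χ χ) d (ht χ) hhd c hsum (hintdiv χ χ hχ) (hgal χ χ)
        (ρ χ) (hρ χ) (hρpos χ hχ) (hρlt χ hχ) hmem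
      have hsum' : ∑ u : (ZMod (2 ^ k))ˣ, x χ χ u =
          (Nat.totient (2 ^ k) : ℂ) * ((2 ^ ht χ * c : ℤ) : ℂ) := by
        rw [hsum]
        push_cast
        ring
      have hpd : (2 : ℤ) ^ d = 2 ^ (d - ht χ) * 2 ^ ht χ := by
        rw [← pow_add, Nat.sub_add_cancel hhd]
      refine ⟨2 ^ ht χ * c, fun _ => ⟨hsum', hRlt _ hsum', fun h => absurd h h0, fun _ => ?_⟩⟩
      have h2h : (0 : ℤ) < 2 ^ ht χ := by positivity
      rw [hpd]
      nlinarith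
  choose R hR using hR
  -- the complementary averages add up to `2^d (k - l)`
  have hRsum : ∑ χ ∈ Bf, (2 ^ d - R χ) = 2 ^ d * ((Bf.card : ℤ) - (l : ℤ)) := by
    have h1 : ∑ χ ∈ Bf, ∑ u : (ZMod (2 ^ k))ˣ, x χ χ u =
        (Nat.totient (2 ^ k) : ℂ) * ((∑ χ ∈ Bf, R χ : ℤ) : ℂ) := by
      push_cast
      rw [Finset.mul_sum]
      exact Finset.sum_congr rfl fun χ hχ => (hR χ ((hBfB χ).mp hχ)).1
    have h2 : ∑ χ ∈ Bf, ∑ u : (ZMod (2 ^ k))ˣ, x χ χ u =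
        (Nat.totient (2 ^ k) : ℂ) * ((2 ^ d * (l : ℤ) : ℤ) : ℂ) := by
      rw [Finset.sum_comm, Finset.sum_congr rfl fun u _ => htr u, Finset.sum_const,
        Finset.card_univ, ZMod.card_units_eq_totient, nsmul_eq_mul]
      push_cast
      ring
    rw [h1] at h2
    have h3 := mul_left_cancel₀ hφC h2
    have h4 : ∑ χ ∈ Bf, R χ = 2 ^ d * (l : ℤ) := by exact_mod_cast h3
    rw [Finset.sum_sub_distrib, h4, Finset.sum_const, nsmul_eq_mul]
    ring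
  have hRle : ∑ χ ∈ Bf, (2 ^ d - R χ) ≤ 3 * 2 ^ d := by
    rw [hRsum]
    have : (Bf.card : ℤ) - (l : ℤ) ≤ 3 := by
      have : (Bf.card : ℤ) ≤ (l : ℤ) + 3 := by exact_mod_cast hkl
      omega
    have h2d : (0 : ℤ) < 2 ^ d := by positivity
    nlinarith
  by_cases hcase : ∃ χ₁ ∈ B, ht χ₁ = 0 ∧ 2 ^ d - R χ₁ = 1
  · -- a character of height zero with complementary average one: its row
    obtain ⟨χ₁, hχ₁, hh₁, hR₁⟩ := hcase
    have hχ₁f : χ₁ ∈ Bf := (hBfB χ₁).mpr hχ₁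
    haveI : NeZero (2 ^ k) := ⟨(by positivity : (0 : ℕ) < 2 ^ k).ne'⟩
    -- the sum of the `ρ`
    have hsum1 : ∑ u : (ZMod (2 ^ k))ˣ, ρ χ₁ u = (Nat.totient (2 ^ k) : ℝ) * (2 ^ d - 1) := by
      have h1 := (hR χ₁ hχ₁).1
      have hR' : R χ₁ = 2 ^ d - 1 := by omega
      rw [hR'] at h1
      have h2 : ((∑ u : (ZMod (2 ^ k))ˣ, ρ χ₁ u : ℝ) : ℂ) =
          (((Nat.totient (2 ^ k) : ℝ) * (2 ^ d - 1) : ℝ) : ℂ) := by
        rw [Complex.ofReal_sum]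
        rw [← Finset.sum_congr rfl fun u _ => hρ χ₁ u, h1]
        push_cast
        ring
      exact_mod_cast h2
    -- lower bounds off the diagonal
    have hlow : ∀ ψ ∈ Bf, ψ ≠ χ₁ → (Nat.totient (2 ^ k) : ℝ) ≤
        ∑ u : (ZMod (2 ^ k))ˣ, ‖x χ₁ ψ u‖ ^ 2 := by
      intro ψ hψ _
      have hψB := (hBfB ψ).mp hψ
      exact totient_le_sum_norm_sq (2 ^ k) (x χ₁ ψ) (hint χ₁ ψ) (hgal χ₁ ψ)
        (hne0 χ₁ hχ₁ hh₁ ψ hψB)
    -- the diagonal term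
    have hdiag : (Nat.totient (2 ^ k) : ℝ) ≤
        ∑ u : (ZMod (2 ^ k))ˣ, (2 ^ d - ρ χ₁ u) ^ 2 := by
      have h2int : IsIntegral ℤ ((2 : ℂ) ^ d) := by
        have h2 : IsIntegral ℤ (2 : ℂ) := by
          have := isIntegral_algebraMap (R := ℤ) (A := ℂ) (x := 2)
          simpa using this
        exact h2.pow _
      have hτ' : ∀ (τ : ℂ ≃+* ℂ) (j : (ZMod (2 ^ k))ˣ),
          (∀ ω : ℂ, ω ^ (2 ^ k) = 1 → τ ω = ω ^ (j : ZMod (2 ^ k)).val) →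
            ∀ u, τ ((2 : ℂ) ^ d - x χ₁ χ₁ u) = (2 : ℂ) ^ d - x χ₁ χ₁ (u * j) := by
        intro τ j hj u
        rw [map_sub, map_pow, hgal χ₁ χ₁ τ j hj u]
        have : τ 2 = 2 := map_ofNat τ 2
        rw [this]
      have hne' : ∀ u : (ZMod (2 ^ k))ˣ, (2 : ℂ) ^ d - x χ₁ χ₁ u ≠ 0 := by
        intro u h0
        rw [hρ χ₁ u] at h0
        have h1 : (((2 : ℝ) ^ d - ρ χ₁ u : ℝ) : ℂ) = 0 := by
          push_cast
          exact h0
        have h2 : (2 : ℝ) ^ d - ρ χ₁ u = 0 := by exact_mod_cast h1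
        linarith [hρlt χ₁ hχ₁ u]
      have h1 := totient_le_sum_norm_sq (2 ^ k) (fun u => (2 : ℂ) ^ d - x χ₁ χ₁ u)
        (fun u => h2int.sub (hint χ₁ χ₁ u)) hτ' hne'
      have h3 : ∀ u : (ZMod (2 ^ k))ˣ, ‖(2 : ℂ) ^ d - x χ₁ χ₁ u‖ ^ 2 = (2 ^ d - ρ χ₁ u) ^ 2 := by
        intro u
        rw [hρ χ₁ u]
        have : ((2 : ℂ) ^ d - (ρ χ₁ u : ℂ)) = (((2 : ℝ) ^ d - ρ χ₁ u : ℝ) : ℂ) := by
          push_cast
          rfl
        rw [this, Complex.norm_real, Real.norm_eq_abs, sq_abs]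
      rwa [Finset.sum_congr rfl fun u _ => h3 u] at h1
    -- the off-diagonal total
    have hoff : ∑ ψ ∈ Bf.erase χ₁, ∑ u : (ZMod (2 ^ k))ˣ, ‖x χ₁ ψ u‖ ^ 2 =
        ∑ u : (ZMod (2 ^ k))ˣ, (2 ^ d * ρ χ₁ u - ρ χ₁ u ^ 2) := by
      rw [Finset.sum_comm]
      refine Finset.sum_congr rfl fun u _ => ?_
      have h1 := hrowR χ₁ u
      rw [← Finset.add_sum_erase Bf _ hχ₁f] at h1
      have h2 : ‖x χ₁ χ₁ u‖ = ρ χ₁ u := by
        rw [hρ χ₁ u, Complex.norm_real, Real.norm_of_nonneg (hρ0 χ₁ u)]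
      rw [h2] at h1
      linarith
    have htotal : ∑ u : (ZMod (2 ^ k))ˣ, (2 ^ d * ρ χ₁ u - ρ χ₁ u ^ 2) +
        ∑ u : (ZMod (2 ^ k))ˣ, (2 ^ d - ρ χ₁ u) ^ 2 = 2 ^ d * (Nat.totient (2 ^ k) : ℝ) := by
      rw [← Finset.sum_add_distrib]
      have e : ∀ u : (ZMod (2 ^ k))ˣ, (2 ^ d * ρ χ₁ u - ρ χ₁ u ^ 2) + (2 ^ d - ρ χ₁ u) ^ 2 =
          (2 : ℝ) ^ d * 2 ^ d - 2 ^ d * ρ χ₁ u := fun u => by ring
      rw [Finset.sum_congr rfl fun u _ => e u, Finset.sum_sub_distrib]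
      have a1 : ∑ _u : (ZMod (2 ^ k))ˣ, (2 : ℝ) ^ d * 2 ^ d =
          (Nat.totient (2 ^ k) : ℝ) * ((2 : ℝ) ^ d * 2 ^ d) := by
        rw [Finset.sum_const, Finset.card_univ, ZMod.card_units_eq_totient, nsmul_eq_mul]
      have a2 : ∑ u : (ZMod (2 ^ k))ˣ, (2 : ℝ) ^ d * ρ χ₁ u =
          (2 : ℝ) ^ d * ∑ u : (ZMod (2 ^ k))ˣ, ρ χ₁ u := (Finset.mul_sum _ _ _).symm
      rw [a1, a2, hsum1]
      ring
    have hcount : ((Bf.erase χ₁).card : ℝ) * (Nat.totient (2 ^ k) : ℝ) ≤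
        ∑ ψ ∈ Bf.erase χ₁, ∑ u : (ZMod (2 ^ k))ˣ, ‖x χ₁ ψ u‖ ^ 2 := by
      calc ((Bf.erase χ₁).card : ℝ) * (Nat.totient (2 ^ k) : ℝ)
          = ∑ _ψ ∈ Bf.erase χ₁, (Nat.totient (2 ^ k) : ℝ) := by
            rw [Finset.sum_const, nsmul_eq_mul]
        _ ≤ _ := Finset.sum_le_sum fun ψ hψ =>
            hlow ψ (Finset.mem_of_mem_erase hψ) (Finset.ne_of_mem_erase hψ)
    have hfin : (((Bf.erase χ₁).card : ℝ) + 1) * (Nat.totient (2 ^ k) : ℝ) ≤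
        2 ^ d * (Nat.totient (2 ^ k) : ℝ) := by
      rw [← htotal, ← hoff]
      linarith
    have hfin2 : ((Bf.erase χ₁).card : ℝ) + 1 ≤ 2 ^ d := le_of_mul_le_mul_right hfin hφ
    have hcard : (Bf.erase χ₁).card + 1 = Bf.card := Finset.card_erase_add_one hχ₁f
    have : ((Bf.card : ℕ) : ℝ) ≤ 2 ^ d := by
      rw [← hcard]
      push_cast
      exact hfin2
    exact_mod_cast this
  · -- all complementary averages are at least three
    push Not at hcase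
    have hle : ∀ χ ∈ Bf, (3 : ℤ) ≤ 2 ^ d - R χ := by
      intro χ hχ
      have hχB := (hBfB χ).mp hχ
      obtain ⟨-, h1, hodd, hpos⟩ := hR χ hχB
      by_cases h0 : ht χ = 0
      · have hne := hcase χ hχB h0
        obtain ⟨m, hm⟩ := hodd h0
        omega
      · have h2 := hpos (Nat.one_le_iff_ne_zero.mpr h0)
        have h3 : (2 : ℤ) ^ 1 ≤ 2 ^ ht χ :=
          pow_le_pow_right₀ (by norm_num) (Nat.one_le_iff_ne_zero.mpr h0)
        omega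
    have h1 : (3 : ℤ) * (Bf.card : ℤ) ≤ ∑ χ ∈ Bf, (2 ^ d - R χ) := by
      calc (3 : ℤ) * (Bf.card : ℤ) = ∑ _χ ∈ Bf, (3 : ℤ) := by
            rw [Finset.sum_const, nsmul_eq_mul]
            ring
        _ ≤ _ := Finset.sum_le_sum hle
    have h2 : (3 : ℤ) * (Bf.card : ℤ) ≤ 3 * 2 ^ d := h1.trans hRle
    have h3 : (Bf.card : ℤ) ≤ 2 ^ d := by omega
    exact_mod_cast h3

end Cfsg.Agent.Lib.Helper77.Ctb
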