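import Cfsg.Agent.Lib.Helper77.ExtThird
import Cfsg.Agent.S4691

/-!
# Cyclic defect groups: the inertial quotient
-/

set_option autoImplicit false

universe u

namespace Cfsg.Agent.Lib.Helper77

open Cfsg

/-- A little number theory: an automorphism exponent `a` of order prime to `p` fixing a
non-identity element of a cyclic group of order `p ^ n` is `1`. -/
theorem nt_core {p : ℕ} (hp : p.Prime) (n a m k : ℕ) (hm : ¬ p ∣ m)
    (h1 : a ^ m ≡ 1 [MOD p ^ n]) (h2 : k * a ≡ k [MOD p ^ n]) (hk : ¬ p ^ n ∣ k) :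
    a ≡ 1 [MOD p ^ n] := by
  have h2' : (p ^ n : ℤ) ∣ (k : ℤ) * ((a : ℤ) - 1) := by
    have := (Int.natCast_modEq_iff.mpr h2).symm.dvd
    push_cast at this
    have e : (k : ℤ) * (a : ℤ) - (k : ℤ) = (k : ℤ) * ((a : ℤ) - 1) := by ring
    rwa [e] at this
  have hpa : (p : ℤ) ∣ (a : ℤ) - 1 := by
    by_contra hcon
    have hcop : IsCoprime ((p : ℤ) ^ n) ((a : ℤ) - 1) := by
      apply IsCoprime.pow_left
      exact (Prime.coprime_iff_not_dvd (Nat.prime_iff_prime_int.mp hp)).mpr hcon
    have := hcop.dvd_of_dvd_mul_right h2'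
    apply hk
    exact_mod_cast this
  have h1' : (p ^ n : ℤ) ∣ (a : ℤ) ^ m - 1 := by
    have := (Int.natCast_modEq_iff.mpr h1).symm.dvd
    push_cast at this
    exact this
  have hgeom : (∑ i ∈ Finset.range m, (a : ℤ) ^ i) * ((a : ℤ) - 1) = (a : ℤ) ^ m - 1 :=
    geom_sum_mul _ _
  have hsum : ¬ (p : ℤ) ∣ ∑ i ∈ Finset.range m, (a : ℤ) ^ i := by
    intro hd
    have h3 : (∑ i ∈ Finset.range m, (a : ℤ) ^ i) ≡ (m : ℤ) [ZMOD p] := by
      have : ∀ i ∈ Finset.range m, (a : ℤ) ^ i ≡ 1 [ZMOD p] := by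
        intro i _
        have ha : (a : ℤ) ≡ 1 [ZMOD p] := (Int.modEq_iff_dvd.mpr hpa).symm
        simpa using ha.pow i
      have h4 := Int.ModEq.sum this
      simpa using h4
    have h5 : (p : ℤ) ∣ (m : ℤ) := by
      have := h3.symm.dvd
      have h6 := dvd_sub hd this
      simpa using h6
    exact hm (by exact_mod_cast h5)
  have hcop : IsCoprime ((p : ℤ) ^ n) (∑ i ∈ Finset.range m, (a : ℤ) ^ i) := by
    apply IsCoprime.pow_left
    exact (Prime.coprime_iff_not_dvd (Nat.prime_iff_prime_int.mp hp)).mpr hsum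
  rw [← hgeom] at h1'
  have h7 : ((p : ℤ) ^ n) ∣ (a : ℤ) - 1 := hcop.dvd_of_dvd_mul_left h1'
  have h8 : (a : ℤ) ≡ 1 [ZMOD ((p ^ n : ℕ) : ℤ)] := by
    push_cast
    exact (Int.modEq_iff_dvd.mpr h7).symm
  exact Int.natCast_modEq_iff.mp (by exact_mod_cast h8)

variable {G : Type u} [Group G]

/-- Reformulation of `StabilizesBlock` for an element normalizing the subgroup. -/
theorem stabilizesBlock_iff_forall (K : Subgroup G) (e : Set (IrrCharacter K)) (g : G)
    (hg : g ∈ Subgroup.normalizer (K : Set G)) :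
    StabilizesBlock K e g ↔ ∀ θ ∈ e, ∀ θ' : IrrCharacter K,
      (∀ h h' : K, (h' : G) = g * h * g⁻¹ → (θ' : K → ℂ) h' = (θ : K → ℂ) h) → θ' ∈ e := by
  constructor
  · rintro ⟨_, hst⟩ θ hθ θ' hrel
    obtain ⟨θ'', hθ'', hrel''⟩ := hst θ hθ
    have : θ' = θ'' := by
      apply Subtype.ext
      funext k'
      have hk : g⁻¹ * (k' : G) * g ∈ K := (Subgroup.mem_normalizer_iff''.mp hg (k' : G)).mp k'.2
      have e1 : ((k' : K) : G) = g * ((⟨g⁻¹ * (k' : G) * g, hk⟩ : K) : G) * g⁻¹ := by
        show (k' : G) = g * (g⁻¹ * (k' : G) * g) * g⁻¹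
        group
      rw [hrel _ k' e1, hrel'' _ k' e1]
    rw [this]
    exact hθ''
  · intro h
    refine ⟨hg, fun θ hθ => ?_⟩
    refine ⟨irrMap (Cfsg.Agent.S4691.conjAut K g hg) θ, ?_, ?_⟩
    · apply h θ hθ
      intro k k' hk
      show (θ : K → ℂ) (Cfsg.Agent.S4691.conjAut K g hg k') = (θ : K → ℂ) k
      have hkk : Cfsg.Agent.S4691.conjAut K g hg k' = k := by
        apply Subtype.ext
        show g⁻¹ * (k' : G) * g = (k : G)
        rw [hk]
        group
      rw [hkk]
    · intro k k' hk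
      show (θ : K → ℂ) (Cfsg.Agent.S4691.conjAut K g hg k') = (θ : K → ℂ) k
      have hkk : Cfsg.Agent.S4691.conjAut K g hg k' = k := by
        apply Subtype.ext
        show g⁻¹ * (k' : G) * g = (k : G)
        rw [hk]
        group
      rw [hkk]

/-- The group-theoretic core: a `p'`-group of automorphisms of a cyclic `p`-group. -/
theorem cyclic_inertial [Finite G] {p : ℕ} [Fact p.Prime] (P : Subgroup G)
    (hPp : IsPGroup p P) (hP1 : P ≠ ⊥) (hcyc : IsCyclic P) (T : Subgroup G)
    (hTN : T ≤ Subgroup.normalizer (P : Set G))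
    [hn : ((Subgroup.centralizer (P : Set G)).subgroupOf T).Normal]
    (hidx : ¬ p ∣ (Subgroup.centralizer (P : Set G)).relIndex T) :
    IsCyclic (T ⧸ (Subgroup.centralizer (P : Set G)).subgroupOf T) ∧
      (Subgroup.centralizer (P : Set G)).relIndex T ∣ p - 1 ∧
      ∀ g ∈ T, ∀ x ∈ P, x ≠ 1 → g * x * g⁻¹ = x →
        g ∈ Subgroup.centralizer (P : Set G) := by
  classical
  have hp : p.Prime := Fact.out
  obtain ⟨n, hn'⟩ := IsPGroup.iff_card.mp hPp
  have hn0 : n ≠ 0 := by
    rintro rfl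
    apply hP1
    rw [pow_zero] at hn'
    exact Subgroup.card_eq_one.mp hn'
  -- the homomorphism to the automorphism group
  have hker : (P.normalizerMonoidHom.comp (Subgroup.inclusion hTN)).ker =
      (Subgroup.centralizer (P : Set G)).subgroupOf T := by
    ext t
    rw [MonoidHom.mem_ker, MonoidHom.comp_apply, ← MonoidHom.mem_ker,
      Subgroup.normalizerMonoidHom_ker, Subgroup.mem_subgroupOf, Subgroup.mem_subgroupOf]
    rfl
  have hrel : (Subgroup.centralizer (P : Set G)).relIndex T =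
      Nat.card (P.normalizerMonoidHom.comp (Subgroup.inclusion hTN)).range := by
    rw [← Subgroup.index_ker, hker]
    rfl
  have hdvd1 : (Subgroup.centralizer (P : Set G)).relIndex T ∣ p ^ (n - 1) * (p - 1) := by
    rw [hrel, ← Nat.totient_prime_pow hp (Nat.pos_of_ne_zero hn0), ← hn',
      ← IsCyclic.card_mulAut P]
    exact Subgroup.card_subgroup_dvd_card _
  have hdvd : (Subgroup.centralizer (P : Set G)).relIndex T ∣ p - 1 := by
    refine Nat.Coprime.dvd_of_dvd_mul_left ?_ hdvd1
    apply Nat.Coprime.pow_right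
    exact ((Nat.Prime.coprime_iff_not_dvd hp).mpr hidx).symm
  have hcardq : Nat.card (T ⧸ (Subgroup.centralizer (P : Set G)).subgroupOf T) =
      (Subgroup.centralizer (P : Set G)).relIndex T := rfl
  refine ⟨?_, hdvd, ?_⟩
  · by_cases hp2 : p = 2
    · subst hp2
      have h1 : (Subgroup.centralizer (P : Set G)).relIndex T = 1 := Nat.dvd_one.mp hdvd
      rw [← hcardq] at h1
      have := (Nat.card_eq_one_iff_unique.mp h1).1
      exact isCyclic_of_subsingleton
    · have hc1 : IsCyclic (ZMod (Nat.card P))ˣ := by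
        rw [hn']
        exact ZMod.isCyclic_units_of_prime_pow p hp hp2 n
      have hc2 : IsCyclic (MulAut P) := (IsCyclic.mulAutMulEquiv P).isCyclic.mpr hc1
      have hc3 : IsCyclic (P.normalizerMonoidHom.comp (Subgroup.inclusion hTN)).range :=
        inferInstance
      have hc4 : IsCyclic (T ⧸ (P.normalizerMonoidHom.comp (Subgroup.inclusion hTN)).ker) :=
        (QuotientGroup.quotientKerEquivRange _).isCyclic.mpr hc3
      have hnk : ((P.normalizerMonoidHom.comp (Subgroup.inclusion hTN)).ker).Normal :=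
        inferInstance
      exact (QuotientGroup.quotientMulEquivOfEq hker).isCyclic.mp hc4
  · intro g hg x hx hx1 hgx
    obtain ⟨y, hy⟩ := hcyc.exists_generator
    have hord : orderOf y = p ^ n := by
      rw [orderOf_eq_card_of_forall_mem_zpowers hy, hn']
    -- the automorphism induced by `g`
    have hα : ∀ z : P, ((P.normalizerMonoidHom.comp (Subgroup.inclusion hTN)) ⟨g, hg⟩ z : G) =
        g * (z : G) * g⁻¹ := fun z => rfl
    obtain ⟨a, ha⟩ : ∃ a : ℕ, y ^ a =
        (P.normalizerMonoidHom.comp (Subgroup.inclusion hTN)) ⟨g, hg⟩ y := by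
      have := hy ((P.normalizerMonoidHom.comp (Subgroup.inclusion hTN)) ⟨g, hg⟩ y)
      rw [← mem_powers_iff_mem_zpowers] at this
      exact (Submonoid.mem_powers_iff _ _).mp this
    obtain ⟨k, hk⟩ : ∃ k : ℕ, y ^ k = (⟨x, hx⟩ : P) := by
      have := hy (⟨x, hx⟩ : P)
      rw [← mem_powers_iff_mem_zpowers] at this
      exact (Submonoid.mem_powers_iff _ _).mp this
    -- `g ^ m` centralizes `P`
    have hpow : ((P.normalizerMonoidHom.comp (Subgroup.inclusion hTN)) ⟨g, hg⟩) ^
        (Subgroup.centralizer (P : Set G)).relIndex T = 1 := by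
      rw [← map_pow, ← MonoidHom.mem_ker, hker, ← QuotientGroup.eq_one_iff,
        QuotientGroup.mk_pow, ← hcardq]
      exact pow_card_eq_one'
    have hiter : ∀ j : ℕ, (((P.normalizerMonoidHom.comp (Subgroup.inclusion hTN)) ⟨g, hg⟩) ^ j) y =
        y ^ (a ^ j) := by
      intro j
      induction j with
      | zero => simp
      | succ j ih =>
        rw [pow_succ', MulAut.mul_apply, ih, map_pow, ← ha, ← pow_mul, ← pow_succ']
    have h1 : a ^ ((Subgroup.centralizer (P : Set G)).relIndex T) ≡ 1 [MOD p ^ n] := by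
      rw [← hord, ← pow_eq_pow_iff_modEq, ← hiter, hpow]
      simp
    have h2 : k * a ≡ k [MOD p ^ n] := by
      rw [← hord, ← pow_eq_pow_iff_modEq, mul_comm, pow_mul, ha, ← map_pow, hk]
      apply Subtype.ext
      rw [hα]
      exact hgx
    have hk' : ¬ p ^ n ∣ k := by
      intro hd
      rw [← hord, orderOf_dvd_iff_pow_eq_one, hk] at hd
      apply hx1
      exact congrArg Subtype.val hd
    have h3 := nt_core hp n a _ k hidx h1 h2 hk'
    have hfix : (P.normalizerMonoidHom.comp (Subgroup.inclusion hTN)) ⟨g, hg⟩ y = y := by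
      rw [← ha]
      have : y ^ a = y ^ 1 := by
        rw [pow_eq_pow_iff_modEq, hord]
        exact h3
      rw [this, pow_one]
    have hone : (P.normalizerMonoidHom.comp (Subgroup.inclusion hTN)) ⟨g, hg⟩ = 1 := by
      apply MulEquiv.ext
      intro z
      obtain ⟨j, rfl⟩ := Subgroup.mem_zpowers_iff.mp (hy z)
      rw [map_zpow, hfix]
      rfl
    have : (⟨g, hg⟩ : T) ∈ (Subgroup.centralizer (P : Set G)).subgroupOf T := by
      rw [← hker]
      exact hone
    exact this

end Cfsg.Agent.Lib.Helper77
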