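import Cfsg.Agent.Lib.Helper77.StableBlock
import Cfsg.Agent.Lib.Helper77.Cover
import Cfsg.Agent.Lib.Helper77.DefectConj
import Cfsg.Agent.Lib.Helper79.CliffordCorr
import Cfsg.Agent.Lib.Helper16.DefectVal
import Cfsg.Agent.Lib.Helper84.PCore
import Cfsg.Agent.Lib.Helper80.Kernel
import Cfsg.Agent.Lib.Helper77.ExtFirstMain
import Cfsg.Agent.Lib.Helper77.TransportDefect
import Cfsg.Agent.S0908
import Cfsg.Agent.S0912

/-!
# Extended First Main Theorem, part (iii): the inertial index is prime to `p`
-/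

set_option autoImplicit false

universe u

namespace Cfsg.Agent.Lib.Helper77

open Cfsg
open Cfsg.Agent.Lib.Helper81
open Cfsg.Agent.Lib.Helper80
open Cfsg.Agent.Lib.Helper16
open scoped Pointwise

variable {G : Type u} [Group G]

/-- Normal case, forward direction: if the induced block has defect group `P`, the stabilizer of
`b` has index prime to `p` over `H`. -/
theorem not_dvd_relIndex_of_isDefectGroup [Fintype G] {p : ℕ} [Fact p.Prime] {M : Ideal AlgInt}
    (hpM : IsPModular p M) (P : Subgroup G) (H : Subgroup G) [hH : H.Normal] [Fintype H]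
    (hPH : P ≤ H) {b : Set (IrrCharacter H)} {B : Set (IrrCharacter G)}
    (hind : IsInducedBlock M H b B) (T : Subgroup G) (hHT : H ≤ T)
    (hT : ∀ g ∈ T, ∀ θ ∈ b, conjIrr H g θ ∈ b) (hPB : IsDefectGroup p M B P) :
    ¬ p ∣ H.relIndex T := by
  classical
  have hM : M.IsPrime := isPrime_of_isPModular hpM
  have hp : p.Prime := Fact.out
  obtain ⟨θ, hbθ⟩ := hind.1
  obtain ⟨χ, hBχ⟩ := hind.2.1
  have hθb : θ ∈ b := by rw [hbθ]; exact sameBlock_refl hM _
  have hχB : χ ∈ B := by rw [hBχ]; exact sameBlock_refl hM _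
  obtain ⟨x, hx, hPle, hPcard⟩ := isDefectGroup_iff.mp hPB
  -- `x ∈ H`
  have hnot : ¬ MemLocalIdeal M (inducedCentralChar H (θ : H → ℂ) x) := by
    intro h
    apply hx.2.2 χ hχB
    have := hind.2.2 θ hθb χ hχB x
    have h2 := memLocalIdeal_sub hM h this
    rwa [sub_sub_cancel] at h2
  have hxH : x ∈ H := by
    by_contra hcon
    apply hnot
    rw [inducedCentralChar_eq_zero_of_not_mem H _ hcon]
    exact memLocalIdeal_zero hM
  intro hdvd
  apply hnot
  -- a Sylow `p`-subgroup of `T`
  obtain ⟨Q₀⟩ : Nonempty (Sylow p T) := inferInstance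
  have hQcard : Nat.card ((Q₀ : Subgroup T).map T.subtype) =
      p ^ (Nat.card T).factorization p := by
    rw [Subgroup.card_map_of_injective (Subgroup.subtype_injective _)]
    exact Sylow.card_eq_multiplicity Q₀
  have hQp : IsPGroup p ((Q₀ : Subgroup T).map T.subtype) :=
    IsPGroup.of_card hQcard
  have hQT : (Q₀ : Subgroup T).map T.subtype ≤ T := Subgroup.map_subtype_le _
  refine memLocalIdeal_inducedCentralChar_of_pgroup hpM H θ ⟨x, hxH⟩
    ((Q₀ : Subgroup T).map T.subtype) hQp ?_ ?_
  · intro q hq θ' hθ'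
    have h1 : θ' ∈ b := by
      rw [hbθ]
      exact sameBlock_symm hθ'
    have h2 := hT q (hQT hq) θ' h1
    rw [hbθ] at h2
    exact sameBlock_symm h2
  · intro g
    by_contra hcon
    push Not at hcon
    -- the conjugate of `Q` lies in `S`
    have hle : MulAut.conj g⁻¹ • ((Q₀ : Subgroup T).map T.subtype) ≤
        (H ⊔ Subgroup.centralizer ({x} : Set G) : Subgroup G) := by
      intro y hy
      rw [Subgroup.mem_pointwise_smul_iff_inv_smul_mem] at hy
      have h1 := hcon _ hy
      simpa [MulAut.smul_def, mul_assoc] using h1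
    have hdvd1 := Subgroup.card_dvd_of_le hle
    rw [card_conj_smul, hQcard, card_sup_centralizer H ⟨x, hxH⟩] at hdvd1
    -- valuations
    have hPsub : Nat.card P ∣ Nat.card (Subgroup.centralizer ({(⟨x, hxH⟩ : H)} : Set H)) := by
      rw [centralizer_singleton_eq_subgroupOf, ← Subgroup.inf_subgroupOf_right,
        Nat.card_congr (Subgroup.subgroupOfEquivOfLe
          (inf_le_right : Subgroup.centralizer ({x} : Set G) ⊓ H ≤ H)).toEquiv]
      exact Subgroup.card_dvd_of_le (le_inf hPle hPH)
    set cH := Subgroup.centralizer ({(⟨x, hxH⟩ : H)} : Set H) with hcH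
    set dd := (Nat.card (Subgroup.centralizer ({x} : Set G))).factorization p with hdd
    have hcH0 : Nat.card cH ≠ 0 := Nat.card_pos.ne'
    have hi0 : cH.index ≠ 0 := Subgroup.index_ne_zero_of_finite
    have hC0 : Nat.card (Subgroup.centralizer ({x} : Set G)) ≠ 0 := Nat.card_pos.ne'
    have h1 : dd ≤ (Nat.card cH).factorization p := by
      rw [hPcard] at hPsub
      exact (hp.pow_dvd_iff_le_factorization hcH0).mp hPsub
    have h2 : (Nat.card H).factorization p =
        (Nat.card cH).factorization p + cH.index.factorization p := by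
      rw [← Subgroup.card_mul_index cH, Nat.factorization_mul hcH0 hi0, Finsupp.add_apply]
    have h3 : (Nat.card T).factorization p ≤ cH.index.factorization p + dd := by
      have := (hp.pow_dvd_iff_le_factorization (mul_ne_zero hi0 hC0)).mp hdvd1
      rwa [Nat.factorization_mul hi0 hC0, Finsupp.add_apply] at this
    have h4 : Nat.card T = Nat.card H * H.relIndex T := card_eq_card_mul_relIndex hHT
    have hr0 : H.relIndex T ≠ 0 := by
      intro h
      rw [h, mul_zero] at h4
      exact Nat.card_pos.ne' h4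
    have h5 : (Nat.card T).factorization p =
        (Nat.card H).factorization p + (H.relIndex T).factorization p := by
      rw [h4, Nat.factorization_mul Nat.card_pos.ne' hr0, Finsupp.add_apply]
    have h6 : 1 ≤ (H.relIndex T).factorization p :=
      (hp.dvd_iff_one_le_factorization hr0).mp hdvd
    omega

theorem coe_conjIrr_eq_conjFun (N : Subgroup G) [hN : N.Normal] (g : G) (θ : IrrCharacter N) :
    (conjIrr N g θ : N → ℂ) = Cfsg.Agent.Lib.Helper75.conjFun N g (θ : N → ℂ) := by
  funext n
  rw [conjIrr_apply, Cfsg.Agent.Lib.Helper75.conjFun_apply]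

/-- Normal case, backward direction: if the stabilizer of `b` has index prime to `p` over `H`,
the induced block has defect group `P`. -/
theorem isDefectGroup_of_not_dvd_relIndex [Fintype G] {p : ℕ} [Fact p.Prime] {M : Ideal AlgInt}
    (hpM : IsPModular p M) (P : Subgroup G) [hPn : P.Normal] (hP : IsPGroup p P)
    (H : Subgroup G) [hH : H.Normal] [Fintype H]
    (hCH : Subgroup.centralizer (P : Set G) ≤ H) {b : Set (IrrCharacter H)}
    (hbP : IsDefectGroup p M b (P.subgroupOf H)) (hPH : P ≤ H) {B : Set (IrrCharacter G)}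
    (hind : IsInducedBlock M H b B) (T : Subgroup G) (hHT : H ≤ T)
    (hT : ∀ g : G, (∀ θ ∈ b, conjIrr H g θ ∈ b) → (∀ θ ∈ b, conjIrr H g⁻¹ θ ∈ b) → g ∈ T)
    (hidx : ¬ p ∣ H.relIndex T) :
    IsDefectGroup p M B P := by
  classical
  have hM : M.IsPrime := isPrime_of_isPModular hpM
  have hp : p.Prime := Fact.out
  obtain ⟨θ₀, hbθ₀⟩ := hind.1
  obtain ⟨χ₀, hBχ₀⟩ := hind.2.1
  have hχ₀B : χ₀ ∈ B := by rw [hBχ₀]; exact sameBlock_refl hM _
  -- the order of `P`
  have hPcardH : Nat.card (P.subgroupOf H) = Nat.card P :=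
    Nat.card_congr (Subgroup.subgroupOfEquivOfLe hPH).toEquiv
  have hdb := Cfsg.Agent.S0908.result p M hpM b hind.1 _ hbP
  rw [hPcardH] at hdb
  -- every member of `B` has degree divisible by `p ^ (a - d)`
  have hdeg : ∀ χ ∈ B, (Nat.card G).factorization p ≤
      (charDegree (χ : G → ℂ)).factorization p + blockDefect p b := by
    intro χ hχ
    obtain ⟨ψ, hψ⟩ := Cfsg.Agent.Lib.Helper16.exists_constituent H χ
    have hcov := isInducedBlock_of_cover hpM P hP H hCH ψ χ₀ (by rw [← hBχ₀]; exact hχ)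
      (sameBlock_refl hM _) hψ
    rw [← hBχ₀] at hcov
    obtain ⟨n, hn⟩ := exists_conj_of_isInducedBlock hpM H hcov hind
    have hθ'b : conjIrr H n ψ ∈ b := hn ψ (sameBlock_refl hM _)
    have hχcl : IsClassFunction G (χ : G → ℂ) := isClassFunction_of_isCharacter χ.2
    have hne : classInner (fun h : H => (χ : G → ℂ) h) (conjIrr H n ψ : H → ℂ) ≠ 0 := by
      rw [coe_conjIrr_eq_conjFun, ← Cfsg.Agent.Lib.Helper75.conjFun_restrict H n hχcl,
        Cfsg.Agent.Lib.Helper75.classInner_conjFun]
      exact hψ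
    have hdegf := Cfsg.Agent.Lib.Helper79.clifford_degree H χ.2 (conjIrr H n ψ).2 hne
    obtain ⟨e, he⟩ := Cfsg.Agent.Lib.Helper79.classInner_character_eq_natCast
      (Cfsg.Agent.Lib.Helper79.isCharacter_restrict
        (Cfsg.Agent.Lib.Helper3.IsIrrCharacter.isCharacter χ.2) H)
      (Cfsg.Agent.Lib.Helper3.IsIrrCharacter.isCharacter (conjIrr H n ψ).2)
    rw [he, irr_apply_one_eq_charDegree χ, irr_apply_one_eq_charDegree (conjIrr H n ψ)] at hdegf
    have hdegN : charDegree (χ : G → ℂ) =
        e * (Cfsg.Agent.Lib.Helper79.inertia H (conjIrr H n ψ : H → ℂ)).index *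
          charDegree (conjIrr H n ψ : H → ℂ) := by exact_mod_cast hdegf
    -- the inertia group lies in `T`
    have hIT : Cfsg.Agent.Lib.Helper79.inertia H (conjIrr H n ψ : H → ℂ) ≤ T := by
      have key : ∀ g ∈ Cfsg.Agent.Lib.Helper79.inertia H (conjIrr H n ψ : H → ℂ),
          ∀ θ ∈ b, conjIrr H g θ ∈ b := by
        intro g hg θ hθ
        rw [Cfsg.Agent.Lib.Helper79.mem_inertia, ← coe_conjIrr_eq_conjFun] at hg
        have h1 : conjIrr H g (conjIrr H n ψ) = conjIrr H n ψ := Subtype.ext hg
        rw [hbθ₀] at hθ hθ'b ⊢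
        have h2 : SameBlock M (conjIrr H g (conjIrr H n ψ) : H → ℂ) (conjIrr H g θ : H → ℂ) :=
          sameBlock_conjIrr H g (sameBlock_trans hM (sameBlock_symm hθ'b) hθ)
        rw [h1] at h2
        exact sameBlock_trans hM hθ'b h2
      intro g hg
      exact hT g (key g hg) (key g⁻¹ (Subgroup.inv_mem _ hg))
    have hχ0 : charDegree (χ : G → ℂ) ≠ 0 := (irr_charDegree_pos χ).ne'
    have hθ0 : charDegree (conjIrr H n ψ : H → ℂ) ≠ 0 := (irr_charDegree_pos _).ne'
    have he0 : e ≠ 0 := by
      intro h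
      rw [h, zero_mul, zero_mul] at hdegN
      exact hχ0 hdegN
    have hI0 : (Cfsg.Agent.Lib.Helper79.inertia H (conjIrr H n ψ : H → ℂ)).index ≠ 0 :=
      Subgroup.index_ne_zero_of_finite
    have h1 : (charDegree (χ : G → ℂ)).factorization p =
        e.factorization p +
          (Cfsg.Agent.Lib.Helper79.inertia H (conjIrr H n ψ : H → ℂ)).index.factorization p +
          (charDegree (conjIrr H n ψ : H → ℂ)).factorization p := by
      rw [hdegN, Nat.factorization_mul (mul_ne_zero he0 hI0) hθ0,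
        Nat.factorization_mul he0 hI0, Finsupp.add_apply, Finsupp.add_apply]
    -- index computations
    have hTi0 : T.index ≠ 0 := Subgroup.index_ne_zero_of_finite
    have h2 : T.index.factorization p ≤
        (Cfsg.Agent.Lib.Helper79.inertia H (conjIrr H n ψ : H → ℂ)).index.factorization p := by
      have hd : T.index ∣ (Cfsg.Agent.Lib.Helper79.inertia H (conjIrr H n ψ : H → ℂ)).index :=
        Subgroup.index_dvd_of_le hIT
      exact (Nat.factorization_le_iff_dvd hTi0 hI0).mpr hd p
    have h3 : (Nat.card G).factorization p =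
        (Nat.card T).factorization p + T.index.factorization p := by
      rw [← Subgroup.card_mul_index T, Nat.factorization_mul Nat.card_pos.ne' hTi0,
        Finsupp.add_apply]
    have h4 : Nat.card T = Nat.card H * H.relIndex T := card_eq_card_mul_relIndex hHT
    have hr0 : H.relIndex T ≠ 0 := by
      intro h
      rw [h, mul_zero] at h4
      exact Nat.card_pos.ne' h4
    have h5 : (Nat.card T).factorization p = (Nat.card H).factorization p := by
      rw [h4, Nat.factorization_mul Nat.card_pos.ne' hr0, Finsupp.add_apply,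
        Nat.factorization_eq_zero_of_not_dvd hidx, add_zero]
    have h6 : minDegVal p b ≤ (charDegree (conjIrr H n ψ : H → ℂ)).factorization p :=
      minDegVal_le p hθ'b
    have h7 : minDegVal p b ≤ (Nat.card H).factorization p :=
      minDegVal_le_card p ⟨_, hθ'b⟩
    rw [blockDefect_eq]
    omega
  -- the defect of `B`
  obtain ⟨χ₁, hχ₁B, hχ₁⟩ := exists_minDegVal p (B := B) ⟨χ₀, hχ₀B⟩
  have hdB : blockDefect p B ≤ blockDefect p b := by
    have h1 := hdeg χ₁ hχ₁B
    rw [hχ₁] at h1
    rw [blockDefect_eq p B]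
    omega
  -- a defect group
  rw [hBχ₀]
  obtain ⟨E, hE⟩ := exists_isDefectGroup hpM χ₀
  rw [← hBχ₀] at hE ⊢
  have hEcard := Cfsg.Agent.S0908.result p M hpM B hind.2.1 E hE
  have hPE : P ≤ E :=
    (Cfsg.Agent.Lib.Helper84.le_pCore hPn hP).trans
      (Cfsg.Agent.S0912.result p M hpM B hind.2.1 E hE)
  have hle : Nat.card E ≤ Nat.card P := by
    rw [hEcard, hdb]
    exact Nat.pow_le_pow_right hp.pos hdB
  have : P = E := by
    apply SetLike.coe_injective
    exact Set.eq_of_subset_of_ncard_le hPE hle (Set.toFinite _)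
  rw [this]
  exact hE

theorem conj_mem_sup_centralizer {P : Subgroup G} {n x : G}
    (hn : n ∈ Subgroup.normalizer (P : Set G))
    (hx : x ∈ P ⊔ Subgroup.centralizer (P : Set G)) :
    n * x * n⁻¹ ∈ P ⊔ Subgroup.centralizer (P : Set G) := by
  have h1 : (P ⊔ Subgroup.centralizer (P : Set G)).map (MulAut.conj n).toMonoidHom ≤
      P ⊔ Subgroup.centralizer (P : Set G) := by
    rw [Subgroup.map_sup]
    apply sup_le_sup
    · rintro y ⟨z, hz, rfl⟩
      exact (Subgroup.mem_normalizer_iff.mp hn z).mp hz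
    · rintro y ⟨z, hz, rfl⟩
      exact conj_mem_centralizer_of_mem_normalizer hn hz
  exact h1 ⟨x, hx, rfl⟩

/-- **Extended First Main Theorem, part (iii).** -/
theorem ext_third_main [Fintype G] {p : ℕ} [Fact p.Prime] {M : Ideal AlgInt}
    (hpM : IsPModular p M) (P : Subgroup G) (hP : IsPGroup p P) (H : Subgroup G) [Fintype H]
    (hH : H = P ⊔ Subgroup.centralizer (P : Set G)) (b : Set (IrrCharacter H))
    (hbP : IsDefectGroup p M b (P.subgroupOf H)) (B : Set (IrrCharacter G))
    (hind : IsInducedBlock M H b B) (T : Subgroup G)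
    (hT : ∀ g : G, g ∈ T ↔ (g ∈ Subgroup.normalizer (P : Set G) ∧ ∀ θ ∈ b,
      ∀ θ' : IrrCharacter H, (∀ h h' : H, (h' : G) = g * h * g⁻¹ →
        (θ' : H → ℂ) h' = (θ : H → ℂ) h) → θ' ∈ b)) :
    IsDefectGroup p M B P ↔ ¬ p ∣ H.relIndex T := by
  classical
  have hM : M.IsPrime := isPrime_of_isPModular hpM
  have hPH : P ≤ H := hH ▸ le_sup_left
  have hCH : Subgroup.centralizer (P : Set G) ≤ H := hH ▸ le_sup_right
  have hPN : P ≤ Subgroup.normalizer (P : Set G) := Subgroup.le_normalizer
  have hHN : H ≤ Subgroup.normalizer (P : Set G) :=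
    hH ▸ sup_le hPN (Subgroup.centralizer_le_normalizer _)
  have hTN : T ≤ Subgroup.normalizer (P : Set G) := fun g hg => ((hT g).mp hg).1
  have hHT : H ≤ T := by
    intro g hg
    refine (hT g).mpr ⟨hHN hg, fun θ hθ θ' hrel => ?_⟩
    have : θ' = θ := by
      apply Subtype.ext
      funext h'
      have h1 := hrel ((⟨g, hg⟩ : H)⁻¹ * h' * ⟨g, hg⟩) h' (by
        push_cast
        group)
      rw [h1]
      have h2 := isClassFunction_of_isCharacter θ.2 h' (⟨g, hg⟩ : H)⁻¹
      rw [inv_inv] at h2
      exact h2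
    rw [this]
    exact hθ
  have := Fintype.ofFinite (Subgroup.normalizer (P : Set G))
  have := Fintype.ofFinite (H.subgroupOf (Subgroup.normalizer (P : Set G)))
  obtain ⟨ψ, hψ1, hψ2⟩ := exists_normalizer_block hpM hP hPH hCH hHN hind
  have hnormP : (P.subgroupOf (Subgroup.normalizer (P : Set G))).Normal :=
    Subgroup.normal_subgroupOf_of_le_normalizer le_rfl
  have hnormH : (H.subgroupOf (Subgroup.normalizer (P : Set G))).Normal := by
    refine ⟨fun x hx y => ?_⟩
    show ((y * x * y⁻¹ : Subgroup.normalizer (P : Set G)) : G) ∈ H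
    push_cast
    rw [hH]
    apply conj_mem_sup_centralizer y.2
    rw [← hH]
    exact hx
  have hrel : (H.subgroupOf (Subgroup.normalizer (P : Set G))).relIndex
      (T.subgroupOf (Subgroup.normalizer (P : Set G))) = H.relIndex T :=
    Subgroup.relIndex_subgroupOf hTN
  have hP'H' : P.subgroupOf (Subgroup.normalizer (P : Set G)) ≤
      H.subgroupOf (Subgroup.normalizer (P : Set G)) := fun x hx => hPH hx
  have hH'T' : H.subgroupOf (Subgroup.normalizer (P : Set G)) ≤
      T.subgroupOf (Subgroup.normalizer (P : Set G)) := fun x hx => hHT hx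
  -- translation of the stabilizer condition
  have hcompat : ∀ (g : Subgroup.normalizer (P : Set G)) (θ θ'' : IrrCharacter H),
      (∀ h h' : H, (h' : G) = (g : G) * h * (g : G)⁻¹ →
        (θ'' : H → ℂ) h' = (θ : H → ℂ) h) →
      irrMap (Subgroup.subgroupOfEquivOfLe hHN) θ'' =
        conjIrr (H.subgroupOf (Subgroup.normalizer (P : Set G))) g⁻¹
          (irrMap (Subgroup.subgroupOfEquivOfLe hHN) θ) := by
    intro g θ θ'' hr
    apply Subtype.ext
    funext y
    rw [conjIrr_apply, irrMap_apply, irrMap_apply]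
    apply hr
    show ((y : Subgroup.normalizer (P : Set G)) : G) =
      (g : G) * (((g⁻¹ * y * g⁻¹⁻¹ : Subgroup.normalizer (P : Set G))) : G) * (g : G)⁻¹
    push_cast
    group
  have hT1 : ∀ g : Subgroup.normalizer (P : Set G), (g : G) ∈ T →
      ∀ θ' ∈ irrMap (Subgroup.subgroupOfEquivOfLe hHN) '' b,
        conjIrr (H.subgroupOf (Subgroup.normalizer (P : Set G))) g θ' ∈
          irrMap (Subgroup.subgroupOfEquivOfLe hHN) '' b := by
    rintro g hg _ ⟨θ, hθ, rfl⟩
    have hg' : ((g⁻¹ : Subgroup.normalizer (P : Set G)) : G) ∈ T := by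
      push_cast
      exact Subgroup.inv_mem _ hg
    have h1 := ((hT _).mp hg').2 θ hθ
    set θ'' : IrrCharacter H := irrMap (Subgroup.subgroupOfEquivOfLe hHN).symm
      (conjIrr (H.subgroupOf (Subgroup.normalizer (P : Set G))) g
        (irrMap (Subgroup.subgroupOfEquivOfLe hHN) θ)) with hθ''
    have h2 : θ'' ∈ b := by
      apply h1
      intro h h' hh
      rw [hθ'', irrMap_apply, conjIrr_apply, irrMap_apply]
      refine congrArg _ (Subtype.ext ?_)
      show (g : G) * ((Subgroup.subgroupOfEquivOfLe hHN).symm h' : G) * (g : G)⁻¹ = (h : G)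
      have h3 : (((Subgroup.subgroupOfEquivOfLe hHN).symm h' :
          H.subgroupOf (Subgroup.normalizer (P : Set G))) : G) = (h' : G) := rfl
      rw [h3, hh]
      push_cast
      group
    refine ⟨θ'', h2, ?_⟩
    rw [hθ'', irrMap_irrMap_symm]
  have hT2 : ∀ g : Subgroup.normalizer (P : Set G),
      (∀ θ' ∈ irrMap (Subgroup.subgroupOfEquivOfLe hHN) '' b,
        conjIrr (H.subgroupOf (Subgroup.normalizer (P : Set G))) g θ' ∈
          irrMap (Subgroup.subgroupOfEquivOfLe hHN) '' b) →
      (∀ θ' ∈ irrMap (Subgroup.subgroupOfEquivOfLe hHN) '' b,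
        conjIrr (H.subgroupOf (Subgroup.normalizer (P : Set G))) g⁻¹ θ' ∈
          irrMap (Subgroup.subgroupOfEquivOfLe hHN) '' b) → (g : G) ∈ T := by
    intro g _ h2
    refine (hT _).mpr ⟨g.2, fun θ hθ θ'' hr => ?_⟩
    have h3 := hcompat g θ θ'' hr
    obtain ⟨θ₁, hθ₁, hθ₁e⟩ := h2 _ (Set.mem_image_of_mem _ hθ)
    rw [← h3] at hθ₁e
    rw [← irrMap_injective _ hθ₁e]
    exact hθ₁
  constructor
  · intro hPB
    have hP' := isDefectGroup_of_induced hpM hPN le_rfl hψ2 hPB
    have h1 := not_dvd_relIndex_of_isDefectGroup hpM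
      (P.subgroupOf (Subgroup.normalizer (P : Set G)))
      (H.subgroupOf (Subgroup.normalizer (P : Set G))) hP'H' hψ1
      (T.subgroupOf (Subgroup.normalizer (P : Set G))) hH'T'
      (fun g hg => hT1 g hg) hP'
    rwa [hrel] at h1
  · intro hidx
    have hbP' : IsDefectGroup p M (irrMap (Subgroup.subgroupOfEquivOfLe hHN) '' b)
        ((P.subgroupOf (Subgroup.normalizer (P : Set G))).subgroupOf
          (H.subgroupOf (Subgroup.normalizer (P : Set G)))) :=
      isDefectGroup_irrMap_image (Subgroup.subgroupOfEquivOfLe hHN) hbP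
    have hCH' : Subgroup.centralizer
        ((P.subgroupOf (Subgroup.normalizer (P : Set G)) :
          Subgroup (Subgroup.normalizer (P : Set G))) : Set (Subgroup.normalizer (P : Set G))) ≤
        H.subgroupOf (Subgroup.normalizer (P : Set G)) := by
      intro y hy
      show (y : G) ∈ H
      apply hCH
      rw [Subgroup.mem_centralizer_iff]
      intro z hz
      have := (Subgroup.mem_centralizer_iff.mp hy) ⟨z, hPN hz⟩ hz
      exact congrArg Subtype.val this
    have hP' := isDefectGroup_of_not_dvd_relIndex hpM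
      (P.subgroupOf (Subgroup.normalizer (P : Set G))) hP.comap_subtype
      (H.subgroupOf (Subgroup.normalizer (P : Set G))) hCH' hbP' hP'H' hψ1
      (T.subgroupOf (Subgroup.normalizer (P : Set G))) hH'T'
      (fun g h1 h2 => hT2 g h1 h2) (by rw [hrel]; exact hidx)
    obtain ⟨χ₀, hB⟩ := hind.2.1
    rw [hB] at hψ2 ⊢
    exact isDefectGroup_of_induced_normalizer hpM hP ψ χ₀ hP' hψ2

end Cfsg.Agent.Lib.Helper77
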