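import Cfsg.Agent.Lib.Helper83.FpDefs

/-!
# Fp hive (S2276), leaf FP-T3: two 3-cycles meeting in one point generate a non-solvable group
-/

set_option autoImplicit false

namespace Cfsg.Agent.Lib.Helper83.Fp

open Equiv
open scoped commutatorElement

/-- the 3-cycle `0 ↦ 1 ↦ 2 ↦ 0` of `Fin 5` -/
def fpt3_s1 : Perm (Fin 5) := ⟨![1, 2, 0, 3, 4], ![2, 0, 1, 3, 4], by decide, by decide⟩

/-- the 3-cycle `0 ↦ 3 ↦ 4 ↦ 0` of `Fin 5` -/
def fpt3_s2 : Perm (Fin 5) := ⟨![3, 1, 2, 4, 0], ![4, 1, 2, 0, 3], by decide, by decide⟩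

theorem fpt3_key :
    fpt3_s1 = fpt3_s2 * ⁅fpt3_s1, (fpt3_s2 * fpt3_s1⁻¹ * fpt3_s2) * fpt3_s1 *
      (fpt3_s2 * fpt3_s1⁻¹ * fpt3_s2)⁻¹⁆ * fpt3_s2⁻¹ := by
  unfold fpt3_s1 fpt3_s2
  decide

theorem fpt3_s1_ne_one : fpt3_s1 ≠ 1 := by
  unfold fpt3_s1
  decide

theorem fpt3_K5_not_solvable :
    ¬ Group.IsSolvable (Subgroup.closure ({fpt3_s1, fpt3_s2} : Set (Perm (Fin 5)))) := by
  set K := Subgroup.closure ({fpt3_s1, fpt3_s2} : Set (Perm (Fin 5))) with hK
  have h1 : fpt3_s1 ∈ K := Subgroup.subset_closure (by simp)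
  have h2 : fpt3_s2 ∈ K := Subgroup.subset_closure (by simp)
  set x : K := ⟨fpt3_s1, h1⟩ with hx
  set b : K := ⟨fpt3_s2, h2⟩ with hb
  have key : x = b * ⁅x, (b * x⁻¹ * b) * x * (b * x⁻¹ * b)⁻¹⁆ * b⁻¹ := by
    apply Subtype.ext
    simp only [hx, hb, Subgroup.coe_mul, Subgroup.coe_inv, commutatorElement_def]
    have := fpt3_key
    simpa only [commutatorElement_def] using this
  have hx1 : x ≠ 1 := by
    intro h
    apply fpt3_s1_ne_one
    have := congrArg Subtype.val h
    simpa [hx] using this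
  refine not_isSolvable_of_mem_derivedSeries hx1 fun n => ?_
  induction n with
  | zero => exact Subgroup.mem_top x
  | succ n ih =>
    rw [key, (derivedSeries_normal _ _).mem_comm_iff, inv_mul_cancel_left]
    exact Subgroup.commutator_mem_commutator ih ((derivedSeries_normal _ _).conj_mem _ ih _)

/-- structure of a 3-cycle through a point `q` of its support -/
theorem fpt3_cycle {m : ℕ} {t : Perm (Fin m)} (ht : t.IsThreeCycle) {q : Fin m}
    (hq : q ∈ t.support) :
    t q ≠ q ∧ t (t q) ≠ t q ∧ t (t q) ≠ q ∧ t (t (t q)) = q ∧ t.support = {q, t q, t (t q)} := by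
  have h1 : t q ≠ q := Perm.mem_support.mp hq
  have h2 : t (t q) ≠ t q := fun h => h1 (t.injective h)
  have h3 : t (t (t q)) = q := by
    have h := ht.orderOf
    have hp : t ^ 3 = 1 := by rw [← h]; exact pow_orderOf_eq_one t
    have := congrArg (fun s : Perm (Fin m) => s q) hp
    simpa [pow_succ, Perm.mul_apply] using this
  have h4 : t (t q) ≠ q := by
    intro h
    apply h1
    have : t (t (t q)) = t q := by rw [h]
    rw [h3] at this
    exact this.symm
  refine ⟨h1, h2, h4, h3, ?_⟩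
  symm
  apply Finset.eq_of_subset_of_card_le
  · intro y hy
    simp only [Finset.mem_insert, Finset.mem_singleton] at hy
    rcases hy with rfl | rfl | rfl
    · exact hq
    · exact Perm.apply_mem_support.mpr hq
    · exact Perm.apply_mem_support.mpr (Perm.apply_mem_support.mpr hq)
  · rw [ht.card_support]
    rw [Finset.card_insert_of_notMem, Finset.card_insert_of_notMem, Finset.card_singleton]
    · simp only [Finset.mem_singleton]
      exact fun h => h2 h.symm
    · simp only [Finset.mem_insert, Finset.mem_singleton, not_or]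
      exact ⟨fun h => h1 h.symm, fun h => h4 h.symm⟩

theorem a5_not_solvable : A5Stmt := by
  intro m H hcert hsol
  obtain ⟨t₁, ht₁, t₂, ht₂, h3₁, h3₂, hcard⟩ := hcert
  obtain ⟨q, hq⟩ := Finset.card_eq_one.mp hcard
  have hq12 : q ∈ t₁.support ∩ t₂.support := by rw [hq]; exact Finset.mem_singleton_self q
  have hq1 : q ∈ t₁.support := (Finset.mem_inter.mp hq12).1
  have hq2 : q ∈ t₂.support := (Finset.mem_inter.mp hq12).2
  obtain ⟨a1, a2, a3, a4, a5⟩ := fpt3_cycle h3₁ hq1
  obtain ⟨b1, b2, b3, b4, b5⟩ := fpt3_cycle h3₂ hq2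
  -- points of one support different from `q` are not in the other support
  have hsep : ∀ y, y ∈ t₁.support → y ∈ t₂.support → y = q := by
    intro y hy1 hy2
    have : y ∈ t₁.support ∩ t₂.support := Finset.mem_inter.mpr ⟨hy1, hy2⟩
    rw [hq] at this
    exact Finset.mem_singleton.mp this
  have ha_mem : t₁ q ∈ t₁.support := Perm.apply_mem_support.mpr hq1
  have haa_mem : t₁ (t₁ q) ∈ t₁.support := Perm.apply_mem_support.mpr ha_mem
  have hb_mem : t₂ q ∈ t₂.support := Perm.apply_mem_support.mpr hq2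
  have hbb_mem : t₂ (t₂ q) ∈ t₂.support := Perm.apply_mem_support.mpr hb_mem
  have ha_not : t₁ q ∉ t₂.support := fun h => a1 (hsep _ ha_mem h)
  have haa_not : t₁ (t₁ q) ∉ t₂.support := fun h => a3 (hsep _ haa_mem h)
  have hb_not : t₂ q ∉ t₁.support := fun h => b1 (hsep _ h hb_mem)
  have hbb_not : t₂ (t₂ q) ∉ t₁.support := fun h => b3 (hsep _ h hbb_mem)
  -- the embedding
  set f : Fin 5 → Fin m := ![q, t₁ q, t₁ (t₁ q), t₂ q, t₂ (t₂ q)] with hf
  have hne1 : t₁ q ≠ t₂ q := fun h => ha_not (h ▸ hb_mem)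
  have hne2 : t₁ q ≠ t₂ (t₂ q) := fun h => ha_not (h ▸ hbb_mem)
  have hne3 : t₁ (t₁ q) ≠ t₂ q := fun h => haa_not (h ▸ hb_mem)
  have hne4 : t₁ (t₁ q) ≠ t₂ (t₂ q) := fun h => haa_not (h ▸ hbb_mem)
  have hinj : Function.Injective f := by
    intro i j hij
    fin_cases i <;> fin_cases j <;> first
      | rfl
      | (exfalso
         simp only [hf] at hij
         first
           | exact a1 hij | exact a1 hij.symm | exact a2 hij | exact a2 hij.symm
           | exact a3 hij | exact a3 hij.symm | exact b1 hij | exact b1 hij.symm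
           | exact b2 hij | exact b2 hij.symm | exact b3 hij | exact b3 hij.symm
           | exact hne1 hij | exact hne1 hij.symm | exact hne2 hij | exact hne2 hij.symm
           | exact hne3 hij | exact hne3 hij.symm | exact hne4 hij | exact hne4 hij.symm)
  let ι : Fin 5 ↪ Fin m := ⟨f, hinj⟩
  have hfix1 : ∀ y, y ∉ t₁.support → t₁ y = y := fun y hy => Perm.notMem_support.mp hy
  have hfix2 : ∀ y, y ∉ t₂.support → t₂ y = y := fun y hy => Perm.notMem_support.mp hy
  have ht1 : t₁ = Perm.viaEmbeddingHom ι fpt3_s1 := by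
    ext y
    congr 1
    by_cases hy : y ∈ Set.range ι
    · obtain ⟨i, rfl⟩ := hy
      rw [Perm.viaEmbeddingHom_apply, Perm.viaEmbedding_apply]
      fin_cases i
      · change t₁ q = t₁ q; rfl
      · change t₁ (t₁ q) = t₁ (t₁ q); rfl
      · change t₁ (t₁ (t₁ q)) = q; exact a4
      · change t₁ (t₂ q) = t₂ q; exact hfix1 _ hb_not
      · change t₁ (t₂ (t₂ q)) = t₂ (t₂ q); exact hfix1 _ hbb_not
    · rw [Perm.viaEmbeddingHom_apply, Perm.viaEmbedding_apply_of_notMem _ _ _ hy]
      apply hfix1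
      intro hys
      apply hy
      rw [a5] at hys
      simp only [Finset.mem_insert, Finset.mem_singleton] at hys
      rcases hys with rfl | rfl | rfl
      · exact ⟨0, rfl⟩
      · exact ⟨1, rfl⟩
      · exact ⟨2, rfl⟩
  have ht2 : t₂ = Perm.viaEmbeddingHom ι fpt3_s2 := by
    ext y
    congr 1
    by_cases hy : y ∈ Set.range ι
    · obtain ⟨i, rfl⟩ := hy
      rw [Perm.viaEmbeddingHom_apply, Perm.viaEmbedding_apply]
      fin_cases i
      · change t₂ q = t₂ q; rfl
      · change t₂ (t₁ q) = t₁ q; exact hfix2 _ ha_not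
      · change t₂ (t₁ (t₁ q)) = t₁ (t₁ q); exact hfix2 _ haa_not
      · change t₂ (t₂ q) = t₂ (t₂ q); rfl
      · change t₂ (t₂ (t₂ q)) = q; exact b4
    · rw [Perm.viaEmbeddingHom_apply, Perm.viaEmbedding_apply_of_notMem _ _ _ hy]
      apply hfix2
      intro hys
      apply hy
      rw [b5] at hys
      simp only [Finset.mem_insert, Finset.mem_singleton] at hys
      rcases hys with rfl | rfl | rfl
      · exact ⟨0, rfl⟩
      · exact ⟨3, rfl⟩
      · exact ⟨4, rfl⟩
  -- transport
  set K := Subgroup.closure ({fpt3_s1, fpt3_s2} : Set (Perm (Fin 5))) with hK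
  have hle : K.map (Perm.viaEmbeddingHom ι) ≤ H := by
    rw [hK, MonoidHom.map_closure, Subgroup.closure_le]
    rintro y ⟨s, hs, rfl⟩
    simp only [Set.mem_insert_iff, Set.mem_singleton_iff] at hs
    rcases hs with rfl | rfl
    · rw [← ht1]; exact ht₁
    · rw [← ht2]; exact ht₂
  have hsol1 : Group.IsSolvable (K.map (Perm.viaEmbeddingHom ι)) :=
    Group.isSolvable_of_isSolvable_injective (Subgroup.inclusion_injective hle)
  have hsol2 : Group.IsSolvable K :=
    Group.isSolvable_of_isSolvable_injective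
      (f := (K.equivMapOfInjective _ (Perm.viaEmbeddingHom_injective ι)).toMonoidHom)
      (K.equivMapOfInjective _ (Perm.viaEmbeddingHom_injective ι)).injective
  exact fpt3_K5_not_solvable hsol2

end Cfsg.Agent.Lib.Helper83.Fp
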