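import Cfsg.Agent.Lib.Helper77.PermCorner

/-!
# Left and right multiplication matrices on a group algebra, and two-sided translations
-/

set_option autoImplicit false
set_option linter.unusedSectionVars false

universe u

namespace Cfsg.Agent.Lib.Helper77.IdemTrace

open Matrix

variable {G : Type u} [Group G] [Fintype G] [DecidableEq G] {S : Type*} [CommRing S]

/-- Left multiplication by `∑ f k • k`. -/
def lam (f : G → S) : Matrix G G S := Matrix.of fun a' a => f (a' * a⁻¹)

/-- Right multiplication by `∑ f k • k`. -/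
def rho (f : G → S) : Matrix G G S := Matrix.of fun a' a => f (a⁻¹ * a')

/-- Convolution. -/
def cv (f f' : G → S) : G → S := fun t => ∑ k, f k * f' (k⁻¹ * t)

theorem lam_apply (f : G → S) (a' a : G) : lam f a' a = f (a' * a⁻¹) := rfl

theorem rho_apply (f : G → S) (a' a : G) : rho f a' a = f (a⁻¹ * a') := rfl

theorem lam_mul (f f' : G → S) : lam f * lam f' = lam (cv f f') := by
  ext a' a
  rw [Matrix.mul_apply, lam_apply]
  unfold cv
  let e : G ≃ G := (Equiv.inv G).trans (Equiv.mulLeft a')
  have he : ∀ c, e c = a' * c⁻¹ := fun c => rfl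
  refine Fintype.sum_equiv e _ _ fun c => ?_
  rw [lam_apply, lam_apply, he]
  congr 2
  group

theorem rho_mul (f f' : G → S) : rho f * rho f' = rho (cv f' f) := by
  ext a' a
  rw [Matrix.mul_apply, rho_apply]
  unfold cv
  let e : G ≃ G := Equiv.mulLeft a⁻¹
  have he : ∀ c, e c = a⁻¹ * c := fun c => rfl
  refine Fintype.sum_equiv e _ _ fun c => ?_
  rw [rho_apply, rho_apply, he, mul_comm]
  congr 2
  group

theorem lam_rho_comm (f f' : G → S) : lam f * rho f' = rho f' * lam f := by
  ext a' a
  rw [Matrix.mul_apply, Matrix.mul_apply]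
  let e : G ≃ G := ((Equiv.inv G).trans (Equiv.mulLeft a')).trans (Equiv.mulRight a)
  have he : ∀ c, e c = a' * c⁻¹ * a := fun c => rfl
  refine Fintype.sum_equiv e _ _ fun c => ?_
  rw [lam_apply, rho_apply, lam_apply, rho_apply, he, mul_comm]
  congr 2 <;> group

/-- The identity element. -/
def delta : G → S := fun t => if t = 1 then 1 else 0

theorem lam_delta : lam (delta : G → S) = 1 := by
  ext a' a
  rw [lam_apply, Matrix.one_apply]
  unfold delta
  have : a' * a⁻¹ = 1 ↔ a' = a := mul_inv_eq_one
  simp only [this]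

/-- Convolution powers. -/
def cvPow (f : G → S) : ℕ → G → S
  | 0 => delta
  | (n + 1) => cv (cvPow f n) f

theorem lam_pow (f : G → S) (n : ℕ) : lam f ^ n = lam (cvPow f n) := by
  induction n with
  | zero => rw [pow_zero]; exact lam_delta.symm
  | succ n ih => rw [pow_succ, ih, lam_mul]; rfl

/-- The two-sided translation `a ↦ h * a * g`. -/
def twoSided (h g : G) : Equiv.Perm G := (Equiv.mulLeft h).trans (Equiv.mulRight g)

theorem twoSided_apply (h g a : G) : twoSided h g a = h * a * g := rfl

theorem twoSided_pow_apply (h g a : G) (j : ℕ) : (twoSided h g ^ j) a = h ^ j * a * g ^ j := by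
  induction j generalizing a with
  | zero => simp
  | succ j ih =>
    rw [pow_succ', Equiv.Perm.mul_apply, ih, twoSided_apply, pow_succ', pow_succ]
    group

theorem twoSided_pow_card (h g : G) {n : ℕ} (hn : Nat.card G ∣ n) : twoSided h g ^ n = 1 := by
  ext a
  obtain ⟨m, rfl⟩ := hn
  rw [twoSided_pow_apply, pow_mul, pow_mul, pow_card_eq_one', pow_card_eq_one']
  simp

theorem lam_equivariant {f : G → S} {h : G} (hf : ∀ t, f (h * t * h⁻¹) = f t) (g i j : G) :
    lam f (twoSided h g i) (twoSided h g j) = lam f i j := by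
  rw [lam_apply, lam_apply, twoSided_apply, twoSided_apply, ← hf (i * j⁻¹)]
  congr 1
  group

theorem rho_equivariant {f : G → S} {g : G} (hf : ∀ t, f (g⁻¹ * t * g) = f t) (h i j : G) :
    rho f (twoSided h g i) (twoSided h g j) = rho f i j := by
  rw [rho_apply, rho_apply, twoSided_apply, twoSided_apply, ← hf (j⁻¹ * i)]
  congr 1
  group

/-- The trace of a two-sided translation on the image of `lam f * rho f'`. -/
theorem sum_lam_rho_twoSided (f f' : G → S) (h g : G) :
    ∑ a, (lam f * rho f') (twoSided h g a) a = ∑ k, f k * ∑ a, f' (a⁻¹ * k⁻¹ * h * a * g) := by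
  simp_rw [Finset.mul_sum]
  rw [Finset.sum_comm]
  refine Finset.sum_congr rfl fun a _ => ?_
  rw [Matrix.mul_apply]
  let e : G ≃ G := (Equiv.inv G).trans (Equiv.mulLeft (h * a * g))
  have he : ∀ c, e c = h * a * g * c⁻¹ := fun c => rfl
  refine Fintype.sum_equiv e _ _ fun c => ?_
  rw [lam_apply, rho_apply, he, twoSided_apply]
  congr 2
  group

end Cfsg.Agent.Lib.Helper77.IdemTrace
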