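import Cfsg.Agent.Lib.Helper77.GroupMat

/-!
# Extension by zero from a subgroup, at the level of convolution and multiplication matrices
-/

set_option autoImplicit false
set_option linter.unusedSectionVars false

universe u

namespace Cfsg.Agent.Lib.Helper77.IdemTrace

open Matrix

variable {G : Type u} [Group G] [Fintype G] [DecidableEq G] {S : Type*} [CommRing S]

/-- For a class function `f'`, right multiplication is left multiplication. -/
theorem rho_eq_lam {f' : G → S} (hf' : ∀ g t : G, f' (g * t * g⁻¹) = f' t) : rho f' = lam f' := by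
  ext a' a
  rw [rho_apply, lam_apply, ← hf' a (a⁻¹ * a')]
  congr 1
  group

variable (H : Subgroup G) [Fintype H] [DecidablePred (· ∈ H)]

/-- Extension by zero. -/
def ext0 (φ : H → S) : G → S := fun t => if ht : t ∈ H then φ ⟨t, ht⟩ else 0

theorem ext0_of_mem (φ : H → S) {t : G} (ht : t ∈ H) : ext0 H φ t = φ ⟨t, ht⟩ := dif_pos ht

theorem ext0_of_not_mem (φ : H → S) {t : G} (ht : t ∉ H) : ext0 H φ t = 0 := dif_neg ht

theorem ext0_coe (φ : H → S) (k : H) : ext0 H φ (k : G) = φ k := by
  rw [ext0_of_mem H φ k.2]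

theorem sum_ext0_mul (φ : H → S) (F : G → S) :
    ∑ k : G, ext0 H φ k * F k = ∑ k : H, φ k * F (k : G) := by
  classical
  have h1 : ∑ k : H, φ k * F (k : G) = ∑ k : H, (fun x : G => ext0 H φ x * F x) (k : G) := by
    refine Finset.sum_congr rfl fun k _ => ?_
    show φ k * F (k : G) = ext0 H φ (k : G) * F (k : G)
    rw [ext0_coe]
  rw [h1, ← Finset.sum_subtype (Finset.univ.filter (fun x : G => x ∈ H)) (by simp)
    (fun x : G => ext0 H φ x * F x)]
  symm
  refine Finset.sum_filter_of_ne ?_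
  intro x _ hx
  by_contra hxH
  exact hx (by rw [ext0_of_not_mem H φ hxH, zero_mul])

/-- Convolution against an extension by zero. -/
theorem cv_ext0_left (φ : H → S) (f' : G → S) (t : G) :
    cv (ext0 H φ) f' t = ∑ k : H, φ k * f' ((k : G)⁻¹ * t) := by
  unfold cv
  exact sum_ext0_mul H φ (fun k => f' (k⁻¹ * t))

theorem cv_ext0_ext0 (φ ψ : H → S) : cv (ext0 H φ) (ext0 H ψ) = ext0 H (cv φ ψ) := by
  funext t
  rw [cv_ext0_left]
  by_cases ht : t ∈ H
  · rw [ext0_of_mem H _ ht]
    unfold cv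
    refine Finset.sum_congr rfl fun k _ => ?_
    have hk : (k : G)⁻¹ * t ∈ H := H.mul_mem (H.inv_mem k.2) ht
    rw [ext0_of_mem H ψ hk]
    rfl
  · rw [ext0_of_not_mem H _ ht]
    refine Finset.sum_eq_zero fun k _ => ?_
    have hk : (k : G)⁻¹ * t ∉ H := by
      intro h
      apply ht
      have := H.mul_mem k.2 h
      rwa [mul_inv_cancel_left] at this
    rw [ext0_of_not_mem H ψ hk, mul_zero]

theorem ext0_delta : ext0 H (delta : H → S) = delta := by
  funext t
  unfold delta
  by_cases ht : t ∈ H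
  · rw [ext0_of_mem H _ ht]
    have : (⟨t, ht⟩ : H) = 1 ↔ t = 1 := by
      constructor
      · intro h
        exact congrArg Subtype.val h
      · intro h
        exact Subtype.ext h
    simp only [this]
  · rw [ext0_of_not_mem H _ ht, if_neg]
    rintro rfl
    exact ht H.one_mem

theorem cvPow_ext0 (φ : H → S) (n : ℕ) : cvPow (ext0 H φ) n = ext0 H (cvPow φ n) := by
  induction n with
  | zero => exact (ext0_delta H).symm
  | succ n ih =>
    show cv (cvPow (ext0 H φ) n) (ext0 H φ) = ext0 H (cv (cvPow φ n) φ)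
    rw [ih, cv_ext0_ext0]

theorem ext0_conj {φ : H → S} (hφ : ∀ k t : H, φ (k * t * k⁻¹) = φ t) {h : G} (hh : h ∈ H)
    (t : G) : ext0 H φ (h * t * h⁻¹) = ext0 H φ t := by
  by_cases ht : t ∈ H
  · have ht' : h * t * h⁻¹ ∈ H := H.mul_mem (H.mul_mem hh ht) (H.inv_mem hh)
    rw [ext0_of_mem H φ ht, ext0_of_mem H φ ht']
    exact hφ ⟨h, hh⟩ ⟨t, ht⟩
  · have ht' : h * t * h⁻¹ ∉ H := by
      intro hc
      apply ht
      have := H.mul_mem (H.mul_mem (H.inv_mem hh) hc) hh
      have e : h⁻¹ * (h * t * h⁻¹) * h = t := by group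
      rwa [e] at this
    rw [ext0_of_not_mem H φ ht, ext0_of_not_mem H φ ht']

end Cfsg.Agent.Lib.Helper77.IdemTrace
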