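import Mathlib.LinearAlgebra.Matrix.NonsingularInverse
import Mathlib.LinearAlgebra.Matrix.Trace
import Mathlib.Data.Matrix.PEquiv
import Mathlib.RingTheory.LocalRing.ResidueField.Basic
import Mathlib.RingTheory.LocalRing.MaximalIdeal.Basic
import Mathlib.Algebra.Ring.GeomSum
import Mathlib.Tactic.NoncommRing

/-!
# Traces of idempotent matrices over a local ring

Idempotent matrices that are congruent modulo the maximal ideal are conjugate; this gives an
elementary substitute for Green's theorem on zeros of characters of relatively projective modules.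
-/

set_option autoImplicit false
set_option linter.unusedSectionVars false

namespace Cfsg.Agent.Lib.Helper77.IdemTrace

open Matrix

variable {S : Type*} [CommRing S] [IsLocalRing S] {X : Type*} [Fintype X] [DecidableEq X]

/-- All entries lie in the maximal ideal. -/
def Small (A : Matrix X X S) : Prop := ∀ i j, A i j ∈ IsLocalRing.maximalIdeal S

theorem Small.mul_left {A : Matrix X X S} (hA : Small A) (B : Matrix X X S) : Small (B * A) := by
  intro i j
  rw [Matrix.mul_apply]
  exact sum_mem fun k _ => Ideal.mul_mem_left _ _ (hA k j)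

theorem Small.mul_right {A : Matrix X X S} (hA : Small A) (B : Matrix X X S) : Small (A * B) := by
  intro i j
  rw [Matrix.mul_apply]
  exact sum_mem fun k _ => Ideal.mul_mem_right _ _ (hA i k)

theorem Small.neg {A : Matrix X X S} (hA : Small A) : Small (-A) := by
  intro i j
  rw [Matrix.neg_apply]
  exact Ideal.neg_mem_iff _ |>.mpr (hA i j)

theorem isUnit_one_add_of_small {A : Matrix X X S} (hA : Small A) : IsUnit (1 + A) := by
  rw [Matrix.isUnit_iff_isUnit_det]
  by_contra h
  have h1 : (1 + A).det ∈ IsLocalRing.maximalIdeal S := by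
    rw [IsLocalRing.mem_maximalIdeal, mem_nonunits_iff]
    exact h
  have h2 : IsLocalRing.residue S (1 + A).det = 0 :=
    (IsLocalRing.residue_eq_zero_iff _).mpr h1
  rw [RingHom.map_det] at h2
  have h3 : (IsLocalRing.residue S).mapMatrix (1 + A) = 1 := by
    ext i j
    rw [RingHom.mapMatrix_apply, Matrix.map_apply, Matrix.add_apply, map_add,
      (IsLocalRing.residue_eq_zero_iff _).mpr (hA i j), add_zero]
    by_cases hij : i = j
    · subst hij
      simp
    · simp [hij]
  rw [h3, Matrix.det_one] at h2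
  exact one_ne_zero h2

/-- Idempotents that are congruent modulo the maximal ideal have the same trace against any
matrix commuting with both. -/
theorem trace_mul_eq_of_small_sub {P P' W : Matrix X X S} (hP : P * P = P) (hP' : P' * P' = P')
    (hd : Small (P' - P)) (hW : W * P = P * W) (hW' : W * P' = P' * W) :
    trace (W * P') = trace (W * P) := by
  set u : Matrix X X S := P' * P + (1 - P') * (1 - P) with hu
  have hu1 : u = 1 + (P' - P) * (2 • P - 1) := by
    have e0 : (P' - P) * (2 • P - 1) = 2 • (P' * P) - P' - 2 • (P * P) + P := by noncomm_ring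
    rw [e0, hP, hu]
    noncomm_ring
  have hunit : IsUnit u := by
    rw [hu1]
    exact isUnit_one_add_of_small (hd.mul_right _)
  obtain ⟨U, hU⟩ := hunit
  have h1 : P' * u = u * P := by
    rw [hu]
    have e1 : P' * (P' * P + (1 - P') * (1 - P)) = P' * P' * P + (P' - P' * P') * (1 - P) := by
      noncomm_ring
    have e2 : (P' * P + (1 - P') * (1 - P)) * P = P' * (P * P) + (1 - P') * (P - P * P) := by
      noncomm_ring
    rw [e1, e2, hP, hP']
    simp
  have h2 : W * u = u * W := by
    rw [hu]
    have e1 : W * (P' * P + (1 - P') * (1 - P)) =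
        (W * P') * P + (W - W * P') * (1 - P) := by noncomm_ring
    have e2 : (P' * P + (1 - P') * (1 - P)) * W =
        P' * (P * W) + (1 - P') * (W - P * W) := by noncomm_ring
    rw [e1, e2, hW', ← hW]
    have e3 : P' * W * P + (W - P' * W) * (1 - P) = P' * (W * P) + (1 - P') * (W - W * P)
        + (W * P - P' * (W * P) - (W * P - P' * W * P)) - (W * P - P' * (W * P))
        + (W * P - P' * W * P) := by noncomm_ring
    rw [e3]
    have e4 : P' * W * P = P' * (W * P) := by rw [mul_assoc]
    rw [e4]
    noncomm_ring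
  have h3 : P' = (U : Matrix X X S) * P * ((U⁻¹ : (Matrix X X S)ˣ) : Matrix X X S) := by
    rw [hU, ← h1, mul_assoc, ← hU, Units.mul_inv, mul_one]
  have h4 : W * P' = (U : Matrix X X S) * (W * P) * ((U⁻¹ : (Matrix X X S)ˣ) : Matrix X X S) := by
    rw [h3, hU, ← mul_assoc, ← mul_assoc, h2, mul_assoc u W P]
  rw [h4, Matrix.trace_units_conj]

/-- The permutation matrix of `w`, acting on rows. -/
def permMat (w : Equiv.Perm X) : Matrix X X S := w.toPEquiv.toMatrix

theorem permMat_mul_apply (w : Equiv.Perm X) (A : Matrix X X S) (i j : X) :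
    (permMat w * A : Matrix X X S) i j = A (w i) j := by
  unfold permMat
  rw [PEquiv.toMatrix_toPEquiv_mul]
  rfl

theorem mul_permMat_apply (w : Equiv.Perm X) (A : Matrix X X S) (i j : X) :
    (A * permMat w : Matrix X X S) i j = A i (w.symm j) := by
  unfold permMat
  rw [PEquiv.mul_toMatrix_toPEquiv]
  rfl

theorem permMat_comm {w : Equiv.Perm X} {A : Matrix X X S}
    (hA : ∀ i j, A (w i) (w j) = A i j) : permMat w * A = A * permMat w := by
  ext i j
  rw [permMat_mul_apply, mul_permMat_apply]
  have := hA i (w.symm j)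
  rwa [Equiv.apply_symm_apply] at this

theorem trace_permMat_mul (w : Equiv.Perm X) (A : Matrix X X S) :
    trace (permMat w * A) = ∑ a, A (w a) a := by
  unfold Matrix.trace
  refine Finset.sum_congr rfl fun a _ => ?_
  rw [Matrix.diag_apply, permMat_mul_apply]

/-- Vanishing of the trace in the presence of a grading twisted by a root of unity which is
congruent to one. -/
theorem trace_eq_zero_of_grading [IsDomain S] {ω : S} (hω1 : ω ≠ 1)
    (w : Equiv.Perm X) (Y : X → Prop) (Ω Ω' : X → S) (hΩ : ∀ a, Ω a * Ω' a = 1)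
    (hsmall : ∀ a a', Ω a * Ω' a' - 1 ∈ IsLocalRing.maximalIdeal S)
    (hw : ∀ a, Y a → Ω (w a) = ω * Ω a)
    {P : Matrix X X S} (hP : P * P = P) (hPw : ∀ i j, P (w i) (w j) = P i j)
    (hsupp : ∀ i j, P i j ≠ 0 → Y i ∧ Y j) :
    trace (permMat w * P) = 0 := by
  set P' : Matrix X X S := Matrix.of fun i j => Ω i * P i j * Ω' j with hP'def
  have hP'app : ∀ i j, P' i j = Ω i * P i j * Ω' j := fun i j => rfl
  have hw' : ∀ a, Y a → Ω' a = ω * Ω' (w a) := by
    intro a ha
    calc Ω' a = Ω' a * (Ω (w a) * Ω' (w a)) := by rw [hΩ, mul_one]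
      _ = (Ω a * Ω' a) * (ω * Ω' (w a)) := by rw [hw a ha]; ring
      _ = ω * Ω' (w a) := by rw [hΩ, one_mul]
  have hP'idem : P' * P' = P' := by
    ext i j
    rw [Matrix.mul_apply, hP'app]
    have h1 : ∀ k, P' i k * P' k j = Ω i * (P i k * P k j) * Ω' j := by
      intro k
      rw [hP'app, hP'app]
      calc Ω i * P i k * Ω' k * (Ω k * P k j * Ω' j)
          = Ω i * (P i k * P k j) * Ω' j * (Ω k * Ω' k) := by ring
        _ = _ := by rw [hΩ, mul_one]
    rw [Finset.sum_congr rfl fun k _ => h1 k, ← Finset.sum_mul, ← Finset.mul_sum,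
      ← Matrix.mul_apply, hP]
  have hd : Small (P' - P) := by
    intro i j
    rw [Matrix.sub_apply, hP'app]
    have : Ω i * P i j * Ω' j - P i j = (Ω i * Ω' j - 1) * P i j := by ring
    rw [this]
    exact Ideal.mul_mem_right _ _ (hsmall i j)
  have hP'w : ∀ i j, P' (w i) (w j) = P' i j := by
    intro i j
    rw [hP'app, hP'app, hPw]
    by_cases h0 : P i j = 0
    · rw [h0]; ring
    · obtain ⟨hi, hj⟩ := hsupp i j h0
      rw [hw i hi, hw' j hj]
      ring
  have h1 := trace_mul_eq_of_small_sub hP hP'idem hd (permMat_comm hPw) (permMat_comm hP'w)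
  rw [trace_permMat_mul, trace_permMat_mul] at h1
  have h2 : ∑ a, P' (w a) a = ω * ∑ a, P (w a) a := by
    rw [Finset.mul_sum]
    refine Finset.sum_congr rfl fun a _ => ?_
    rw [hP'app]
    by_cases h0 : P (w a) a = 0
    · rw [h0]; ring
    · obtain ⟨-, ha⟩ := hsupp _ _ h0
      rw [hw a ha]
      calc ω * Ω a * P (w a) a * Ω' a = ω * P (w a) a * (Ω a * Ω' a) := by ring
        _ = _ := by rw [hΩ, mul_one]
  rw [trace_permMat_mul]
  rw [h2] at h1
  have h3 : (ω - 1) * ∑ a, P (w a) a = 0 := by
    rw [sub_mul, one_mul, h1, sub_self]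
  rcases mul_eq_zero.mp h3 with h | h
  · exact absurd (sub_eq_zero.mp h) hω1
  · exact h

/-- The diagonal idempotent of a subset. -/
def cornerMat (c : X → Prop) [DecidablePred c] : Matrix X X S :=
  Matrix.diagonal fun a => if c a then 1 else 0

theorem cornerMat_mul_apply (c : X → Prop) [DecidablePred c] (A : Matrix X X S) (i j : X) :
    (cornerMat c * A : Matrix X X S) i j = if c i then A i j else 0 := by
  unfold cornerMat
  rw [Matrix.diagonal_mul]
  split_ifs <;> simp

theorem mul_cornerMat_apply (c : X → Prop) [DecidablePred c] (A : Matrix X X S) (i j : X) :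
    (A * cornerMat c : Matrix X X S) i j = if c j then A i j else 0 := by
  unfold cornerMat
  rw [Matrix.mul_diagonal]
  split_ifs <;> simp

theorem cornerMat_idem (c : X → Prop) [DecidablePred c] :
    (cornerMat c * cornerMat c : Matrix X X S) = cornerMat c := by
  ext i j
  rw [cornerMat_mul_apply]
  split_ifs with h
  · rfl
  · unfold cornerMat
    rw [Matrix.diagonal_apply]
    split_ifs <;> rfl

theorem cornerMat_add_not (c : X → Prop) [DecidablePred c] :
    (cornerMat c + cornerMat (fun a => ¬ c a) : Matrix X X S) = 1 := by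
  unfold cornerMat
  rw [Matrix.diagonal_add, ← Matrix.diagonal_one]
  congr 1
  funext a
  by_cases h : c a <;> simp [h]

theorem permMat_cornerMat_comm {w : Equiv.Perm X} (c : X → Prop) [DecidablePred c]
    (hw : ∀ a, c (w a) ↔ c a) :
    (permMat w * cornerMat c : Matrix X X S) = cornerMat c * permMat w := by
  apply permMat_comm
  intro i j
  unfold cornerMat
  rw [Matrix.diagonal_apply, Matrix.diagonal_apply]
  by_cases hij : i = j
  · subst hij
    simp only [if_true]
    by_cases h : c i
    · rw [if_pos h, if_pos ((hw i).mpr h)]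
    · rw [if_neg h, if_neg (fun h' => h ((hw i).mp h'))]
  · rw [if_neg hij, if_neg (fun h => hij (w.injective h))]

theorem comm_inv_of_comm {a r A : Matrix X X S} (h1 : a * r = 1) (h2 : r * a = 1)
    (hA : A * a = a * A) : A * r = r * A := by
  calc A * r = r * a * (A * r) := by rw [h2, one_mul]
    _ = r * (a * A) * r := by simp only [mul_assoc]
    _ = r * (A * a) * r := by rw [hA]
    _ = r * A * (a * r) := by simp only [mul_assoc]
    _ = r * A := by rw [h1, mul_one]

/-- Removing a corner on which the idempotent is nilpotent modulo the maximal ideal. -/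
theorem exists_idem_off_corner {P W : Matrix X X S} (c : X → Prop) [DecidablePred c]
    (hP : P * P = P) (hWP : W * P = P * W) (hWc : W * cornerMat c = cornerMat c * W)
    (N : ℕ) (hN : Small ((cornerMat c * P * cornerMat c) ^ N)) :
    ∃ P₁ : Matrix X X S, P₁ * P₁ = P₁ ∧ W * P₁ = P₁ * W ∧
      (∀ i j, P₁ i j ≠ 0 → ¬ c i ∧ ¬ c j) ∧ trace (W * P₁) = trace (W * P) := by
  set C₀ : Matrix X X S := cornerMat c with hC₀
  set C₁ : Matrix X X S := cornerMat (fun a => ¬ c a) with hC₁
  have hC₀idem : C₀ * C₀ = C₀ := cornerMat_idem c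
  have hC₁idem : C₁ * C₁ = C₁ := cornerMat_idem _
  have hC₁eq : C₁ = 1 - C₀ := by
    rw [eq_sub_iff_add_eq, add_comm]
    exact cornerMat_add_not c
  have hWc₁ : W * C₁ = C₁ * W := by
    rw [hC₁eq, mul_sub, sub_mul, mul_one, one_mul, hWc]
  set n : Matrix X X S := P * C₀ * P with hn
  set q : Matrix X X S := C₀ * P * C₀ with hq
  have hqC : q * C₀ = q := by
    rw [hq, mul_assoc, hC₀idem]
  have hpow : ∀ k : ℕ, n ^ (k + 1) = P * q ^ k * C₀ * P := by
    intro k
    induction k with
    | zero => rw [zero_add, pow_one, pow_zero, mul_one]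
    | succ k ih =>
      rw [pow_succ, ih, pow_succ]
      calc P * q ^ k * C₀ * P * n = P * q ^ k * (C₀ * (P * P) * C₀) * P := by
            rw [hn]; simp only [mul_assoc]
        _ = P * q ^ k * q * P := by rw [hP]
        _ = P * q ^ k * (q * C₀) * P := by rw [hqC]
        _ = P * (q ^ k * q) * C₀ * P := by simp only [mul_assoc]
  have hsmall : Small (-(n ^ (N + 1))) := by
    rw [hpow N]
    exact (((hN.mul_left P).mul_right C₀).mul_right P).neg
  obtain ⟨V, hV⟩ := isUnit_one_add_of_small hsmall
  set g : Matrix X X S := ∑ i ∈ Finset.range (N + 1), n ^ i with hg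
  have hg1 : (1 - n) * g = (V : Matrix X X S) := by
    rw [hV, hg, mul_neg_geom_sum, sub_eq_add_neg]
  set r : Matrix X X S := g * ((V⁻¹ : (Matrix X X S)ˣ) : Matrix X X S) with hr
  have hr1 : (1 - n) * r = 1 := by
    rw [hr, ← mul_assoc, hg1, Units.mul_inv]
  have hr2 : r * (1 - n) = 1 := mul_eq_one_comm.mp hr1
  have hPn : P * n = n := by
    rw [hn, ← mul_assoc, ← mul_assoc, hP]
  have hnP : n * P = n := by
    rw [hn, mul_assoc, hP]
  have hPa : P * (1 - n) = (1 - n) * P := by
    rw [mul_sub, sub_mul, mul_one, one_mul, hPn, hnP]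
  have hWn : W * n = n * W := by
    rw [hn]
    calc W * (P * C₀ * P) = (W * P) * C₀ * P := by simp only [mul_assoc]
      _ = P * (W * C₀) * P := by rw [hWP]; simp only [mul_assoc]
      _ = P * C₀ * (W * P) := by rw [hWc]; simp only [mul_assoc]
      _ = P * C₀ * P * W := by rw [hWP]; simp only [mul_assoc]
  have hWa : W * (1 - n) = (1 - n) * W := by
    rw [mul_sub, sub_mul, mul_one, one_mul, hWn]
  have hPr : P * r = r * P := comm_inv_of_comm hr1 hr2 hPa
  have hWr : W * r = r * W := comm_inv_of_comm hr1 hr2 hWa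
  have hPC₁P : P * C₁ * P = P * (1 - n) := by
    rw [hC₁eq, mul_sub, sub_mul, mul_one, hP, mul_sub, mul_one, hPn]
  have key : P * C₁ * r * P = P := by
    calc P * C₁ * r * P = P * C₁ * (r * P) := by simp only [mul_assoc]
      _ = P * C₁ * P * r := by rw [← hPr]; simp only [mul_assoc]
      _ = P * ((1 - n) * r) := by rw [hPC₁P]; simp only [mul_assoc]
      _ = P := by rw [hr1, mul_one]
  refine ⟨C₁ * r * P * C₁, ?_, ?_, ?_, ?_⟩
  · calc C₁ * r * P * C₁ * (C₁ * r * P * C₁) = C₁ * r * (P * (C₁ * C₁) * r * P) * C₁ := by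
          simp only [mul_assoc]
      _ = C₁ * r * P * C₁ := by rw [hC₁idem, key]
  · calc W * (C₁ * r * P * C₁) = (W * C₁) * r * P * C₁ := by simp only [mul_assoc]
      _ = C₁ * (W * r) * P * C₁ := by rw [hWc₁]; simp only [mul_assoc]
      _ = C₁ * r * (W * P) * C₁ := by rw [hWr]; simp only [mul_assoc]
      _ = C₁ * r * P * (W * C₁) := by rw [hWP]; simp only [mul_assoc]
      _ = C₁ * r * P * C₁ * W := by rw [hWc₁]; simp only [mul_assoc]
  · intro i j hij
    have h1 : (C₁ * r * P * C₁) i j = (C₁ * (r * P * C₁)) i j := by simp only [mul_assoc]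
    by_contra hcon
    apply hij
    rw [not_and_or, not_not, not_not] at hcon
    rcases hcon with hi | hj
    · rw [h1, hC₁, cornerMat_mul_apply, if_neg (not_not.mpr hi)]
    · rw [hC₁, mul_cornerMat_apply, if_neg (not_not.mpr hj)]
  · calc trace (W * (C₁ * r * P * C₁)) = trace ((W * C₁ * r * P) * C₁) := by
          simp only [mul_assoc]
      _ = trace (C₁ * (W * C₁ * r * P)) := Matrix.trace_mul_comm _ _
      _ = trace ((W * (C₁ * C₁) * r * P) * P) := by
          congr 1
          calc C₁ * (W * C₁ * r * P) = (C₁ * W) * C₁ * r * P := by simp only [mul_assoc]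
            _ = W * (C₁ * C₁) * r * P := by rw [← hWc₁]; simp only [mul_assoc]
            _ = W * (C₁ * C₁) * r * (P * P) := by rw [hP]
            _ = W * (C₁ * C₁) * r * P * P := by simp only [mul_assoc]
      _ = trace (P * (W * (C₁ * C₁) * r * P)) := Matrix.trace_mul_comm _ _
      _ = trace (W * (P * C₁ * r * P)) := by
          rw [hC₁idem]
          congr 1
          calc P * (W * C₁ * r * P) = (P * W) * C₁ * r * P := by simp only [mul_assoc]
            _ = W * (P * C₁ * r * P) := by rw [← hWP]; simp only [mul_assoc]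
      _ = trace (W * P) := by rw [key]

/-- The main vanishing statement: an idempotent commuting with a permutation, nilpotent modulo the
maximal ideal on a stable corner, graded off the corner. -/
theorem trace_permMat_mul_idem_eq_zero [IsDomain S] {ω : S} (hω1 : ω ≠ 1)
    (w : Equiv.Perm X) (c : X → Prop) [DecidablePred c] (hwc : ∀ a, c (w a) ↔ c a)
    (Ω Ω' : X → S) (hΩ : ∀ a, Ω a * Ω' a = 1)
    (hsmall : ∀ a a', Ω a * Ω' a' - 1 ∈ IsLocalRing.maximalIdeal S)
    (hw : ∀ a, ¬ c a → Ω (w a) = ω * Ω a)
    {P : Matrix X X S} (hP : P * P = P) (hPw : ∀ i j, P (w i) (w j) = P i j)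
    (N : ℕ) (hN : Small ((cornerMat c * P * cornerMat c) ^ N)) :
    ∑ a, P (w a) a = 0 := by
  obtain ⟨P₁, h1, h2, h3, h4⟩ := exists_idem_off_corner (W := permMat w) c hP (permMat_comm hPw)
    (permMat_cornerMat_comm c hwc) N hN
  have hP₁w : ∀ i j, P₁ (w i) (w j) = P₁ i j := by
    intro i j
    have := congrFun (congrFun h2 i) (w j)
    rw [permMat_mul_apply, mul_permMat_apply, Equiv.symm_apply_apply] at this
    exact this
  have h5 := trace_eq_zero_of_grading hω1 w (fun a => ¬ c a) Ω Ω' hΩ hsmall hw h1 hP₁w h3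
  rw [h4, trace_permMat_mul] at h5
  exact h5

end Cfsg.Agent.Lib.Helper77.IdemTrace
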