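import Cfsg.Agent.Lib.Helper74.BrFeit1
import Cfsg.Agent.S0908

/-!
# A `2`-block of defect two has exactly four irreducible characters
-/

set_option autoImplicit false

namespace Cfsg.Agent.Lib.Helper77.Kf

open Cfsg Cfsg.Agent.Lib.Helper81 Cfsg.Agent.Lib.Helper16 Cfsg.Agent.Lib.Helper74
open scoped ComplexConjugate

universe u

variable {G : Type u} [Group G] [Fintype G]

/-- A sum of `n` nonzero integer squares equal to `3` has exactly three terms. -/
theorem card_eq_three_of_sum_sq {ι : Type*} (S : Finset ι) (n : ι → ℤ)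
    (hne : ∀ i ∈ S, n i ≠ 0) (hsum : ∑ i ∈ S, n i ^ 2 = 3) : S.card = 3 := by
  have h1 : ∀ i ∈ S, 1 ≤ n i ^ 2 := by
    intro i hi
    have : 0 < n i ^ 2 := by
      have := hne i hi
      positivity
    omega
  have hle : ∀ i ∈ S, n i ^ 2 ≤ 3 := by
    intro i hi
    rw [← hsum]
    exact Finset.single_le_sum (f := fun i => n i ^ 2) (fun j _ => sq_nonneg _) hi
  have h2 : ∀ i ∈ S, n i ^ 2 = 1 := by
    intro i hi
    have h3 := hle i hi
    have h4 := h1 i hi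
    have h5 : -1 ≤ n i ∧ n i ≤ 1 := by
      constructor <;> nlinarith
    obtain ⟨h6, h7⟩ := h5
    interval_cases (n i) <;> simp_all
  rw [Finset.sum_congr rfl h2, Finset.sum_const, nsmul_eq_mul, mul_one] at hsum
  exact_mod_cast hsum

open Classical in
/-- **A `2`-block of defect two has exactly four irreducible characters** (finset form). -/
theorem card_filter_block_eq_four [Fintype (IrrCharacter G)] [Fact (Nat.Prime 2)]
    (M : Ideal AlgInt) (hM : IsPModular 2 M) (χ₀ : IrrCharacter G)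
    (hd : blockDefect 2 (blockOf M (χ₀ : G → ℂ)) = 2) :
    (Finset.univ.filter (fun ψ : IrrCharacter G => ψ ∈ blockOf M (χ₀ : G → ℂ))).card = 4 := by
  have hp : (2 : ℕ).Prime := Fact.out
  have hMp : M.IsPrime := isPrime_of_isPModular hM
  set B := blockOf M (χ₀ : G → ℂ) with hB
  set Bf := Finset.univ.filter (fun ψ : IrrCharacter G => ψ ∈ B) with hBf
  set a := (Nat.card G).factorization 2 with ha
  set m := minDegVal 2 B with hm
  have hχ₀B : χ₀ ∈ B := sameBlock_refl hMp _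
  have hma : m ≤ a := minDegVal_le_card 2 ⟨χ₀, hχ₀B⟩
  have hdd : a - m = 2 := by
    rw [← blockDefect_eq 2 B]
    exact hd
  have ham : a = m + 2 := by omega
  obtain ⟨χ, hχB, hχm⟩ := exists_minDegVal 2 (B := B) ⟨χ₀, hχ₀B⟩
  have hht : blockHeight 2 B (χ : G → ℂ) = 0 := by
    rw [blockHeight_eq, hχm]
    exact Nat.sub_self _
  obtain ⟨T, hT, hsq⟩ := pTilde_sum_sq 2 χ
  obtain ⟨ht0, htle, -⟩ := pTilde_self_bounds 2 χ (T χ) (hT χ)
  rw [← ha] at htle hsq
  have hdvd : ∀ ψ : IrrCharacter G, ((2 ^ m : ℕ) : ℤ) ∣ T ψ := by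
    intro ψ
    have := pTilde_dvd_left 2 χ ψ (T ψ) (hT ψ)
    rwa [hχm] at this
  have hne : ∀ ψ ∈ Bf, T ψ ≠ 0 := by
    intro ψ hψ h0
    have hψB : ψ ∈ B := (Finset.mem_filter.mp hψ).2
    apply pTilde_unit_of_height_zero hM χ₀ χ hχB hht ψ hψB
    rw [hT ψ, h0, Int.cast_zero, zero_div]
    exact memLocalIdeal_zero hMp
  have hout : ∀ ψ : IrrCharacter G, ψ ∉ Bf → T ψ = 0 := by
    intro ψ hψ
    have hns : ¬ SameBlock M (χ : G → ℂ) (ψ : G → ℂ) := by
      intro hs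
      apply hψ
      rw [hBf, Finset.mem_filter]
      exact ⟨Finset.mem_univ _, sameBlock_trans hMp hχB hs⟩
    have h1 := pTilde_eq_zero_of_not_sameBlock 2 M hM χ ψ hns
    rw [hT ψ] at h1
    exact_mod_cast h1
  -- oddness of `x`
  have hodd : ¬ ((2 ^ (m + 1) : ℕ) : ℤ) ∣ T χ := by
    have h1 := pTilde_unit_of_height_zero hM χ₀ χ hχB hht χ hχB
    rw [pTilde_unit_iff hM χ χ (T χ) (hT χ), hχm] at h1
    exact h1
  choose n hn using hdvd
  have hpm : (0 : ℤ) < ((2 ^ m : ℕ) : ℤ) := by exact_mod_cast pow_pos hp.pos m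
  have hχBf : χ ∈ Bf := Finset.mem_filter.mpr ⟨Finset.mem_univ _, hχB⟩
  -- the sum restricted to the block
  have hsum1 : ∑ ψ ∈ Bf, T ψ ^ 2 = ((2 : ℕ) : ℤ) ^ a * T χ := by
    rw [← hsq]
    apply Finset.sum_subset (Finset.subset_univ _)
    intro ψ _ hψ
    rw [hout ψ hψ]
    ring
  have hpa : ((2 : ℕ) : ℤ) ^ a = ((2 ^ m : ℕ) : ℤ) * 4 := by
    rw [ham]
    push_cast
    ring
  have hsum2 : ∑ ψ ∈ Bf, n ψ ^ 2 = 4 * n χ := by
    have h1 : ∑ ψ ∈ Bf, T ψ ^ 2 = ((2 ^ m : ℕ) : ℤ) ^ 2 * ∑ ψ ∈ Bf, n ψ ^ 2 := by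
      rw [Finset.mul_sum]
      apply Finset.sum_congr rfl
      intro ψ _
      rw [hn ψ]
      ring
    have h2 : ((2 ^ m : ℕ) : ℤ) ^ 2 * ∑ ψ ∈ Bf, n ψ ^ 2 = ((2 ^ m : ℕ) : ℤ) ^ 2 * (4 * n χ) := by
      rw [← h1, hsum1, hpa, hn χ]
      ring
    exact mul_left_cancel₀ (by positivity) h2
  -- bounds on `x = n χ`
  have hx0 : 0 < n χ := by
    have h1 : 0 < ((2 ^ m : ℕ) : ℤ) * n χ := by rw [← hn χ]; exact ht0
    by_contra hcon
    push Not at hcon
    nlinarith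
  have hx4 : n χ ≤ 4 := by
    have h1 : ((2 ^ m : ℕ) : ℤ) * n χ ≤ ((2 ^ m : ℕ) : ℤ) * 4 := by
      rw [← hn χ, ← hpa]
      exact htle
    exact le_of_mul_le_mul_left h1 hpm
  have hxodd : ¬ (2 : ℤ) ∣ n χ := by
    rintro ⟨k, hk⟩
    apply hodd
    refine ⟨k, ?_⟩
    rw [hn χ, hk]
    push_cast
    ring
  have hx13 : n χ = 1 ∨ n χ = 3 := by
    have : n χ = 1 ∨ n χ = 2 ∨ n χ = 3 ∨ n χ = 4 := by omega
    rcases this with h | h | h | h
    · exact Or.inl h
    · exact absurd ⟨1, by rw [h]; norm_num⟩ hxodd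
    · exact Or.inr h
    · exact absurd ⟨2, by rw [h]; norm_num⟩ hxodd
  have hsum3 : ∑ ψ ∈ Bf.erase χ, n ψ ^ 2 = 3 := by
    have h1 := Finset.add_sum_erase Bf (fun ψ => n ψ ^ 2) hχBf
    rw [hsum2] at h1
    rcases hx13 with h | h
    · rw [h] at h1
      linarith
    · rw [h] at h1
      linarith
  have hne' : ∀ ψ ∈ Bf.erase χ, n ψ ≠ 0 := by
    intro ψ hψ h0
    apply hne ψ (Finset.mem_of_mem_erase hψ)
    rw [hn ψ, h0, mul_zero]
  have hc3 := card_eq_three_of_sum_sq (Bf.erase χ) n hne' hsum3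
  rw [Finset.card_erase_of_mem hχBf] at hc3
  have : 0 < Bf.card := Finset.card_pos.mpr ⟨χ, hχBf⟩
  omega

/-- **A `2`-block with a defect group of order four has exactly four irreducible characters.** -/
theorem card_block_eq_four {H : Type u} [Group H] [Finite H] (M : Ideal AlgInt)
    (hM : IsPModular 2 M) (B : Set (IrrCharacter H)) (hB : IsPBlock M B) (D : Subgroup H)
    (hD : IsDefectGroup 2 M B D) (hcard : Nat.card D = 4) : Nat.card B = 4 := by
  classical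
  have : Fact (Nat.Prime 2) := ⟨Nat.prime_two⟩
  have : Fintype H := Fintype.ofFinite H
  have : Fintype (IrrCharacter H) := Fintype.ofFinite _
  have h1 := Cfsg.Agent.S0908.result 2 M hM B hB D hD
  rw [hcard] at h1
  have h2 : blockDefect 2 B = 2 := by
    have : (2 : ℕ) ^ 2 = 2 ^ blockDefect 2 B := by rw [← h1]; norm_num
    exact (Nat.pow_right_injective (le_refl 2) this).symm
  obtain ⟨χ₀, rfl⟩ := hB
  have h3 := card_filter_block_eq_four M hM χ₀ h2
  rw [Nat.card_eq_fintype_card, Fintype.card_subtype]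
  exact h3

end Cfsg.Agent.Lib.Helper77.Kf
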