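import Cfsg.Agent.Lib.Helper75.DefectOne3
import Cfsg.Agent.Lib.Helper76.CentralChar

/-!
# Representatives of `p`-element classes through a given set; the section of a central element
-/

set_option autoImplicit false

universe u

namespace Cfsg.Agent.Lib.Helper77.Kf

open Cfsg Cfsg.Agent.Lib.Helper75
open scoped ComplexConjugate

section reps

variable {G : Type u} [Group G]

/-- A set of representatives of the conjugacy classes of `p`-elements containing a given finite
set of pairwise non-conjugate `p`-elements. -/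
theorem exists_reps_of_pairwise [Finite G] (p : ℕ) (S : Finset G)
    (hS : ∀ s ∈ S, ∃ k : ℕ, orderOf s = p ^ k)
    (hSc : ∀ s ∈ S, ∀ s' ∈ S, IsConj s s' → s = s') :
    ∃ X : Finset G, S ⊆ X ∧ (∀ x' ∈ X, ∃ k : ℕ, orderOf x' = p ^ k) ∧
      ∀ g : G, (∃ k : ℕ, orderOf g = p ^ k) → ∃! x', x' ∈ X ∧ IsConj g x' := by
  classical
  have : Fintype G := Fintype.ofFinite G
  let rep : G → G := fun g =>
    if h : ∃ s ∈ S, IsConj g s then Classical.choose h else Quotient.out (ConjClasses.mk g)
  have hrepS : ∀ g : G, ∀ s ∈ S, IsConj g s → rep g = s := by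
    intro g s hs hc
    have h : ∃ s ∈ S, IsConj g s := ⟨s, hs, hc⟩
    show (if h : ∃ s ∈ S, IsConj g s then Classical.choose h
      else Quotient.out (ConjClasses.mk g)) = s
    rw [dif_pos h]
    obtain ⟨h1, h2⟩ := Classical.choose_spec h
    exact hSc _ h1 _ hs (h2.symm.trans hc)
  have hrep1 : ∀ g : G, IsConj g (rep g) := by
    intro g
    by_cases h : ∃ s ∈ S, IsConj g s
    · obtain ⟨s, hs, hc⟩ := h
      rw [hrepS g s hs hc]
      exact hc
    · show IsConj g (if h : ∃ s ∈ S, IsConj g s then Classical.choose h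
        else Quotient.out (ConjClasses.mk g))
      rw [dif_neg h]
      have : ConjClasses.mk (Quotient.out (ConjClasses.mk g)) = ConjClasses.mk g :=
        Quotient.out_eq _
      exact (ConjClasses.mk_eq_mk_iff_isConj.mp this).symm
  have hrep2 : ∀ g g' : G, IsConj g g' → rep g = rep g' := by
    intro g g' hc
    by_cases h : ∃ s ∈ S, IsConj g s
    · obtain ⟨s, hs, hcs⟩ := h
      rw [hrepS g s hs hcs, hrepS g' s hs (hc.symm.trans hcs)]
    · have h' : ¬ ∃ s ∈ S, IsConj g' s := by
        rintro ⟨s, hs, hcs⟩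
        exact h ⟨s, hs, hc.trans hcs⟩
      show (if h : ∃ s ∈ S, IsConj g s then Classical.choose h
        else Quotient.out (ConjClasses.mk g)) =
        (if h : ∃ s ∈ S, IsConj g' s then Classical.choose h
        else Quotient.out (ConjClasses.mk g'))
      rw [dif_neg h, dif_neg h']
      have e3 : ConjClasses.mk g = ConjClasses.mk g' := ConjClasses.mk_eq_mk_iff_isConj.mpr hc
      rw [e3]
  refine ⟨(Finset.univ.filter (fun g : G => ∃ k : ℕ, orderOf g = p ^ k)).image rep, ?_, ?_, ?_⟩
  · intro s hs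
    apply Finset.mem_image.mpr
    exact ⟨s, Finset.mem_filter.mpr ⟨Finset.mem_univ _, hS s hs⟩, hrepS s s hs (IsConj.refl s)⟩
  · intro x' hx'
    obtain ⟨g, hg, rfl⟩ := Finset.mem_image.mp hx'
    obtain ⟨k, hk⟩ := (Finset.mem_filter.mp hg).2
    exact ⟨k, by rw [← orderOf_eq_of_isConj' (hrep1 g), hk]⟩
  · intro g hg
    refine ⟨rep g, ⟨Finset.mem_image.mpr ⟨g, Finset.mem_filter.mpr ⟨Finset.mem_univ _, hg⟩, rfl⟩,
      hrep1 g⟩, ?_⟩
    rintro x'' ⟨hx'', hc⟩
    obtain ⟨g'', -, rfl⟩ := Finset.mem_image.mp hx''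
    exact (hrep2 g g'' (hc.trans (hrep1 g'').symm)).symm

end reps

section central

variable {H : Type u} [Group H] [Finite H]

open Classical in
/-- The section of a central `p`-element contributes exactly `l(b)`. -/
theorem sectionTerm_central (p : ℕ) [Fact p.Prime] (M : Ideal AlgInt) (hM : IsPModular p M)
    (b : Set (IrrCharacter H)) (hb : IsPBlock M b) (z : H) (hz : z ∈ Subgroup.center H)
    (hzp : ∃ k : ℕ, orderOf z = p ^ k) : sectionTerm p M b z = blockRank p b := by
  have : Fintype H := Fintype.ofFinite H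
  have : Fintype (IrrCharacter H) := Fintype.ofFinite _
  have : Fintype (Subgroup.centralizer ({z} : Set H)) := Fintype.ofFinite _
  have : Fintype (IrrCharacter (Subgroup.centralizer ({z} : Set H))) := Fintype.ofFinite _
  have hmem : ∀ h : H, h ∈ Subgroup.centralizer ({z} : Set H) := by
    intro h
    rw [Subgroup.mem_centralizer_singleton_iff]
    exact (Subgroup.mem_center_iff.mp hz h)
  have h1 := sum_pRegularPart_section hM hzp hb
  obtain ⟨χ₀, rfl⟩ := hb
  have h2 := Cfsg.Agent.Lib.Helper74.card_mul_blockRank p M hM χ₀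
  -- the cardinalities agree
  have hcard : Nat.card (Subgroup.centralizer ({z} : Set H)) = Nat.card H := by
    have : Subgroup.centralizer ({z} : Set H) = ⊤ := by
      rw [eq_top_iff]
      intro h _
      exact hmem h
    rw [this]
    exact Subgroup.card_top
  -- the sums agree
  have hsum : ∑ c : Subgroup.centralizer ({z} : Set H),
      pRegularPart p (fun c : Subgroup.centralizer ({z} : Set H) =>
        ∑ χ ∈ Finset.univ.filter (fun χ : IrrCharacter H => χ ∈ blockOf M (χ₀ : H → ℂ)),
          (χ : H → ℂ) (z * (c : H)) * conj ((χ : H → ℂ) (z * (c : H)))) c =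
      ∑ x : H, ∑ χ ∈ Finset.univ.filter (fun χ : IrrCharacter H => χ ∈ blockOf M (χ₀ : H → ℂ)),
        pRegularPart p (χ : H → ℂ) x * (χ : H → ℂ) x⁻¹ := by
    let φ : Subgroup.centralizer ({z} : Set H) ≃ H :=
      { toFun := fun c => (c : H)
        invFun := fun h => ⟨h, hmem h⟩
        left_inv := fun c => rfl
        right_inv := fun h => rfl }
    rw [← Equiv.sum_comp φ]
    refine Finset.sum_congr rfl fun c _ => ?_
    show _ = ∑ χ ∈ Finset.univ.filter (fun χ : IrrCharacter H => χ ∈ blockOf M (χ₀ : H → ℂ)),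
        pRegularPart p (χ : H → ℂ) (c : H) * (χ : H → ℂ) (c : H)⁻¹
    rw [Cfsg.Agent.Lib.Helper74.pRegularPart_apply]
    have hord : orderOf c = orderOf (c : H) := (Subgroup.orderOf_coe c).symm
    by_cases hc : p ∣ orderOf (c : H)
    · rw [if_neg (by rw [hord]; exact fun h => h hc)]
      symm
      refine Finset.sum_eq_zero fun χ _ => ?_
      rw [Cfsg.Agent.Lib.Helper74.pRegularPart_apply, if_neg (fun h => h hc), zero_mul]
    · rw [if_pos (by rw [hord]; exact hc)]
      refine Finset.sum_congr rfl fun χ _ => ?_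
      rw [Cfsg.Agent.Lib.Helper74.pRegularPart_apply, if_pos hc]
      have hzc : z * (c : H) = (c : H) * z := (Subgroup.mem_center_iff.mp hz (c : H)).symm
      rw [hzc, Cfsg.Agent.Lib.Helper76.irr_mul_central' χ z hz (c : H), map_mul,
        Cfsg.Agent.Lib.Helper76.om_conj χ z]
      have h3 := Cfsg.Agent.Lib.Helper76.om_mul_inv χ z hz
      rw [Cfsg.Agent.Lib.Helper3.IsCharacter.inv
        (Cfsg.Agent.Lib.Helper3.IsIrrCharacter.isCharacter χ.2)]
      linear_combination ((χ : H → ℂ) (c : H) * conj ((χ : H → ℂ) (c : H))) * h3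
  rw [hsum, ← h2, hcard] at h1
  have hH : (Nat.card H : ℂ) ≠ 0 := Nat.cast_ne_zero.mpr Nat.card_pos.ne'
  have h4 := mul_left_cancel₀ hH h1
  unfold sectionTerm
  exact_mod_cast h4.symm

end central

end Cfsg.Agent.Lib.Helper77.Kf
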