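import Cfsg.Agent.Lib.Helper77.Subsection
import Cfsg.Agent.Lib.Helper77.BPairG
import Cfsg.Agent.Lib.Helper77.AbLocal
import Cfsg.Agent.Lib.Helper52.Subpairs2

/-!
# Subsections and Brauer pairs on cyclic subgroups
-/

set_option autoImplicit false

universe u

namespace Cfsg.Agent.Lib.Helper77.Kf

open Cfsg Cfsg.Agent.Lib.Helper77

variable {G : Type u} [Group G]

/-- Transport of a set of irreducible characters along an equality of subgroups. -/
def castB {K K' : Subgroup G} (h : K = K') (b : Set (IrrCharacter K)) : Set (IrrCharacter K') :=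
  h ▸ b

theorem castB_castB {K K' : Subgroup G} (h : K = K') (b : Set (IrrCharacter K)) :
    castB h.symm (castB h b) = b := by
  subst h
  rfl

theorem castB_castB' {K K' : Subgroup G} (h : K = K') (b : Set (IrrCharacter K')) :
    castB h (castB h.symm b) = b := by
  subst h
  rfl

theorem castB_injective {K K' : Subgroup G} (h : K = K') :
    Function.Injective (castB h : Set (IrrCharacter K) → Set (IrrCharacter K')) := by
  subst h
  exact fun _ _ h => h

theorem isInducedBlock_castB {M : Ideal AlgInt} {K K' : Subgroup G} (h : K = K')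
    (b : Set (IrrCharacter K)) (B : Set (IrrCharacter G)) :
    IsInducedBlock M K' (castB h b) B ↔ IsInducedBlock M K b B := by
  subst h
  exact Iff.rfl

theorem blockRank_castB (p : ℕ) {K K' : Subgroup G} (h : K = K') (b : Set (IrrCharacter K)) :
    blockRank p (castB h b) = blockRank p b := by
  subst h
  rfl

theorem nonempty_castB {K K' : Subgroup G} (h : K = K') (b : Set (IrrCharacter K))
    (hb : b.Nonempty) : (castB h b).Nonempty := by
  subst h
  exact hb

/-- The block of `C_G(x)` attached to a block of `C_G(⟨x⟩)`. -/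
def toSec (x : G) (f : Set (IrrCharacter (Subgroup.centralizer
    ((Subgroup.zpowers x : Subgroup G) : Set G)))) :
    Set (IrrCharacter (Subgroup.centralizer ({x} : Set G))) :=
  castB (centralizer_zpowers_eq G x) f

/-- The block of `C_G(⟨x⟩)` attached to a block of `C_G(x)`. -/
def ofSec (x : G) (b : Set (IrrCharacter (Subgroup.centralizer ({x} : Set G)))) :
    Set (IrrCharacter (Subgroup.centralizer ((Subgroup.zpowers x : Subgroup G) : Set G))) :=
  castB (centralizer_zpowers_eq G x).symm b

theorem toSec_ofSec (x : G) (b : Set (IrrCharacter (Subgroup.centralizer ({x} : Set G)))) :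
    toSec x (ofSec x b) = b := castB_castB' _ b

theorem ofSec_toSec (x : G) (f : Set (IrrCharacter (Subgroup.centralizer
    ((Subgroup.zpowers x : Subgroup G) : Set G)))) : ofSec x (toSec x f) = f := castB_castB _ f

theorem isInducedBlock_toSec {M : Ideal AlgInt} (x : G) (f : Set (IrrCharacter
    (Subgroup.centralizer ((Subgroup.zpowers x : Subgroup G) : Set G))))
    (B : Set (IrrCharacter G)) :
    IsInducedBlock M (Subgroup.centralizer ({x} : Set G)) (toSec x f) B ↔
      IsInducedBlock M (Subgroup.centralizer ((Subgroup.zpowers x : Subgroup G) : Set G)) f B :=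
  isInducedBlock_castB _ f B

theorem isInducedBlock_ofSec {M : Ideal AlgInt} (x : G)
    (b : Set (IrrCharacter (Subgroup.centralizer ({x} : Set G)))) (B : Set (IrrCharacter G)) :
    IsInducedBlock M (Subgroup.centralizer ((Subgroup.zpowers x : Subgroup G) : Set G))
      (ofSec x b) B ↔ IsInducedBlock M (Subgroup.centralizer ({x} : Set G)) b B :=
  isInducedBlock_castB _ b B

theorem blockRank_toSec (p : ℕ) (x : G) (f : Set (IrrCharacter
    (Subgroup.centralizer ((Subgroup.zpowers x : Subgroup G) : Set G)))) :
    blockRank p (toSec x f) = blockRank p f := blockRank_castB p _ f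

theorem zpowers_le_centralizer_zpowers (x : G) :
    Subgroup.zpowers x ≤ Subgroup.centralizer ((Subgroup.zpowers x : Subgroup G) : Set G) := by
  rw [centralizer_zpowers_eq, Subgroup.zpowers_le]
  exact Subgroup.mem_centralizer_singleton_iff.mpr rfl

theorem isPGroup_zpowers {p : ℕ} {x : G} (hx : ∃ k : ℕ, orderOf x = p ^ k) :
    IsPGroup p (Subgroup.zpowers x) := by
  obtain ⟨k, hk⟩ := hx
  apply IsPGroup.of_card (n := k)
  rw [Nat.card_zpowers, hk]

variable [Fintype G] {p : ℕ} [Fact p.Prime] {M : Ideal AlgInt}

/-- A Brauer pair of `B` on a cyclic subgroup gives a block of the centralizer of a generator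
inducing `B`. -/
theorem isInducedBlock_toSec_of_isBrauerPairOf (hpM : IsPModular p M) {B : Set (IrrCharacter G)}
    {x : G} {f : Set (IrrCharacter (Subgroup.centralizer
      ((Subgroup.zpowers x : Subgroup G) : Set G)))}
    (h : IsBrauerPairOf p M B (Subgroup.zpowers x) f) :
    IsInducedBlock M (Subgroup.centralizer ({x} : Set G)) (toSec x f) B :=
  (isInducedBlock_toSec x f B).mpr
    (isInducedBlock_of_isBrauerPairOf_sub hpM (zpowers_le_centralizer_zpowers x) h)

/-- A block of the centralizer of a `p`-element inducing `B` gives a Brauer pair of `B`. -/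
theorem isBrauerPairOf_ofSec (hpM : IsPModular p M) {B : Set (IrrCharacter G)}
    {x : G} (hx : ∃ k : ℕ, orderOf x = p ^ k)
    {b : Set (IrrCharacter (Subgroup.centralizer ({x} : Set G)))}
    (h : IsInducedBlock M (Subgroup.centralizer ({x} : Set G)) b B) :
    IsBrauerPairOf p M B (Subgroup.zpowers x) (ofSec x b) :=
  isBrauerPairOf_of_isInducedBlock hpM (isPGroup_zpowers hx) ((isInducedBlock_ofSec x b B).mpr h)

/-- **Every element of a defect group carries a subsection.** -/
theorem exists_induced_of_mem_defect (hpM : IsPModular p M) {B : Set (IrrCharacter G)}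
    (hB : IsPBlock M B) {D : Subgroup G} (hD : IsDefectGroup p M B D) {v : G} (hv : v ∈ D) :
    ∃ β : Set (IrrCharacter (Subgroup.centralizer ({v} : Set G))),
      IsInducedBlock M (Subgroup.centralizer ({v} : Set G)) β B := by
  obtain ⟨cD, hcD⟩ := exists_isBrauerPairOf_of_isDefectGroup hpM hB hD
  have hQD : Subgroup.zpowers v ≤ D := by
    rw [Subgroup.zpowers_le]
    exact hv
  obtain ⟨f, -, hle⟩ := Cfsg.Agent.Lib.Helper52.Subpairs.exists_subpairLE hpM _ D
    (Subgroup.zpowers v) cD rfl hcD.1 hQD
  have hf : IsBrauerPairOf p M B (Subgroup.zpowers v) f :=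
    (Cfsg.Agent.Lib.Helper52.Subpairs.isBrauerPairOf_iff_of_subpairLE hpM hB hle).mp hcD
  exact ⟨toSec v f, isInducedBlock_toSec_of_isBrauerPairOf hpM hf⟩

end Cfsg.Agent.Lib.Helper77.Kf
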