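import Cfsg.Agent.Lib.Helper77.KfA
import Cfsg.Agent.Lib.Helper77.KfB
import Cfsg.Agent.Lib.Helper77.KfC

/-!
# A `2`-block with a defect group of order four in a group with a nontrivial central
`2`-element has rank one
-/

set_option autoImplicit false

universe u

namespace Cfsg.Agent.Lib.Helper77.Kf

open Cfsg Cfsg.Agent.Lib.Helper75 Cfsg.Agent.Lib.Helper77

variable {H : Type u} [Group H] [Finite H]

theorem exists_mem_ne_ne {D : Subgroup H} (hcard : Nat.card D = 4) (z : H) :
    ∃ v ∈ D, v ≠ 1 ∧ v ≠ z := by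
  by_contra hcon
  push Not at hcon
  have hsub : (D : Set H) ⊆ {1, z} := by
    intro v hv
    by_cases h1 : v = 1
    · exact Or.inl h1
    · exact Or.inr (hcon v hv h1)
  have h1 : Nat.card D = (D : Set H).ncard := rfl
  have h2 : (D : Set H).ncard ≤ ({1, z} : Set H).ncard :=
    Set.ncard_le_ncard hsub (Set.toFinite _)
  have h3 : ({1, z} : Set H).ncard ≤ 2 := Set.ncard_insert_le _ _ |>.trans (by
    rw [Set.ncard_singleton])
  omega

/-- **Rank one.**  A `2`-block with a defect group of order four of a group with a nontrivial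
central `2`-element has exactly one irreducible Brauer character. -/
theorem blockRank_eq_one_of_central (M : Ideal AlgInt) (hM : IsPModular 2 M)
    (b : Set (IrrCharacter H)) (hb : IsPBlock M b) (D : Subgroup H)
    (hD : IsDefectGroup 2 M b D) (hcard : Nat.card D = 4) (z : H)
    (hz : z ∈ Subgroup.center H) (hz1 : z ≠ 1) (hzp : ∃ k : ℕ, orderOf z = 2 ^ k) :
    blockRank 2 b = 1 := by
  classical
  have : Fact (Nat.Prime 2) := ⟨Nat.prime_two⟩
  have : Fintype H := Fintype.ofFinite H
  have hMp : M.IsPrime := hM.2.1.isPrime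
  have hk : Nat.card b = 4 := card_block_eq_four M hM b hb D hD hcard
  obtain ⟨v, hvD, hv1, hvz⟩ := exists_mem_ne_ne hcard z
  have hDp : IsPGroup 2 D := isPGroup_of_isDefectGroup hD
  have hvp : ∃ k : ℕ, orderOf v = 2 ^ k := by
    obtain ⟨k, hk⟩ := IsPGroup.iff_orderOf.mp hDp ⟨v, hvD⟩
    exact ⟨k, by rw [← hk, Subgroup.orderOf_mk]⟩
  have h1p : ∃ k : ℕ, orderOf (1 : H) = 2 ^ k := ⟨0, by rw [orderOf_one, pow_zero]⟩
  have hconj_central : ∀ w g : H, w ∈ Subgroup.center H → IsConj g w → g = w := by
    intro w g hw hc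
    obtain ⟨c, hc⟩ := isConj_iff.mp hc
    have h2 : g = c⁻¹ * w * c := by rw [← hc]; group
    rw [h2, Subgroup.mem_center_iff.mp hw c⁻¹, inv_mul_cancel_right]
  have h1c : (1 : H) ∈ Subgroup.center H := Subgroup.one_mem _
  -- the representatives
  obtain ⟨X, hSX, hX, hXrep⟩ := exists_reps_of_pairwise 2 ({1, z, v} : Finset H)
    (by
      intro s hs
      simp only [Finset.mem_insert, Finset.mem_singleton] at hs
      rcases hs with rfl | rfl | rfl
      · exact h1p
      · exact hzp
      · exact hvp)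
    (by
      intro s hs s' hs' hc
      simp only [Finset.mem_insert, Finset.mem_singleton] at hs hs'
      rcases hs' with rfl | rfl | rfl
      · exact hconj_central 1 s h1c hc
      · exact hconj_central s' s hz hc
      · rcases hs with rfl | rfl | rfl
        · exact (hconj_central 1 s' h1c hc.symm).symm
        · exact (hconj_central s s' hz hc.symm).symm
        · rfl)
  have hcount : Nat.card b = ∑ x' ∈ X, sectionTerm 2 M b x' :=
    Cfsg.Agent.S4511.result 2 M hM b hb X hX hXrep
  have hsum : sectionTerm 2 M b 1 + (sectionTerm 2 M b z + sectionTerm 2 M b v) ≤ Nat.card b := by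
    rw [hcount]
    have h2 := Finset.sum_le_sum_of_subset (f := fun x' => sectionTerm 2 M b x') hSX
    rwa [Finset.sum_insert (by
      simp only [Finset.mem_insert, Finset.mem_singleton, not_or]
      exact ⟨hz1.symm, hv1.symm⟩), Finset.sum_insert (by
      simp only [Finset.mem_singleton]
      exact hvz.symm), Finset.sum_singleton] at h2
  have hs1 := sectionTerm_central 2 M hM b hb 1 h1c h1p
  have hsz := sectionTerm_central 2 M hM b hb z hz hzp
  obtain ⟨β, hβ⟩ := exists_induced_of_mem_defect hM hb hD hvD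
  have hsv := blockRank_le_sectionTerm 2 M b v hβ
  obtain ⟨ψ, hβψ⟩ := hβ.1
  have hψβ : ψ ∈ β := by rw [hβψ]; exact self_mem_blockOf hMp ψ
  have hβ1 := one_le_blockRank 2 Nat.prime_two hψβ
  obtain ⟨χ, hbχ⟩ := hb
  have hχb : χ ∈ b := by rw [hbχ]; exact self_mem_blockOf hMp χ
  have hb1 := one_le_blockRank 2 Nat.prime_two hχb
  omega

end Cfsg.Agent.Lib.Helper77.Kf
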