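import Cfsg.Agent.Lib.Helper77.LTransA
import Cfsg.Agent.S0917

/-!
# Abelian maximal Brauer pairs: the Frattini argument over `C_G(Q)`
-/

set_option autoImplicit false

universe u

namespace Cfsg.Agent.Lib.Helper77

open Cfsg
open Cfsg.Agent.Lib.Helper81
open Cfsg.Agent.Lib.Helper80
open Cfsg.Agent.S4681 (centConj)
open scoped Pointwise

variable {G : Type u} [Group G] [Fintype G] {p : ℕ} [Fact p.Prime] {M : Ideal AlgInt}

/-- An inclusion `(Q, f) ≤ (P, e)` with `Q ≤ P ≤ N(Q)` is a normal inclusion. -/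
theorem isNormalSubpair_of_subpairLE (hpM : IsPModular p M) {P Q : Subgroup G}
    {e : Set (IrrCharacter (Subgroup.centralizer (P : Set G)))}
    {f : Set (IrrCharacter (Subgroup.centralizer (Q : Set G)))}
    (hPe : IsBrauerPair p M P e) (hQP : Q ≤ P) (hPN : P ≤ Subgroup.normalizer (Q : Set G))
    (hle : SubpairLE p M Q f P e) : IsNormalSubpair p M Q f P e := by
  obtain ⟨f', hf', -⟩ := existsUnique_isNormalSubpair hpM hPe hQP hPN
  have h1 : SubpairLE p M Q f' P e := Relation.ReflTransGen.single hf'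
  have h2 := Cfsg.Agent.Lib.Helper52.Subpairs.subpairLE_unique hpM _ P Q e f' f rfl hPe h1 hle
  rw [← h2]
  exact hf'

omit [Fintype G] [Fact p.Prime] in
theorem le_centralizer_of_abelian {P Q : Subgroup G} (hab : ∀ x ∈ P, ∀ y ∈ P, x * y = y * x)
    (hQP : Q ≤ P) : P ≤ Subgroup.centralizer (Q : Set G) := by
  intro x hx
  rw [Subgroup.mem_centralizer_iff]
  intro q hq
  exact hab q (hQP hq) x hx

/-- **Local structure over an abelian defect pair.** -/
theorem abelian_pair_local (hpM : IsPModular p M) {B : Set (IrrCharacter G)} {P Q : Subgroup G}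
    {e : Set (IrrCharacter (Subgroup.centralizer (P : Set G)))}
    {f : Set (IrrCharacter (Subgroup.centralizer (Q : Set G)))}
    (hBP : IsBrauerPairOf p M B P e) (hdef : IsDefectGroup p M B P)
    (_hab : ∀ x ∈ P, ∀ y ∈ P, x * y = y * x) (hQP : Q ≤ P) (hle : SubpairLE p M Q f P e)
    (hPL : P ≤ Subgroup.centralizer (Q : Set G)) :
    IsDefectGroup p M f (P.subgroupOf (Subgroup.centralizer (Q : Set G))) ∧
      IsInducedBlock M
        (Subgroup.centralizer ((P.subgroupOf (Subgroup.centralizer (Q : Set G)) :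
          Subgroup (Subgroup.centralizer (Q : Set G))) : Set (Subgroup.centralizer (Q : Set G))))
        (irrMap (cEq hPL (Subgroup.centralizer_le hQP)) '' e) f := by
  classical
  have hM : M.IsPrime := isPrime_of_isPModular hpM
  have := Fintype.ofFinite (Subgroup.centralizer (Q : Set G))
  have hPN : P ≤ Subgroup.normalizer (Q : Set G) :=
    hPL.trans (Subgroup.centralizer_le_normalizer _)
  have hN := isNormalSubpair_of_subpairLE hpM hBP.1 hQP hPN hle
  have hpair := isBrauerPairOf_sub_of_isNormalSubpair hPL hQP hN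
  refine ⟨?_, isInducedBlock_of_isBrauerPairOf hpM hpair⟩
  obtain ⟨D, hD, hPD⟩ :=
    Cfsg.Agent.Lib.Helper52.DefectPairs.exists_isDefectGroup_ge_inf_centralizer hpM hBP.1 hQP hle
  rw [Subgroup.inf_subgroupOf_right] at hPD
  have hQf : IsBrauerPairOf p M B Q f :=
    (Cfsg.Agent.Lib.Helper52.Subpairs.isBrauerPairOf_iff_of_subpairLE hpM hBP.2.1 hle).mp hBP
  have hindG := isInducedBlock_of_isBrauerPairOf hpM hQf
  obtain ⟨E, hE, hDE⟩ := Cfsg.Agent.S0917.result p M hpM _ f hQf.1.2 B hBP.2.1 hindG D hD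
  obtain ⟨χ₀, hχ₀⟩ := hBP.2.1
  rw [hχ₀] at hE hdef
  have hcard := card_eq_of_isDefectGroup hpM χ₀ hE hdef
  have h1 : Nat.card D ≤ Nat.card (P.subgroupOf (Subgroup.centralizer (Q : Set G))) := by
    have e1 : Nat.card (D.map (Subgroup.centralizer (Q : Set G)).subtype) = Nat.card D :=
      Subgroup.card_map_of_injective (Subgroup.subtype_injective _)
    have e2 : Nat.card (P.subgroupOf (Subgroup.centralizer (Q : Set G))) = Nat.card P :=
      Nat.card_congr (Subgroup.subgroupOfEquivOfLe hPL).toEquiv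
    rw [← e1, e2, ← hcard]
    exact Subgroup.card_le_of_le hDE
  have h2 := Subgroup.eq_of_le_of_card_ge hPD h1
  rw [h2]
  exact hD

omit [Fintype G] [Fact p.Prime] in
theorem cjIrr_mul (K : Subgroup G) {m y : G}
    (hm : m ∈ Subgroup.normalizer (K : Set G)) (hy : y ∈ Subgroup.normalizer (K : Set G))
    (hmy : m * y ∈ Subgroup.normalizer (K : Set G)) (θ : IrrCharacter K) :
    cjIrr K (m * y) hmy θ = cjIrr K m hm (cjIrr K y hy θ) := by
  apply Subtype.ext
  funext k
  rw [cjIrr_apply, cjIrr_apply, cjIrr_apply]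
  refine congrArg _ (Subtype.ext ?_)
  rw [coe_conjAut, coe_conjAut, coe_conjAut]
  group

/-- Two abelian defect pairs on the same subgroup above `(Q, f)` are conjugate under
`C_G(Q) ∩ N_G(P)`. -/
theorem abelian_pair_conj (hpM : IsPModular p M) {B : Set (IrrCharacter G)} {P Q : Subgroup G}
    {e e' : Set (IrrCharacter (Subgroup.centralizer (P : Set G)))}
    {f : Set (IrrCharacter (Subgroup.centralizer (Q : Set G)))}
    (hBP : IsBrauerPairOf p M B P e) (hBP' : IsBrauerPairOf p M B P e')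
    (hdef : IsDefectGroup p M B P)
    (hab : ∀ x ∈ P, ∀ y ∈ P, x * y = y * x) (hQP : Q ≤ P) (hle : SubpairLE p M Q f P e)
    (hle' : SubpairLE p M Q f P e') :
    ∃ (m : G) (hm : m ∈ Subgroup.normalizer
        ((Subgroup.centralizer (P : Set G) : Subgroup G) : Set G)),
      m ∈ Subgroup.centralizer (Q : Set G) ∧ m ∈ Subgroup.normalizer (P : Set G) ∧
        cjIrr (Subgroup.centralizer (P : Set G)) m hm '' e' = e := by
  classical
  have := Fintype.ofFinite (Subgroup.centralizer (Q : Set G))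
  have hPL := le_centralizer_of_abelian hab hQP
  obtain ⟨hD, hind⟩ := abelian_pair_local hpM hBP hdef hab hQP hle hPL
  obtain ⟨-, hind'⟩ := abelian_pair_local hpM hBP' hdef hab hQP hle' hPL
  obtain ⟨m, hmL, hmN, himg⟩ := exists_normalizer_conj_centralizer hpM hD hind' hind
  have hmNG := coe_mem_normalizer_of_subgroupOf hPL hmN
  have hmG := Cfsg.Agent.S4691.normalizer_le_normalizer_centralizer' P hmNG
  refine ⟨(m : G), hmG, m.2, hmNG, ?_⟩
  have h1 := image_cEq_cjIrr hPL (Subgroup.centralizer_le hQP) m hmL hmG e'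
  rw [himg] at h1
  exact (Set.image_injective.mpr (irrMap_injective _)) h1

omit [Fintype G] [Fact p.Prime] in
theorem isBrauerPairOf_of_idx_eq {B : Set (IrrCharacter G)} {a b : BrauerPairIdx G} (h : a = b)
    (ha : IsBrauerPairOf p M B a.1 a.2) : IsBrauerPairOf p M B b.1 b.2 := by
  subst h
  exact ha

omit [Fintype G] [Fact p.Prime] in
theorem smul_eq_map_conj (x : G) (P : Subgroup G) :
    MulAut.conj x • P = P.map (MulAut.conj x).toMonoidHom := rfl

omit [Fintype G] [Fact p.Prime] in
/-- `(Q, f)` is fixed by conjugation with an element of its stabilizer. -/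
theorem conj_stab_idx (hM : M.IsPrime) {Q : Subgroup G}
    {f : Set (IrrCharacter (Subgroup.centralizer (Q : Set G)))} (hf : IsPBlock M f) {x : G}
    (hxN : x ∈ Subgroup.normalizer (Q : Set G))
    (hst : StabilizesBlock (Subgroup.centralizer (Q : Set G)) f x) :
    (⟨Q.map (MulAut.conj x).toMonoidHom, conjBlock Q x f⟩ : BrauerPairIdx G) = ⟨Q, f⟩ := by
  rw [conj_normalizer_idx f hxN, cjIrr_image_eq_of_stabilizes hM _ hf _ hst]

/-- Moving `P` back into place by an element of `C_G(Q)`. -/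
theorem abelian_pair_frattini_subgroup (hpM : IsPModular p M) {B : Set (IrrCharacter G)}
    {P Q : Subgroup G}
    {e : Set (IrrCharacter (Subgroup.centralizer (P : Set G)))}
    {f : Set (IrrCharacter (Subgroup.centralizer (Q : Set G)))}
    (hBP : IsBrauerPairOf p M B P e) (hdef : IsDefectGroup p M B P)
    (hab : ∀ x ∈ P, ∀ y ∈ P, x * y = y * x) (hQP : Q ≤ P) (hle : SubpairLE p M Q f P e)
    {x : G} (hxN : x ∈ Subgroup.normalizer (Q : Set G))
    (hst : StabilizesBlock (Subgroup.centralizer (Q : Set G)) f x) :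
    ∃ c ∈ Subgroup.centralizer (Q : Set G), c * x ∈ Subgroup.normalizer (P : Set G) := by
  classical
  have hM : M.IsPrime := isPrime_of_isPModular hpM
  have := Fintype.ofFinite (Subgroup.centralizer (Q : Set G))
  have hf : IsPBlock M f := isPBlock_of_subpairLE hBP.1.2 hle
  have hPL := le_centralizer_of_abelian hab hQP
  -- the conjugate pair
  have hBP' := isBrauerPairOf_conj hBP x
  have hdef' : IsDefectGroup p M B (P.map (MulAut.conj x).toMonoidHom) := by
    rw [← smul_eq_map_conj]
    exact isDefectGroup_conj hdef x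
  have hab' : ∀ a ∈ P.map (MulAut.conj x).toMonoidHom,
      ∀ b ∈ P.map (MulAut.conj x).toMonoidHom, a * b = b * a := by
    rintro _ ⟨a, ha, rfl⟩ _ ⟨b, hb, rfl⟩
    rw [← map_mul, ← map_mul, hab a ha b hb]
  have hle' : SubpairLE p M Q f (P.map (MulAut.conj x).toMonoidHom) (conjBlock P x e) := by
    have h1 := subpairLE_conj (p := p) (M := M) x hle
    show Relation.ReflTransGen _ _ _
    rw [← conj_stab_idx hM hf hxN hst]
    exact h1
  have hQP' : Q ≤ P.map (MulAut.conj x).toMonoidHom :=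
    Cfsg.Agent.Lib.Helper52.Subpairs.le_of_reflTransGen hle'
  have hPL' := le_centralizer_of_abelian hab' hQP'
  obtain ⟨hD, -⟩ := abelian_pair_local hpM hBP hdef hab hQP hle hPL
  obtain ⟨hD', -⟩ := abelian_pair_local hpM hBP' hdef' hab' hQP' hle' hPL'
  obtain ⟨ξ₀, hξ₀⟩ := hf
  rw [hξ₀] at hD hD'
  obtain ⟨c, hc⟩ := exists_conj_le_of_isDefectGroup hpM ξ₀ hD hD'
  refine ⟨(c : G), c.2, ?_⟩
  have hsub : P.map (MulAut.conj ((c : G) * x)).toMonoidHom ≤ P := by
    rintro _ ⟨a, ha, rfl⟩
    have ha' : x * a * x⁻¹ ∈ P.map (MulAut.conj x).toMonoidHom := ⟨a, ha, rfl⟩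
    have h1 : (⟨x * a * x⁻¹, hPL' ha'⟩ : Subgroup.centralizer (Q : Set G)) ∈
        (P.map (MulAut.conj x).toMonoidHom).subgroupOf (Subgroup.centralizer (Q : Set G)) := ha'
    have h2 := hc (Subgroup.smul_mem_pointwise_smul _ (MulAut.conj c) _ h1)
    have h3 : ((MulAut.conj c • (⟨x * a * x⁻¹, hPL' ha'⟩ : Subgroup.centralizer (Q : Set G)) :
        Subgroup.centralizer (Q : Set G)) : G) ∈ P := h2
    have e1 : ((MulAut.conj c • (⟨x * a * x⁻¹, hPL' ha'⟩ : Subgroup.centralizer (Q : Set G)) :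
        Subgroup.centralizer (Q : Set G)) : G) = (c : G) * (x * a * x⁻¹) * (c : G)⁻¹ := rfl
    rw [e1] at h3
    show (c : G) * x * a * ((c : G) * x)⁻¹ ∈ P
    have e2 : (c : G) * x * a * ((c : G) * x)⁻¹ = (c : G) * (x * a * x⁻¹) * (c : G)⁻¹ := by group
    rw [e2]
    exact h3
  have heq : P.map (MulAut.conj ((c : G) * x)).toMonoidHom = P := by
    refine Subgroup.eq_of_le_of_card_ge hsub ?_
    rw [Subgroup.card_map_of_injective (MulAut.conj ((c : G) * x)).injective]
  exact Subgroup.mem_normalizer_iff_map_conj_eq.mpr heq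

/-- **Frattini argument for abelian maximal pairs.** Every element of the stabilizer of `(Q, f)`
is, up to an element of `C_G(Q)`, in the stabilizer of `(P, e)`. -/
theorem abelian_pair_frattini (hpM : IsPModular p M) {B : Set (IrrCharacter G)}
    {P Q : Subgroup G}
    {e : Set (IrrCharacter (Subgroup.centralizer (P : Set G)))}
    {f : Set (IrrCharacter (Subgroup.centralizer (Q : Set G)))}
    (hBP : IsBrauerPairOf p M B P e) (hdef : IsDefectGroup p M B P)
    (hab : ∀ x ∈ P, ∀ y ∈ P, x * y = y * x) (hQP : Q ≤ P) (hle : SubpairLE p M Q f P e)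
    {x : G} (hxN : x ∈ Subgroup.normalizer (Q : Set G))
    (hst : StabilizesBlock (Subgroup.centralizer (Q : Set G)) f x) :
    ∃ a ∈ Subgroup.centralizer (Q : Set G), a * x ∈ Subgroup.normalizer (P : Set G) ∧
      StabilizesBlock (Subgroup.centralizer (P : Set G)) e (a * x) := by
  classical
  have hM : M.IsPrime := isPrime_of_isPModular hpM
  have := Fintype.ofFinite (Subgroup.centralizer (Q : Set G))
  have hf : IsPBlock M f := isPBlock_of_subpairLE hBP.1.2 hle
  obtain ⟨c, hcL, hyNP⟩ := abelian_pair_frattini_subgroup hpM hBP hdef hab hQP hle hxN hst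
  -- `y = c x` normalizes `P` and stabilizes `(Q, f)`
  have hyNQ : c * x ∈ Subgroup.normalizer (Q : Set G) :=
    Subgroup.mul_mem _ (Subgroup.centralizer_le_normalizer _ hcL) hxN
  have hyst : StabilizesBlock (Subgroup.centralizer (Q : Set G)) f (c * x) := by
    rw [← mem_stabSub_iff hM _ hf]
    refine Subgroup.mul_mem _ ?_ ?_
    · rw [mem_stabSub_iff hM _ hf]
      exact stabilizesBlock_of_mem _ f hcL
    · rw [mem_stabSub_iff hM _ hf]
      exact hst
  have hyK := Cfsg.Agent.S4691.normalizer_le_normalizer_centralizer' P hyNP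
  have hidxP := conj_normalizer_idx e hyNP
  have hBP' : IsBrauerPairOf p M B P (cjIrr _ (c * x) hyK '' e) :=
    isBrauerPairOf_of_idx_eq hidxP (isBrauerPairOf_conj hBP (c * x))
  have hle' : SubpairLE p M Q f P (cjIrr _ (c * x) hyK '' e) := by
    have h1 := subpairLE_conj (p := p) (M := M) (c * x) hle
    show Relation.ReflTransGen _ _ _
    rw [← conj_stab_idx hM hf hyNQ hyst, ← hidxP]
    exact h1
  obtain ⟨m, hm, hmL, hmN, himg⟩ := abelian_pair_conj hpM hBP hBP' hdef hab hQP hle hle'
  refine ⟨m * c, Subgroup.mul_mem _ hmL hcL, ?_, ?_⟩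
  · rw [mul_assoc]
    exact Subgroup.mul_mem _ hmN hyNP
  · have hmy : m * (c * x) ∈ Subgroup.normalizer
        ((Subgroup.centralizer (P : Set G) : Subgroup G) : Set G) := Subgroup.mul_mem _ hm hyK
    rw [mul_assoc]
    refine stabilizesBlock_of_image_eq _ hmy ?_
    have h3 : cjIrr _ (m * (c * x)) hmy '' e = cjIrr _ m hm '' (cjIrr _ (c * x) hyK '' e) := by
      rw [Set.image_image]
      exact Set.image_congr fun θ _ => cjIrr_mul _ hm hyK hmy θ
    rw [h3, himg]

end Cfsg.Agent.Lib.Helper77
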