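import Cfsg.Agent.Lib.Helper77.KfD
import Cfsg.Agent.Lib.Helper77.LTransB

/-!
# Klein four defect groups: the local blocks have rank one; sums over subsections
-/

set_option autoImplicit false

universe u

namespace Cfsg.Agent.Lib.Helper77.Kf

open Cfsg Cfsg.Agent.Lib.Helper75 Cfsg.Agent.Lib.Helper77

section sums

variable {G : Type u} [Group G] [Finite G]

omit [Finite G] in
/-- A section carrying no subsection of `B` contributes nothing. -/
theorem sectionTerm_eq_zero (p : ℕ) (M : Ideal AlgInt) (B : Set (IrrCharacter G)) (x : G)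
    (h : ∀ b : Set (IrrCharacter (Subgroup.centralizer ({x} : Set G))),
      ¬ IsInducedBlock M (Subgroup.centralizer ({x} : Set G)) b B) :
    sectionTerm p M B x = 0 := by
  unfold sectionTerm
  have : {b : Set (IrrCharacter (Subgroup.centralizer ({x} : Set G))) |
      IsInducedBlock M (Subgroup.centralizer ({x} : Set G)) b B} = ∅ := by
    ext b
    constructor
    · intro hb
      exact (h b hb).elim
    · intro hb
      exact hb.elim
  rw [this, finsum_mem_empty]

omit [Finite G] in
/-- A section carrying exactly one subsection of `B`. -/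
theorem sectionTerm_eq_of_unique (p : ℕ) (M : Ideal AlgInt) (B : Set (IrrCharacter G)) (x : G)
    (b₀ : Set (IrrCharacter (Subgroup.centralizer ({x} : Set G))))
    (h₀ : IsInducedBlock M (Subgroup.centralizer ({x} : Set G)) b₀ B)
    (h : ∀ b : Set (IrrCharacter (Subgroup.centralizer ({x} : Set G))),
      IsInducedBlock M (Subgroup.centralizer ({x} : Set G)) b B → b = b₀) :
    sectionTerm p M B x = blockRank p b₀ := by
  unfold sectionTerm
  have : {b : Set (IrrCharacter (Subgroup.centralizer ({x} : Set G))) |
      IsInducedBlock M (Subgroup.centralizer ({x} : Set G)) b B} = {b₀} := by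
    ext b
    constructor
    · intro hb
      exact h b hb
    · intro hb
      rw [Set.mem_singleton_iff] at hb
      rw [hb]
      exact h₀
  rw [this, finsum_mem_singleton]

/-- The sum of the section terms dominates the sum of the ranks over any finite set of
subsections. -/
theorem sum_blockRank_le (p : ℕ) (M : Ideal AlgInt) (B : Set (IrrCharacter G)) (X : Finset G)
    (S : Finset (Σ x : G, Set (IrrCharacter (Subgroup.centralizer ({x} : Set G)))))
    (hS : ∀ s ∈ S, s.1 ∈ X ∧ IsInducedBlock M (Subgroup.centralizer ({s.1} : Set G)) s.2 B) :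
    ∑ s ∈ S, blockRank p s.2 ≤ ∑ x ∈ X, sectionTerm p M B x := by
  classical
  have hfin : ∀ x : G, {b : Set (IrrCharacter (Subgroup.centralizer ({x} : Set G))) |
      IsInducedBlock M (Subgroup.centralizer ({x} : Set G)) b B}.Finite := fun x => Set.toFinite _
  have h1 : ∀ x : G, sectionTerm p M B x = ∑ b ∈ (hfin x).toFinset, blockRank p b := by
    intro x
    unfold sectionTerm
    rw [finsum_mem_eq_finite_toFinset_sum _ (hfin x)]
  rw [Finset.sum_congr rfl (fun x _ => h1 x),
    ← Finset.sum_sigma X (fun x => (hfin x).toFinset) (fun s => blockRank p s.2)]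
  apply Finset.sum_le_sum_of_subset
  intro s hs
  rw [Finset.mem_sigma, Set.Finite.mem_toFinset]
  exact hS s hs

end sums

section local_rank

variable {G : Type u} [Group G] [Fintype G] {M : Ideal AlgInt}

/-- **The local blocks at the involutions of a Klein four defect group have rank one.** -/
theorem blockRank_local_eq_one [Fact (Nat.Prime 2)] (hM : IsPModular 2 M)
    {B : Set (IrrCharacter G)} {P : Subgroup G}
    {c : Set (IrrCharacter (Subgroup.centralizer (P : Set G)))}
    (hBP : IsBrauerPairOf 2 M B P c) (hPD : IsDefectGroup 2 M B P)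
    (hab : ∀ x ∈ P, ∀ y ∈ P, x * y = y * x) (hcard : Nat.card P = 4) {u : G} (hu : u ∈ P)
    (hu1 : u ≠ 1)
    {f : Set (IrrCharacter (Subgroup.centralizer ((Subgroup.zpowers u : Subgroup G) : Set G)))}
    (hle : SubpairLE 2 M (Subgroup.zpowers u) f P c) : blockRank 2 f = 1 := by
  have hQP : Subgroup.zpowers u ≤ P := by
    rw [Subgroup.zpowers_le]
    exact hu
  have hPL := le_centralizer_of_abelian hab hQP
  obtain ⟨hDf, -⟩ := abelian_pair_local hM hBP hPD hab hQP hle hPL
  have hf : IsPBlock M f := isPBlock_of_subpairLE hBP.1.2 hle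
  have hcard' : Nat.card (P.subgroupOf
      (Subgroup.centralizer ((Subgroup.zpowers u : Subgroup G) : Set G))) = 4 := by
    rw [← hcard]
    exact Nat.card_congr (Subgroup.subgroupOfEquivOfLe hPL).toEquiv
  have huC : u ∈ Subgroup.centralizer ((Subgroup.zpowers u : Subgroup G) : Set G) :=
    zpowers_le_centralizer_zpowers u (Subgroup.mem_zpowers u)
  have hz : (⟨u, huC⟩ : Subgroup.centralizer ((Subgroup.zpowers u : Subgroup G) : Set G)) ∈
      Subgroup.center _ := by
    rw [Subgroup.mem_center_iff]
    intro h
    apply Subtype.ext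
    show (h : G) * u = u * (h : G)
    exact ((Subgroup.mem_centralizer_iff.mp h.2) u (Subgroup.mem_zpowers u)).symm
  have hz1 : (⟨u, huC⟩ : Subgroup.centralizer ((Subgroup.zpowers u : Subgroup G) : Set G)) ≠ 1 :=
    fun h => hu1 (congrArg Subtype.val h)
  have hzp : ∃ k : ℕ, orderOf (⟨u, huC⟩ :
      Subgroup.centralizer ((Subgroup.zpowers u : Subgroup G) : Set G)) = 2 ^ k := by
    obtain ⟨k, hk⟩ := IsPGroup.iff_orderOf.mp hBP.1.1 ⟨u, hu⟩
    exact ⟨k, by rw [← hk, Subgroup.orderOf_mk, Subgroup.orderOf_mk]⟩
  exact blockRank_eq_one_of_central M hM f hf _ hDf hcard' _ hz hz1 hzp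

end local_rank

end Cfsg.Agent.Lib.Helper77.Kf
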