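import Cfsg.Agent.Lib.Helper77.WordRot
import Cfsg.Agent.Lib.Helper77.ThirdMain
import Cfsg.Agent.Lib.Helper77.StrongOrth
import Cfsg.Agent.Lib.Helper77.Nilpotent2

/-!
# Külshammer's formula for the principal block idempotent
-/

set_option autoImplicit false

universe u

namespace Cfsg.Agent.Lib.Helper77

open Cfsg
open Cfsg.Agent.Lib.Helper81
open Cfsg.Agent.Lib.Helper80
open scoped ComplexConjugate

variable {G : Type u} [Group G] {M : Ideal AlgInt}

open Classical in
/-- The indicator function of the `p`-elements. -/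
noncomputable def pEltInd (p : ℕ) : G → ℂ := fun g => if ∃ k : ℕ, orderOf g = p ^ k then 1 else 0

/-- Left translation of a function. -/
def ltrans (g : G) (a : G → ℂ) : G → ℂ := fun x => a (g * x)

variable [Fintype G]

theorem pow_eq_one_iff_exists_orderOf {p : ℕ} (hp : p.Prime) {K : ℕ} (hK : Nat.card G ≤ K)
    (x : G) : x ^ (p ^ K) = 1 ↔ ∃ k : ℕ, orderOf x = p ^ k := by
  constructor
  · intro h
    obtain ⟨k, -, hk⟩ := (Nat.dvd_prime_pow hp).mp (orderOf_dvd_of_pow_eq_one h)
    exact ⟨k, hk⟩
  · rintro ⟨k, hk⟩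
    apply orderOf_dvd_iff_pow_eq_one.mp
    rw [hk]
    apply pow_dvd_pow
    have h1 : p ^ k ∣ Nat.card G := hk ▸ orderOf_dvd_natCard x
    have h2 : p ^ k ≤ Nat.card G := Nat.le_of_dvd Nat.card_pos h1
    have h3 : k < p ^ k := Nat.lt_pow_self hp.one_lt
    omega

/-- If the convolution powers of `j` have small coefficient at one from some point on, then the
sum of the coefficients of `j` over the `p`-elements is small. -/
theorem sum_pElt_mem_of_nilpotent [DecidableEq G] {p : ℕ} [Fact p.Prime] (hpM : IsPModular p M)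
    (j : G → ℂ) (hj : ∀ g, MemLocalRing M (j g)) (n : ℕ)
    (hn : ∀ m, n ≤ m → MemLocalIdeal M (lpow j m 1)) :
    MemLocalIdeal M (∑ x, pEltInd p x * j x) := by
  classical
  have hp : p.Prime := Fact.out
  have hM : M.IsPrime := isPrime_of_isPModular hpM
  set K := Nat.card G + n with hK
  have hqpos : 0 < p ^ K := pow_pos hp.pos K
  obtain ⟨m, hm⟩ : ∃ m, m + 1 = p ^ K := ⟨p ^ K - 1, by omega⟩
  have hnq : n ≤ p ^ K := by
    have h1 : n < p ^ n := Nat.lt_pow_self hp.one_lt
    have h2 : p ^ n ≤ p ^ K := Nat.pow_le_pow_right hp.pos (by omega)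
    omega
  have hfilter : Finset.univ.filter (fun a : G => a ^ (m + 1) = 1) =
      Finset.univ.filter (fun a : G => ∃ k : ℕ, orderOf a = p ^ k) := by
    ext a
    rw [Finset.mem_filter, Finset.mem_filter, hm,
      pow_eq_one_iff_exists_orderOf hp (by omega : Nat.card G ≤ K)]
  have hC := memLocalIdeal_lpow_sub_sum_pow hpM j hj m hm
  have hD := memLocalIdeal_sum_pow_sub hpM
    (Finset.univ.filter (fun a : G => ∃ k : ℕ, orderOf a = p ^ k)) j hj K
  rw [hfilter, hm] at hC
  have hL : MemLocalIdeal M (lpow j (p ^ K) 1) := hn _ hnq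
  have hpow : MemLocalIdeal M
      ((∑ a ∈ Finset.univ.filter (fun a : G => ∃ k : ℕ, orderOf a = p ^ k), j a) ^ (p ^ K)) := by
    have := memLocalIdeal_add hM hD (memLocalIdeal_sub hM hL hC)
    have e : ∀ x y z : ℂ, x - y + (z - (z - y)) = x := fun x y z => by ring
    rwa [e] at this
  have hsum : ∑ x, pEltInd p x * j x =
      ∑ a ∈ Finset.univ.filter (fun a : G => ∃ k : ℕ, orderOf a = p ^ k), j a := by
    rw [Finset.sum_filter]
    refine Finset.sum_congr rfl fun x _ => ?_
    unfold pEltInd
    split_ifs <;> simp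
  rw [hsum]
  have hSmem : MemLocalRing M
      (∑ a ∈ Finset.univ.filter (fun a : G => ∃ k : ℕ, orderOf a = p ^ k), j a) :=
    memLocalRing_sum hM _ _ fun a _ => hj a
  let S := localSubring M hM
  have : IsLocalRing S := IdemTrace.instIsLocalRingLocalSubring hM
  let s : S := ⟨_, hSmem⟩
  have h1 : s ^ (p ^ K) ∈ IsLocalRing.maximalIdeal S := by
    rw [IdemTrace.mem_maximalIdeal_iff]
    exact hpow
  have h2 := (IsLocalRing.maximalIdeal.isMaximal S).isPrime.mem_of_pow_mem _ h1
  rw [IdemTrace.mem_maximalIdeal_iff] at h2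
  exact h2

/-! ### Translation -/

theorem conv_ltrans_left (g : G) (a b : G → ℂ) : conv (ltrans g a) b = ltrans g (conv a b) := by
  funext x
  unfold conv ltrans
  beta_reduce
  rw [← Equiv.sum_comp (Equiv.mulLeft g) (fun h => a h * b (h⁻¹ * (g * x)))]
  refine Finset.sum_congr rfl fun h _ => ?_
  simp only [Equiv.coe_mulLeft]
  congr 2
  group

theorem conv_ltrans_right {z : G → ℂ} (hz : IsClassFunction G z) (k : G) (b : G → ℂ) :
    conv z (ltrans k b) = ltrans k (conv z b) := by
  funext x
  unfold conv ltrans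
  beta_reduce
  rw [← Equiv.sum_comp (MulAut.conj k).toEquiv (fun h => z h * b (h⁻¹ * (k * x)))]
  refine Finset.sum_congr rfl fun h _ => ?_
  simp only [MulEquiv.toEquiv_eq_coe, EquivLike.coe_coe, MulAut.conj_apply]
  rw [hz]
  congr 2
  group

theorem conv_comm_of_isClassFunction {z : G → ℂ} (hz : IsClassFunction G z) (b : G → ℂ) :
    conv z b = conv b z := by
  funext x
  unfold conv
  rw [← Equiv.sum_comp ((Equiv.inv G).trans (Equiv.mulLeft x))]
  refine Finset.sum_congr rfl fun h _ => ?_
  simp only [Equiv.trans_apply, Equiv.inv_apply, Equiv.coe_mulLeft]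
  have e1 : (x * h⁻¹)⁻¹ * x = h := by group
  have e2 : z (x * h⁻¹) = z (h⁻¹ * x) := by
    have := hz (h⁻¹ * x) x
    rw [← this]
    congr 1
    group
  rw [e1, e2, mul_comm]

theorem lpow_eq_convPow {z : G → ℂ} (hz : IsClassFunction G z) (n : ℕ) :
    lpow z n = convPow z n := by
  induction n with
  | zero => rfl
  | succ n ih => rw [lpow_succ, convPow_succ, ih, conv_comm_of_isClassFunction hz]

theorem lpow_ltrans {z : G → ℂ} (hz : IsClassFunction G z) (g : G) (n : ℕ) :
    lpow (ltrans g z) n = ltrans (g ^ n) (lpow z n) := by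
  induction n with
  | zero =>
    funext x
    simp [lpow_zero, ltrans]
  | succ n ih =>
    rw [lpow_succ, ih, conv_ltrans_left, conv_ltrans_right hz, lpow_succ]
    funext x
    unfold ltrans
    congr 1
    rw [pow_succ]
    group

/-! ### The sum over the `p`-elements annihilates the radical -/

omit [Fintype G] in
theorem pEltInd_inv (p : ℕ) (x : G) : pEltInd p x⁻¹ = pEltInd p x := by
  unfold pEltInd
  rw [orderOf_inv]

omit [Fintype G] in
theorem pEltInd_isClassFunction (p : ℕ) : IsClassFunction G (pEltInd p) := by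
  intro g h
  unfold pEltInd
  rw [orderOf_conj_eq]

omit [Fintype G] in
theorem pEltInd_one (p : ℕ) : pEltInd p (1 : G) = 1 := by
  unfold pEltInd
  rw [if_pos]
  exact ⟨0, by simp⟩

/-- A central element of the group algebra over the local ring, all of whose central character
values are small, is annihilated modulo the local ideal by the sum of the `p`-elements. -/
theorem conv_pEltInd_mem_of_omega {p : ℕ} [Fact p.Prime] (hpM : IsPModular p M) {z : G → ℂ}
    (hz : ZS M z) (hω : ∀ χ : IrrCharacter G, MemLocalIdeal M (omega (χ : G → ℂ) z)) (g : G) :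
    MemLocalIdeal M (conv (pEltInd p) z g) := by
  classical
  have hM : M.IsPrime := isPrime_of_isPModular hpM
  obtain ⟨n, hn⟩ := exists_convPow_memLocalIdeal hpM hz hω
  have hn' : ∀ m, n + 1 ≤ m → ∀ x, MemLocalIdeal M (convPow z m x) := by
    intro m hm
    induction m, hm using Nat.le_induction with
    | base => exact hn
    | succ m _ ih =>
      intro x
      rw [convPow_succ]
      unfold conv
      exact memLocalIdeal_sum hM _ _ fun h _ => memLocalIdeal_mul_right hM (ih h) (hz.2 _)
  have h1 := sum_pElt_mem_of_nilpotent hpM (ltrans g z) (fun x => hz.2 _) (n + 1) (by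
    intro m hm
    rw [lpow_ltrans hz.1, lpow_eq_convPow hz.1]
    exact hn' m hm _)
  have h2 : conv (pEltInd p) z g = ∑ x, pEltInd p x * ltrans g z x := by
    unfold conv ltrans
    rw [← Equiv.sum_comp (Equiv.inv G)]
    refine Finset.sum_congr rfl fun x _ => ?_
    simp only [Equiv.inv_apply, inv_inv]
    rw [pEltInd_inv]
    congr 1
    have := hz.1 (x * g) g
    rw [← this]
    congr 1
    group
  rw [h2]
  exact h1

/-! ### Strong block orthogonality: multiplying a block idempotent by the sum of the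
`p`-elements does not change the coefficients at the `p`-regular elements -/

theorem conv_pEltInd_blockCoeff {p : ℕ} [Fact p.Prime] (hpM : IsPModular p M)
    (χ₀ : IrrCharacter G) {g : G} (hg : ¬ p ∣ orderOf g) :
    conv (pEltInd p) (blockCoeff (blockOf M (χ₀ : G → ℂ))) g =
      blockCoeff (blockOf M (χ₀ : G → ℂ)) g := by
  classical
  have := Fintype.ofFinite (IrrCharacter G)
  have hG : (Nat.card G : ℂ) ≠ 0 := Nat.cast_ne_zero.mpr Nat.card_pos.ne'
  set E := blockCoeff (blockOf M (χ₀ : G → ℂ)) with hE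
  have hcf : IsClassFunction G (conv (pEltInd p) E) :=
    conv_isClassFunction (pEltInd_isClassFunction p) (blockCoeff_isClassFunction _)
  have h1 : ∑ t : G, conv (pEltInd p) E (t * g * t⁻¹) = (Nat.card G : ℂ) * conv (pEltInd p) E g := by
    rw [Finset.sum_congr rfl fun t _ => hcf g t, Finset.sum_const, Finset.card_univ,
      nsmul_eq_mul, Nat.card_eq_fintype_card]
  have h2 : ∑ t : G, conv (pEltInd p) E (t * g * t⁻¹) =
      ∑ x : G, pEltInd p x * ∑ χ ∈ Finset.univ.filter
        (fun χ : IrrCharacter G => χ ∈ blockOf M (χ₀ : G → ℂ)),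
        (χ : G → ℂ) x * conj ((χ : G → ℂ) g) := by
    unfold conv
    rw [Finset.sum_comm]
    refine Finset.sum_congr rfl fun x _ => ?_
    rw [Cfsg.Agent.Lib.Helper16.sum_irr_block_eq, Finset.mul_sum]
    refine Finset.sum_congr rfl fun t _ => ?_
    rw [← hE]
    congr 2
    group
  have h3 : ∀ x : G, x ≠ 1 → pEltInd p x * ∑ χ ∈ Finset.univ.filter
        (fun χ : IrrCharacter G => χ ∈ blockOf M (χ₀ : G → ℂ)),
        (χ : G → ℂ) x * conj ((χ : G → ℂ) g) = 0 := by
    intro x hx
    by_cases hpx : ∃ k : ℕ, orderOf x = p ^ k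
    · have hsbo := IdemTrace.strong_block_orthogonality_finset hpM χ₀ (g := x) (h := g) (x := x)
        (y := 1) ⟨1, mul_one x, Commute.one_right x, hpx, by simp [(Fact.out : p.Prime).one_lt.ne']⟩
        ⟨g, one_mul g, Commute.one_left g, ⟨0, by simp⟩, hg⟩
        (fun hc => hx (isConj_one_left.mp hc))
      rw [hsbo, mul_zero]
    · unfold pEltInd
      rw [if_neg hpx, zero_mul]
  have h4 : ∑ x : G, pEltInd p x * ∑ χ ∈ Finset.univ.filter
        (fun χ : IrrCharacter G => χ ∈ blockOf M (χ₀ : G → ℂ)),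
        (χ : G → ℂ) x * conj ((χ : G → ℂ) g) = (Nat.card G : ℂ) * E g := by
    rw [Finset.sum_eq_single 1 (fun x _ hx => h3 x hx)
      (fun h => absurd (Finset.mem_univ _) h), pEltInd_one, one_mul, hE, blockCoeff_eq_sum,
      ← mul_assoc, mul_inv_cancel₀ hG, one_mul]
  have h5 : (Nat.card G : ℂ) * conv (pEltInd p) E g = (Nat.card G : ℂ) * E g := by
    rw [← h1, h2, h4]
  exact mul_left_cancel₀ hG h5

/-- Külshammer's congruence, in terms of convolutions. -/
theorem kulshammer_core {p : ℕ} [Fact p.Prime] (hpM : IsPModular p M) {g : G}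
    (hg : ¬ p ∣ orderOf g) :
    MemLocalIdeal M (conv (pEltInd p) (regInd p) g -
      (regCount p G : ℂ) * blockCoeff (principalBlock M G) g) := by
  classical
  have hM : M.IsPrime := isPrime_of_isPModular hpM
  have hB : principalBlock M G = blockOf M ((oneIrr G : IrrCharacter G) : G → ℂ) := rfl
  set E := blockCoeff (principalBlock M G) with hE
  have hEZ : ZS M E := by
    rw [hE, hB]
    exact ZS.blockCoeff hpM (oneIrr G)
  have hRE : ZS M (fun x => (regCount p G : ℂ) * E x) :=
    ZS.smul hM (memLocalRing_natCast hM _) hEZ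
  set z : G → ℂ := regInd p - fun x => (regCount p G : ℂ) * E x with hz
  have hzZ : ZS M z := ZS.sub hM (regInd_ZS hM p) hRE
  have hω : ∀ χ : IrrCharacter G, MemLocalIdeal M (omega (χ : G → ℂ) z) := by
    intro χ
    rw [hz, omega_sub, omega_smul, hE, omega_blockCoeff]
    by_cases hχ : χ ∈ principalBlock M G
    · rw [if_pos hχ, mul_one]
      exact memLocalIdeal_omega_regInd_sub hM p χ hχ
    · rw [if_neg hχ, mul_zero, sub_zero, omega_regInd_of_not_mem hpM χ hχ]
      exact memLocalIdeal_zero hM
  have h1 := conv_pEltInd_mem_of_omega hpM hzZ hω g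
  have h2 : conv (pEltInd p) E g = E g := by
    rw [hE, hB]
    exact conv_pEltInd_blockCoeff hpM (oneIrr G) hg
  have h3 : conv (pEltInd p) (regInd p) g =
      (regCount p G : ℂ) * conv (pEltInd p) E g + conv (pEltInd p) z g := by
    unfold conv
    rw [Finset.mul_sum, ← Finset.sum_add_distrib]
    refine Finset.sum_congr rfl fun x _ => ?_
    rw [hz]
    simp only [Pi.sub_apply]
    ring
  rw [h3, h2, add_sub_cancel_left]
  exact h1

end Cfsg.Agent.Lib.Helper77
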