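import Cfsg.Agent.Lib.Helper77.FusB
import Cfsg.Agent.Lib.Helper52.DefectPairs

/-!
# Transport of Brauer pairs between `G` and the centralizer `C_G(Q)`
-/

set_option autoImplicit false

universe u

namespace Cfsg.Agent.Lib.Helper77

open Cfsg
open Cfsg.Agent.Lib.Helper81
open Cfsg.Agent.Lib.Helper80
open Cfsg.Agent.S4681 (centConj)
open scoped Pointwise

variable {G : Type u} [Group G]

/-- For `R ≤ L` with `C_G(R) ≤ L`, the centralizer of `R` computed in `L` is `C_G(R)`. -/
def cEq {L R : Subgroup G} (hRL : R ≤ L) (hCL : Subgroup.centralizer (R : Set G) ≤ L) :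
    Subgroup.centralizer ((R.subgroupOf L : Subgroup L) : Set L) ≃*
      Subgroup.centralizer (R : Set G) where
  toFun y := ⟨((y : L) : G), by
    rw [Subgroup.mem_centralizer_iff]
    intro r hr
    have := (Subgroup.mem_centralizer_iff.mp y.2) ⟨r, hRL hr⟩
      (show (⟨r, hRL hr⟩ : L) ∈ R.subgroupOf L from hr)
    exact congrArg Subtype.val this⟩
  invFun x := ⟨⟨(x : G), hCL x.2⟩, by
    rw [Subgroup.mem_centralizer_iff]
    intro d hd
    apply Subtype.ext
    exact (Subgroup.mem_centralizer_iff.mp x.2) (d : G) hd⟩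
  left_inv y := rfl
  right_inv x := rfl
  map_mul' a b := rfl

theorem coe_cEq {L R : Subgroup G} (hRL : R ≤ L) (hCL : Subgroup.centralizer (R : Set G) ≤ L)
    (y : Subgroup.centralizer ((R.subgroupOf L : Subgroup L) : Set L)) :
    ((cEq hRL hCL y : Subgroup.centralizer (R : Set G)) : G) = ((y : L) : G) := rfl

/-- A normal subpair `(Q, f) ⊴ (R, e)` with `R ≤ C_G(Q)` is a Brauer pair of `f` inside the group
`C_G(Q)`. -/
theorem isBrauerPairOf_sub_of_isNormalSubpair {p : ℕ} {M : Ideal AlgInt} {Q R : Subgroup G}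
    (hRL : R ≤ Subgroup.centralizer (Q : Set G)) (hQR : Q ≤ R)
    {f : Set (IrrCharacter (Subgroup.centralizer (Q : Set G)))}
    {e : Set (IrrCharacter (Subgroup.centralizer (R : Set G)))}
    (h : IsNormalSubpair p M Q f R e) :
    IsBrauerPairOf p M f (R.subgroupOf (Subgroup.centralizer (Q : Set G)))
      (irrMap (cEq hRL (Subgroup.centralizer_le hQR)) '' e) := by
  refine ⟨⟨h.2.1.1.comap_subtype, isPBlock_irrMap_image _ h.2.1.2⟩, h.1.2, ?_⟩
  rintro _ ⟨ξ, hξ, rfl⟩
  have h1 := h.2.2.2.2.2 ξ hξ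
  have e1 : brauerOmega (R.subgroupOf (Subgroup.centralizer (Q : Set G))) (blockCoeff f)
      (irrMap (cEq hRL (Subgroup.centralizer_le hQR)) ξ : _ → ℂ) =
      brauerOmega R (subgroupBlockCoeff (Subgroup.centralizer (Q : Set G)) f)
        (ξ : Subgroup.centralizer (R : Set G) → ℂ) := by
    unfold brauerOmega
    refine finsum_eq_of_bijective (cEq hRL (Subgroup.centralizer_le hQR))
      (cEq hRL (Subgroup.centralizer_le hQR)).bijective fun y => ?_
    rw [irrMap_apply, irrMap_apply, map_one, coe_cEq,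
      subgroupBlockCoeff_of_mem _ (y : Subgroup.centralizer (Q : Set G)).2]
  rw [e1]
  exact h1

/-- Compatibility of conjugation of characters with the transport to `L`. -/
theorem irrMap_cEq_cjIrr {L R : Subgroup G} (hRL : R ≤ L)
    (hCL : Subgroup.centralizer (R : Set G) ≤ L) (m : L)
    (hmL : m ∈ Subgroup.normalizer
      ((Subgroup.centralizer ((R.subgroupOf L : Subgroup L) : Set L) : Subgroup L) : Set L))
    (hmG : (m : G) ∈ Subgroup.normalizer
      ((Subgroup.centralizer (R : Set G) : Subgroup G) : Set G))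
    (ξ : IrrCharacter (Subgroup.centralizer (R : Set G))) :
    irrMap (cEq hRL hCL) (cjIrr _ (m : G) hmG ξ) = cjIrr _ m hmL (irrMap (cEq hRL hCL) ξ) := by
  apply Subtype.ext
  funext k
  rw [irrMap_apply, cjIrr_apply, cjIrr_apply, irrMap_apply]
  refine congrArg _ (Subtype.ext ?_)
  rw [coe_conjAut, coe_cEq, coe_cEq, coe_conjAut]
  rfl

theorem image_cEq_cjIrr {L R : Subgroup G} (hRL : R ≤ L)
    (hCL : Subgroup.centralizer (R : Set G) ≤ L) (m : L)
    (hmL : m ∈ Subgroup.normalizer
      ((Subgroup.centralizer ((R.subgroupOf L : Subgroup L) : Set L) : Subgroup L) : Set L))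
    (hmG : (m : G) ∈ Subgroup.normalizer
      ((Subgroup.centralizer (R : Set G) : Subgroup G) : Set G))
    (e : Set (IrrCharacter (Subgroup.centralizer (R : Set G)))) :
    irrMap (cEq hRL hCL) '' (cjIrr _ (m : G) hmG '' e) =
      cjIrr _ m hmL '' (irrMap (cEq hRL hCL) '' e) := by
  rw [Set.image_image, Set.image_image]
  exact Set.image_congr fun ξ _ => irrMap_cEq_cjIrr hRL hCL m hmL hmG ξ

/-- Normalizing `R ∩ L` inside `L` is normalizing `R` (for `R ≤ L`). -/
theorem coe_mem_normalizer_of_subgroupOf {L R : Subgroup G} (hRL : R ≤ L) {m : L}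
    (hm : m ∈ Subgroup.normalizer ((R.subgroupOf L : Subgroup L) : Set L)) :
    (m : G) ∈ Subgroup.normalizer (R : Set G) := by
  rw [Subgroup.mem_normalizer_iff] at hm ⊢
  intro h
  constructor
  · intro hh
    exact (hm ⟨h, hRL hh⟩).mp hh
  · intro hh
    have hhL : h ∈ L := by
      have h1 : (m : G) * h * (m : G)⁻¹ ∈ L := hRL hh
      have h2 := L.mul_mem (L.mul_mem (L.inv_mem m.2) h1) m.2
      have e : (m : G)⁻¹ * ((m : G) * h * (m : G)⁻¹) * (m : G) = h := by group
      rwa [e] at h2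
    exact (hm ⟨h, hhL⟩).mpr hh

end Cfsg.Agent.Lib.Helper77
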