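import Mathlib
import Cfsg.Agent.Lib.Helper6.Nc.Defs

/-!
# Nc hive (S3894), leaf NC-B2D: a non-central monomial matrix of determinant one is
diagonalizable (given a square root of `-1` and `2 ≠ 0`)
-/

set_option autoImplicit false

namespace Cfsg.Agent.Lib.Helper6.Nc

open Matrix

variable {F : Type*} [Field F]

/-- a scalar `2 × 2` matrix is central in `GL_2` -/
theorem ncb2d_scalar_mem_center (z : GL (Fin 2) F) (a : F)
    (hz : (z : Matrix (Fin 2) (Fin 2) F) = !![a, 0; 0, a]) :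
    z ∈ Subgroup.center (GL (Fin 2) F) := by
  rw [Subgroup.mem_center_iff]
  intro g
  apply Units.ext
  rw [Units.val_mul, Units.val_mul, hz]
  ext k l
  fin_cases k <;> fin_cases l <;>
    simp [Matrix.mul_apply, Fin.sum_univ_two, mul_comm]

/-- NC-B2D.  Diagonal non-scalar: `P = 1`.  Antidiagonal `[[0,x],[y,0]]`, `xy = -1`:
`P = [[x,x],[i,-i]]` (det `-2xi ≠ 0`), `δ = diag(i,-i)`. -/
theorem mono_diagonalize (i : F) (hi : i * i = -1) (h2 : (2 : F) ≠ 0) (z : GL (Fin 2) F)
    (hz : IsMono z) (hdet : (z : Matrix (Fin 2) (Fin 2) F).det = 1)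
    (hzc : z ∉ Subgroup.center (GL (Fin 2) F)) :
    ∃ (P δ : GL (Fin 2) F) (d₀ d₁ : F), d₀ ≠ d₁ ∧
      (δ : Matrix (Fin 2) (Fin 2) F) = !![d₀, 0; 0, d₁] ∧ z = P * δ * P⁻¹ := by
  have hi0 : i ≠ 0 := by
    intro h
    rw [h, mul_zero] at hi
    exact one_ne_zero (neg_eq_zero.mp hi.symm)
  have hzeta : (z : Matrix (Fin 2) (Fin 2) F) =
      !![(z : Matrix (Fin 2) (Fin 2) F) 0 0, (z : Matrix (Fin 2) (Fin 2) F) 0 1;
         (z : Matrix (Fin 2) (Fin 2) F) 1 0, (z : Matrix (Fin 2) (Fin 2) F) 1 1] :=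
    Matrix.eta_fin_two _
  rw [Matrix.det_fin_two] at hdet
  rcases hz with ⟨h01, h10⟩ | ⟨h00, h11⟩
  · -- diagonal, not scalar
    refine ⟨1, z, (z : Matrix (Fin 2) (Fin 2) F) 0 0, (z : Matrix (Fin 2) (Fin 2) F) 1 1, ?_, ?_, ?_⟩
    · intro heq
      apply hzc
      apply ncb2d_scalar_mem_center z ((z : Matrix (Fin 2) (Fin 2) F) 0 0)
      rw [hzeta, h01, h10, ← heq]
      simp
    · rw [hzeta, h01, h10]
      simp
    · simp
  · -- antidiagonal
    rw [h00, h11, zero_mul, zero_sub] at hdet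
    set x : F := (z : Matrix (Fin 2) (Fin 2) F) 0 1 with hx
    set y : F := (z : Matrix (Fin 2) (Fin 2) F) 1 0 with hy
    have hxy : x * y = -1 := by linear_combination -hdet
    have hx0 : x ≠ 0 := by
      intro h
      rw [h, zero_mul] at hxy
      exact one_ne_zero (neg_eq_zero.mp hxy.symm)
    have hPdet : (!![x, x; i, -i] : Matrix (Fin 2) (Fin 2) F).det ≠ 0 := by
      rw [Matrix.det_fin_two_of]
      have : x * -i - x * i = -(2 * x * i) := by ring
      rw [this]
      exact neg_ne_zero.mpr (mul_ne_zero (mul_ne_zero h2 hx0) hi0)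
    have hδdet : (!![i, 0; 0, -i] : Matrix (Fin 2) (Fin 2) F).det ≠ 0 := by
      rw [Matrix.det_fin_two_of]
      have : i * -i - 0 * 0 = 1 := by linear_combination -hi
      rw [this]
      exact one_ne_zero
    refine ⟨Matrix.GeneralLinearGroup.mkOfDetNeZero _ hPdet,
      Matrix.GeneralLinearGroup.mkOfDetNeZero _ hδdet, i, -i, ?_, rfl, ?_⟩
    · intro heq
      have h2i : 2 * i = 0 := by linear_combination heq
      rcases mul_eq_zero.mp h2i with h | h
      · exact h2 h
      · exact hi0 h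
    · rw [eq_mul_inv_iff_mul_eq]
      apply Units.ext
      rw [Units.val_mul, Units.val_mul]
      change (z : Matrix (Fin 2) (Fin 2) F) * !![x, x; i, -i] = !![x, x; i, -i] * !![i, 0; 0, -i]
      rw [hzeta, h00, h11]
      ext k l
      fin_cases k <;> fin_cases l
      · simp [Matrix.mul_apply, Fin.sum_univ_two]
      · simp [Matrix.mul_apply, Fin.sum_univ_two]
      · simp [Matrix.mul_apply, Fin.sum_univ_two]
        linear_combination hxy - hi
      · simp [Matrix.mul_apply, Fin.sum_univ_two]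
        linear_combination hxy - hi

end Cfsg.Agent.Lib.Helper6.Nc
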