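import Mathlib

set_option autoImplicit false

namespace Cfsg.Agent.Lib.Helper77

/-- A `p`-group `Q` acts on a finite set `X`; `F` is a `Q`-invariant function with values in an
additive group killed by `p`, vanishing at the fixed points.  Then the sum of `F` is zero. -/
theorem pgroup_sum_eq_zero {Q X A : Type*} [Group Q] [MulAction Q X] [Fintype X] {p : ℕ}
    [Fact p.Prime] (hQ : IsPGroup p Q) [AddCommGroup A] (hA : ∀ a : A, p • a = 0) (F : X → A)
    (hinv : ∀ (q : Q) (x : X), F (q • x) = F x)
    (hfix : ∀ x ∈ MulAction.fixedPoints Q X, F x = 0) :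
    ∑ x : X, F x = 0 := by
  classical
  have := Fintype.ofFinite (MulAction.orbitRel.Quotient Q X)
  let e := MulAction.selfEquivSigmaOrbits Q X
  have he : ∀ x : X, ((e x).2 : X) = x := fun x => rfl
  have hfin : ∀ ω : MulAction.orbitRel.Quotient Q X,
      Fintype (MulAction.orbit Q (Quotient.out ω)) := fun ω => Fintype.ofFinite _
  rw [← Equiv.sum_comp e.symm, Fintype.sum_sigma]
  refine Finset.sum_eq_zero fun ω _ => ?_
  have hconst : ∀ y : MulAction.orbit Q (Quotient.out ω),
      F (e.symm ⟨ω, y⟩) = F (Quotient.out ω) := by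
    intro y
    have hy : e.symm ⟨ω, y⟩ = (y : X) := by
      have := he (e.symm ⟨ω, y⟩)
      rw [Equiv.apply_symm_apply] at this
      exact this.symm
    rw [hy]
    obtain ⟨q, hq⟩ := MulAction.mem_orbit_iff.mp y.2
    rw [← hq, hinv]
  rw [Finset.sum_congr rfl (fun y _ => hconst y), Finset.sum_const]
  by_cases hfx : Quotient.out ω ∈ MulAction.fixedPoints Q X
  · rw [hfix _ hfx, smul_zero]
  · obtain ⟨k, hk⟩ := hQ.card_orbit (Quotient.out ω)
    rw [Finset.card_univ, ← Nat.card_eq_fintype_card, hk]
    cases k with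
    | zero =>
      exfalso
      apply hfx
      rw [MulAction.mem_fixedPoints_iff_card_orbit_eq_one, ← Nat.card_eq_fintype_card, hk,
        pow_zero]
    | succ k =>
      rw [pow_succ, mul_smul, hA, smul_zero]

/-- Abstract nilpotency criterion: in a finite algebra `A` over `ZMod p`, a central element which
is a sum `∑ u x` over a set permuted by a `p`-group `N` of units (normalised by the `u x`) without
contributions from fixed points is nilpotent. -/
theorem isNilpotent_of_pgroup {A N X : Type*} [Ring A] [Finite A] {p : ℕ} [Fact p.Prime]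
    [Algebra (ZMod p) A] [Group N] [MulAction N X] [Fintype X] (hN : IsPGroup p N) (ι : N →* A)
    (u : X → A)
    (hconj : ∀ (n : N) (x : X), u (n • x) = ι n * u x * ι n⁻¹)
    (hnorm : ∀ (n : N) (x : X), ∃ n' : N, ι n * u x = u x * ι n')
    (hfix : ∀ x ∈ MulAction.fixedPoints N X, u x = 0)
    (hcentral : ∀ a : A, (∑ x, u x) * a = a * ∑ x, u x) :
    IsNilpotent (∑ x, u x) := by
  classical
  set k : A := ∑ x, u x with hk
  have hpA : ∀ a : A, p • a = 0 := by
    intro a
    rw [← Nat.cast_smul_eq_nsmul (ZMod p) p a, ZMod.natCast_self, zero_smul]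
  let f : Module.End (ZMod p) A := LinearMap.mulLeft (ZMod p) k
  have hfpow : ∀ (m : ℕ) (a : A), (f ^ m) a = k ^ m * a := by
    intro m
    induction m with
    | zero => intro a; simp
    | succ m ih =>
      intro a
      rw [pow_succ', Module.End.mul_apply, ih, pow_succ']
      show k * (k ^ m * a) = _
      rw [mul_assoc]
  have hkcomm : ∀ (m : ℕ) (a : A), k ^ m * a = a * k ^ m := by
    intro m a
    exact ((Commute.pow_left (show Commute k a from hcentral a) m)).eq
  obtain ⟨m, hm⟩ := (Filter.eventually_atTop.mp f.eventually_disjoint_ker_pow_range_pow)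
  have hdisj := hm (m + 1) (Nat.le_succ m)
  set W : Submodule (ZMod p) A := LinearMap.range (f ^ (m + 1)) with hW
  by_cases hW0 : W = ⊥
  · refine ⟨m + 1, ?_⟩
    have h1 : (f ^ (m + 1)) 1 ∈ W := LinearMap.mem_range_self _ _
    rw [hW0, Submodule.mem_bot, hfpow, mul_one] at h1
    exact h1
  exfalso
  -- the action of `N` on `W`
  have hmemW : ∀ (n : N) (w : A), w ∈ W → ι n * w ∈ W := by
    rintro n w ⟨a, rfl⟩
    refine ⟨ι n * a, ?_⟩
    rw [hfpow, hfpow, ← mul_assoc, hkcomm, mul_assoc]
  let act : MulAction N W :=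
    { smul := fun n w => ⟨ι n * w, hmemW n w w.2⟩
      one_smul := fun w => Subtype.ext (by show ι 1 * (w : A) = w; rw [map_one, one_mul])
      mul_smul := fun a b w => Subtype.ext (by
        show ι (a * b) * (w : A) = ι a * (ι b * w); rw [map_mul, mul_assoc]) }
  have hsmul : ∀ (n : N) (w : W), ((n • w : W) : A) = ι n * w := fun _ _ => rfl
  have : Finite W := Finite.of_injective (fun w : W => (w : A)) Subtype.val_injective
  have hpW : p ∣ Nat.card W := by
    have : Module.Finite (ZMod p) W := Module.Finite.of_finite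
    rw [Module.natCard_eq_pow_finrank (K := ZMod p), Nat.card_zmod]
    refine dvd_pow_self p ?_
    intro h0
    apply hW0
    have := (Submodule.finrank_eq_zero (R := ZMod p) (S := W)).mp h0
    exact this
  obtain ⟨w, hwfix, hw0⟩ := hN.exists_fixed_point_of_prime_dvd_card_of_fixed_point W hpW
    (a := (0 : W)) (by
      intro n
      exact Subtype.ext (by rw [hsmul]; simp))
  have hwfix' : ∀ n : N, ι n * (w : A) = w := by
    intro n
    have := hwfix n
    rw [← hsmul, this]
  have hkw : k * (w : A) = 0 := by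
    rw [hk, Finset.sum_mul]
    refine pgroup_sum_eq_zero hN hpA (fun x => u x * (w : A)) ?_ ?_
    · intro n x
      show u (n • x) * (w : A) = u x * w
      rw [hconj]
      obtain ⟨n', hn'⟩ := hnorm n x
      rw [mul_assoc, hwfix', hn', mul_assoc, hwfix']
    · intro x hx
      show u x * (w : A) = 0
      rw [hfix x hx, zero_mul]
  have hwker : (w : A) ∈ LinearMap.ker (f ^ (m + 1)) := by
    rw [LinearMap.mem_ker, hfpow, pow_succ, mul_assoc, hkw, mul_zero]
  have := Submodule.disjoint_def.mp hdisj (w : A) hwker w.2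
  exact hw0 (Subtype.ext this.symm)

end Cfsg.Agent.Lib.Helper77
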