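import Mathlib

set_option autoImplicit false

namespace Cfsg.Agent.Lib.Helper77

/-- Abstract nilpotency criterion: in a finite algebra `A` over `ZMod p` on which a `p`-group `N`
acts through units, a central element killing every `N`-fixed vector is nilpotent. -/
theorem isNilpotent_of_forall_fixed {A N : Type*} [Ring A] [Finite A] {p : ℕ} [Fact p.Prime]
    [Algebra (ZMod p) A] [Group N] (hN : IsPGroup p N) (ι : N →* A) (k : A)
    (hcentral : ∀ a : A, k * a = a * k)
    (hkill : ∀ w : A, (∀ n : N, ι n * w = w) → k * w = 0) :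
    IsNilpotent k := by
  classical
  let f : Module.End (ZMod p) A := LinearMap.mulLeft (ZMod p) k
  have hfpow : ∀ (m : ℕ) (a : A), (f ^ m) a = k ^ m * a := by
    intro m
    induction m with
    | zero => intro a; simp
    | succ m ih =>
      intro a
      rw [pow_succ', Module.End.mul_apply, ih, pow_succ']
      show k * (k ^ m * a) = _
      rw [mul_assoc]
  have hkcomm : ∀ (m : ℕ) (a : A), k ^ m * a = a * k ^ m := by
    intro m a
    exact ((Commute.pow_left (show Commute k a from hcentral a) m)).eq
  obtain ⟨m, hm⟩ := (Filter.eventually_atTop.mp f.eventually_disjoint_ker_pow_range_pow)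
  have hdisj := hm (m + 1) (Nat.le_succ m)
  set W : Submodule (ZMod p) A := LinearMap.range (f ^ (m + 1)) with hW
  by_cases hW0 : W = ⊥
  · refine ⟨m + 1, ?_⟩
    have h1 : (f ^ (m + 1)) 1 ∈ W := LinearMap.mem_range_self _ _
    rw [hW0, Submodule.mem_bot, hfpow, mul_one] at h1
    exact h1
  exfalso
  have hmemW : ∀ (n : N) (w : A), w ∈ W → ι n * w ∈ W := by
    rintro n w ⟨a, rfl⟩
    refine ⟨ι n * a, ?_⟩
    rw [hfpow, hfpow, ← mul_assoc, hkcomm, mul_assoc]
  let act : MulAction N W :=
    { smul := fun n w => ⟨ι n * w, hmemW n w w.2⟩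
      one_smul := fun w => Subtype.ext (by show ι 1 * (w : A) = w; rw [map_one, one_mul])
      mul_smul := fun a b w => Subtype.ext (by
        show ι (a * b) * (w : A) = ι a * (ι b * w); rw [map_mul, mul_assoc]) }
  have hsmul : ∀ (n : N) (w : W), ((n • w : W) : A) = ι n * w := fun _ _ => rfl
  have : Finite W := Finite.of_injective (fun w : W => (w : A)) Subtype.val_injective
  have hpW : p ∣ Nat.card W := by
    have : Module.Finite (ZMod p) W := Module.Finite.of_finite
    rw [Module.natCard_eq_pow_finrank (K := ZMod p), Nat.card_zmod]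
    refine dvd_pow_self p ?_
    intro h0
    apply hW0
    have := (Submodule.finrank_eq_zero (R := ZMod p) (S := W)).mp h0
    exact this
  obtain ⟨w, hwfix, hw0⟩ := hN.exists_fixed_point_of_prime_dvd_card_of_fixed_point W hpW
    (a := (0 : W)) (by
      intro n
      exact Subtype.ext (by rw [hsmul]; simp))
  have hwfix' : ∀ n : N, ι n * (w : A) = w := by
    intro n
    have := hwfix n
    rw [← hsmul, this]
  have hkw : k * (w : A) = 0 := hkill _ hwfix'
  have hwker : (w : A) ∈ LinearMap.ker (f ^ (m + 1)) := by
    rw [LinearMap.mem_ker, hfpow, pow_succ, mul_assoc, hkw, mul_zero]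
  have := Submodule.disjoint_def.mp hdisj (w : A) hwker w.2
  exact hw0 (Subtype.ext this.symm)

end Cfsg.Agent.Lib.Helper77
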