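import Cfsg.Agent.Lib.Helper77.PGroupSum
import Cfsg.Agent.Lib.Helper77.ConjBlocks
import Cfsg.Agent.Lib.Helper75.CliffordCorr
import Cfsg.Agent.S0932

/-!
# Orbit sums of central characters over a normal subgroup
-/

set_option autoImplicit false

universe u

namespace Cfsg.Agent.Lib.Helper77

open Cfsg
open Cfsg.Agent.Lib.Helper81
open Cfsg.Agent.Lib.Helper80

/-- Variant of `pgroup_sum_mem` where invariance is only required modulo the local ideal. -/
theorem pgroup_sum_mem' {Q X : Type*} [Group Q] [MulAction Q X] [Fintype X] {p : ℕ}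
    [Fact p.Prime] (hQ : IsPGroup p Q) {M : Ideal AlgInt} (hpM : IsPModular p M) (F : X → ℂ)
    (hinv : ∀ (q : Q) (x : X), MemLocalIdeal M (F (q • x) - F x))
    (hS : ∀ x, MemLocalRing M (F x))
    (hfix : ∀ x ∈ MulAction.fixedPoints Q X, MemLocalIdeal M (F x)) :
    MemLocalIdeal M (∑ x : X, F x) := by
  classical
  have hM : M.IsPrime := isPrime_of_isPModular hpM
  let π : X → MulAction.orbitRel.Quotient Q X := Quotient.mk _
  let r : X → X := fun x => (π x).out
  have hr : ∀ x, ∃ q : Q, r x = q • x := by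
    intro x
    have h : (π x).out ∈ MulAction.orbit Q x := by
      have : π ((π x).out) = π x := Quotient.out_eq (π x)
      exact (MulAction.orbitRel_apply).mp (Quotient.exact this)
    obtain ⟨q, hq⟩ := h
    exact ⟨q, hq.symm⟩
  have hrinv : ∀ (q : Q) (x : X), r (q • x) = r x := by
    intro q x
    have : π (q • x) = π x := Quotient.sound (MulAction.orbitRel_apply.mpr ⟨q, rfl⟩)
    show (π (q • x)).out = (π x).out
    rw [this]
  have hrfix : ∀ x ∈ MulAction.fixedPoints Q X, r x = x := by
    intro x hx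
    obtain ⟨q, hq⟩ := hr x
    rw [hq]
    exact hx q
  have h1 : MemLocalIdeal M (∑ x : X, F (r x)) := by
    refine pgroup_sum_mem hQ hpM (fun x => F (r x)) ?_ (fun x => hS _) ?_
    · intro q x
      show F (r (q • x)) = F (r x)
      rw [hrinv]
    · intro x hx
      show MemLocalIdeal M (F (r x))
      rw [hrfix x hx]
      exact hfix x hx
  have h2 : MemLocalIdeal M (∑ x : X, (F x - F (r x))) := by
    refine memLocalIdeal_sum hM _ _ fun x _ => ?_
    obtain ⟨q, hq⟩ := hr x
    rw [hq]
    have := memLocalIdeal_neg (hinv q x)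
    rwa [neg_sub] at this
  have h3 := memLocalIdeal_add hM h2 h1
  rw [← Finset.sum_add_distrib] at h3
  simpa using h3

variable {G : Type u} [Group G]

/-- A function on `G` constant on the left cosets of `S` sums to `|S|` times the sum over
coset representatives. -/
theorem sum_eq_card_mul_sum_quotient [Fintype G] (S : Subgroup G) [Fintype (G ⧸ S)]
    (F : G → ℂ)
    (hF : ∀ (g : G) (s : G), s ∈ S → F (g * s) = F g) :
    ∑ g : G, F g = (Nat.card S : ℂ) * ∑ ω : G ⧸ S, F ω.out := by
  classical
  have := Fintype.ofFinite S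
  rw [← Equiv.sum_comp (Subgroup.groupEquivQuotientProdSubgroup (s := S)).symm,
    Fintype.sum_prod_type, Finset.mul_sum]
  refine Finset.sum_congr rfl fun ω _ => ?_
  have h : ∀ s : S, F ((Subgroup.groupEquivQuotientProdSubgroup (s := S)).symm (ω, s)) =
      F ω.out := by
    intro s
    obtain ⟨t, ht⟩ : ∃ t : S, (Subgroup.groupEquivQuotientProdSubgroup (s := S)).symm (ω, s) =
        ω.out * (t : G) := by
      set g := (Subgroup.groupEquivQuotientProdSubgroup (s := S)).symm (ω, s) with hg
      have h1 : ((Subgroup.groupEquivQuotientProdSubgroup (s := S)) g).1 = ω := by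
        rw [hg, Equiv.apply_symm_apply]
      have h2 : (g : G ⧸ S) = ω := by
        rw [← h1]
        rfl
      have h3 : (ω.out : G ⧸ S) = (g : G ⧸ S) := by rw [h2]; exact Quotient.out_eq' ω
      have h4 := QuotientGroup.eq.mp h3
      exact ⟨⟨ω.out⁻¹ * g, h4⟩, by simp⟩
    rw [ht]
    exact hF _ _ t.2
  rw [Finset.sum_congr rfl fun s _ => h s, Finset.sum_const, Finset.card_univ, nsmul_eq_mul,
    Nat.card_eq_fintype_card]

theorem card_eq_card_mul_relIndex [Finite G] {H K : Subgroup G} (h : H ≤ K) :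
    Nat.card K = Nat.card H * H.relIndex K := by
  have h1 := Subgroup.card_mul_index (H.subgroupOf K)
  rw [Nat.card_congr (Subgroup.subgroupOfEquivOfLe h).toEquiv] at h1
  exact h1.symm

theorem centralizer_singleton_eq_subgroupOf (N : Subgroup G) (x : N) :
    Subgroup.centralizer ({x} : Set N) =
      (Subgroup.centralizer ({(x : G)} : Set G)).subgroupOf N := by
  ext y
  rw [Subgroup.mem_subgroupOf, Subgroup.mem_centralizer_singleton_iff,
    Subgroup.mem_centralizer_singleton_iff, Subtype.ext_iff]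
  rfl

/-- The order of `N C_G(x)` for a normal subgroup `N`. -/
theorem card_sup_centralizer [Finite G] (N : Subgroup G) [N.Normal] (x : N) :
    Nat.card (N ⊔ Subgroup.centralizer ({(x : G)} : Set G) : Subgroup G) =
      (Subgroup.centralizer ({x} : Set N)).index *
        Nat.card (Subgroup.centralizer ({(x : G)} : Set G)) := by
  set C := Subgroup.centralizer ({(x : G)} : Set G) with hC
  have h1 : Nat.card (N ⊔ C : Subgroup G) = Nat.card N * N.relIndex C := by
    rw [card_eq_card_mul_relIndex (le_sup_left : N ≤ N ⊔ C), Subgroup.relIndex_sup_left]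
  have h2 : Nat.card C = Nat.card (N ⊓ C : Subgroup G) * N.relIndex C := by
    rw [card_eq_card_mul_relIndex (inf_le_right : N ⊓ C ≤ C), Subgroup.inf_relIndex_right]
  have h3 : Nat.card N = Nat.card (N ⊓ C : Subgroup G) * C.relIndex N := by
    rw [card_eq_card_mul_relIndex (inf_le_left : N ⊓ C ≤ N), Subgroup.inf_relIndex_left]
  have h4 : (Subgroup.centralizer ({x} : Set N)).index = C.relIndex N := by
    rw [centralizer_singleton_eq_subgroupOf]
    rfl
  rw [h1, h4, h2, h3]
  ring

/-- The induced central character as a sum over the whole group. -/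
theorem inducedCentralChar_eq_sum [Fintype G] (N : Subgroup G) [Fintype N] (θ : IrrCharacter N)
    (x : G) :
    inducedCentralChar N (θ : N → ℂ) x =
      (Nat.card (Subgroup.centralizer ({x} : Set G)) : ℂ)⁻¹ *
        ∑ g : G, extendByZero N (θ : N → ℂ) (g⁻¹ * x * g) / (θ : N → ℂ) 1 := by
  rw [Cfsg.Agent.S0932.result N _ (Cfsg.Agent.Lib.Helper3.IsIrrCharacter.isCharacter θ.2) x]
  unfold centralChar
  rw [Cfsg.Agent.Lib.Helper25.indFun_apply, Cfsg.Agent.Lib.Helper75.indFun_apply_one,
    ← Finset.sum_div]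
  have h1 : (Nat.card (Subgroup.centralizer ({x} : Set G)) : ℂ) *
      ((Subgroup.centralizer ({x} : Set G)).index : ℂ) = (Nat.card G : ℂ) := by
    exact_mod_cast Subgroup.card_mul_index (Subgroup.centralizer ({x} : Set G))
  have h2 : (Nat.card N : ℂ) * (N.index : ℂ) = (Nat.card G : ℂ) := by
    exact_mod_cast Subgroup.card_mul_index N
  have hG : (Nat.card G : ℂ) ≠ 0 := Nat.cast_ne_zero.mpr Nat.card_pos.ne'
  have hC : (Nat.card (Subgroup.centralizer ({x} : Set G)) : ℂ) ≠ 0 :=
    Nat.cast_ne_zero.mpr Nat.card_pos.ne'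
  have hN : (Nat.card N : ℂ) ≠ 0 := Nat.cast_ne_zero.mpr Nat.card_pos.ne'
  have hi : (N.index : ℂ) ≠ 0 := by
    intro h; rw [h, mul_zero] at h2; exact hG h2.symm
  have hθ : (θ : N → ℂ) 1 ≠ 0 := irr_one_ne_zero θ.2
  have h3 : ((Subgroup.centralizer ({x} : Set G)).index : ℂ) =
      (Nat.card N : ℂ) * (N.index : ℂ) / (Nat.card (Subgroup.centralizer ({x} : Set G)) : ℂ) := by
    rw [h2, ← h1]
    field_simp
  rw [h3]
  field_simp

theorem coe_conjNormal (N : Subgroup G) [N.Normal] (g : G) (x : N) :
    ((MulAut.conjNormal g x : N) : G) = g * x * g⁻¹ := rfl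

/-- The central character of `θ` at the `g`-conjugate of `x` only depends on the coset of `g`
modulo `N C_G(x)`. -/
theorem centralChar_conjNormal_mul (N : Subgroup G) [hN : N.Normal] {θ : N → ℂ}
    (hθ : IsClassFunction N θ) (x : N) (g s : G)
    (hs : s ∈ N ⊔ Subgroup.centralizer ({(x : G)} : Set G)) :
    centralChar θ (MulAut.conjNormal (g * s) x : N) = centralChar θ (MulAut.conjNormal g x : N) := by
  obtain ⟨n, hn, c, hc, rfl⟩ := Subgroup.mem_sup_of_normal_left.mp hs
  have hcx : c * (x : G) * c⁻¹ = x := by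
    have := Subgroup.mem_centralizer_singleton_iff.mp hc
    rw [this, mul_inv_cancel_right]
  set k : N := MulAut.conjNormal g ⟨n, hn⟩ with hk
  have : (MulAut.conjNormal (g * (n * c)) x : N) = k * (MulAut.conjNormal g x : N) * k⁻¹ := by
    apply Subtype.ext
    show g * (n * c) * (x : G) * (g * (n * c))⁻¹ =
      (g * n * g⁻¹) * (g * (x : G) * g⁻¹) * (g * n * g⁻¹)⁻¹
    have e : g * (n * c) * (x : G) * (g * (n * c))⁻¹ =
        g * n * (c * (x : G) * c⁻¹) * n⁻¹ * g⁻¹ := by group
    rw [e, hcx]
    group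
  rw [this, centralChar_conj hθ]

/-- **Orbit-sum formula.** For `x` in the normal subgroup `N`, the induced central character of
`θ` at `x` is the sum of the central characters of `θ` over the `N`-classes contained in the
`G`-class of `x`, which are indexed by the cosets of `N C_G(x)`. -/
theorem inducedCentralChar_eq_sum_quotient [Fintype G] (N : Subgroup G) [hN : N.Normal]
    [Fintype N] (θ : IrrCharacter N) (x : N)
    [Fintype (G ⧸ (N ⊔ Subgroup.centralizer ({(x : G)} : Set G) : Subgroup G))] :
    inducedCentralChar N (θ : N → ℂ) (x : G) =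
      ∑ ω : G ⧸ (N ⊔ Subgroup.centralizer ({(x : G)} : Set G) : Subgroup G),
        centralChar (θ : N → ℂ) (MulAut.conjNormal ω.out x : N) := by
  classical
  have hθc : IsClassFunction N (θ : N → ℂ) := isClassFunction_of_isCharacter θ.2
  have hθ1 : (θ : N → ℂ) 1 ≠ 0 := irr_one_ne_zero θ.2
  have hsum := sum_eq_card_mul_sum_quotient
    (N ⊔ Subgroup.centralizer ({(x : G)} : Set G) : Subgroup G)
    (fun g => centralChar (θ : N → ℂ) (MulAut.conjNormal g x : N))
    (fun g s hs => centralChar_conjNormal_mul N hθc x g s hs)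
  have hS0 : (Nat.card (N ⊔ Subgroup.centralizer ({(x : G)} : Set G) : Subgroup G) : ℂ) ≠ 0 :=
    Nat.cast_ne_zero.mpr Nat.card_pos.ne'
  have hC0 : (Nat.card (Subgroup.centralizer ({(x : G)} : Set G)) : ℂ) ≠ 0 :=
    Nat.cast_ne_zero.mpr Nat.card_pos.ne'
  have hRHS : ∑ ω : G ⧸ (N ⊔ Subgroup.centralizer ({(x : G)} : Set G) : Subgroup G),
      centralChar (θ : N → ℂ) (MulAut.conjNormal ω.out x : N) =
      (Nat.card (N ⊔ Subgroup.centralizer ({(x : G)} : Set G) : Subgroup G) : ℂ)⁻¹ *
        ∑ g : G, centralChar (θ : N → ℂ) (MulAut.conjNormal g x : N) := by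
    rw [hsum]
    field_simp
  rw [hRHS, inducedCentralChar_eq_sum]
  have hterm : ∀ g : G, centralChar (θ : N → ℂ) (MulAut.conjNormal g x : N) =
      ((Subgroup.centralizer ({x} : Set N)).index : ℂ) *
        (extendByZero N (θ : N → ℂ) (g * x * g⁻¹) / (θ : N → ℂ) 1) := by
    intro g
    unfold centralChar
    rw [← centralizer_index_mulEquiv (MulAut.conjNormal g : N ≃* N) x,
      ← coe_conjNormal N g x, Cfsg.Agent.Lib.Helper25.extendByZero_coe]
    ring
  rw [Finset.sum_congr rfl fun g _ => hterm g, ← Finset.mul_sum]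
  have hre : ∑ g : G, extendByZero N (θ : N → ℂ) (g⁻¹ * (x : G) * g) / (θ : N → ℂ) 1 =
      ∑ g : G, extendByZero N (θ : N → ℂ) (g * (x : G) * g⁻¹) / (θ : N → ℂ) 1 := by
    rw [← Equiv.sum_comp (Equiv.inv G)]
    refine Finset.sum_congr rfl fun g _ => ?_
    simp
  rw [hre, ← mul_assoc]
  congr 1
  have hcard := card_sup_centralizer N x
  have hcard' : (Nat.card (N ⊔ Subgroup.centralizer ({(x : G)} : Set G) : Subgroup G) : ℂ) = ((Subgroup.centralizer ({x} : Set N)).index : ℂ) *
      (Nat.card (Subgroup.centralizer ({(x : G)} : Set G)) : ℂ) := by exact_mod_cast hcard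
  rw [hcard']
  have hi : ((Subgroup.centralizer ({x} : Set N)).index : ℂ) ≠ 0 := by
    intro h
    rw [hcard', h, zero_mul] at hS0
    exact hS0 rfl
  field_simp

theorem centralChar_conjNormal (N : Subgroup G) [hN : N.Normal] (θ : IrrCharacter N) (g : G)
    (x : N) :
    centralChar (θ : N → ℂ) (MulAut.conjNormal g x : N) =
      centralChar (conjIrr N g θ : N → ℂ) x :=
  (centralChar_comp_mulEquiv (MulAut.conjNormal g : N ≃* N) (θ : N → ℂ) x).symm

/-- If all conjugates of `θ` lie in the block of `θ`, the induced central character at `x ∈ N`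
is congruent to the number of `N`-classes in the `G`-class of `x` times the central character of
`θ` at `x`. -/
theorem memLocalIdeal_inducedCentralChar_sub [Fintype G] {M : Ideal AlgInt} (hM : M.IsPrime)
    (N : Subgroup G) [hN : N.Normal] [Fintype N] (θ : IrrCharacter N) (x : N)
    (hst : ∀ g : G, SameBlock M (conjIrr N g θ : N → ℂ) (θ : N → ℂ))
    [Fintype (G ⧸ (N ⊔ Subgroup.centralizer ({(x : G)} : Set G) : Subgroup G))] :
    MemLocalIdeal M (inducedCentralChar N (θ : N → ℂ) (x : G) -
      ((N ⊔ Subgroup.centralizer ({(x : G)} : Set G) : Subgroup G).index : ℂ) *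
        centralChar (θ : N → ℂ) x) := by
  rw [inducedCentralChar_eq_sum_quotient, Subgroup.index_eq_card, Nat.card_eq_fintype_card,
    ← Finset.card_univ, ← nsmul_eq_mul, ← Finset.sum_const, ← Finset.sum_sub_distrib]
  refine memLocalIdeal_sum hM _ _ fun ω _ => ?_
  rw [centralChar_conjNormal]
  exact hst ω.out x

/-- If a `p`-subgroup `Q` stabilizes the block of `θ` and is contained in no conjugate of
`N C_G(x)`, then the induced central character of `θ` at `x` lies in the local ideal. -/
theorem memLocalIdeal_inducedCentralChar_of_pgroup [Fintype G] {p : ℕ} [Fact p.Prime]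
    {M : Ideal AlgInt} (hpM : IsPModular p M) (N : Subgroup G) [hN : N.Normal] [Fintype N]
    (θ : IrrCharacter N) (x : N) (Q : Subgroup G) (hQ : IsPGroup p Q)
    (hst : ∀ q ∈ Q, ∀ θ' : IrrCharacter N, SameBlock M (θ' : N → ℂ) (θ : N → ℂ) →
      SameBlock M (conjIrr N q θ' : N → ℂ) (θ : N → ℂ))
    (hfix : ∀ g : G, ∃ q ∈ Q,
      g⁻¹ * q * g ∉ (N ⊔ Subgroup.centralizer ({(x : G)} : Set G) : Subgroup G)) :
    MemLocalIdeal M (inducedCentralChar N (θ : N → ℂ) (x : G)) := by
  classical
  have hM : M.IsPrime := isPrime_of_isPModular hpM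
  have := Fintype.ofFinite (G ⧸ (N ⊔ Subgroup.centralizer ({(x : G)} : Set G) : Subgroup G))
  rw [inducedCentralChar_eq_sum_quotient]
  have hθc : IsClassFunction N (θ : N → ℂ) := isClassFunction_of_isCharacter θ.2
  refine pgroup_sum_mem' (Q := Q) hQ hpM _ ?_ ?_ ?_
  · intro q ω
    -- representative of the translated coset
    obtain ⟨s, hs, hout⟩ : ∃ s ∈ (N ⊔ Subgroup.centralizer ({(x : G)} : Set G) : Subgroup G),
        (q • ω).out = (q : G) * ω.out * s := by
      have h1 : ((q • ω).out : G ⧸ (N ⊔ Subgroup.centralizer ({(x : G)} : Set G) : Subgroup G)) =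
          (((q : G) * ω.out : G) :
            G ⧸ (N ⊔ Subgroup.centralizer ({(x : G)} : Set G) : Subgroup G)) := by
        calc ((q • ω).out : G ⧸ (N ⊔ Subgroup.centralizer ({(x : G)} : Set G) : Subgroup G))
            = q • ω := QuotientGroup.out_eq' _
          _ = q • ((ω.out : G) :
                G ⧸ (N ⊔ Subgroup.centralizer ({(x : G)} : Set G) : Subgroup G)) := by
              rw [QuotientGroup.out_eq']
          _ = _ := rfl
      have h2 := QuotientGroup.eq.mp h1.symm
      exact ⟨_, h2, by group⟩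
    rw [hout, centralChar_conjNormal_mul N hθc x _ s hs]
    have h3 : (MulAut.conjNormal ((q : G) * ω.out) x : N) =
        MulAut.conjNormal (q : G) (MulAut.conjNormal ω.out x : N) := by
      rw [map_mul]
      rfl
    rw [h3, centralChar_conjNormal]
    exact hst q q.2 θ (sameBlock_refl hM _) _
  · intro ω
    exact memLocalRing_centralChar hM θ.2 _
  · intro ω hω
    exfalso
    obtain ⟨q, hq, hn⟩ := hfix ω.out
    apply hn
    have h1 : (⟨q, hq⟩ : Q) • ω = ω := hω ⟨q, hq⟩
    have h2 : (((q * ω.out : G)) :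
        G ⧸ (N ⊔ Subgroup.centralizer ({(x : G)} : Set G) : Subgroup G)) = (ω.out : G ⧸ _) := by
      calc (((q * ω.out : G)) :
            G ⧸ (N ⊔ Subgroup.centralizer ({(x : G)} : Set G) : Subgroup G))
          = (⟨q, hq⟩ : Q) • ((ω.out : G) :
              G ⧸ (N ⊔ Subgroup.centralizer ({(x : G)} : Set G) : Subgroup G)) := rfl
        _ = (⟨q, hq⟩ : Q) • ω := by rw [QuotientGroup.out_eq']
        _ = ω := h1
        _ = _ := (QuotientGroup.out_eq' _).symm
    have h3 := QuotientGroup.eq.mp h2.symm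
    have e2 : ω.out⁻¹ * q * ω.out = ω.out⁻¹ * (q * ω.out) := by group
    rw [e2]
    exact h3

end Cfsg.Agent.Lib.Helper77
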