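import Cfsg.Agent.Lib.Helper77.BlockIdem
import Cfsg.Agent.Lib.Helper16.LocalS
import Cfsg.Agent.Lib.Helper56.P3Defs
import Mathlib

/-!
# S4427 hive (architect helper56), leaf P3-L2d: core

`p3_L2d77_core` (BACKUP TWIN of Helper46.P3_L2dCore, names disjoint): the statement of P3-L2d, with the statements of P3-L2a, P3-L2b, P3-L2c as hypotheses.
-/

set_option autoImplicit false

namespace Cfsg.Agent.Lib.P3

open Cfsg Cfsg.Agent.Lib.Helper77 Cfsg.Agent.Lib.Helper16 Cfsg.Agent.Lib.Helper81
open scoped ComplexConjugate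
open Polynomial

universe u

variable {G : Type u} [Group G] [Fintype G]

/-- coefficient function of an element of the group ring over the local ring, as complex numbers -/
noncomputable def p3_L2d77_cf {M : Ideal AlgInt} (hM : M.IsPrime)
    (x : MonoidAlgebra (localSubring M hM) G) : G → ℂ := fun g => ((x.coeff g : localSubring M hM) : ℂ)

theorem p3_L2d77_cf_mul {M : Ideal AlgInt} (hM : M.IsPrime)
    (x y : MonoidAlgebra (localSubring M hM) G) :
    p3_L2d77_cf hM (x * y) = conv (p3_L2d77_cf hM x) (p3_L2d77_cf hM y) := by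
  classical
  funext g
  unfold p3_L2d77_cf conv
  rw [MonoidAlgebra.coeff_mul_apply_left, Finsupp.sum_fintype]
  · simp
  · intro i
    simp

/-- the augmentation of the group ring -/
noncomputable def p3_L2d77_aug {M : Ideal AlgInt} (hM : M.IsPrime) :
    MonoidAlgebra (localSubring M hM) G →ₐ[localSubring M hM] (localSubring M hM) :=
  MonoidAlgebra.lift (localSubring M hM) (localSubring M hM) G (1 : G →* (localSubring M hM))

theorem p3_L2d77_aug_apply {M : Ideal AlgInt} (hM : M.IsPrime)
    (x : MonoidAlgebra (localSubring M hM) G) :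
    ((p3_L2d77_aug hM x : localSubring M hM) : ℂ) = ∑ g, p3_L2d77_cf hM x g := by
  classical
  unfold p3_L2d77_aug p3_L2d77_cf
  rw [MonoidAlgebra.lift_apply, Finsupp.sum_fintype]
  · simp
  · intro i
    simp

/-- P3-L2d with the statements of L2a, L2b, L2c as hypotheses. -/
theorem p3_L2d77_core {p : ℕ} {M : Ideal AlgInt} (hpM : IsPModular p M)
    (hL2a : ∀ (m : Multiset (localSubring M (isPrime_of_isPModular hpM))),
      ∃ g h a b : Polynomial (localSubring M (isPrime_of_isPModular hpM)),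
        (m.map (fun c => X - C c)).prod = g * h ∧ a * g + b * h = 1 ∧
        IsUnit (g.eval 0) ∧ IsUnit (h.eval 1))
    (hL2b : ∀ (t : MonoidAlgebra (localSubring M (isPrime_of_isPModular hpM)) G)
      (g h a b : Polynomial (localSubring M (isPrime_of_isPModular hpM))),
      Polynomial.aeval t (g * h) = 0 → a * g + b * h = 1 → IsUnit (g.eval 0) → IsUnit (h.eval 1) →
      ∃ ε w : MonoidAlgebra (localSubring M (isPrime_of_isPModular hpM)) G, ε * ε = ε ∧ ε = t * w ∧
        ∀ φ : MonoidAlgebra (localSubring M (isPrime_of_isPModular hpM)) G →ₐ[localSubring M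
          (isPrime_of_isPModular hpM)] (localSubring M (isPrime_of_isPModular hpM)),
          φ t = 1 → φ ε = 1)
    (hL2c : ∀ (t : MonoidAlgebra (localSubring M (isPrime_of_isPModular hpM)) G),
      ∃ m : Multiset (localSubring M (isPrime_of_isPModular hpM)),
        Polynomial.aeval t ((m.map (fun c => X - C c)).prod) = 0)
    (t : G → ℂ) (ht : ∀ g, MemLocalRing M (t g)) (haug : ∑ g, t g = 1) :
    ∃ ε w : G → ℂ, (∀ g, MemLocalRing M (ε g)) ∧ conv ε ε = ε ∧ ε = conv t w ∧ ∑ g, ε g = 1 := by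
  classical
  have hM : M.IsPrime := isPrime_of_isPModular hpM
  -- the element of the group ring
  let T : MonoidAlgebra (localSubring M hM) G :=
    MonoidAlgebra.ofCoeff (Finsupp.equivFunOnFinite.symm (fun g => (⟨t g, ht g⟩ : localSubring M hM)))
  have hTcf : p3_L2d77_cf hM T = t := by
    funext g
    simp [p3_L2d77_cf, T]
  obtain ⟨m, hm⟩ := hL2c T
  obtain ⟨g, h, a, b, hgh, hab, hg0, hh1⟩ := hL2a m
  rw [hgh] at hm
  obtain ⟨ε, w, hεε, hεT, hφ⟩ := hL2b T g h a b hm hab hg0 hh1
  have haugT : p3_L2d77_aug hM T = 1 := by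
    apply Subtype.ext
    rw [p3_L2d77_aug_apply, hTcf, haug]
    rfl
  have haugε := hφ (p3_L2d77_aug hM) haugT
  refine ⟨p3_L2d77_cf hM ε, p3_L2d77_cf hM w, fun g => (ε.coeff g).2, ?_, ?_, ?_⟩
  · rw [← p3_L2d77_cf_mul, hεε]
  · rw [← hTcf, ← p3_L2d77_cf_mul, ← hεT]
  · rw [← p3_L2d77_aug_apply, haugε]
    rfl

end Cfsg.Agent.Lib.P3
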