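import Cfsg.Agent.Lib.Helper77.IdemTrace
import Mathlib.GroupTheory.Perm.Cycle.Basic
import Mathlib.GroupTheory.PGroup
import Mathlib.GroupTheory.GroupAction.Quotient
import Mathlib.Dynamics.PeriodicPts.Defs

/-!
# Permutations: degree functions off the fixed points of the `p`-part, and the Brauer step for
matrices
-/

set_option autoImplicit false
set_option linter.unusedSectionVars false

namespace Cfsg.Agent.Lib.Helper77.IdemTrace

open Matrix

section Degree

variable {X : Type*} [Finite X]

theorem modEq_of_pow_apply_eq (w : Equiv.Perm X) {p : ℕ} {b : X}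
    (hb : ∀ j : ℕ, (w ^ j) b = b → p ∣ j) {m k : ℕ} (h : (w ^ m) b = (w ^ k) b) :
    m ≡ k [MOD p] := by
  wlog hmk : m ≤ k generalizing m k
  · exact (this h.symm (le_of_not_ge hmk)).symm
  obtain ⟨t, rfl⟩ := Nat.exists_eq_add_of_le hmk
  rw [pow_add, Equiv.Perm.mul_apply] at h
  have h2 : (w ^ t) b = b := ((w ^ m).injective h).symm
  have h3 : t ≡ 0 [MOD p] := (Nat.modEq_zero_iff_dvd).mpr (hb t h2)
  have := (h3.add_left m).symm
  rwa [add_zero] at this

theorem exists_degree (w : Equiv.Perm X) (p : ℕ) (c : X → Prop)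
    (hwc : ∀ a, c (w a) ↔ c a)
    (hstab : ∀ a, ¬ c a → ∀ j : ℕ, (w ^ j) a = a → p ∣ j) :
    ∃ d : X → ℕ, ∀ a, ¬ c a → d (w a) ≡ d a + 1 [MOD p] := by
  classical
  let s := Equiv.Perm.SameCycle.setoid w
  let r : X → X := fun a => Quotient.out (Quotient.mk s a)
  have hr : ∀ a, w.SameCycle (r a) a := by
    intro a
    have h0 : s (Quotient.out (Quotient.mk s a)) a := Quotient.exact (Quotient.out_eq _)
    exact h0
  have hrw : ∀ a, r (w a) = r a := by
    intro a
    show Quotient.out (Quotient.mk s (w a)) = Quotient.out (Quotient.mk s a)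
    congr 1
    apply Quotient.sound
    show w.SameCycle (w a) a
    exact (Equiv.Perm.sameCycle_apply_left).mpr (Equiv.Perm.SameCycle.refl w a)
  have hcpow : ∀ (i : ℕ) (b : X), c ((w ^ i) b) ↔ c b := by
    intro i b
    induction i with
    | zero => simp
    | succ i ih => rw [pow_succ', Equiv.Perm.mul_apply, hwc, ih]
  choose e he using fun a => (hr a).exists_pow_eq'
  refine ⟨e, fun a ha => ?_⟩
  have h1 : (w ^ e (w a)) (r a) = (w ^ (e a + 1)) (r a) := by
    rw [← hrw a, (he (w a)).2, pow_succ', Equiv.Perm.mul_apply, hrw a, (he a).2]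
  have hcr : ¬ c (r a) := by
    intro h
    apply ha
    rw [← (he a).2, hcpow]
    exact h
  exact modEq_of_pow_apply_eq w (hstab (r a) hcr) h1

theorem pow_apply_eq_of_pow_apply_eq (w : Equiv.Perm X) {p K r N : ℕ} (hp : p.Prime)
    (hn : w ^ (p ^ K * r) = 1) (hrN : r ∣ N) (a : X) (j : ℕ) (hj : (w ^ j) a = a)
    (hpj : ¬ p ∣ j) : (w ^ N) a = a := by
  have h1 : Function.IsPeriodicPt w j a := by
    show (⇑w)^[j] a = a
    rw [Equiv.Perm.iterate_eq_pow]
    exact hj
  have h2 : Function.IsPeriodicPt w (p ^ K * r) a := by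
    show (⇑w)^[p ^ K * r] a = a
    rw [Equiv.Perm.iterate_eq_pow, hn]
    rfl
  have hm1 := h1.minimalPeriod_dvd
  have hm2 := h2.minimalPeriod_dvd
  have hpm : ¬ p ∣ Function.minimalPeriod w a := fun h => hpj (h.trans hm1)
  have hcop : Nat.Coprime (Function.minimalPeriod w a) (p ^ K) :=
    (Nat.Coprime.pow_right K ((Nat.Prime.coprime_iff_not_dvd hp).mpr hpm).symm)
  have hm3 : Function.minimalPeriod w a ∣ r := hcop.dvd_of_dvd_mul_left hm2
  have h3 : Function.IsPeriodicPt w N a :=
    (Function.isPeriodicPt_minimalPeriod w a).trans_dvd (hm3.trans hrN)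
  have h4 : (⇑w)^[N] a = a := h3
  rwa [Equiv.Perm.iterate_eq_pow] at h4

/-- Off the fixed points of the `p`-part of a permutation there is a degree function. -/
theorem exists_degree_of_pow (w : Equiv.Perm X) {p K r N : ℕ} (hp : p.Prime)
    (hn : w ^ (p ^ K * r) = 1) (hrN : r ∣ N) :
    ∃ d : X → ℕ, ∀ a, (w ^ N) a ≠ a → d (w a) ≡ d a + 1 [MOD p] := by
  apply exists_degree w p (fun a => (w ^ N) a = a)
  · intro a
    have : (w ^ N) (w a) = w ((w ^ N) a) := by
      rw [← Equiv.Perm.mul_apply, ← Equiv.Perm.mul_apply, ← pow_succ, ← pow_succ']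
    rw [this]
    exact w.injective.eq_iff
  · intro a ha j hj
    by_contra hpj
    exact ha (pow_apply_eq_of_pow_apply_eq w hp hn hrN a j hj hpj)

end Degree

section BrauerStep

variable {S : Type*} [CommRing S] {X : Type*} [Fintype X] [DecidableEq X]

/-- A `p`-group `Q` acts on a finite set `X`; `F` is a `Q`-invariant function with values in a
ring, taking values in an ideal containing `p` at the fixed points.  Then the sum of `F` lies in
the ideal. -/
theorem pgroup_sum_mem_ideal {Q : Type*} [Group Q] [MulAction Q X] (I : Ideal S) {p : ℕ}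
    [Fact p.Prime] (hQ : IsPGroup p Q) (hpI : (p : S) ∈ I) (F : X → S)
    (hinv : ∀ (q : Q) (x : X), F (q • x) = F x)
    (hfix : ∀ x ∈ MulAction.fixedPoints Q X, F x ∈ I) : ∑ x, F x ∈ I := by
  classical
  have := Fintype.ofFinite (MulAction.orbitRel.Quotient Q X)
  let e := MulAction.selfEquivSigmaOrbits Q X
  have he : ∀ x : X, ((e x).2 : X) = x := fun x => rfl
  have hfin : ∀ ω : MulAction.orbitRel.Quotient Q X,
      Fintype (MulAction.orbit Q (Quotient.out ω)) := fun ω => Fintype.ofFinite _
  rw [← Equiv.sum_comp e.symm, Fintype.sum_sigma]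
  refine sum_mem fun ω _ => ?_
  have hconst : ∀ y : MulAction.orbit Q (Quotient.out ω),
      F (e.symm ⟨ω, y⟩) = F (Quotient.out ω) := by
    intro y
    have hy : e.symm ⟨ω, y⟩ = (y : X) := by
      have := he (e.symm ⟨ω, y⟩)
      rw [Equiv.apply_symm_apply] at this
      exact this.symm
    rw [hy]
    obtain ⟨q, hq⟩ := MulAction.mem_orbit_iff.mp y.2
    rw [← hq, hinv]
  rw [Finset.sum_congr rfl (fun y _ => hconst y), Finset.sum_const, nsmul_eq_mul]
  by_cases hfx : Quotient.out ω ∈ MulAction.fixedPoints Q X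
  · exact Ideal.mul_mem_left _ _ (hfix _ hfx)
  · refine Ideal.mul_mem_right _ _ ?_
    obtain ⟨k, hk⟩ := hQ.card_orbit (Quotient.out ω)
    rw [Finset.card_univ, ← Nat.card_eq_fintype_card, hk]
    cases k with
    | zero =>
      exfalso
      apply hfx
      rw [MulAction.mem_fixedPoints_iff_card_orbit_eq_one, ← Nat.card_eq_fintype_card, hk,
        pow_zero]
    | succ k =>
      rw [pow_succ, Nat.cast_mul]
      exact Ideal.mul_mem_left _ _ hpI

variable [IsLocalRing S]

theorem Small.add {A B : Matrix X X S} (hA : Small A) (hB : Small B) : Small (A + B) := by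
  intro i j
  rw [Matrix.add_apply]
  exact Ideal.add_mem _ (hA i j) (hB i j)

theorem Small.sub {A B : Matrix X X S} (hA : Small A) (hB : Small B) : Small (A - B) := by
  intro i j
  rw [Matrix.sub_apply]
  exact Ideal.sub_mem _ (hA i j) (hB i j)

theorem apply_of_permMat_comm {z : Equiv.Perm X} {A : Matrix X X S}
    (hA : permMat z * A = A * permMat z) (i j : X) : A (z i) (z j) = A i j := by
  have := congrFun (congrFun hA i) (z j)
  rw [permMat_mul_apply, mul_permMat_apply, Equiv.symm_apply_apply] at this
  exact this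

/-- The Brauer step: cutting down to the fixed points of a permutation of `p`-power order is
multiplicative modulo the maximal ideal on matrices commuting with the permutation. -/
theorem brauer_step {p K : ℕ} [Fact p.Prime] (hpI : (p : S) ∈ IsLocalRing.maximalIdeal S)
    (z : Equiv.Perm X) (hz : z ^ (p ^ K) = 1) {A B : Matrix X X S}
    (hA : permMat z * A = A * permMat z) (hB : permMat z * B = B * permMat z) :
    Small (cornerMat (fun a => z a = a) * (A * B) * cornerMat (fun a => z a = a) -
      (cornerMat (fun a => z a = a) * A * cornerMat (fun a => z a = a)) *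
        (cornerMat (fun a => z a = a) * B * cornerMat (fun a => z a = a))) := by
  intro i j
  set C₀ : Matrix X X S := cornerMat (fun a => z a = a) with hC₀
  have hcorner : ∀ (D : Matrix X X S) (a b : X), (C₀ * D * C₀ : Matrix X X S) a b =
      if z a = a ∧ z b = b then D a b else 0 := by
    intro D a b
    rw [hC₀, mul_cornerMat_apply, cornerMat_mul_apply]
    by_cases ha : z a = a <;> by_cases hb : z b = b <;> simp [ha, hb]
  rw [Matrix.sub_apply, hcorner]
  have h1 : ∀ d, (C₀ * A * C₀ : Matrix X X S) i d * (C₀ * B * C₀ : Matrix X X S) d j =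
      if z i = i ∧ z j = j then (if z d = d then A i d * B d j else 0) else 0 := by
    intro d
    rw [hcorner, hcorner]
    by_cases hi : z i = i <;> by_cases hj : z j = j <;> by_cases hd : z d = d <;> simp [hi, hj, hd]
  have hR : (C₀ * A * C₀ * (C₀ * B * C₀) : Matrix X X S) i j =
      ∑ d, if z i = i ∧ z j = j then (if z d = d then A i d * B d j else 0) else 0 := by
    rw [Matrix.mul_apply]
    exact Finset.sum_congr rfl fun d _ => h1 d
  rw [hR]
  by_cases hij : z i = i ∧ z j = j
  · obtain ⟨hi, hj⟩ := hij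
    rw [if_pos ⟨hi, hj⟩, Matrix.mul_apply]
    simp only [if_pos (And.intro hi hj)]
    rw [← Finset.sum_sub_distrib]
    have h2 : ∀ d, A i d * B d j - (if z d = d then A i d * B d j else 0) =
        if z d = d then 0 else A i d * B d j := by
      intro d
      split_ifs <;> simp
    rw [Finset.sum_congr rfl fun d _ => h2 d]
    -- the orbit argument
    have hQ : IsPGroup p (Subgroup.zpowers z) := by
      rintro ⟨q, hq⟩
      obtain ⟨k, rfl⟩ := Subgroup.mem_zpowers_iff.mp hq
      refine ⟨K, Subtype.ext ?_⟩
      simp only [SubmonoidClass.mk_pow, OneMemClass.coe_one]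
      rw [← zpow_natCast, ← zpow_mul, mul_comm, zpow_mul, zpow_natCast, hz, one_zpow]
    set F : X → S := fun d => if z d = d then 0 else A i d * B d j with hF
    have hFz : ∀ d, F (z d) = F d := by
      intro d
      simp only [hF]
      have e1 : z (z d) = z d ↔ z d = d := z.injective.eq_iff
      have e2 : A i (z d) = A i d := by
        have := apply_of_permMat_comm hA i d
        rwa [hi] at this
      have e3 : B (z d) j = B d j := by
        have := apply_of_permMat_comm hB d j
        rwa [hj] at this
      by_cases hd : z d = d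
      · rw [if_pos hd, if_pos (e1.mpr hd)]
      · rw [if_neg hd, if_neg (fun h => hd (e1.mp h)), e2, e3]
    let T : Subgroup (Equiv.Perm X) :=
      { carrier := {q | ∀ d, F (q d) = F d}
        mul_mem' := by
          intro a b ha hb d
          rw [Equiv.Perm.mul_apply, ha, hb]
        one_mem' := fun d => rfl
        inv_mem' := by
          intro a ha d
          have := ha (a⁻¹ d)
          rw [← Equiv.Perm.mul_apply, mul_inv_cancel, Equiv.Perm.one_apply] at this
          exact this.symm }
    have hT : Subgroup.zpowers z ≤ T := by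
      rw [Subgroup.zpowers_le]
      exact hFz
    apply pgroup_sum_mem_ideal (Q := Subgroup.zpowers z) _ hQ hpI F
    · intro q d
      exact hT q.2 d
    · intro d hd
      have h3 : z d = d := hd ⟨z, Subgroup.mem_zpowers z⟩
      simp only [hF]
      rw [if_pos h3]
      exact Ideal.zero_mem _
  · rw [if_neg hij]
    simp only [if_neg hij]
    rw [Finset.sum_const_zero, sub_zero]
    exact Ideal.zero_mem _

/-- Powers: cutting down to the fixed points commutes with powers modulo the maximal ideal. -/
theorem small_corner_pow_sub {p K : ℕ} [Fact p.Prime]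
    (hpI : (p : S) ∈ IsLocalRing.maximalIdeal S)
    (z : Equiv.Perm X) (hz : z ^ (p ^ K) = 1) {A : Matrix X X S}
    (hA : permMat z * A = A * permMat z) (n : ℕ) :
    Small (cornerMat (fun a => z a = a) * A ^ (n + 1) * cornerMat (fun a => z a = a) -
      (cornerMat (fun a => z a = a) * A * cornerMat (fun a => z a = a)) ^ (n + 1)) := by
  induction n with
  | zero =>
    rw [zero_add, pow_one, pow_one, sub_self]
    intro i j
    exact Ideal.zero_mem _
  | succ n ih =>
    set C₀ : Matrix X X S := cornerMat (fun a => z a = a) with hC₀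
    have hAn : permMat z * A ^ (n + 1) = A ^ (n + 1) * permMat z :=
      (Commute.pow_right (show Commute (permMat z) A from hA) (n + 1)).eq
    have h1 := brauer_step hpI z hz hAn hA
    have h2 := ih.mul_right (C₀ * A * C₀)
    have h3 := h1.add h2
    have e : C₀ * A ^ (n + 1 + 1) * C₀ - (C₀ * A * C₀) ^ (n + 1 + 1) =
        C₀ * (A ^ (n + 1) * A) * C₀ - C₀ * A ^ (n + 1) * C₀ * (C₀ * A * C₀) +
        (C₀ * A ^ (n + 1) * C₀ - (C₀ * A * C₀) ^ (n + 1)) * (C₀ * A * C₀) := by
      rw [pow_succ A (n + 1), pow_succ (C₀ * A * C₀) (n + 1)]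
      noncomm_ring
    rw [e]
    exact h3

theorem small_corner_pow {p K : ℕ} [Fact p.Prime]
    (hpI : (p : S) ∈ IsLocalRing.maximalIdeal S)
    (z : Equiv.Perm X) (hz : z ^ (p ^ K) = 1) {A : Matrix X X S}
    (hA : permMat z * A = A * permMat z) (n : ℕ) (hsmall : Small (A ^ (n + 1))) :
    Small ((cornerMat (fun a => z a = a) * A * cornerMat (fun a => z a = a)) ^ (n + 1)) := by
  have h1 := small_corner_pow_sub hpI z hz hA n
  have h2 : Small (cornerMat (fun a => z a = a) * A ^ (n + 1) * cornerMat (fun a => z a = a)) :=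
    (hsmall.mul_left _).mul_right _
  have h3 := h2.sub h1
  rwa [sub_sub_cancel] at h3

end BrauerStep

end Cfsg.Agent.Lib.Helper77.IdemTrace
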