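import Cfsg.Agent.Lib.Helper77.Radical
import Cfsg.Agent.Lib.Helper77.Nilpotent2

set_option autoImplicit false

universe u

namespace Cfsg.Agent.Lib.Helper77

open Cfsg
open Cfsg.Agent.Lib.Helper81
open Cfsg.Agent.Lib.Helper80

variable {G : Type u} [Group G] [Fintype G]

/-- Two `S`-valued class functions, idempotent modulo the local ideal, whose central character
values agree modulo the local ideal, agree pointwise modulo the local ideal. -/
theorem memLocalIdeal_sub_of_idempotent_of_omega {p : ℕ} {M : Ideal AlgInt}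
    (hpM : IsPModular p M) {a f : G → ℂ} (ha : ZS M a) (hf : ZS M f)
    (hida : ∀ g, MemLocalIdeal M (conv a a g - a g))
    (hidf : ∀ g, MemLocalIdeal M (conv f f g - f g))
    (hω : ∀ χ : IrrCharacter G,
      MemLocalIdeal M (omega (χ : G → ℂ) a - omega (χ : G → ℂ) f)) :
    ∀ g, MemLocalIdeal M (a g - f g) := by
  classical
  have hM : M.IsPrime := isPrime_of_isPModular hpM
  have := Fintype.ofFinite (IrrCharacter G)
  let R := fourierSubring (G := G) M hM
  let J := fourierIdeal (G := G) M hM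
  let φa : R := ⟨fun χ => omega (χ : G → ℂ) a, a, ha.1, ha.2, fun _ => rfl⟩
  let φf : R := ⟨fun χ => omega (χ : G → ℂ) f, f, hf.1, hf.2, fun _ => rfl⟩
  have hsub : ∀ ξ : IrrCharacter G,
      MemLocalRing M (omega (ξ : G → ℂ) a - omega (ξ : G → ℂ) f) := fun ξ =>
    memLocalRing_sub hM (ha.omega hM ξ) (hf.omega hM ξ)
  let s : IrrCharacter G → R := fun ξ =>
    ⟨fun _ => omega (ξ : G → ℂ) a - omega (ξ : G → ℂ) f,
      (fun g => (omega (ξ : G → ℂ) a - omega (ξ : G → ℂ) f) * deltaOne g),
      (ZS.smul hM (hsub ξ) (ZS.deltaOne hM)).1,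
      (ZS.smul hM (hsub ξ) (ZS.deltaOne hM)).2, fun χ => by
        rw [omega_smul, omega_deltaOne _ (irr_one_ne_zero χ.2), mul_one]⟩
  have hsJ : ∀ ξ, s ξ ∈ J := by
    intro ξ
    refine ⟨(fun g => (omega (ξ : G → ℂ) a - omega (ξ : G → ℂ) f) * deltaOne g),
      (ZS.smul hM (hsub ξ) (ZS.deltaOne hM)).1, ?_, fun χ => ?_⟩
    · intro g
      exact memLocalIdeal_mul_right hM (hω ξ) ((ZS.deltaOne hM).2 g)
    · rw [omega_smul, omega_deltaOne _ (irr_one_ne_zero χ.2), mul_one]
  have hidJa : φa * φa - φa ∈ J := by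
    refine ⟨conv a a - a, (ZS.sub hM (ZS.conv hM ha ha) ha).1, hida, fun χ => ?_⟩
    rw [omega_sub, omega_conv χ.2 ha.1 ha.1]
    rfl
  have hidJf : φf * φf - φf ∈ J := by
    refine ⟨conv f f - f, (ZS.sub hM (ZS.conv hM hf hf) hf).1, hidf, fun χ => ?_⟩
    rw [omega_sub, omega_conv χ.2 hf.1 hf.1]
    rfl
  have hprod : ∏ ξ : IrrCharacter G, (φa - φf - s ξ) = 0 := by
    apply Subtype.ext
    funext χ
    rw [SubmonoidClass.coe_finsetProd, Finset.prod_apply]
    refine Finset.prod_eq_zero (Finset.mem_univ χ) ?_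
    show omega (χ : G → ℂ) a - omega (χ : G → ℂ) f -
      (omega (χ : G → ℂ) a - omega (χ : G → ℂ) f) = 0
    exact sub_self _
  have hq : (Ideal.Quotient.mk J (φa - φf)) ^ (Fintype.card (IrrCharacter G)) = 0 := by
    have h1 := congrArg (Ideal.Quotient.mk J) hprod
    rw [map_prod, map_zero] at h1
    have h2 : ∀ ξ ∈ (Finset.univ : Finset (IrrCharacter G)),
        Ideal.Quotient.mk J (φa - φf - s ξ) = Ideal.Quotient.mk J (φa - φf) := by
      intro ξ _
      rw [map_sub _ (φa - φf) (s ξ), Ideal.Quotient.eq_zero_iff_mem.mpr (hsJ ξ), sub_zero]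
    rw [Finset.prod_congr rfl h2, Finset.prod_const, Finset.card_univ] at h1
    exact h1
  have hea : Ideal.Quotient.mk J φa * Ideal.Quotient.mk J φa = Ideal.Quotient.mk J φa := by
    have := Ideal.Quotient.eq_zero_iff_mem.mpr hidJa
    rw [map_sub, map_mul, sub_eq_zero] at this
    exact this
  have hef : Ideal.Quotient.mk J φf * Ideal.Quotient.mk J φf = Ideal.Quotient.mk J φf := by
    have := Ideal.Quotient.eq_zero_iff_mem.mpr hidJf
    rw [map_sub, map_mul, sub_eq_zero] at this
    exact this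
  set x := Ideal.Quotient.mk J (φa - φf) with hx
  have hx' : x = Ideal.Quotient.mk J φa - Ideal.Quotient.mk J φf := map_sub _ _ _
  have hcube : x * x * x = x := by
    rw [hx']
    linear_combination (Ideal.Quotient.mk J φa + 1 - 3 * Ideal.Quotient.mk J φf) * hea +
      (3 * Ideal.Quotient.mk J φa - Ideal.Quotient.mk J φf - 1) * hef
  have hpow : ∀ n : ℕ, x ^ (2 * n + 1) = x := by
    intro n
    induction n with
    | zero => rw [mul_zero, zero_add, pow_one]
    | succ n ih =>
      have : 2 * (n + 1) + 1 = (2 * n + 1) + 1 + 1 := by ring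
      rw [this, pow_succ, pow_succ, ih, hcube]
  have hx0 : x = 0 := by
    rw [← hpow (Fintype.card (IrrCharacter G))]
    have : 2 * Fintype.card (IrrCharacter G) + 1 =
        Fintype.card (IrrCharacter G) + (Fintype.card (IrrCharacter G) + 1) := by ring
    rw [this, pow_add, hq, zero_mul]
  have hdJ : φa - φf ∈ J := Ideal.Quotient.eq_zero_iff_mem.mp hx0
  obtain ⟨a', ha', haS', hφa'⟩ := hdJ
  have : a - f = a' := by
    apply eq_of_omega_eq (ZS.sub hM ha hf).1 ha'
    intro χ
    rw [omega_sub, ← hφa' χ]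
    rfl
  intro g
  have h2 := haS' g
  rw [← this] at h2
  exact h2

end Cfsg.Agent.Lib.Helper77
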