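/-
S3 hive (S4305, owner helper66), second hand on leaf K2 `exists_config`: the BACK HALF as a standalone lemma.
Given a proper abelian normal `A3`-invariant subgroup `F` of the finite solvable group `H`, maximal among
the proper normal `A3`-invariant subgroups, of order prime to `p`, and `H` non-abelian: there is a prime `r`
with `H' ≤ F`, `h ^ r ∈ F` for all `h`, no `A3`-invariant subgroup strictly between `F` and `H`, and either
`F` is self-centralizing or `F` is central and `r ≠ p`.
-/
import Cfsg.Agent.Lib.Helper66.S3Defs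

set_option autoImplicit false

namespace Cfsg.Agent.Lib.Helper66.S3

universe u

/-- class-two power identity: if `c = x y x⁻¹ y⁻¹` commutes with `x` then `x ^ n y x ^ (-n) y⁻¹ = c ^ n`. -/
theorem k2b_comm_pow {H : Type*} [Group H] (x y c : H) (hcdef : c = x * y * x⁻¹ * y⁻¹)
    (hc : x * c = c * x) (n : ℕ) :
    x ^ n * y * (x ^ n)⁻¹ * y⁻¹ = c ^ n := by
  induction n with
  | zero => simp
  | succ n ih =>
    have hcn : x ^ n * c = c * x ^ n := by
      have : Commute x c := hc
      exact (this.pow_left n).eq
    have h1 : x ^ (n + 1) * y * (x ^ (n + 1))⁻¹ * y⁻¹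
        = x ^ n * c * (x ^ n)⁻¹ * (x ^ n * y * (x ^ n)⁻¹ * y⁻¹) := by
      rw [hcdef, pow_succ]; group
    rw [h1, hcn, ih, mul_assoc c, mul_inv_cancel, mul_one, pow_succ']

/-- the conjugate of an element of a subgroup containing the derived subgroup stays inside. -/
theorem k2b_normal_of_le {H : Type*} [Group H] (F M : Subgroup H) (hcomm : commutator H ≤ F)
    (hFM : F ≤ M) : M.Normal := by
  refine ⟨fun m hm g => ?_⟩
  have h1 : g * m * g⁻¹ * m⁻¹ ∈ M := by
    apply hFM; apply hcomm
    rw [commutator_def]
    have := Subgroup.commutator_mem_commutator (Subgroup.mem_top g) (Subgroup.mem_top m)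
    rwa [commutatorElement_def] at this
  have : g * m * g⁻¹ = (g * m * g⁻¹ * m⁻¹) * m := by group
  rw [this]
  exact M.mul_mem h1 hm

theorem k2_partB {H : Type u} [Group H] [Finite H] [MulDistribMulAction A3 H]
    (hsolv : Group.IsSolvable H) (hnab : ∃ x y : H, x * y ≠ y * x) (p : ℕ) (F : Subgroup H)
    (Fnormal : F.Normal) (FA : ∀ a : A3, ∀ f ∈ F, a • f ∈ F)
    (Fcomm : ∀ x ∈ F, ∀ y ∈ F, x * y = y * x) (Fne : F ≠ ⊤) (Fcop : (Nat.card F).Coprime p)
    (Fmax : ∀ M : Subgroup H, M.Normal → (∀ a : A3, ∀ m ∈ M, a • m ∈ M) → F ≤ M →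
      M = F ∨ M = ⊤) :
    ∃ r : ℕ, r.Prime ∧ commutator H ≤ F ∧ (∀ h : H, h ^ r ∈ F) ∧
      (∀ M : Subgroup H, F ≤ M → (∀ a : A3, ∀ m ∈ M, a • m ∈ M) → M = F ∨ M = ⊤) ∧
      ((∀ h : H, (∀ f ∈ F, h * f = f * h) → h ∈ F) ∨
        ((∀ h : H, ∀ f ∈ F, h * f = f * h) ∧ r ≠ p)) := by
  classical
  have := Fnormal
  -- the commutator subgroup is A3-invariant
  have hcA : ∀ a : A3, ∀ c ∈ commutator H, a • c ∈ commutator H := by
    intro a c hc
    have hchar : (commutator H).Characteristic := inferInstance
    have := Subgroup.characteristic_iff_le_comap.mp hchar (MulDistribMulAction.toMulAut A3 H a) hc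
    exact this
  -- (1) commutator H ≤ F
  have hcomm : commutator H ≤ F := by
    have hMn : (F ⊔ commutator H).Normal := inferInstance
    have hMA : ∀ a : A3, ∀ m ∈ F ⊔ commutator H, a • m ∈ F ⊔ commutator H := by
      intro a m hm
      have hle : F ⊔ commutator H ≤ (F ⊔ commutator H).comap
          (MulDistribMulAction.toMonoidEnd A3 H a) := by
        rw [sup_le_iff]
        constructor
        · intro f hf
          exact Subgroup.mem_sup_left (FA a f hf)
        · intro c hc
          exact Subgroup.mem_sup_right (hcA a c hc)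
      exact hle hm
    rcases Fmax _ hMn hMA le_sup_left with h | h
    · rw [← h]; exact le_sup_right
    · exfalso
      have hnt : Nontrivial (H ⧸ F) := by
        rw [← not_subsingleton_iff_nontrivial]
        intro hs
        exact Fne (QuotientGroup.subgroup_eq_top_of_subsingleton F hs)
      have hsq : Group.IsSolvable (H ⧸ F) := inferInstance
      have hlt := Group.IsSolvable.commutator_lt_top_of_nontrivial (H ⧸ F)
      apply hlt.ne
      have h1 : (commutator H).map (QuotientGroup.mk' F) = commutator (H ⧸ F) := by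
        rw [commutator_def, Subgroup.map_commutator,
          Subgroup.map_top_of_surjective _ (QuotientGroup.mk'_surjective F), commutator_def]
      rw [← h1]
      have h2 : (F ⊔ commutator H).map (QuotientGroup.mk' F) = ⊤ := by
        rw [h]; exact Subgroup.map_top_of_surjective _ (QuotientGroup.mk'_surjective F)
      rw [Subgroup.map_sup, QuotientGroup.map_mk'_self, bot_sup_eq] at h2
      exact h2
  -- (3) quot_irr
  have hirr : ∀ M : Subgroup H, F ≤ M → (∀ a : A3, ∀ m ∈ M, a • m ∈ M) → M = F ∨ M = ⊤ :=
    fun M hFM hMA => Fmax M (k2b_normal_of_le F M hcomm hFM) hMA hFM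
  -- (2) the prime r
  have hidx : F.index ≠ 1 := fun h => Fne (Subgroup.index_eq_one.mp h)
  obtain ⟨r, hr, hrdvd⟩ := Nat.exists_prime_and_dvd hidx
  have hexp : ∀ h : H, h ^ r ∈ F := by
    -- M_r = {h | h ^ r ∈ F} is an A3-invariant subgroup containing F, and is not F
    have hmul : ∀ x y : H, (x * y) ^ r * ((x ^ r * y ^ r))⁻¹ ∈ F := by
      intro x y
      have hq : IsMulCommutative (H ⧸ F) :=
        Subgroup.Normal.quotient_commutative_iff_commutator_le.mpr hcomm
      rw [← QuotientGroup.eq_one_iff]
      have hc : ∀ a b : H ⧸ F, a * b = b * a := fun a b => hq.is_comm.comm a b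
      have : ((QuotientGroup.mk x : H ⧸ F) * QuotientGroup.mk y) ^ r
          = (QuotientGroup.mk x) ^ r * (QuotientGroup.mk y) ^ r :=
        (Commute.mul_pow (hc _ _) r)
      simp only [QuotientGroup.mk_mul, QuotientGroup.mk_pow, QuotientGroup.mk_inv]
      rw [this]
      group
    let Mr : Subgroup H :=
      { carrier := {h | h ^ r ∈ F}
        one_mem' := by simp
        mul_mem' := by
          intro x y hx hy
          have h1 := hmul x y
          have : (x * y) ^ r = ((x * y) ^ r * ((x ^ r * y ^ r))⁻¹) * (x ^ r * y ^ r) := by group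
          show (x * y) ^ r ∈ F
          rw [this]
          exact F.mul_mem h1 (F.mul_mem hx hy)
        inv_mem' := by
          intro x hx
          show (x⁻¹) ^ r ∈ F
          rw [inv_pow]
          exact F.inv_mem hx }
    have hFMr : F ≤ Mr := fun f hf => F.pow_mem hf r
    have hMrA : ∀ a : A3, ∀ m ∈ Mr, a • m ∈ Mr := by
      intro a m hm
      show (a • m) ^ r ∈ F
      rw [← smul_pow']
      exact FA a _ hm
    rcases hirr Mr hFMr hMrA with h | h
    · exfalso
      have hfr : Fact r.Prime := ⟨hr⟩
      have hcard : r ∣ Nat.card (H ⧸ F) := by rwa [← Subgroup.index_eq_card]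
      obtain ⟨q, hq⟩ := exists_prime_orderOf_dvd_card' r hcard
      obtain ⟨x, rfl⟩ := QuotientGroup.mk_surjective q
      have hxM : x ∈ Mr := by
        show x ^ r ∈ F
        rw [← QuotientGroup.eq_one_iff, QuotientGroup.mk_pow, ← hq, pow_orderOf_eq_one]
      rw [h] at hxM
      have : (QuotientGroup.mk x : H ⧸ F) = 1 := (QuotientGroup.eq_one_iff x).mpr hxM
      rw [this, orderOf_one] at hq
      exact hr.one_lt.ne hq
    · intro x
      have : x ∈ Mr := by rw [h]; exact Subgroup.mem_top x
      exact this
  refine ⟨r, hr, hcomm, hexp, hirr, ?_⟩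
  -- (4) the dichotomy
  have hZn : (Subgroup.centralizer (F : Set H)).Normal := inferInstance
  have hZA : ∀ a : A3, ∀ m ∈ Subgroup.centralizer (F : Set H), a • m ∈ Subgroup.centralizer (F : Set H) := by
    intro a m hm
    rw [Subgroup.mem_centralizer_iff] at hm ⊢
    intro f hf
    have hf' : a⁻¹ • f ∈ F := FA a⁻¹ f hf
    have h1 := hm (a⁻¹ • f) hf'
    have h2 := congrArg (fun z => a • z) h1
    simp only [smul_mul', smul_inv_smul] at h2
    exact h2
  have hFZ : F ≤ Subgroup.centralizer (F : Set H) := by
    intro f hf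
    rw [Subgroup.mem_centralizer_iff]
    intro g hg
    exact Fcomm g hg f hf
  rcases Fmax _ hZn hZA hFZ with h | h
  · left
    intro x hx
    rw [← h, Subgroup.mem_centralizer_iff]
    intro f hf
    exact (hx f hf).symm
  · right
    have hcent : ∀ h : H, ∀ f ∈ F, h * f = f * h := by
      intro x f hf
      have : x ∈ Subgroup.centralizer (F : Set H) := by rw [h]; exact Subgroup.mem_top x
      rw [Subgroup.mem_centralizer_iff] at this
      exact (this f hf).symm
    refine ⟨hcent, ?_⟩
    intro hrp
    obtain ⟨x, y, hxy⟩ := hnab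
    apply hxy
    set c := x * y * x⁻¹ * y⁻¹ with hcdef
    have hcF : c ∈ F := by
      apply hcomm
      rw [commutator_def]
      have := Subgroup.commutator_mem_commutator (Subgroup.mem_top x) (Subgroup.mem_top y)
      rwa [commutatorElement_def] at this
    have hpow := k2b_comm_pow x y c hcdef (hcent x c hcF) r
    have hxr : x ^ r * y = y * x ^ r := hcent y (x ^ r) (hexp x) |>.symm
    have hcr : c ^ r = 1 := by
      rw [← hpow, hxr, mul_assoc y, mul_inv_cancel, mul_one, mul_inv_cancel]
    have hord : orderOf c ∣ r := orderOf_dvd_of_pow_eq_one hcr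
    have hord2 : orderOf c ∣ Nat.card F := Subgroup.orderOf_dvd_natCard F hcF
    have h1 : orderOf c = 1 := by
      have := Nat.Coprime.eq_one_of_dvd (Nat.Coprime.coprime_dvd_left hord2 (hrp ▸ Fcop)) hord
      exact this
    have hc1 : c = 1 := orderOf_eq_one_iff.mp h1
    have : x * y = c * (y * x) := by rw [hcdef]; group
    rw [this, hc1, one_mul]

end Cfsg.Agent.Lib.Helper66.S3
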