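/-
S3 hive (S4305, owner helper66): a complete second-hand proof of leaf K2 `exists_config`, under the fresh name
`exists_config_h77` (same statement), assembled from helper33's `k2_exp`, `k2_cop` and my `k2_partB`.
-/
import Cfsg.Agent.Lib.Helper66.S3Defs
import Cfsg.Agent.Lib.Helper33.S3K2
import Cfsg.Agent.Lib.Helper77.S3K2B

set_option autoImplicit false

namespace Cfsg.Agent.Lib.Helper66.S3

universe u

variable {H V : Type u} [Group H] [CommGroup V] [MulDistribMulAction A3 H]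
  [MulDistribMulAction A3 V] [MulDistribMulAction H V]

theorem exists_config_h77 (hyp : KPHyp H V) (hf : Faithful H V) (hnab : ∃ x y : H, x * y ≠ y * x)
    (hprop : ∀ N : Subgroup H, N.Normal → (∀ a : A3, ∀ n ∈ N, a • n ∈ N) → N ≠ ⊤ →
      ∀ x ∈ N, ∀ y ∈ N, x * y = y * x) :
    ∃ (p r : ℕ) (F : Subgroup H), Config H V p r F ∧
      ((∀ h : H, (∀ f ∈ F, h * f = f * h) → h ∈ F) ∨
        ((∀ h : H, ∀ f ∈ F, h * f = f * h) ∧ r ≠ p)) := by
  classical
  have hfinH := hyp.finH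
  have hfinV := hyp.finV
  -- V is nontrivial
  have hV : ∃ v : V, v ≠ 1 := by
    by_contra hcon
    push Not at hcon
    obtain ⟨x, y, hxy⟩ := hnab
    apply hxy
    have h1 : ∀ h : H, h = 1 := fun h => hf h (fun v => by rw [hcon (h • v), hcon v])
    rw [h1 x, h1 y]
  obtain ⟨v0, hv0⟩ := hV
  have hcardV : Nat.card V ≠ 1 := by
    intro h1
    have : Subsingleton V := (Nat.card_eq_one_iff_unique.mp h1).1
    exact hv0 (Subsingleton.elim _ _)
  obtain ⟨p, hp, hpV⟩ := Nat.exists_prime_and_dvd hcardV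
  have Vexp := k2_exp hyp p hp hpV
  -- a maximal proper normal A3-invariant subgroup
  let S : Set (Subgroup H) := {N | N.Normal ∧ (∀ a : A3, ∀ n ∈ N, a • n ∈ N) ∧ N ≠ ⊤}
  have hSfin : S.Finite := Set.toFinite S
  have hSne : S.Nonempty := by
    refine ⟨⊥, inferInstance, ?_, ?_⟩
    · intro a n hn
      rw [Subgroup.mem_bot] at hn ⊢
      rw [hn, smul_one]
    · intro hbt
      obtain ⟨x, y, hxy⟩ := hnab
      apply hxy
      have h1 : ∀ h : H, h = 1 := fun h => by
        have : h ∈ (⊥ : Subgroup H) := by rw [hbt]; exact Subgroup.mem_top h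
        exact Subgroup.mem_bot.mp this
      rw [h1 x, h1 y]
  obtain ⟨F, hFmax⟩ := hSfin.exists_maximal hSne
  obtain ⟨⟨Fnormal, FA, Fne⟩, hFm⟩ := hFmax
  have Fmax : ∀ M : Subgroup H, M.Normal → (∀ a : A3, ∀ m ∈ M, a • m ∈ M) → F ≤ M →
      M = F ∨ M = ⊤ := by
    intro M hMn hMA hFM
    by_cases hMt : M = ⊤
    · exact Or.inr hMt
    · left
      exact le_antisymm (hFm ⟨hMn, hMA, hMt⟩ hFM) hFM
  have Fcomm := hprop F Fnormal FA Fne
  have Fcop := k2_cop hyp hf p hp Vexp ⟨v0, hv0⟩ F Fnormal FA Fcomm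
  obtain ⟨r, hr, hcomm, hexp, hirr, hdich⟩ :=
    k2_partB hyp.solv hnab p F Fnormal FA Fcomm Fne Fcop Fmax
  exact ⟨p, r, F,
    { hyp := hyp, faithful := hf, pprime := hp, rprime := hr, Vexp := Vexp, Fnormal := Fnormal,
      FA := FA, Fcomm := Fcomm, Fcop := Fcop, Fne := Fne, quot_comm := hcomm, quot_exp := hexp,
      quot_irr := hirr, nonab := hnab }, hdich⟩

end Cfsg.Agent.Lib.Helper66.S3
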