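import Cfsg.Agent.Lib.Helper77.BlockPartCoeff
import Cfsg.Agent.Lib.Helper77.PPow
import Cfsg.Agent.Lib.Helper3.Ortho

/-!
# Norm sums over a `p`-section: the isometry behind the generalized decomposition numbers
-/

set_option autoImplicit false

universe u

namespace Cfsg.Agent.Lib.Helper77

open Cfsg Cfsg.Agent.Lib.Helper16
open scoped ComplexConjugate

variable {G : Type u} [Group G] [Fintype G]

/-- For `p`-regular `c, c'` in the centralizer of a `p`-element `z`, the elements `z c` and `z c'`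
are conjugate in `G` if and only if `c` and `c'` are conjugate in the centralizer. -/
theorem isConj_mul_iff_of_pRegular {p : ℕ} (hp : p.Prime) {z : G}
    (hz : ∃ k : ℕ, orderOf z = p ^ k) (c c' : Subgroup.centralizer ({z} : Set G))
    (hc : ¬ p ∣ orderOf c) (hc' : ¬ p ∣ orderOf c') :
    IsConj (z * (c : G)) (z * (c' : G)) ↔ IsConj c c' := by
  have hcomm : ∀ t : Subgroup.centralizer ({z} : Set G), (t : G) * z = z * (t : G) := fun t =>
    Subgroup.mem_centralizer_singleton_iff.mp t.2
  obtain ⟨K, r, N, hcard, hpr, hrN, hN1⟩ := exists_ppart_exponent G p hp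
  have hpp : ∀ d : Subgroup.centralizer ({z} : Set G), ¬ p ∣ orderOf d →
      (z * (d : G)) ^ N = z := by
    intro d hd
    apply pow_eq_of_isPPart hp hcard hpr hrN hN1
    refine ⟨(d : G), rfl, (hcomm d).symm, hz, ?_⟩
    rw [Subgroup.orderOf_coe]
    exact hd
  constructor
  · intro h
    obtain ⟨t, ht⟩ := isConj_iff.mp h
    have h1 : t * z * t⁻¹ = z := by
      have := congrArg (fun g => g ^ N) ht
      simp only [conj_pow] at this
      rwa [hpp c hc, hpp c' hc'] at this
    have htC : t ∈ Subgroup.centralizer ({z} : Set G) := by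
      rw [Subgroup.mem_centralizer_singleton_iff]
      have : t * z = t * z * t⁻¹ * t := by group
      rw [this, h1]
    have h2 : t * (c : G) * t⁻¹ = (c' : G) := by
      have e : t * (z * (c : G)) * t⁻¹ = (t * z * t⁻¹) * (t * (c : G) * t⁻¹) := by group
      rw [e, h1] at ht
      exact mul_left_cancel ht
    exact isConj_iff.mpr ⟨⟨t, htC⟩, Subtype.ext h2⟩
  · intro h
    obtain ⟨t, ht⟩ := isConj_iff.mp h
    refine isConj_iff.mpr ⟨(t : G), ?_⟩
    have h2 : (t : G) * (c : G) * (t : G)⁻¹ = (c' : G) := by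
      have := congrArg Subtype.val ht
      simpa using this
    rw [← h2, ← mul_assoc, hcomm t]
    group

theorem card_centralizer_mul_of_pRegular {p : ℕ} (hp : p.Prime) {z : G}
    (hz : ∃ k : ℕ, orderOf z = p ^ k) (c : Subgroup.centralizer ({z} : Set G))
    (hc : ¬ p ∣ orderOf c) :
    Nat.card (Subgroup.centralizer ({z * (c : G)} : Set G)) =
      Nat.card (Subgroup.centralizer ({c} : Set (Subgroup.centralizer ({z} : Set G)))) := by
  have hcomm : ∀ t : Subgroup.centralizer ({z} : Set G), (t : G) * z = z * (t : G) := fun t =>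
    Subgroup.mem_centralizer_singleton_iff.mp t.2
  obtain ⟨K, r, N, hcard, hpr, hrN, hN1⟩ := exists_ppart_exponent G p hp
  have hpp : (z * (c : G)) ^ N = z := by
    apply pow_eq_of_isPPart hp hcard hpr hrN hN1
    refine ⟨(c : G), rfl, (hcomm c).symm, hz, ?_⟩
    rw [Subgroup.orderOf_coe]
    exact hc
  rw [← Subgroup.card_subtype]
  congr 2
  ext t
  simp only [Subgroup.mem_map, Subgroup.mem_centralizer_singleton_iff, Subgroup.subtype_apply]
  constructor
  · intro ht
    have h1 : t * z = z * t := by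
      have h2 : t * (z * (c : G)) ^ N = (z * (c : G)) ^ N * t := by
        have hcm : Commute t (z * (c : G)) := ht
        exact (hcm.pow_right N).eq
      rwa [hpp] at h2
    refine ⟨⟨t, Subgroup.mem_centralizer_singleton_iff.mpr h1⟩, ?_, rfl⟩
    apply Subtype.ext
    show t * (c : G) = (c : G) * t
    have h3 : z * (t * (c : G)) = z * ((c : G) * t) := by
      rw [← mul_assoc, ← h1, mul_assoc, ht, mul_assoc]
    exact mul_left_cancel h3
  · rintro ⟨s, hs, rfl⟩
    have h2 : (s : G) * (c : G) = (c : G) * (s : G) := by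
      have := congrArg Subtype.val hs
      simpa using this
    rw [← mul_assoc, hcomm s, mul_assoc, h2, mul_assoc]

open Classical in
/-- The isometry on a `p`-section: the squared norms of the `b`-parts of the functions
`c ↦ ζ (z c)`, summed over all irreducible characters `ζ` of `G`, give the squared norms of the
members of `b` at a `p`-regular element. -/
theorem sum_blockPart_mul_conj [Fintype (IrrCharacter G)] {p : ℕ} [Fact p.Prime]
    {M : Ideal AlgInt} (hpM : IsPModular p M) {z : G} (hz : ∃ k : ℕ, orderOf z = p ^ k)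
    [Fintype (Subgroup.centralizer ({z} : Set G))]
    [Fintype (IrrCharacter (Subgroup.centralizer ({z} : Set G)))]
    (ξ₀ : IrrCharacter (Subgroup.centralizer ({z} : Set G)))
    (y : Subgroup.centralizer ({z} : Set G)) (hy : ¬ p ∣ orderOf y) :
    ∑ ζ : IrrCharacter G,
      blockPart (blockOf M (ξ₀ : Subgroup.centralizer ({z} : Set G) → ℂ))
        (fun c : Subgroup.centralizer ({z} : Set G) => (ζ : G → ℂ) (z * (c : G))) y *
      conj (blockPart (blockOf M (ξ₀ : Subgroup.centralizer ({z} : Set G) → ℂ))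
        (fun c : Subgroup.centralizer ({z} : Set G) => (ζ : G → ℂ) (z * (c : G))) y) =
    ∑ χ ∈ Finset.univ.filter (fun χ : IrrCharacter (Subgroup.centralizer ({z} : Set G)) =>
        χ ∈ blockOf M (ξ₀ : Subgroup.centralizer ({z} : Set G) → ℂ)),
      (χ : Subgroup.centralizer ({z} : Set G) → ℂ) y *
        conj ((χ : Subgroup.centralizer ({z} : Set G) → ℂ) y) := by
  have hp : p.Prime := Fact.out
  set b := blockOf M (ξ₀ : (Subgroup.centralizer ({z} : Set G)) → ℂ) with hb
  set bF := Finset.univ.filter (fun χ : IrrCharacter (Subgroup.centralizer ({z} : Set G)) => χ ∈ b) with hbF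
  have hnC : (Nat.card (Subgroup.centralizer ({z} : Set G)) : ℂ) ≠ 0 := Nat.cast_ne_zero.mpr Nat.card_pos.ne'
  set θ : (Subgroup.centralizer ({z} : Set G)) → ℂ := fun c => ∑ χ ∈ bF, (χ : (Subgroup.centralizer ({z} : Set G)) → ℂ) c * conj ((χ : (Subgroup.centralizer ({z} : Set G)) → ℂ) y) with hθ
  have hconjθ : ∀ c, conj (θ c) = ∑ χ ∈ bF, conj ((χ : (Subgroup.centralizer ({z} : Set G)) → ℂ) c) * (χ : (Subgroup.centralizer ({z} : Set G)) → ℂ) y := by
    intro c
    rw [hθ]
    simp only [map_sum, map_mul, Complex.conj_conj]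
  -- (i)
  have hv : ∀ ζ : IrrCharacter G,
      blockPart b (fun c : (Subgroup.centralizer ({z} : Set G)) => (ζ : G → ℂ) (z * (c : G))) y =
        (Nat.card (Subgroup.centralizer ({z} : Set G)) : ℂ)⁻¹ * ∑ c : (Subgroup.centralizer ({z} : Set G)), (ζ : G → ℂ) (z * (c : G)) * conj (θ c) := by
    intro ζ
    rw [blockPart_eq_sum]
    unfold classInner
    simp_rw [hconjθ, Finset.mul_sum, Finset.sum_mul]
    rw [Finset.sum_comm]
    refine Finset.sum_congr rfl fun c _ => ?_
    refine Finset.sum_congr rfl fun χ _ => ?_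
    ring
  -- (ii)
  have hθ0 : ∀ c : (Subgroup.centralizer ({z} : Set G)), p ∣ orderOf c → θ c = 0 := by
    intro c hc
    have h1 := weak_block_orthogonality_finset hpM ξ₀ hy hc
    have h2 := congrArg (starRingEnd ℂ) h1
    rw [map_sum, map_zero] at h2
    rw [hθ]
    show ∑ χ ∈ bF, (χ : (Subgroup.centralizer ({z} : Set G)) → ℂ) c * conj ((χ : (Subgroup.centralizer ({z} : Set G)) → ℂ) y) = 0
    rw [← h2]
    refine Finset.sum_congr rfl fun χ _ => ?_
    rw [map_mul, Complex.conj_conj, mul_comm]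
  -- (iii)
  have hθχ : ∀ χ : IrrCharacter (Subgroup.centralizer ({z} : Set G)), ∑ c : (Subgroup.centralizer ({z} : Set G)), θ c * conj ((χ : (Subgroup.centralizer ({z} : Set G)) → ℂ) c) =
      (Nat.card (Subgroup.centralizer ({z} : Set G)) : ℂ) * (if χ ∈ b then conj ((χ : (Subgroup.centralizer ({z} : Set G)) → ℂ) y) else 0) := by
    intro χ
    have h1 : ∀ χ' : IrrCharacter (Subgroup.centralizer ({z} : Set G)), ∑ c : (Subgroup.centralizer ({z} : Set G)), (χ' : (Subgroup.centralizer ({z} : Set G)) → ℂ) c * conj ((χ : (Subgroup.centralizer ({z} : Set G)) → ℂ) c) =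
        (Nat.card (Subgroup.centralizer ({z} : Set G)) : ℂ) * (if χ' = χ then 1 else 0) := by
      intro χ'
      have h2 := Cfsg.Agent.Lib.Helper3.classInner_irr χ'.2 χ.2
      unfold classInner at h2
      have h3 : ((χ' : (Subgroup.centralizer ({z} : Set G)) → ℂ) = (χ : (Subgroup.centralizer ({z} : Set G)) → ℂ)) ↔ χ' = χ := Subtype.ext_iff.symm
      simp only [h3] at h2
      rw [← h2, ← mul_assoc, mul_inv_cancel₀ hnC, one_mul]
    simp_rw [hθ, Finset.sum_mul]
    rw [Finset.sum_comm]
    have h4 : ∀ χ' ∈ bF, ∑ c : (Subgroup.centralizer ({z} : Set G)), (χ' : (Subgroup.centralizer ({z} : Set G)) → ℂ) c * conj ((χ' : (Subgroup.centralizer ({z} : Set G)) → ℂ) y) *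
        conj ((χ : (Subgroup.centralizer ({z} : Set G)) → ℂ) c) =
        (Nat.card (Subgroup.centralizer ({z} : Set G)) : ℂ) * (if χ' = χ then conj ((χ' : (Subgroup.centralizer ({z} : Set G)) → ℂ) y) else 0) := by
      intro χ' _
      have h5 : ∀ c : (Subgroup.centralizer ({z} : Set G)), (χ' : (Subgroup.centralizer ({z} : Set G)) → ℂ) c * conj ((χ' : (Subgroup.centralizer ({z} : Set G)) → ℂ) y) * conj ((χ : (Subgroup.centralizer ({z} : Set G)) → ℂ) c) =
          conj ((χ' : (Subgroup.centralizer ({z} : Set G)) → ℂ) y) * ((χ' : (Subgroup.centralizer ({z} : Set G)) → ℂ) c * conj ((χ : (Subgroup.centralizer ({z} : Set G)) → ℂ) c)) := fun c => by ring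
      rw [Finset.sum_congr rfl fun c _ => h5 c, ← Finset.mul_sum, h1]
      split_ifs <;> ring
    rw [Finset.sum_congr rfl h4, ← Finset.mul_sum]
    congr 1
    by_cases hχ : χ ∈ b
    · rw [if_pos hχ, Finset.sum_eq_single χ]
      · rw [if_pos rfl]
      · intro χ' _ hne
        rw [if_neg hne]
      · intro hnot
        exact absurd (Finset.mem_filter.mpr ⟨Finset.mem_univ _, hχ⟩) hnot
    · rw [if_neg hχ]
      refine Finset.sum_eq_zero fun χ' hχ' => ?_
      rw [if_neg]
      rintro rfl
      exact hχ (Finset.mem_filter.mp hχ').2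
  -- (iv)
  have hK : ∀ c c' : (Subgroup.centralizer ({z} : Set G)), conj (θ c) * θ c' *
      ∑ ζ : IrrCharacter G, (ζ : G → ℂ) (z * (c : G)) * conj ((ζ : G → ℂ) (z * (c' : G))) =
      conj (θ c) * θ c' *
      ∑ χ : IrrCharacter (Subgroup.centralizer ({z} : Set G)), (χ : (Subgroup.centralizer ({z} : Set G)) → ℂ) c * conj ((χ : (Subgroup.centralizer ({z} : Set G)) → ℂ) c') := by
    intro c c'
    by_cases hc : p ∣ orderOf c
    · rw [hθ0 c hc, map_zero, zero_mul, zero_mul, zero_mul]
    by_cases hc' : p ∣ orderOf c'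
    · rw [hθ0 c' hc', mul_zero, zero_mul, zero_mul]
    congr 1
    rw [Cfsg.Agent.Lib.Helper3.column_orthogonality, Cfsg.Agent.Lib.Helper3.column_orthogonality]
    by_cases hcc : IsConj c c'
    · rw [if_pos hcc, if_pos ((isConj_mul_iff_of_pRegular hp hz c c' hc hc').mpr hcc),
        card_centralizer_mul_of_pRegular hp hz c hc]
    · rw [if_neg hcc, if_neg (fun h => hcc ((isConj_mul_iff_of_pRegular hp hz c c' hc hc').mp h))]
  -- (v)
  have hsumχ : ∀ c : (Subgroup.centralizer ({z} : Set G)), ∑ χ : IrrCharacter (Subgroup.centralizer ({z} : Set G)), (χ : (Subgroup.centralizer ({z} : Set G)) → ℂ) c *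
      ((Nat.card (Subgroup.centralizer ({z} : Set G)) : ℂ) * (if χ ∈ b then conj ((χ : (Subgroup.centralizer ({z} : Set G)) → ℂ) y) else 0)) =
      (Nat.card (Subgroup.centralizer ({z} : Set G)) : ℂ) * θ c := by
    intro c
    rw [hθ]
    show _ = (Nat.card (Subgroup.centralizer ({z} : Set G)) : ℂ) * ∑ χ ∈ bF, (χ : (Subgroup.centralizer ({z} : Set G)) → ℂ) c * conj ((χ : (Subgroup.centralizer ({z} : Set G)) → ℂ) y)
    rw [hbF, Finset.sum_filter, Finset.mul_sum]
    refine Finset.sum_congr rfl fun χ _ => ?_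
    split_ifs <;> ring
  have hL : ∀ ζ : IrrCharacter G,
      blockPart b (fun c : (Subgroup.centralizer ({z} : Set G)) => (ζ : G → ℂ) (z * (c : G))) y *
        conj (blockPart b (fun c : (Subgroup.centralizer ({z} : Set G)) => (ζ : G → ℂ) (z * (c : G))) y) =
      (Nat.card (Subgroup.centralizer ({z} : Set G)) : ℂ)⁻¹ * (Nat.card (Subgroup.centralizer ({z} : Set G)) : ℂ)⁻¹ * ∑ c : (Subgroup.centralizer ({z} : Set G)), ∑ c' : (Subgroup.centralizer ({z} : Set G)), conj (θ c) * θ c' *
        ((ζ : G → ℂ) (z * (c : G)) * conj ((ζ : G → ℂ) (z * (c' : G)))) := by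
    intro ζ
    rw [hv ζ, map_mul, map_inv₀, map_natCast, map_sum]
    simp only [map_mul, Complex.conj_conj]
    rw [mul_mul_mul_comm, Finset.sum_mul_sum]
    congr 1
    refine Finset.sum_congr rfl fun c _ => ?_
    refine Finset.sum_congr rfl fun c' _ => ?_
    ring
  rw [Finset.sum_congr rfl fun ζ _ => hL ζ, ← Finset.mul_sum, Finset.sum_comm]
  have h6 : ∀ c : (Subgroup.centralizer ({z} : Set G)), ∑ ζ : IrrCharacter G, ∑ c' : (Subgroup.centralizer ({z} : Set G)), conj (θ c) * θ c' *
      ((ζ : G → ℂ) (z * (c : G)) * conj ((ζ : G → ℂ) (z * (c' : G)))) =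
      (Nat.card (Subgroup.centralizer ({z} : Set G)) : ℂ) * (conj (θ c) * θ c) := by
    intro c
    rw [Finset.sum_comm]
    simp_rw [← Finset.mul_sum]
    rw [Finset.sum_congr rfl fun c' _ => hK c c']
    simp_rw [Finset.mul_sum]
    rw [Finset.sum_comm]
    have h7 : ∀ χ : IrrCharacter (Subgroup.centralizer ({z} : Set G)), ∑ c' : (Subgroup.centralizer ({z} : Set G)), conj (θ c) * θ c' *
        ((χ : (Subgroup.centralizer ({z} : Set G)) → ℂ) c * conj ((χ : (Subgroup.centralizer ({z} : Set G)) → ℂ) c')) =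
        conj (θ c) * ((χ : (Subgroup.centralizer ({z} : Set G)) → ℂ) c *
          ((Nat.card (Subgroup.centralizer ({z} : Set G)) : ℂ) * (if χ ∈ b then conj ((χ : (Subgroup.centralizer ({z} : Set G)) → ℂ) y) else 0))) := by
      intro χ
      rw [← hθχ χ, Finset.mul_sum, Finset.mul_sum]
      refine Finset.sum_congr rfl fun c' _ => ?_
      ring
    rw [Finset.sum_congr rfl fun χ _ => h7 χ, ← Finset.mul_sum, hsumχ]
    ring
  rw [Finset.sum_congr rfl fun c _ => h6 c, ← Finset.mul_sum]
  -- now `nC⁻¹ * nC⁻¹ * (nC * ∑ c, conj (θ c) * θ c)`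
  have h8 : ∑ c : (Subgroup.centralizer ({z} : Set G)), conj (θ c) * θ c = (Nat.card (Subgroup.centralizer ({z} : Set G)) : ℂ) *
      ∑ χ ∈ bF, (χ : (Subgroup.centralizer ({z} : Set G)) → ℂ) y * conj ((χ : (Subgroup.centralizer ({z} : Set G)) → ℂ) y) := by
    simp_rw [hconjθ, Finset.sum_mul]
    rw [Finset.sum_comm, Finset.mul_sum]
    refine Finset.sum_congr rfl fun χ hχ => ?_
    have h9 : ∀ c : (Subgroup.centralizer ({z} : Set G)), conj ((χ : (Subgroup.centralizer ({z} : Set G)) → ℂ) c) * (χ : (Subgroup.centralizer ({z} : Set G)) → ℂ) y * θ c =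
        (χ : (Subgroup.centralizer ({z} : Set G)) → ℂ) y * (θ c * conj ((χ : (Subgroup.centralizer ({z} : Set G)) → ℂ) c)) := fun c => by ring
    rw [Finset.sum_congr rfl fun c _ => h9 c, ← Finset.mul_sum, hθχ χ,
      if_pos (Finset.mem_filter.mp hχ).2]
    ring
  rw [h8]
  field_simp

end Cfsg.Agent.Lib.Helper77
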