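import Cfsg.Agent.S0923
import Cfsg.Agent.Lib.Helper77.SectionNorm
import Cfsg.Agent.Lib.Helper77.RankTrace
import Cfsg.Agent.Lib.Helper77.BrauerPair
import Cfsg.Agent.Lib.Helper74.PReg1

/-!
# Norms of subsections
-/

set_option autoImplicit false

universe u

namespace Cfsg.Agent.Lib.Helper77

open Cfsg
open Cfsg.Agent.Lib.Helper81
open Cfsg.Agent.Lib.Helper80
open scoped ComplexConjugate

variable {G : Type u} [Group G] {M : Ideal AlgInt}

/-- Two blocks induced by the same block coincide. -/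
theorem isInducedBlock_unique_sub (hM : M.IsPrime) {H : Subgroup G} {b : Set (IrrCharacter H)}
    {B B' : Set (IrrCharacter G)} (h : IsInducedBlock M H b B) (h' : IsInducedBlock M H b B') :
    B = B' := by
  obtain ⟨⟨ξ₀, rfl⟩, ⟨χ, rfl⟩, hc⟩ := h
  obtain ⟨-, ⟨χ', rfl⟩, hc'⟩ := h'
  have hξ₀ : ξ₀ ∈ blockOf M (ξ₀ : H → ℂ) := sameBlock_refl hM _
  have h1 : χ' ∈ blockOf M (χ : G → ℂ) := by
    intro g
    have a1 := hc ξ₀ hξ₀ χ (sameBlock_refl hM _) g
    have a2 := hc' ξ₀ hξ₀ χ' (sameBlock_refl hM _) g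
    have := memLocalIdeal_sub hM a2 a1
    rwa [sub_sub_sub_cancel_left] at this
  exact (blockOf_eq_of_mem hM h1).symm

/-- A Brauer pair at a `p`-subgroup contained in its own centralizer gives an induced block. -/
theorem isInducedBlock_of_isBrauerPairOf_sub [Fintype G] {p : ℕ} [Fact p.Prime]
    (hpM : IsPModular p M) {B : Set (IrrCharacter G)} {P : Subgroup G}
    (hPC : P ≤ Subgroup.centralizer (P : Set G))
    {e : Set (IrrCharacter (Subgroup.centralizer (P : Set G)))}
    (h : IsBrauerPairOf p M B P e) :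
    IsInducedBlock M (Subgroup.centralizer (P : Set G)) e B := by
  classical
  have hM : M.IsPrime := isPrime_of_isPModular hpM
  have := Fintype.ofFinite (Subgroup.centralizer (P : Set G))
  obtain ⟨⟨hPp, ξ₀, rfl⟩, ⟨χ', rfl⟩, hcong⟩ := h
  obtain ⟨χ₀, hχ₀, hind⟩ := exists_isInducedBlock' hpM P (Subgroup.centralizer (P : Set G)) hPp
    hPC le_rfl (Subgroup.centralizer_le_normalizer _) ξ₀
  have h1 := hχ₀ _ (ZS.blockCoeff hpM χ')
  have h2 := hcong ξ₀ (sameBlock_refl hM _)
  rw [brauerOmega_eq_omega] at h2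
  rw [omega_blockCoeff] at h1
  have hmem : χ₀ ∈ blockOf M (χ' : G → ℂ) := by
    by_contra hc
    rw [if_neg hc, sub_zero] at h1
    have h3 := memLocalIdeal_sub hM h1 h2
    rw [sub_sub_cancel] at h3
    exact not_memLocalIdeal_one hM h3
  rw [← blockOf_eq_of_mem hM hmem]
  exact hind

omit [Group G] in
theorem centralizer_zpowers_eq (G : Type u) [Group G] (u : G) :
    Subgroup.centralizer (Subgroup.zpowers u : Set G) = Subgroup.centralizer ({u} : Set G) := by
  ext g
  rw [Subgroup.mem_centralizer_iff, Subgroup.mem_centralizer_singleton_iff]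
  constructor
  · intro h
    exact (h u (Subgroup.mem_zpowers u)).symm
  · intro h x hx
    rw [SetLike.mem_coe, Subgroup.mem_zpowers_iff] at hx
    obtain ⟨k, rfl⟩ := hx
    have hc : Commute g u := h
    exact (hc.zpow_right k).eq.symm

open Classical in
/-- The norm of a subsection: the general form for a subgroup equal to the centralizer. -/
theorem subsection_norm_aux [Fintype G] {p : ℕ} [Fact p.Prime] (hpM : IsPModular p M)
    (u : G) (hu : ∃ k : ℕ, orderOf u = p ^ k) (C : Subgroup G)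
    (hC : C = Subgroup.centralizer ({u} : Set G)) (B : Set (IrrCharacter G))
    (e : Set (IrrCharacter C)) (hind : IsInducedBlock M C e B) :
    ∑ᶠ χ ∈ B, ∑ᶠ s : C,
      pRegularPart p (blockPart e (fun c : C => (χ : G → ℂ) (u * c))) s *
        blockPart e (fun c : C => (χ : G → ℂ) (u⁻¹ * c)) s⁻¹ =
      (Nat.card C : ℂ) * (blockRank p e : ℂ) := by
  subst hC
  have hM : M.IsPrime := isPrime_of_isPModular hpM
  have := Fintype.ofFinite (IrrCharacter G)
  have := Fintype.ofFinite (Subgroup.centralizer ({u} : Set G))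
  have := Fintype.ofFinite (IrrCharacter (Subgroup.centralizer ({u} : Set G)))
  have hcommC : ∀ t : Subgroup.centralizer ({u} : Set G), (t : G) * u = u * (t : G) := fun t =>
    Subgroup.mem_centralizer_singleton_iff.mp t.2
  obtain ⟨⟨ξ₀, rfl⟩, ⟨χ₁, rfl⟩, hcong⟩ := hind
  have hind : IsInducedBlock M (Subgroup.centralizer ({u} : Set G))
      (blockOf M (ξ₀ : Subgroup.centralizer ({u} : Set G) → ℂ)) (blockOf M (χ₁ : G → ℂ)) :=
    ⟨⟨ξ₀, rfl⟩, ⟨χ₁, rfl⟩, hcong⟩
  -- Step A
  have hA : ∀ (χ : IrrCharacter G) (s : Subgroup.centralizer ({u} : Set G)),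
      blockPart (blockOf M (ξ₀ : Subgroup.centralizer ({u} : Set G) → ℂ))
        (fun c : Subgroup.centralizer ({u} : Set G) => (χ : G → ℂ) (u⁻¹ * c)) s⁻¹ =
      conj (blockPart (blockOf M (ξ₀ : Subgroup.centralizer ({u} : Set G) → ℂ))
        (fun c : Subgroup.centralizer ({u} : Set G) => (χ : G → ℂ) (u * c)) s) := by
    intro χ s
    rw [blockPart_eq_sum, blockPart_eq_sum, map_sum]
    refine Finset.sum_congr rfl fun ψ _ => ?_
    rw [map_mul, irr_conj_inv]
    congr 1
    unfold classInner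
    rw [map_mul, map_inv₀, Complex.conj_natCast, map_sum]
    congr 1
    rw [← Equiv.sum_comp (Equiv.inv (Subgroup.centralizer ({u} : Set G)))]
    refine Finset.sum_congr rfl fun c _ => ?_
    simp only [Equiv.inv_apply, map_mul, Complex.conj_conj]
    rw [irr_conj_inv, Complex.conj_conj]
    congr 1
    have e1 : u⁻¹ * ((c⁻¹ : Subgroup.centralizer ({u} : Set G)) : G) = (u * (c : G))⁻¹ := by
      rw [mul_inv_rev, Subgroup.coe_inv]
      have := hcommC c
      have e2 : (c : G)⁻¹ * u⁻¹ = u⁻¹ * (c : G)⁻¹ := by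
        rw [← mul_inv_rev, ← mul_inv_rev, this]
      rw [e2]
    rw [e1, irr_conj_inv]
  -- Step B
  have hB : ∀ χ : IrrCharacter G, χ ∉ blockOf M (χ₁ : G → ℂ) →
      ∀ s : Subgroup.centralizer ({u} : Set G), ¬ p ∣ orderOf s →
      blockPart (blockOf M (ξ₀ : Subgroup.centralizer ({u} : Set G) → ℂ))
        (fun c : Subgroup.centralizer ({u} : Set G) => (χ : G → ℂ) (u * c)) s = 0 := by
    intro χ hχ s hs
    apply Cfsg.Agent.S0923.result p M hpM u hu (blockOf M (χ : G → ℂ)) ⟨χ, rfl⟩ χ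
      (self_mem_blockOf hM χ) _ ⟨ξ₀, rfl⟩ _ s hs
    intro hind'
    apply hχ
    rw [isInducedBlock_unique_sub hM hind hind']
    exact self_mem_blockOf hM χ
  -- Step C
  have hCs : ∀ s : Subgroup.centralizer ({u} : Set G), ¬ p ∣ orderOf s →
      ∑ χ ∈ Finset.univ.filter (fun χ : IrrCharacter G => χ ∈ blockOf M (χ₁ : G → ℂ)),
        blockPart (blockOf M (ξ₀ : Subgroup.centralizer ({u} : Set G) → ℂ))
          (fun c : Subgroup.centralizer ({u} : Set G) => (χ : G → ℂ) (u * c)) s *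
        conj (blockPart (blockOf M (ξ₀ : Subgroup.centralizer ({u} : Set G) → ℂ))
          (fun c : Subgroup.centralizer ({u} : Set G) => (χ : G → ℂ) (u * c)) s) =
      ∑ ψ ∈ Finset.univ.filter (fun ψ : IrrCharacter (Subgroup.centralizer ({u} : Set G)) =>
          ψ ∈ blockOf M (ξ₀ : Subgroup.centralizer ({u} : Set G) → ℂ)),
        (ψ : Subgroup.centralizer ({u} : Set G) → ℂ) s *
          conj ((ψ : Subgroup.centralizer ({u} : Set G) → ℂ) s) := by
    intro s hs
    rw [← sum_blockPart_mul_conj hpM hu ξ₀ s hs, Finset.sum_filter]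
    refine Finset.sum_congr rfl fun χ _ => ?_
    by_cases hχ : χ ∈ blockOf M (χ₁ : G → ℂ)
    · rw [if_pos hχ]
    · rw [if_neg hχ, hB χ hχ s hs, zero_mul]
  rw [Cfsg.Agent.Lib.Helper74.finsum_mem_set_eq_sum_filter]
  simp_rw [finsum_eq_sum_of_fintype, hA]
  rw [Finset.sum_comm, ← sum_pRegular_block_eq hpM ξ₀]
  refine Finset.sum_congr rfl fun s _ => ?_
  by_cases hs : p ∣ orderOf s
  · rw [if_neg (not_not.mpr hs)]
    refine Finset.sum_eq_zero fun χ _ => ?_
    rw [pRegularPart_apply, if_neg (not_not.mpr hs), zero_mul]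
  · rw [if_pos hs, ← hCs s hs]
    refine Finset.sum_congr rfl fun χ _ => ?_
    rw [pRegularPart_apply, if_pos hs]

end Cfsg.Agent.Lib.Helper77
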