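import Cfsg.Agent.Lib.Helper77.MinMax
import Cfsg.Agent.Lib.Helper33.SylowSub

set_option autoImplicit false

universe u

namespace Cfsg.Agent.Lib.Helper77

open scoped Pointwise

variable {G : Type u} [Group G]

/-- `D` is a maximal `p`-subgroup of `N_G(D) ∩ C_G(y)`. -/
def MaxIn (p : ℕ) (D : Subgroup G) (y : G) : Prop :=
  ∀ R : Subgroup G, IsPGroup p R → D ≤ R → R ≤ Subgroup.normalizer (D : Set G) →
    R ≤ Subgroup.centralizer ({y} : Set G) → R = D

/-- Under `MaxIn`, `D` is even a maximal `p`-subgroup of `C_G(y)`. -/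
theorem eq_of_maxIn [Finite G] {p : ℕ} [Fact p.Prime] {D : Subgroup G} {y : G}
    (hmax : MaxIn p D y) {R : Subgroup G}
    (hR : IsPGroup p R) (hDR : D ≤ R) (hRC : R ≤ Subgroup.centralizer ({y} : Set G)) :
    R = D := by
  by_contra hne
  have hlt : D < R := lt_of_le_of_ne hDR (fun h => hne h.symm)
  have hgrow := Cfsg.Agent.Lib.Helper33.normalizer_growth hR hlt
  have := hmax (R ⊓ Subgroup.normalizer (D : Set G)) (hR.to_le inf_le_left) hgrow.le
    inf_le_right (inf_le_left.trans hRC)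
  exact absurd this (ne_of_gt hgrow)

theorem mem_normalizer_of_conj_smul_eq {D : Subgroup G} {g : G}
    (h : MulAut.conj g • D = D) : g ∈ Subgroup.normalizer (D : Set G) := by
  rw [Subgroup.mem_normalizer_iff]
  intro x
  constructor
  · intro hx
    have := Subgroup.smul_mem_pointwise_smul x (MulAut.conj g) D hx
    rw [h] at this
    simpa [MulAut.smul_def] using this
  · intro hx
    rw [← h] at hx
    have e : g * x * g⁻¹ = MulAut.conj g • x := by simp [MulAut.smul_def]
    rw [e, Subgroup.smul_mem_pointwise_smul_iff] at hx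
    exact hx

/-- Under `MaxIn`, any `G`-conjugate of `y` centralizing `D` is conjugate to `y` under the
normalizer of `D`. -/
theorem exists_normalizer_conj [Finite G] {p : ℕ} [Fact p.Prime] {D : Subgroup G} {y : G}
    (hD : IsPGroup p D) (hy : D ≤ Subgroup.centralizer ({y} : Set G)) (hmax : MaxIn p D y)
    (c : G) (hc : D ≤ Subgroup.centralizer ({c * y * c⁻¹} : Set G)) :
    ∃ n ∈ Subgroup.normalizer (D : Set G), n * y * n⁻¹ = c * y * c⁻¹ := by
  -- the conjugate `c⁻¹ D c` lies in `C_G(y)`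
  have hD' : IsPGroup p (MulAut.conj c⁻¹ • D : Subgroup G) := isPGroup_conj_smul hD c⁻¹
  have hD'C : (MulAut.conj c⁻¹ • D : Subgroup G) ≤ Subgroup.centralizer ({y} : Set G) := by
    intro x hx
    rw [Subgroup.mem_pointwise_smul_iff_inv_smul_mem] at hx
    have hx' : c * x * c⁻¹ ∈ D := by
      simpa [MulAut.smul_def] using hx
    have h1 := hc hx'
    rw [Subgroup.mem_centralizer_singleton_iff] at h1 ⊢
    have h2 : c * (x * y) * c⁻¹ = c * (y * x) * c⁻¹ := by
      calc c * (x * y) * c⁻¹ = (c * x * c⁻¹) * (c * y * c⁻¹) := by group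
        _ = (c * y * c⁻¹) * (c * x * c⁻¹) := h1
        _ = c * (y * x) * c⁻¹ := by group
    exact mul_left_cancel (mul_right_cancel h2)
  -- `D` is a Sylow subgroup of `C_G(y)`
  obtain ⟨P₁, hP₁⟩ := (hD.comap_subtype (K := Subgroup.centralizer ({y} : Set G))).exists_le_sylow
  have hP₁D : (P₁ : Subgroup (Subgroup.centralizer ({y} : Set G))).map
      (Subgroup.centralizer ({y} : Set G)).subtype = D := by
    apply eq_of_maxIn hmax (P₁.2.map _)
    · intro d hd
      exact ⟨⟨d, hy hd⟩, hP₁ (show (⟨d, hy hd⟩ : Subgroup.centralizer ({y} : Set G)) ∈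
        D.subgroupOf _ from hd), rfl⟩
    · exact Subgroup.map_subtype_le _
  obtain ⟨z, hzC, hz⟩ := exists_conj_le_sylow_map (Subgroup.centralizer ({y} : Set G)) P₁
    (MulAut.conj c⁻¹ • D) hD' hD'C
  rw [hP₁D] at hz
  -- cardinalities force equality
  have hcard : Nat.card (MulAut.conj z • (MulAut.conj c⁻¹ • D) : Subgroup G) = Nat.card D := by
    rw [Nat.card_congr (Subgroup.equivSMul (MulAut.conj z) _).toEquiv.symm,
      Nat.card_congr (Subgroup.equivSMul (MulAut.conj c⁻¹) D).toEquiv.symm]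
  have heq : (MulAut.conj z • (MulAut.conj c⁻¹ • D) : Subgroup G) = D := by
    apply SetLike.coe_injective
    exact Set.eq_of_subset_of_ncard_le hz (by
      show Nat.card D ≤ Nat.card (MulAut.conj z • (MulAut.conj c⁻¹ • D) : Subgroup G)
      rw [hcard]) (Set.toFinite _)
  have hzc : z * c⁻¹ ∈ Subgroup.normalizer (D : Set G) := by
    apply mem_normalizer_of_conj_smul_eq
    rw [map_mul, mul_smul]
    exact heq
  refine ⟨(z * c⁻¹)⁻¹, Subgroup.inv_mem _ hzc, ?_⟩
  rw [Subgroup.mem_centralizer_singleton_iff] at hzC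
  have h3 : z⁻¹ * y * z = y := by
    calc z⁻¹ * y * z = z⁻¹ * (y * z) := by group
      _ = z⁻¹ * (z * y) := by rw [hzC]
      _ = y := by group
  calc (z * c⁻¹)⁻¹ * y * (z * c⁻¹)⁻¹⁻¹ = c * (z⁻¹ * y * z) * c⁻¹ := by group
    _ = c * y * c⁻¹ := by rw [h3]

end Cfsg.Agent.Lib.Helper77
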