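import Cfsg.Agent.Lib.Helper77.StableBlock
import Cfsg.Agent.Lib.Helper77.BPairG
import Cfsg.Agent.Lib.Helper75.Clifford
import Cfsg.Agent.Lib.Helper3.Complete
import Cfsg.Agent.Lib.Helper16.Degree

/-!
# Brauer pairs of the set of characters over an invariant character of a normal `p'`-subgroup
(helper77)

Let `K` be a normal subgroup of `G`, `θ` a `G`-invariant irreducible character of `K` and `B` the
set of the irreducible characters of `G` over `θ`.  The idempotent coefficients of `B` are those of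
`θ`, extended by zero.  If `K` is a `p'`-group and `(R, f)` is a Brauer pair of `B`, then every
irreducible constituent `β` of the restriction of a member of `f` to `C_K(R)` occurs in the
restriction of `θ` with a multiplicity prime to `p` (so `β` is the Glauberman correspondent).
-/

set_option autoImplicit false

universe u

namespace Cfsg.Agent.Lib.Helper77.ThetaPair

open Cfsg Cfsg.Agent.Lib.Helper77 Cfsg.Agent.Lib.Helper81 Cfsg.Agent.Lib.Helper80
  Cfsg.Agent.Lib.Helper16 Cfsg.Agent.Lib.Helper75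
open scoped ComplexConjugate

variable {G : Type u} [Group G] [Fintype G]

/-- the idempotent of the set of characters over an invariant character of a normal subgroup -/
theorem blockCoeff_eq_of_over (K : Subgroup G) [hK : K.Normal] [Fintype K] (θ : IrrCharacter K)
    (hθ : ∀ g : G, IsConjCharOf K g (θ : K → ℂ) (θ : K → ℂ))
    (B : Set (IrrCharacter G))
    (hB : ∀ χ : IrrCharacter G, χ ∈ B ↔ classInner (fun k : K => (χ : G → ℂ) k) (θ : K → ℂ) ≠ 0)
    (g : G) : blockCoeff B g = subgroupBlockCoeff K ({θ} : Set (IrrCharacter K)) g := by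
  classical
  have hst : ∀ g : G, ∀ θ' ∈ ({θ} : Set (IrrCharacter K)), conjIrr K g θ' ∈
      ({θ} : Set (IrrCharacter K)) := by
    intro g θ' hθ'
    rw [Set.mem_singleton_iff] at hθ' ⊢
    subst hθ'
    apply Subtype.ext
    funext k
    show conjFun K g (θ' : K → ℂ) k = (θ' : K → ℂ) k
    rw [conjFun_apply]
    exact hθ g k ⟨g * k * g⁻¹, hK.conj_mem k k.2 g⟩ rfl
  refine congrFun (eq_of_omega_eq (blockCoeff_isClassFunction B)
    (subgroupBlockCoeff_isClassFunction K hst) fun χ => ?_) g
  rw [omega_blockCoeff]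
  by_cases hχ : χ ∈ B
  · rw [if_pos hχ, omega_subgroupBlockCoeff K hst χ θ ((hB χ).1 hχ),
      if_pos (Set.mem_singleton θ)]
  · obtain ⟨ψ, hψ⟩ := exists_constituent K χ
    rw [if_neg hχ, omega_subgroupBlockCoeff K hst χ ψ hψ, if_neg]
    intro hψθ
    rw [Set.mem_singleton_iff] at hψθ
    subst hψθ
    exact hχ ((hB χ).2 hψ)

/-- a sum over a group of a function vanishing off a subgroup -/
theorem sum_eq_sum_subgroup {H : Type u} [Group H] [Fintype H] (N : Subgroup H) [Fintype N]
    (F : H → ℂ) (h0 : ∀ x : H, x ∉ N → F x = 0) : ∑ x : H, F x = ∑ n : N, F n := by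
  classical
  rw [← Finset.sum_subtype (Finset.univ.filter (· ∈ N)) (by simp) F]
  symm
  apply Finset.sum_subset (Finset.subset_univ _)
  intro x _ hx
  simp only [Finset.mem_filter, Finset.mem_univ, true_and] at hx
  exact h0 x hx

/-- the idempotent coefficients of a single character -/
theorem blockCoeff_singleton {H : Type u} [Group H] [Fintype H] (θ : IrrCharacter H) (k : H) :
    blockCoeff ({θ} : Set (IrrCharacter H)) k =
      (Nat.card H : ℂ)⁻¹ * ((θ : H → ℂ) 1 * conj ((θ : H → ℂ) k)) := by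
  classical
  have := Fintype.ofFinite (IrrCharacter H)
  rw [blockCoeff_eq_sum]
  congr 1
  rw [Finset.sum_filter, Finset.sum_eq_single θ]
  · rw [if_pos (Set.mem_singleton θ)]
  · intro χ _ hne
    rw [if_neg]
    intro h
    exact hne (Set.mem_singleton_iff.mp h)
  · intro h
    exact absurd (Finset.mem_univ θ) h

open Classical in
/-- **Clifford computation**: for `N ⊴ H`, `ξ ∈ Irr(H)` over `β ∈ Irr(N)` and an `H`-invariant
function `ϑ` on `N` whose inner product with `β` is `m`, the inner product of `ξ_N` with `ϑ`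
divided by `ξ(1)` is `conj m / β(1)`. -/
theorem classInner_restrict_div {H : Type u} [Group H] [Fintype H] (N : Subgroup H) [hN : N.Normal]
    [Fintype N] (ξ : IrrCharacter H) (β : IrrCharacter N)
    (hβ : classInner (fun n : N => (ξ : H → ℂ) n) (β : N → ℂ) ≠ 0)
    (ϑ : N → ℂ) (hinv : ∀ c : H, conjFun N c ϑ = ϑ) (m : ℂ)
    (hm : classInner ϑ (β : N → ℂ) = m) :
    classInner (fun n : N => (ξ : H → ℂ) n) ϑ / (ξ : H → ℂ) 1 = conj m / (β : N → ℂ) 1 := by
  have := Fintype.ofFinite (IrrCharacter N)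
  set ξN : N → ℂ := fun n => (ξ : H → ℂ) n with hξN
  have hξcl : IsClassFunction H (ξ : H → ℂ) := isClassFunction_of_isCharacter ξ.2
  have hξNcl : IsClassFunction N ξN := by
    intro x y
    exact hξcl (x : H) (y : H)
  have hξ1 : (ξ : H → ℂ) 1 ≠ 0 := irr_one_ne_zero ξ.2
  have hβ1 : (β : N → ℂ) 1 ≠ 0 := irr_one_ne_zero β.2
  obtain ⟨a, ha⟩ : ∃ a : ℂ, a = classInner ξN (β : N → ℂ) := ⟨_, rfl⟩
  set O := Finset.univ.filter (fun β' : IrrCharacter N => classInner ξN (β' : N → ℂ) ≠ 0)
    with hO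
  have hconj : ∀ β' ∈ O, ∃ c : H, (β' : N → ℂ) = conjFun N c (β : N → ℂ) := by
    intro β' hβ'
    exact clifford_conj N ξ.2 β.2 β'.2 hβ (Finset.mem_filter.mp hβ').2
  have hξNinv : ∀ c : H, conjFun N c ξN = ξN := fun c => conjFun_restrict N c hξcl
  have hOa : ∀ β' ∈ O, classInner ξN (β' : N → ℂ) = a := by
    intro β' hβ'
    obtain ⟨c, hc⟩ := hconj β' hβ'
    have h := classInner_conjFun N c ξN (β : N → ℂ)
    rw [hξNinv c] at h
    rw [hc, h, ha]
  have hOm : ∀ β' ∈ O, classInner ϑ (β' : N → ℂ) = m := by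
    intro β' hβ'
    obtain ⟨c, hc⟩ := hconj β' hβ'
    have h := classInner_conjFun N c ϑ (β : N → ℂ)
    rw [hinv c] at h
    rw [hc, h, hm]
  have hO1 : ∀ β' ∈ O, (β' : N → ℂ) 1 = (β : N → ℂ) 1 := by
    intro β' hβ'
    obtain ⟨c, hc⟩ := hconj β' hβ'
    rw [hc, conjFun_apply]
    have h1 : (⟨c * ((1 : N) : H) * c⁻¹, hN.conj_mem (1 : N) (1 : N).2 c⟩ : N) = 1 :=
      Subtype.ext (by simp)
    rw [h1]
  have hnot : ∀ β' : IrrCharacter N, β' ∉ O → classInner ξN (β' : N → ℂ) = 0 := by
    intro β' hβ'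
    by_contra h
    exact hβ' (Finset.mem_filter.mpr ⟨Finset.mem_univ _, h⟩)
  have hexp := Cfsg.Agent.Lib.Helper3.classFunction_eq_sum hξNcl
  have hinner : classInner ξN ϑ = (O.card : ℂ) * a * conj m := by
    conv_lhs => rw [hexp]
    rw [Cfsg.Agent.Lib.Helper3.classInner_sum_left]
    have h2 : ∀ β' : IrrCharacter N,
        classInner (classInner ξN (β' : N → ℂ) • (β' : N → ℂ)) ϑ =
          if β' ∈ O then a * conj m else 0 := by
      intro β'
      rw [Cfsg.Agent.Lib.Helper3.classInner_smul_left]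
      by_cases hβ' : β' ∈ O
      · rw [if_pos hβ', hOa β' hβ',
          Cfsg.Agent.Lib.Helper3.classInner_conj_symm (β' : N → ℂ) ϑ, hOm β' hβ']
      · rw [if_neg hβ', hnot β' hβ', zero_mul]
    rw [Finset.sum_congr rfl fun β' _ => h2 β', ← Finset.sum_filter, Finset.filter_mem_eq_inter,
      Finset.univ_inter, Finset.sum_const, nsmul_eq_mul]
    ring
  have hdeg : (ξ : H → ℂ) 1 = (O.card : ℂ) * a * (β : N → ℂ) 1 := by
    have h3 : ξN 1 = ∑ β' : IrrCharacter N,
        (classInner ξN (β' : N → ℂ) • (β' : N → ℂ)) 1 := by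
      conv_lhs => rw [hexp]
      rw [Finset.sum_apply]
    have h4 : ∀ β' : IrrCharacter N, (classInner ξN (β' : N → ℂ) • (β' : N → ℂ)) 1 =
        if β' ∈ O then a * (β : N → ℂ) 1 else 0 := by
      intro β'
      rw [Pi.smul_apply, smul_eq_mul]
      by_cases hβ' : β' ∈ O
      · rw [if_pos hβ', hOa β' hβ', hO1 β' hβ']
      · rw [if_neg hβ', hnot β' hβ', zero_mul]
    have h5 : ξN 1 = (ξ : H → ℂ) 1 := rfl
    rw [← h5, h3, Finset.sum_congr rfl fun β' _ => h4 β', ← Finset.sum_filter,
      Finset.filter_mem_eq_inter, Finset.univ_inter, Finset.sum_const, nsmul_eq_mul]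
    ring
  have hOne : (O.card : ℂ) * a ≠ 0 := by
    intro h
    rw [h, zero_mul] at hdeg
    exact hξ1 hdeg
  rw [hinner, hdeg, mul_div_mul_left _ _ hOne]

section pair
variable {p : ℕ} [Fact p.Prime] {M : Ideal AlgInt}

open Classical in
/-- **Brauer pairs over an invariant character of a normal `p'`-subgroup.** -/
theorem not_dvd_mult_of_isBrauerPairOf (hpM : IsPModular p M)
    (K : Subgroup G) [hK : K.Normal] [Fintype K] (hcop : (Nat.card K).Coprime p)
    (θ : IrrCharacter K) (hθ : ∀ g : G, IsConjCharOf K g (θ : K → ℂ) (θ : K → ℂ))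
    (B : Set (IrrCharacter G))
    (hB : ∀ χ : IrrCharacter G, χ ∈ B ↔ classInner (fun k : K => (χ : G → ℂ) k) (θ : K → ℂ) ≠ 0)
    (R : Subgroup G) [Fintype (Subgroup.centralizer (R : Set G))]
    [Fintype (K.subgroupOf (Subgroup.centralizer (R : Set G)))]
    (f : Set (IrrCharacter (Subgroup.centralizer (R : Set G))))
    (hpair : IsBrauerPairOf p M B R f)
    (ξ : IrrCharacter (Subgroup.centralizer (R : Set G))) (hξ : ξ ∈ f)
    (β : IrrCharacter (K.subgroupOf (Subgroup.centralizer (R : Set G))))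
    (hβ : classInner (fun x : K.subgroupOf (Subgroup.centralizer (R : Set G)) =>
      (ξ : Subgroup.centralizer (R : Set G) → ℂ) x)
      (β : K.subgroupOf (Subgroup.centralizer (R : Set G)) → ℂ) ≠ 0)
    (m : ℕ)
    (hm : classInner (fun x : K.subgroupOf (Subgroup.centralizer (R : Set G)) =>
      (θ : K → ℂ) ⟨((x : Subgroup.centralizer (R : Set G)) : G), Subgroup.mem_subgroupOf.mp x.2⟩)
      (β : K.subgroupOf (Subgroup.centralizer (R : Set G)) → ℂ) = (m : ℂ)) :
    ¬ p ∣ m := by
  have hp : p.Prime := Fact.out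
  have hM : M.IsPrime := isPrime_of_isPModular hpM
  -- invariance of the restriction of `θ`
  have hθCinv : ∀ c : Subgroup.centralizer (R : Set G),
      conjFun (K.subgroupOf (Subgroup.centralizer (R : Set G))) c
        (fun x : K.subgroupOf (Subgroup.centralizer (R : Set G)) =>
          (θ : K → ℂ) ⟨((x : Subgroup.centralizer (R : Set G)) : G),
            Subgroup.mem_subgroupOf.mp x.2⟩) =
        (fun x : K.subgroupOf (Subgroup.centralizer (R : Set G)) =>
          (θ : K → ℂ) ⟨((x : Subgroup.centralizer (R : Set G)) : G),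
            Subgroup.mem_subgroupOf.mp x.2⟩) := by
    intro c
    funext x
    rw [conjFun_apply]
    exact hθ (c : G) ⟨((x : Subgroup.centralizer (R : Set G)) : G),
      Subgroup.mem_subgroupOf.mp x.2⟩ _ rfl
  have hcl := classInner_restrict_div (K.subgroupOf (Subgroup.centralizer (R : Set G))) ξ β hβ
    _ hθCinv (m : ℂ) hm
  rw [Complex.conj_natCast] at hcl
  -- the congruence from the Brauer pair
  have hcong := hpair.2.2 ξ hξ
  -- the value of the Brauer-map central character
  have hval : brauerOmega R (blockCoeff B) (ξ : Subgroup.centralizer (R : Set G) → ℂ) =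
      (Nat.card K : ℂ)⁻¹ * (θ : K → ℂ) 1 *
        (Nat.card (K.subgroupOf (Subgroup.centralizer (R : Set G))) : ℂ) *
        (classInner (fun x : K.subgroupOf (Subgroup.centralizer (R : Set G)) =>
          (ξ : Subgroup.centralizer (R : Set G) → ℂ) x)
          (fun x : K.subgroupOf (Subgroup.centralizer (R : Set G)) =>
          (θ : K → ℂ) ⟨((x : Subgroup.centralizer (R : Set G)) : G),
            Subgroup.mem_subgroupOf.mp x.2⟩) /
        (ξ : Subgroup.centralizer (R : Set G) → ℂ) 1) := by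
    unfold brauerOmega
    rw [finsum_eq_sum_of_fintype, ← Finset.sum_div, ← mul_div_assoc]
    congr 1
    have h1 : ∀ x : Subgroup.centralizer (R : Set G),
        blockCoeff B (x : G) * (ξ : Subgroup.centralizer (R : Set G) → ℂ) x =
        subgroupBlockCoeff K ({θ} : Set (IrrCharacter K)) (x : G) *
          (ξ : Subgroup.centralizer (R : Set G) → ℂ) x := by
      intro x
      rw [blockCoeff_eq_of_over K θ hθ B hB]
    rw [Finset.sum_congr rfl fun x _ => h1 x,
      sum_eq_sum_subgroup (K.subgroupOf (Subgroup.centralizer (R : Set G)))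
        (fun x : Subgroup.centralizer (R : Set G) =>
        subgroupBlockCoeff K ({θ} : Set (IrrCharacter K)) (x : G) *
          (ξ : Subgroup.centralizer (R : Set G) → ℂ) x)]
    · unfold classInner
      have hne : (Nat.card (K.subgroupOf (Subgroup.centralizer (R : Set G))) : ℂ) ≠ 0 :=
        Nat.cast_ne_zero.mpr Nat.card_pos.ne'
      rw [← mul_assoc, mul_assoc _ _ (Nat.card (K.subgroupOf
        (Subgroup.centralizer (R : Set G))) : ℂ)⁻¹, mul_inv_cancel₀ hne, mul_one, Finset.mul_sum]
      refine Finset.sum_congr rfl fun x _ => ?_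
      rw [subgroupBlockCoeff_of_mem _ (Subgroup.mem_subgroupOf.mp x.2), blockCoeff_singleton]
      ring
    · intro x hx
      have hxK : (x : G) ∉ K := fun h => hx (Subgroup.mem_subgroupOf.mpr h)
      rw [subgroupBlockCoeff_of_not_mem _ hxK, zero_mul]
  rw [hcl] at hval
  -- degrees
  obtain ⟨dβ, hdβ0, hdβ1, -, hdβ3⟩ := irr_degree_spec β
  obtain ⟨dθ, hdθ0, hdθ1, -, -⟩ := irr_degree_spec θ
  obtain ⟨q, hq⟩ := hdβ3
  have hdβC : (dβ : ℂ) ≠ 0 := by exact_mod_cast hdβ0.ne'
  have hKC : (Nat.card K : ℂ) ≠ 0 := Nat.cast_ne_zero.mpr Nat.card_pos.ne'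
  have hfinal : brauerOmega R (blockCoeff B) (ξ : Subgroup.centralizer (R : Set G) → ℂ) =
      (m : ℂ) * (((dθ * q : ℕ) : ℂ) * (Nat.card K : ℂ)⁻¹) := by
    rw [hval, hdβ1, hdθ1]
    have : (Nat.card (K.subgroupOf (Subgroup.centralizer (R : Set G))) : ℂ) =
        (dβ : ℂ) * (q : ℂ) := by exact_mod_cast hq
    rw [this]
    push_cast
    field_simp
  intro hpm
  have hpK : ¬ p ∣ Nat.card K := fun h => by
    have := Nat.Coprime.eq_one_of_dvd hcop.symm h
    exact hp.one_lt.ne' this
  have hideal : MemLocalIdeal M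
      (brauerOmega R (blockCoeff B) (ξ : Subgroup.centralizer (R : Set G) → ℂ)) := by
    rw [hfinal]
    refine memLocalIdeal_mul_right hM ((memLocalIdeal_natCast_iff hpM m).2 hpm) ?_
    exact memLocalRing_mul hM (memLocalRing_natCast hM _) (memLocalRing_inv_natCast hpM hpK)
  have h1 := memLocalIdeal_sub hM hideal hcong
  rw [sub_sub_cancel] at h1
  exact not_memLocalIdeal_one hM h1

end pair

end Cfsg.Agent.Lib.Helper77.ThetaPair
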