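import Cfsg.Agent.Lib.Helper77.PGroupSum
import Cfsg.Agent.Lib.Helper77.Radical3
import Cfsg.Agent.Lib.Helper77.LocalTrace
import Mathlib.GroupTheory.Perm.Cycle.Type
import Mathlib.Algebra.CharP.Lemmas

/-!
# The rotation argument on words: nilpotent elements of the group algebra modulo the local ideal
have small sum over the `p`-elements
-/

set_option autoImplicit false

universe u

namespace Cfsg.Agent.Lib.Helper77

open Cfsg
open Cfsg.Agent.Lib.Helper81
open Cfsg.Agent.Lib.Helper80

section PermSum

variable {M : Ideal AlgInt}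

/-- A permutation of `p`-power order, an invariant function with values in the local ring, small
at the fixed points: the total sum is small. -/
theorem perm_sum_mem {X : Type*} [Fintype X] {p K : ℕ} [Fact p.Prime] (hpM : IsPModular p M)
    (σ : Equiv.Perm X) (hσ : σ ^ (p ^ K) = 1) (F : X → ℂ) (hinv : ∀ x, F (σ x) = F x)
    (hS : ∀ x, MemLocalRing M (F x)) (hfix : ∀ x, σ x = x → MemLocalIdeal M (F x)) :
    MemLocalIdeal M (∑ x, F x) := by
  classical
  have hQ : IsPGroup p (Subgroup.zpowers σ) := by
    rintro ⟨q, hq⟩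
    obtain ⟨k, rfl⟩ := Subgroup.mem_zpowers_iff.mp hq
    refine ⟨K, Subtype.ext ?_⟩
    simp only [SubmonoidClass.mk_pow, OneMemClass.coe_one]
    rw [← zpow_natCast, ← zpow_mul, mul_comm, zpow_mul, zpow_natCast, hσ, one_zpow]
  let T : Subgroup (Equiv.Perm X) :=
    { carrier := {q | ∀ d, F (q d) = F d}
      mul_mem' := by
        intro a b ha hb d
        rw [Equiv.Perm.mul_apply, ha, hb]
      one_mem' := fun d => rfl
      inv_mem' := by
        intro a ha d
        have := ha (a⁻¹ d)
        rw [← Equiv.Perm.mul_apply, mul_inv_cancel, Equiv.Perm.one_apply] at this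
        exact this.symm }
  have hT : Subgroup.zpowers σ ≤ T := by
    rw [Subgroup.zpowers_le]
    exact hinv
  apply pgroup_sum_mem (Q := Subgroup.zpowers σ) hQ hpM F
  · intro q d
    exact hT q.2 d
  · exact hS
  · intro d hd
    exact hfix d (hd ⟨σ, Subgroup.mem_zpowers σ⟩)

end PermSum

section Words

variable {G : Type u} [Group G] [Fintype G]

/-- Left convolution powers. -/
noncomputable def lpow (j : G → ℂ) : ℕ → G → ℂ
  | 0 => deltaOne
  | (n + 1) => conv j (lpow j n)

theorem lpow_zero (j : G → ℂ) : lpow j 0 = deltaOne := rfl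

theorem lpow_succ (j : G → ℂ) (n : ℕ) : lpow j (n + 1) = conv j (lpow j n) := rfl

/-- The weight of a word. -/
noncomputable def wordWt (j : G → ℂ) {n : ℕ} (v : List.Vector G n) : ℂ := (v.toList.map j).prod

open Classical in
/-- The sum of the weights of the words with a given product. -/
noncomputable def wordSum (j : G → ℂ) (n : ℕ) (h : G) : ℂ :=
  ∑ v : List.Vector G n, if v.toList.prod = h then wordWt j v else 0

/-- Splitting off the first letter. -/
def vecConsEquiv (α : Type*) (n : ℕ) : α × List.Vector α n ≃ List.Vector α (n + 1) where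
  toFun x := x.1 ::ᵥ x.2
  invFun v := (v.head, v.tail)
  left_inv x := by simp
  right_inv v := by simp

theorem wordSum_eq_lpow (j : G → ℂ) (n : ℕ) : wordSum j n = lpow j n := by
  classical
  induction n with
  | zero =>
    funext h
    unfold wordSum
    rw [lpow_zero]
    have hu : (Finset.univ : Finset (List.Vector G 0)) = {List.Vector.nil} := by
      ext v
      simp [List.Vector.eq_nil v]
    rw [hu, Finset.sum_singleton]
    unfold deltaOne wordWt
    simp only [List.Vector.toList_nil, List.prod_nil, List.map_nil]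
    by_cases hh : h = 1
    · rw [if_pos hh, if_pos hh.symm]
    · rw [if_neg hh, if_neg (fun e => hh e.symm)]
  | succ n ih =>
    funext h
    rw [lpow_succ, ← ih]
    unfold wordSum conv
    rw [← Equiv.sum_comp (vecConsEquiv G n), Fintype.sum_prod_type]
    refine Finset.sum_congr rfl fun a _ => ?_
    rw [Finset.mul_sum]
    refine Finset.sum_congr rfl fun u _ => ?_
    have h1 : (vecConsEquiv G n (a, u)).toList = a :: u.toList := by
      simp [vecConsEquiv]
    have h2 : wordWt j (vecConsEquiv G n (a, u)) = j a * wordWt j u := by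
      unfold wordWt
      rw [h1, List.map_cons, List.prod_cons]
    rw [h2, h1, List.prod_cons]
    by_cases hh : a * u.toList.prod = h
    · rw [if_pos hh, if_pos (by rw [← hh]; group)]
    · rw [if_neg hh, if_neg, mul_zero]
      intro e
      apply hh
      rw [e]
      group

end Words

/-- The rotation permutation of the words of length `n + 1` with product one. -/
def rotPerm (G : Type u) [Group G] (n : ℕ) :
    Equiv.Perm (Equiv.Perm.vectorsProdEqOne G (n + 1)) where
  toFun v := Equiv.Perm.VectorsProdEqOne.rotate v 1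
  invFun v := Equiv.Perm.VectorsProdEqOne.rotate v n
  left_inv v := by
    show Equiv.Perm.VectorsProdEqOne.rotate (Equiv.Perm.VectorsProdEqOne.rotate v 1) n = v
    rw [Equiv.Perm.VectorsProdEqOne.rotate_rotate]
    exact (congrArg (fun k => Equiv.Perm.VectorsProdEqOne.rotate v k) (Nat.add_comm 1 n)).trans
      (Equiv.Perm.VectorsProdEqOne.rotate_length v)
  right_inv v := by
    show Equiv.Perm.VectorsProdEqOne.rotate (Equiv.Perm.VectorsProdEqOne.rotate v n) 1 = v
    rw [Equiv.Perm.VectorsProdEqOne.rotate_rotate, Equiv.Perm.VectorsProdEqOne.rotate_length]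

section Words2

variable {G : Type u} [Group G] [Fintype G]

omit [Fintype G] in
theorem rotPerm_pow_apply (n k : ℕ) (v : Equiv.Perm.vectorsProdEqOne G (n + 1)) :
    (rotPerm G n ^ k) v = Equiv.Perm.VectorsProdEqOne.rotate v k := by
  induction k generalizing v with
  | zero => rw [pow_zero, Equiv.Perm.one_apply, Equiv.Perm.VectorsProdEqOne.rotate_zero]
  | succ k ih =>
    rw [pow_succ, Equiv.Perm.mul_apply, ih]
    show Equiv.Perm.VectorsProdEqOne.rotate (Equiv.Perm.VectorsProdEqOne.rotate v 1) k = _
    rw [Equiv.Perm.VectorsProdEqOne.rotate_rotate]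
    exact congrArg (fun k => Equiv.Perm.VectorsProdEqOne.rotate v k) (Nat.add_comm 1 k)

omit [Fintype G] in
theorem rotPerm_pow_length (n : ℕ) : rotPerm G n ^ (n + 1) = 1 := by
  ext v
  rw [rotPerm_pow_apply, Equiv.Perm.VectorsProdEqOne.rotate_length, Equiv.Perm.one_apply]

omit [Fintype G] in
theorem wordWt_rotPerm (j : G → ℂ) (n : ℕ) (v : Equiv.Perm.vectorsProdEqOne G (n + 1)) :
    wordWt j (rotPerm G n v).1 = wordWt j v.1 := by
  unfold wordWt
  have h1 : (rotPerm G n v).1.toList = v.1.toList.rotate 1 := rfl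
  rw [h1, List.map_rotate]
  exact (List.rotate_perm _ _).prod_eq

omit [Fintype G] in
theorem exists_replicate_of_rotPerm_eq (n : ℕ) (v : Equiv.Perm.vectorsProdEqOne G (n + 1))
    (hv : rotPerm G n v = v) : ∃ a : G, v.1.toList = List.replicate (n + 1) a ∧ a ^ (n + 1) = 1 := by
  have h1 : v.1.toList.rotate 1 = v.1.toList := by
    have := congrArg (fun w : Equiv.Perm.vectorsProdEqOne G (n + 1) => w.1.toList) hv
    exact this
  obtain ⟨a, ha⟩ := List.rotate_one_eq_self_iff_eq_replicate.mp h1
  rw [List.Vector.toList_length] at ha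
  refine ⟨a, ha, ?_⟩
  have h2 : v.1.toList.prod = 1 := v.2
  rwa [ha, List.prod_replicate] at h2

/-- The word of constant letters. -/
def constWord (n : ℕ) (a : G) (ha : a ^ (n + 1) = 1) : Equiv.Perm.vectorsProdEqOne G (n + 1) :=
  ⟨List.Vector.replicate (n + 1) a, by
    show (List.replicate (n + 1) a).prod = 1
    rw [List.prod_replicate, ha]⟩

omit [Fintype G] in
theorem constWord_toList (n : ℕ) (a : G) (ha : a ^ (n + 1) = 1) :
    (constWord n a ha).1.toList = List.replicate (n + 1) a := by
  rfl

omit [Fintype G] in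
theorem rotPerm_constWord (n : ℕ) (a : G) (ha : a ^ (n + 1) = 1) :
    rotPerm G n (constWord n a ha) = constWord n a ha := by
  apply Subtype.ext
  apply Subtype.ext
  show (constWord n a ha).1.toList.rotate 1 = (constWord n a ha).1.toList
  rw [constWord_toList, List.rotate_replicate]

variable {M : Ideal AlgInt}

omit [Group G] [Fintype G] in
theorem memLocalRing_list_prod_map (hM : M.IsPrime) (j : G → ℂ) (hj : ∀ g, MemLocalRing M (j g))
    (l : List G) : MemLocalRing M ((l.map j).prod) := by
  induction l with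
  | nil => simpa using memLocalRing_one hM
  | cons a l ih =>
    rw [List.map_cons, List.prod_cons]
    exact memLocalRing_mul hM (hj a) ih

omit [Fintype G] in
theorem wordWt_constWord (j : G → ℂ) (n : ℕ) (a : G) (ha : a ^ (n + 1) = 1) :
    wordWt j (constWord n a ha).1 = j a ^ (n + 1) := by
  unfold wordWt
  rw [constWord_toList, List.map_replicate, List.prod_replicate]

theorem sum_wordWt_eq_lpow [DecidableEq G] (j : G → ℂ) (n : ℕ) :
    ∑ v : Equiv.Perm.vectorsProdEqOne G n, wordWt j v.1 = lpow j n 1 := by
  classical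
  rw [← wordSum_eq_lpow]
  unfold wordSum
  have h := Finset.sum_subtype
    (p := fun v : List.Vector G n => v ∈ Equiv.Perm.vectorsProdEqOne G n)
    (F := (inferInstance : Fintype (Equiv.Perm.vectorsProdEqOne G n)))
    (Finset.univ.filter (fun v : List.Vector G n => v.toList.prod = 1))
    (by intro v; simp [Equiv.Perm.VectorsProdEqOne.mem_iff]) (fun v => wordWt j v)
  rw [Finset.sum_filter] at h
  refine h.symm.trans (Finset.sum_congr rfl fun v _ => ?_)
  congr

/-- The rotation argument: the coefficient at one of the `p^K`-th convolution power is congruent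
to the sum of the `p^K`-th powers of the coefficients at the elements of order dividing `p^K`. -/
theorem memLocalIdeal_lpow_sub_sum_pow [DecidableEq G] {p K : ℕ} [Fact p.Prime]
    (hpM : IsPModular p M) (j : G → ℂ) (hj : ∀ g, MemLocalRing M (j g)) (n : ℕ)
    (hn : n + 1 = p ^ K) :
    MemLocalIdeal M (lpow j (n + 1) 1 -
      ∑ a ∈ Finset.univ.filter (fun a : G => a ^ (n + 1) = 1), j a ^ (n + 1)) := by
  classical
  have hM : M.IsPrime := isPrime_of_isPModular hpM
  set σ := rotPerm G n with hσdef
  have hσ : σ ^ (p ^ K) = 1 := by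
    rw [← hn]
    exact rotPerm_pow_length n
  set F : Equiv.Perm.vectorsProdEqOne G (n + 1) → ℂ :=
    fun v => if σ v = v then 0 else wordWt j v.1 with hF
  have h1 : MemLocalIdeal M (∑ v, F v) := by
    apply perm_sum_mem hpM σ hσ F
    · intro v
      simp only [hF]
      have e1 : σ (σ v) = σ v ↔ σ v = v := σ.injective.eq_iff
      by_cases hv : σ v = v
      · rw [if_pos hv, if_pos (e1.mpr hv)]
      · rw [if_neg hv, if_neg (fun h => hv (e1.mp h))]
        exact wordWt_rotPerm j n v
    · intro v
      simp only [hF]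
      split_ifs
      · exact memLocalRing_zero hM
      · exact memLocalRing_list_prod_map hM j hj _
    · intro v hv
      simp only [hF]
      rw [if_pos hv]
      exact memLocalIdeal_zero hM
  have h3 : ∑ v : Equiv.Perm.vectorsProdEqOne G (n + 1), wordWt j v.1 =
      ∑ v, F v + ∑ v ∈ Finset.univ.filter
        (fun v : Equiv.Perm.vectorsProdEqOne G (n + 1) => σ v = v), wordWt j v.1 := by
    rw [Finset.sum_filter, ← Finset.sum_add_distrib]
    refine Finset.sum_congr rfl fun v _ => ?_
    simp only [hF]
    split_ifs <;> simp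
  have h4 : ∑ v ∈ Finset.univ.filter
        (fun v : Equiv.Perm.vectorsProdEqOne G (n + 1) => σ v = v), wordWt j v.1 =
      ∑ a ∈ Finset.univ.filter (fun a : G => a ^ (n + 1) = 1), j a ^ (n + 1) := by
    symm
    refine Finset.sum_bij (fun a ha => constWord n a (Finset.mem_filter.mp ha).2) ?_ ?_ ?_ ?_
    · intro a ha
      rw [Finset.mem_filter]
      exact ⟨Finset.mem_univ _, rotPerm_constWord n a _⟩
    · intro a ha b hb hab
      have h5 := congrArg (fun w : Equiv.Perm.vectorsProdEqOne G (n + 1) => w.1.toList) hab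
      simp only [constWord_toList] at h5
      exact (List.replicate_right_inj (Nat.succ_ne_zero n)).mp h5
    · intro v hv
      rw [Finset.mem_filter] at hv
      obtain ⟨a, ha1, ha2⟩ := exists_replicate_of_rotPerm_eq n v hv.2
      refine ⟨a, Finset.mem_filter.mpr ⟨Finset.mem_univ _, ha2⟩, ?_⟩
      apply Subtype.ext
      apply Subtype.ext
      show (constWord n a _).1.toList = v.1.toList
      rw [constWord_toList, ha1]
    · intro a ha
      rw [wordWt_constWord]
  rw [← sum_wordWt_eq_lpow, h3, h4, add_sub_cancel_right]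
  exact h1

/-- Frobenius modulo the local ideal. -/
theorem memLocalIdeal_sum_pow_sub {ι : Type*} {p : ℕ} [Fact p.Prime] (hpM : IsPModular p M)
    (T : Finset ι) (a : ι → ℂ) (ha : ∀ i, MemLocalRing M (a i)) (K : ℕ) :
    MemLocalIdeal M ((∑ i ∈ T, a i) ^ (p ^ K) - ∑ i ∈ T, a i ^ (p ^ K)) := by
  classical
  have hp : p.Prime := Fact.out
  have hM : M.IsPrime := isPrime_of_isPModular hpM
  let S := localSubring M hM
  have : IsLocalRing S := IdemTrace.instIsLocalRingLocalSubring hM
  let a' : ι → S := fun i => ⟨a i, ha i⟩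
  let res := IsLocalRing.residue S
  have hp0 : ((p : ℕ) : IsLocalRing.ResidueField S) = 0 := by
    have h1 : ((p : ℕ) : S) ∈ IsLocalRing.maximalIdeal S := by
      rw [IdemTrace.mem_maximalIdeal_iff]
      have : (((p : ℕ) : S) : ℂ) = (p : ℂ) := by simp
      rw [this, memLocalIdeal_natCast_iff hpM]
    have h2 := (IsLocalRing.residue_eq_zero_iff (R := S) _).mpr h1
    rwa [map_natCast] at h2
  have : CharP (IsLocalRing.ResidueField S) p := (CharP.charP_iff_prime_eq_zero hp).mpr hp0
  have : ExpChar (IsLocalRing.ResidueField S) p := ExpChar.prime hp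
  have h3 : res ((∑ i ∈ T, a' i) ^ (p ^ K) - ∑ i ∈ T, a' i ^ (p ^ K)) = 0 := by
    rw [map_sub, map_pow, map_sum, map_sum, sum_pow_char_pow]
    simp only [map_pow]
    exact sub_self _
  have h4 := (IsLocalRing.residue_eq_zero_iff (R := S) _).mp h3
  rw [IdemTrace.mem_maximalIdeal_iff] at h4
  have h5 : ((((∑ i ∈ T, a' i) ^ (p ^ K) - ∑ i ∈ T, a' i ^ (p ^ K) : S)) : ℂ) =
      (∑ i ∈ T, a i) ^ (p ^ K) - ∑ i ∈ T, a i ^ (p ^ K) := by
    push_cast
    rfl
  rwa [h5] at h4

end Words2

end Cfsg.Agent.Lib.Helper77
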